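import Mathlib
import Groth.Prelude.Def_CAlgX

/-!
# Adic formal smoothness and adic completion
-/

set_option autoImplicit false
universe u

namespace Groth.Agent.Lib.Helper47

open AdicCompletion

variable {R S : Type u} [CommRing R] [CommRing S] [Algebra R S] (𝔫 : Ideal S)

theorem ker_evalₐ_eq_map (fg : 𝔫.FG) (m : ℕ) :
    RingHom.ker (AdicCompletion.evalₐ 𝔫 m).toRingHom =
      (𝔫 ^ m).map (algebraMap S (AdicCompletion 𝔫 S)) := by
  ext x
  trans x ∈ LinearMap.ker (AdicCompletion.eval 𝔫 S m)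
  · have eq : 𝔫 ^ m • (⊤ : Ideal S) = 𝔫 ^ m := by simp
    have : Function.Injective (Ideal.Quotient.factor (le_of_eq eq)) := by
      simpa [RingHom.injective_iff_ker_eq_bot, Ideal.Quotient.factor_ker]
        using Ideal.map_mk_eq_bot_of_le (le_of_eq eq.symm)
    simpa [← factor_eval_eq_evalₐ] using map_eq_zero_iff _ this
  · simp [← pow_smul_top_eq_ker_eval fg, Ideal.smul_top_eq_map]

/-- `S → Ŝ` as an `R`-algebra map. -/
noncomputable def toCompletionₐ : S →ₐ[R] AdicCompletion 𝔫 S :=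
  { toRingHom := algebraMap S (AdicCompletion 𝔫 S)
    commutes' := fun r => by
      simp [AdicCompletion.algebraMap_apply] }

/-- `Ŝ → S/𝔫^m` as an `R`-algebra map. -/
noncomputable def evalR (m : ℕ) : AdicCompletion 𝔫 S →ₐ[R] S ⧸ 𝔫 ^ m :=
  { toRingHom := (AdicCompletion.evalₐ 𝔫 m).toRingHom
    commutes' := fun r => by
      change (AdicCompletion.evalₐ 𝔫 m) (AdicCompletion.of 𝔫 S (algebraMap R S r)) = _
      rw [AdicCompletion.evalₐ_of]; rfl }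

theorem evalR_toCompletionₐ (m : ℕ) (s : S) :
    evalR (R := R) 𝔫 m (toCompletionₐ (R := R) 𝔫 s) = Ideal.Quotient.mk _ s := by
  change (AdicCompletion.evalₐ 𝔫 m) (AdicCompletion.of 𝔫 S s) = _
  rw [AdicCompletion.evalₐ_of]

theorem evalR_eq_zero_iff (fg : 𝔫.FG) (m : ℕ) (x : AdicCompletion 𝔫 S) :
    evalR (R := R) 𝔫 m x = 0 ↔ x ∈ (𝔫 ^ m).map (algebraMap S (AdicCompletion 𝔫 S)) := by
  rw [← ker_evalₐ_eq_map 𝔫 fg m]; rfl

theorem toCompletionₐ_apply (s : S) :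
    toCompletionₐ (R := R) 𝔫 s = algebraMap S (AdicCompletion 𝔫 S) s := rfl

theorem isAdicFormallySmooth_completion_of (fg : 𝔫.FG)
    (h : CAlgX.IsAdicFormallySmooth R S 𝔫) :
    CAlgX.IsAdicFormallySmooth R (AdicCompletion 𝔫 S)
      (𝔫.map (algebraMap S (AdicCompletion 𝔫 S))) := by
  intro A _ _ J hJ ψ' ⟨k, hk⟩
  set ι := toCompletionₐ (R := R) 𝔫 with hι
  obtain ⟨χ, hχ⟩ := h A J hJ (ψ'.comp ι) ⟨k, fun x hx => by
    rw [AlgHom.comp_apply]
    refine hk _ ?_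
    rw [← Ideal.map_pow]
    exact Ideal.mem_map_of_mem _ hx⟩
  have hχ' : ∀ s, Ideal.Quotient.mk J (χ s) = ψ' (ι s) := fun s => by
    have := DFunLike.congr_fun hχ s
    simpa using this
  -- `χ` kills `𝔫^(2k)`
  have hkill : ∀ x ∈ 𝔫 ^ (2 * k), χ x = 0 := by
    have h1 : (𝔫 ^ k).map χ.toRingHom ≤ J := by
      rw [Ideal.map_le_iff_le_comap]
      intro x hx
      rw [Ideal.mem_comap, ← Ideal.Quotient.eq_zero_iff_mem]
      change Ideal.Quotient.mk J (χ x) = 0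
      rw [hχ']
      refine hk _ ?_
      rw [← Ideal.map_pow]
      exact Ideal.mem_map_of_mem _ hx
    have h2 : (𝔫 ^ (2 * k)).map χ.toRingHom ≤ ⊥ := by
      rw [mul_comm, pow_mul, Ideal.map_pow, ← hJ]
      exact Ideal.pow_right_mono h1 2
    intro x hx
    have := h2 (Ideal.mem_map_of_mem _ hx)
    simpa using this
  let χ₁ : S ⧸ 𝔫 ^ (2 * k) →ₐ[R] A := Ideal.Quotient.liftₐ (𝔫 ^ (2 * k)) χ hkill
  refine ⟨χ₁.comp (evalR 𝔫 (2 * k)), ?_⟩
  ext x
  obtain ⟨s, hs⟩ := Ideal.Quotient.mk_surjective (evalR (R := R) 𝔫 (2 * k) x)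
  have h3 : χ₁ (evalR (R := R) 𝔫 (2 * k) x) = χ s := by
    rw [← hs]; rfl
  have h4 : evalR (R := R) 𝔫 (2 * k) (x - ι s) = 0 := by
    rw [map_sub, hι, evalR_toCompletionₐ, hs, sub_self]
  rw [evalR_eq_zero_iff 𝔫 fg] at h4
  have h5 : ψ' (x - ι s) = 0 := by
    refine hk _ ?_
    rw [← Ideal.map_pow]
    exact Ideal.map_mono (Ideal.pow_le_pow_right (by omega)) h4
  rw [map_sub, sub_eq_zero] at h5
  simp only [AlgHom.coe_comp, Function.comp_apply, Ideal.Quotient.mkₐ_eq_mk]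
  rw [h3, hχ', h5]

theorem isAdicFormallySmooth_of_completion
    (h : CAlgX.IsAdicFormallySmooth R (AdicCompletion 𝔫 S)
      (𝔫.map (algebraMap S (AdicCompletion 𝔫 S)))) :
    CAlgX.IsAdicFormallySmooth R S 𝔫 := by
  intro A _ _ J hJ ψ ⟨k, hk⟩
  let ψ₁ : S ⧸ 𝔫 ^ k →ₐ[R] A ⧸ J := Ideal.Quotient.liftₐ (𝔫 ^ k) ψ hk
  obtain ⟨χ, hχ⟩ := h A J hJ (ψ₁.comp (evalR 𝔫 k)) ⟨k, fun x hx => by
    rw [← Ideal.map_pow] at hx
    have : evalR (R := R) 𝔫 k x = 0 := by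
      change x ∈ RingHom.ker (AdicCompletion.evalₐ 𝔫 k).toRingHom
      refine (Ideal.map_le_iff_le_comap.mpr ?_) hx
      intro s hs
      rw [Ideal.mem_comap, RingHom.mem_ker]
      change (AdicCompletion.evalₐ 𝔫 k) (AdicCompletion.of 𝔫 S s) = 0
      rw [AdicCompletion.evalₐ_of]
      exact Ideal.Quotient.eq_zero_iff_mem.mpr hs
    rw [AlgHom.comp_apply, this, _root_.map_zero]⟩
  refine ⟨χ.comp (toCompletionₐ 𝔫), ?_⟩
  ext s
  have := DFunLike.congr_fun hχ (toCompletionₐ (R := R) 𝔫 s)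
  simp only [AlgHom.coe_comp, Function.comp_apply, Ideal.Quotient.mkₐ_eq_mk] at this ⊢
  rw [this, evalR_toCompletionₐ]
  rfl

theorem isAdicFormallySmooth_iff_completion (fg : 𝔫.FG) :
    CAlgX.IsAdicFormallySmooth R S 𝔫 ↔
      CAlgX.IsAdicFormallySmooth R (AdicCompletion 𝔫 S)
        (𝔫.map (algebraMap S (AdicCompletion 𝔫 S))) :=
  ⟨isAdicFormallySmooth_completion_of 𝔫 fg, isAdicFormallySmooth_of_completion 𝔫⟩

end Groth.Agent.Lib.Helper47
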