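import Mathlib
import Groth.Agent.H76.LocalCrit3
import Groth.Agent.Lib.Helper47.AdicSmoothCompletion
import Groth.Agent.S0543

/-!
# Flatness of the map on completions (helper47)

* `rTensor_injective_of_torsion`: if `A → R → S` with `S` flat over `A`, `J` an ideal of `A` with
  `A → R/JR` surjective, then `- ⊗_R S` preserves injections into `R`-modules killed by `JR`.
* `flat_completion_of_flat`: if `A → B` is a flat local homomorphism of Noetherian local rings,
  any compatible map of completions is flat.
-/

set_option autoImplicit false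
universe u

open TensorProduct

namespace Groth.Agent.Lib.Helper47

section Torsion

variable {A R S : Type*} [CommRing A] [CommRing R] [CommRing S] [Algebra A R] [Algebra R S]
  [Algebra A S] [IsScalarTower A R S]

theorem tmul_eq_zero_of_mem_map_right {J : Ideal A} {Q : Type*} [AddCommGroup Q] [Module A Q]
    {q : Q} (hq : ∀ a ∈ J, a • q = 0) {x : S} (hx : x ∈ J.map (algebraMap A S)) :
    q ⊗ₜ[A] x = 0 := by
  induction hx using Submodule.span_induction with
  | mem x h =>
    obtain ⟨a, ha, rfl⟩ := h
    rw [Algebra.algebraMap_eq_smul_one, ← TensorProduct.smul_tmul, hq a ha, zero_tmul]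
  | zero => exact tmul_zero _ _
  | add x y _ _ hx hy => rw [tmul_add, hx, hy, add_zero]
  | smul s x _ hx =>
    rw [smul_eq_mul]
    -- `q ⊗ (s * x)`: use the `S`-module structure on the right
    have : q ⊗ₜ[A] (s * x) = (TensorProduct.comm A S Q) (s • (x ⊗ₜ[A] q)) := by
      rw [TensorProduct.smul_tmul', TensorProduct.comm_tmul, smul_eq_mul]
    rw [this]
    have hx' : x ⊗ₜ[A] q = 0 := by
      have := congrArg (TensorProduct.comm A Q S) hx
      rwa [TensorProduct.comm_tmul, _root_.map_zero] at this
    rw [hx', smul_zero, _root_.map_zero]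

theorem smul_tmul_of_torsion (J : Ideal A)
    (hsurj : ∀ r : R, ∃ a : A, r - algebraMap A R a ∈ J.map (algebraMap A R))
    {Q : Type*} [AddCommGroup Q] [Module R Q] [Module A Q] [IsScalarTower A R Q]
    (hQ : ∀ r ∈ J.map (algebraMap A R), ∀ q : Q, r • q = 0) (r : R) (q : Q) (s : S) :
    (r • q) ⊗ₜ[A] s = q ⊗ₜ[A] (r • s) := by
  obtain ⟨a, ha⟩ := hsurj r
  have hr : r = algebraMap A R a + (r - algebraMap A R a) := by ring
  have hq : ∀ a ∈ J, a • q = 0 := fun a ha => by
    rw [← algebraMap_smul R a q]
    exact hQ _ (Ideal.mem_map_of_mem _ ha) q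
  have h1 : r • q = a • q := by
    conv_lhs => rw [hr, add_smul, hQ _ ha q, add_zero, algebraMap_smul]
  have h2 : (r - algebraMap A R a) • s ∈ J.map (algebraMap A S) := by
    rw [Algebra.smul_def, IsScalarTower.algebraMap_eq A R S, ← Ideal.map_map]
    exact Ideal.mul_mem_right _ _ (Ideal.mem_map_of_mem _ ha)
  have h3 : r • s = a • s + (r - algebraMap A R a) • s := by
    conv_lhs => rw [hr, add_smul, algebraMap_smul]
  rw [h1, h3, tmul_add, tmul_eq_zero_of_mem_map_right hq h2, add_zero, TensorProduct.smul_tmul]

theorem rTensor_injective_of_torsion [Module.Flat A S] (J : Ideal A)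
    (hsurj : ∀ r : R, ∃ a : A, r - algebraMap A R a ∈ J.map (algebraMap A R))
    {P Q : Type*} [AddCommGroup P] [Module R P] [AddCommGroup Q] [Module R Q] (u : P →ₗ[R] Q)
    (hu : Function.Injective u) (hQ : ∀ r ∈ J.map (algebraMap A R), ∀ q : Q, r • q = 0) :
    Function.Injective (u.rTensor S) := by
  letI : Module A P := Module.compHom P (algebraMap A R)
  letI : Module A Q := Module.compHom Q (algebraMap A R)
  haveI : IsScalarTower A R P := IsScalarTower.of_algebraMap_smul fun _ _ => rfl
  haveI : IsScalarTower A R Q := IsScalarTower.of_algebraMap_smul fun _ _ => rfl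
  have hP : ∀ r ∈ J.map (algebraMap A R), ∀ p : P, r • p = 0 := by
    intro r hr p
    apply hu
    rw [map_smul, hQ r hr, _root_.map_zero]
  haveI : CompatibleSMul A R P S := ⟨smul_tmul_of_torsion J hsurj hP⟩
  haveI : CompatibleSMul A R Q S := ⟨smul_tmul_of_torsion J hsurj hQ⟩
  let eP : P ⊗[A] S ≃ₗ[A] P ⊗[R] S := equivOfCompatibleSMul R A A P S
  let eQ : Q ⊗[A] S ≃ₗ[A] Q ⊗[R] S := equivOfCompatibleSMul R A A Q S
  have hcomm : ∀ w : P ⊗[A] S, (u.rTensor S) (eP w) = eQ (((u.restrictScalars A).rTensor S) w) := by
    intro w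
    induction w using TensorProduct.induction_on with
    | zero => simp
    | tmul p s => rfl
    | add x y hx hy => rw [map_add, map_add, hx, hy, map_add, map_add]
  have hinj : Function.Injective ((u.restrictScalars A).rTensor S) :=
    Module.Flat.rTensor_preserves_injective_linearMap _ hu
  intro z z' hzz
  obtain ⟨w, rfl⟩ := eP.surjective z
  obtain ⟨w', rfl⟩ := eP.surjective z'
  rw [hcomm, hcomm] at hzz
  rw [hinj (eQ.injective hzz)]

end Torsion

end Groth.Agent.Lib.Helper47

namespace Groth.Agent.Lib.Helper47

open IsLocalRing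

/-- If `A → B` is a flat local homomorphism of Noetherian local rings, any ring map of the
completions compatible with it is flat. -/
theorem flat_completion_of_flat (A B : Type u) [CommRing A] [CommRing B] [IsLocalRing A]
    [IsLocalRing B] [IsNoetherianRing A] [IsNoetherianRing B] [Algebra A B]
    [IsLocalHom (algebraMap A B)]
    (ψ : AdicCompletion (maximalIdeal A) A →+* AdicCompletion (maximalIdeal B) B)
    (hψ : ψ.comp (algebraMap A (AdicCompletion (maximalIdeal A) A)) =
      (algebraMap B (AdicCompletion (maximalIdeal B) B)).comp (algebraMap A B))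
    [Module.Flat A B] : ψ.Flat := by
  let _ : Algebra (AdicCompletion (maximalIdeal A) A) (AdicCompletion (maximalIdeal B) B) :=
    ψ.toAlgebra
  have hAS : algebraMap A (AdicCompletion (maximalIdeal B) B) =
      (algebraMap B (AdicCompletion (maximalIdeal B) B)).comp (algebraMap A B) := by
    ext a
    rw [AdicCompletion.algebraMap_apply]
    rfl
  have : IsScalarTower A (AdicCompletion (maximalIdeal A) A) (AdicCompletion (maximalIdeal B) B) :=
    IsScalarTower.of_algebraMap_eq' (by rw [hAS, ← hψ]; rfl)
  have : IsScalarTower A B (AdicCompletion (maximalIdeal B) B) :=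
    IsScalarTower.of_algebraMap_eq' hAS
  have : Module.Flat A (AdicCompletion (maximalIdeal B) B) :=
    Module.Flat.trans A B (AdicCompletion (maximalIdeal B) B)
  change Module.Flat (AdicCompletion (maximalIdeal A) A) (AdicCompletion (maximalIdeal B) B)
  have : IsNoetherianRing (AdicCompletion (maximalIdeal A) A) := Groth.Agent.S0543.result A _
  have : IsNoetherianRing (AdicCompletion (maximalIdeal B) B) := Groth.Agent.S0543.result B _
  have hmax : maximalIdeal (AdicCompletion (maximalIdeal A) A) =
      (maximalIdeal A).map (algebraMap A (AdicCompletion (maximalIdeal A) A)) :=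
    AdicCompletion.maximalIdeal_eq_map
  apply Groth.Agent.H76.LocalCrit.flat_of_adic_jacobson
    (R := AdicCompletion (maximalIdeal A) A) (S := AdicCompletion (maximalIdeal B) B)
    (M := AdicCompletion (maximalIdeal B) B)
    (I := maximalIdeal (AdicCompletion (maximalIdeal A) A))
  · rw [IsLocalRing.jacobson_eq_maximalIdeal _ bot_ne_top, hmax, Ideal.map_map]
    have : (algebraMap (AdicCompletion (maximalIdeal A) A) (AdicCompletion (maximalIdeal B) B)).comp
        (algebraMap A (AdicCompletion (maximalIdeal A) A)) =
        (algebraMap B (AdicCompletion (maximalIdeal B) B)).comp (algebraMap A B) := hψ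
    rw [this, ← Ideal.map_map, AdicCompletion.maximalIdeal_eq_map (R := B)]
    exact Ideal.map_mono (IsLocalRing.map_maximalIdeal_le (algebraMap A B))
  · intro m P Q _ _ _ _ u hu hQ
    have hpow : (maximalIdeal (AdicCompletion (maximalIdeal A) A)) ^ m =
        ((maximalIdeal A) ^ m).map (algebraMap A (AdicCompletion (maximalIdeal A) A)) := by
      rw [hmax, Ideal.map_pow]
    refine rTensor_injective_of_torsion (A := A) ((maximalIdeal A) ^ m) ?_ u hu ?_
    · intro r
      obtain ⟨a, ha⟩ := Ideal.Quotient.mk_surjective (AdicCompletion.evalₐ (maximalIdeal A) m r)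
      refine ⟨a, ?_⟩
      rw [← ker_evalₐ_eq_map (maximalIdeal A) (IsNoetherian.noetherian _) m,
        RingHom.mem_ker, map_sub]
      have : (AdicCompletion.evalₐ (maximalIdeal A) m).toRingHom
          (algebraMap A (AdicCompletion (maximalIdeal A) A) a) = Ideal.Quotient.mk _ a :=
        AdicCompletion.evalₐ_of (maximalIdeal A) m a
      rw [this, ha]
      exact sub_self _
    · intro r hr q
      exact hQ r (hpow ▸ hr) q

end Groth.Agent.Lib.Helper47
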