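import Mathlib
import Groth.Prelude.Def_CAlgX

/-!
# Base change of H₁-regular sequences with flat quotient
-/

set_option autoImplicit false
universe u

open TensorProduct

namespace Groth.Agent.Lib.Helper47

variable {A B A' : Type u} [CommRing A] [CommRing B] [CommRing A'] [Algebra A B] [Algebra A A']
  {r : ℕ}

/-- The submodule of trivial (Koszul) relations. -/
def trivRel (f : Fin r → B) : Submodule B (Fin r → B) :=
  Submodule.span B {v : Fin r → B | ∃ i j : Fin r, v = Pi.single i (f j) - Pi.single j (f i)}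

theorem trivRel_le_ker (f : Fin r → B) :
    trivRel f ≤ LinearMap.ker (Fintype.linearCombination B f) := by
  refine Submodule.span_le.mpr ?_
  rintro _ ⟨i, j, rfl⟩
  simp only [SetLike.mem_coe, LinearMap.mem_ker, map_sub, Fintype.linearCombination_apply_single,
    smul_eq_mul]
  ring

theorem ker_eq_trivRel (f : Fin r → B) (hq : CAlgX.IsH1Regular f) :
    LinearMap.ker (Fintype.linearCombination B f) = trivRel f := by
  refine le_antisymm (fun a ha => ?_) (trivRel_le_ker f)
  refine hq a ?_
  have := LinearMap.mem_ker.mp ha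
  simpa [Fintype.linearCombination_apply] using this

theorem tmul_mem_trivRel (f : Fin r → B) (x : A') (t : Fin r → B) (ht : t ∈ trivRel f) :
    (fun i => x ⊗ₜ[A] t i) ∈ trivRel (fun i => ((1 : A') ⊗ₜ[A] f i : A' ⊗[A] B)) := by
  induction ht using Submodule.span_induction with
  | mem t ht =>
    obtain ⟨i, j, rfl⟩ := ht
    have : (fun k => x ⊗ₜ[A] (Pi.single i (f j) - Pi.single j (f i) : Fin r → B) k) =
        (x ⊗ₜ[A] (1 : B)) • (Pi.single i ((1 : A') ⊗ₜ[A] f j) - Pi.single j ((1 : A') ⊗ₜ[A] f i) :
          Fin r → A' ⊗[A] B) := by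
      ext k
      simp only [Pi.sub_apply, Pi.smul_apply, smul_eq_mul, Pi.single_apply, tmul_sub, mul_sub]
      congr 1 <;> split_ifs <;> simp
    rw [this]
    exact Submodule.smul_mem _ _ (Submodule.subset_span ⟨i, j, rfl⟩)
  | zero =>
    have : (fun i => x ⊗ₜ[A] (0 : Fin r → B) i) = (0 : Fin r → A' ⊗[A] B) := by
      ext k; simp
    rw [this]; exact zero_mem _
  | add s t _ _ hs ht =>
    have : (fun i => x ⊗ₜ[A] (s + t) i) = (fun i => x ⊗ₜ[A] s i) + fun i => x ⊗ₜ[A] t i := by
      ext k; simp [tmul_add]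
    rw [this]; exact add_mem hs ht
  | smul b t _ ht =>
    have : (fun i => x ⊗ₜ[A] (b • t) i) = ((1 : A') ⊗ₜ[A] b) • fun i => x ⊗ₜ[A] t i := by
      ext k; simp
    rw [this]; exact Submodule.smul_mem _ _ ht

/-- `(1 ⊗ φ)(z) = Σ zᵢ * (1 ⊗ fᵢ)` for `z ∈ A' ⊗ Bʳ`. -/
theorem lTensor_linearCombination (f : Fin r → B) (z : A' ⊗[A] (Fin r → B)) :
    LinearMap.lTensor A' ((Fintype.linearCombination B f).restrictScalars A) z =
      ∑ i, (TensorProduct.piRight A A A' (fun _ : Fin r => B) z) i * ((1 : A') ⊗ₜ[A] f i) := by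
  induction z using TensorProduct.induction_on with
  | zero => simp
  | add x y hx hy => simp only [map_add, hx, hy, Pi.add_apply, add_mul, Finset.sum_add_distrib]
  | tmul x v =>
    simp only [LinearMap.lTensor_tmul, LinearMap.coe_restrictScalars,
      Fintype.linearCombination_apply, smul_eq_mul, tmul_sum, piRight_apply, piRightHom_tmul,
      Algebra.TensorProduct.tmul_mul_tmul, mul_one]

theorem isH1Regular_baseChange (f : Fin r → B)
    (hflat : Module.Flat A (B ⧸ Ideal.span (Set.range f))) (hq : CAlgX.IsH1Regular f) :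
    CAlgX.IsH1Regular (fun i => ((1 : A') ⊗ₜ[A] f i : A' ⊗[A] B)) := by
  classical
  set I : Ideal B := Ideal.span (Set.range f) with hI
  set φ : (Fin r → B) →ₗ[A] B := (Fintype.linearCombination B f).restrictScalars A with hφ
  have hrange : ∀ v, φ v ∈ I.restrictScalars A := fun v => by
    have : LinearMap.range (Fintype.linearCombination B f) = I := by
      rw [Fintype.range_linearCombination]
    rw [Submodule.restrictScalars_mem, ← this]
    exact ⟨v, rfl⟩
  -- φ₀ : Bʳ → I
  let φ₀ : (Fin r → B) →ₗ[A] (I.restrictScalars A) := φ.codRestrict _ hrange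
  let ιI : (I.restrictScalars A) →ₗ[A] B := (I.restrictScalars A).subtype
  have hφ₀ : ιI ∘ₗ φ₀ = φ := by ext; rfl
  have hsurj : Function.Surjective φ₀ := by
    rintro ⟨b, hb⟩
    have : b ∈ LinearMap.range (Fintype.linearCombination B f) := by
      rw [Fintype.range_linearCombination]; exact hb
    obtain ⟨v, hv⟩ := this
    exact ⟨v, Subtype.ext hv⟩
  let T : Submodule A (Fin r → B) := (trivRel f).restrictScalars A
  have hexact : Function.Exact T.subtype φ₀ := by
    intro v
    constructor
    · intro hv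
      have h1 : φ v = 0 := by rw [← hφ₀]; simp [hv]
      have h2 : v ∈ LinearMap.ker (Fintype.linearCombination B f) := LinearMap.mem_ker.mpr h1
      rw [ker_eq_trivRel f hq] at h2
      exact ⟨⟨v, h2⟩, rfl⟩
    · rintro ⟨⟨t, ht⟩, rfl⟩
      have h2 : t ∈ LinearMap.ker (Fintype.linearCombination B f) := trivRel_le_ker f ht
      exact Subtype.ext (LinearMap.mem_ker.mp h2)
  have hexact' := lTensor_exact A' hexact hsurj
  -- injectivity of `A' ⊗ I → A' ⊗ B`
  have hinj : Function.Injective (ιI.lTensor A') := by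
    refine LinearMap.lTensor_injective_of_exact_of_flat
      ((Submodule.mkQ I).restrictScalars A) (Submodule.mkQ_surjective I) ιI
      (Submodule.injective_subtype _) ?_ A'
    intro b
    constructor
    · intro hb
      exact ⟨⟨b, (Submodule.Quotient.mk_eq_zero I).mp hb⟩, rfl⟩
    · rintro ⟨⟨b, hb⟩, rfl⟩
      exact (Submodule.Quotient.mk_eq_zero I).mpr hb
  intro a' ha'
  set z := (TensorProduct.piRight A A A' (fun _ : Fin r => B)).symm a' with hz
  have hz' : TensorProduct.piRight A A A' (fun _ : Fin r => B) z = a' :=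
    LinearEquiv.apply_symm_apply _ _
  have h1 : LinearMap.lTensor A' φ z = 0 := by
    rw [lTensor_linearCombination, hz']; exact ha'
  have h2 : LinearMap.lTensor A' φ₀ z = 0 := by
    apply hinj
    rw [map_zero, ← LinearMap.comp_apply, ← LinearMap.lTensor_comp, hφ₀]; exact h1
  obtain ⟨y, hy⟩ := (hexact' z).mp h2
  rw [← hz', ← hy]
  -- every element of the image of `A' ⊗ T` is a trivial relation
  clear hy h2 h1 hz'
  induction y using TensorProduct.induction_on with
  | zero => simp
  | add x y hx hy => rw [map_add, map_add]; exact add_mem hx hy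
  | tmul x t =>
    obtain ⟨t, ht⟩ := t
    exact tmul_mem_trivRel f x t ht

end Groth.Agent.Lib.Helper47
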