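import Mathlib
import Groth.Prelude.Def_CAlgX
import Groth.Agent.Lib.Helper89.GrFlat

/-!
# Base change of quasi-regular sequences with flat quotient
-/

set_option autoImplicit false
universe u

open TensorProduct

namespace Groth.Agent.Lib.Helper47

section Reformulation

variable {R : Type u} [CommRing R] {r : ℕ}

/-- Exponents of total degree `n`. -/
def expos (r n : ℕ) : Finset (Fin r →₀ ℕ) := Finset.finsuppAntidiag Finset.univ n

theorem mem_expos {n : ℕ} {d : Fin r →₀ ℕ} : d ∈ expos r n ↔ d.degree = n := by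
  simp [expos, Finsupp.degree_eq_sum]

/-- The monomial `f^d`. -/
def mon (f : Fin r → R) (d : Fin r →₀ ℕ) : R := ∏ i, f i ^ d i

/-- Linear combination of the monomials of degree `n` in `f`. -/
noncomputable def monComb (f : Fin r → R) (n : ℕ) : (expos r n → R) →ₗ[R] R :=
  Fintype.linearCombination R (fun d : expos r n => mon f d)

theorem monComb_apply (f : Fin r → R) (n : ℕ) (c : expos r n → R) :
    monComb f n c = ∑ d : expos r n, c d * mon f d := by
  simp [monComb, Fintype.linearCombination_apply]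

theorem eval_eq_sum_expos (f : Fin r → R) {n : ℕ} {P : MvPolynomial (Fin r) R}
    (hP : P.IsHomogeneous n) :
    MvPolynomial.eval f P = ∑ d : expos r n, P.coeff d * mon f d := by
  rw [MvPolynomial.eval_eq', Finset.sum_coe_sort (expos r n) (fun d => P.coeff d * mon f d)]
  refine Finset.sum_subset (fun d hd => ?_) (fun d _ hd => ?_)
  · rw [mem_expos]
    by_contra h
    exact (MvPolynomial.mem_support_iff.mp hd) (hP.coeff_eq_zero h)
  · rw [MvPolynomial.notMem_support_iff.mp hd, zero_mul]

/-- The homogeneous polynomial with prescribed coefficients. -/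
noncomputable def polyOf {n : ℕ} (c : expos r n → R) : MvPolynomial (Fin r) R :=
  ∑ d : expos r n, MvPolynomial.monomial (d : Fin r →₀ ℕ) (c d)

theorem polyOf_isHomogeneous {n : ℕ} (c : expos r n → R) : (polyOf c).IsHomogeneous n :=
  MvPolynomial.IsHomogeneous.sum _ _ _ fun d _ =>
    MvPolynomial.isHomogeneous_monomial _ (mem_expos.mp d.2)

theorem coeff_polyOf {n : ℕ} (c : expos r n → R) (d : expos r n) :
    (polyOf c).coeff d = c d := by
  classical
  rw [polyOf, MvPolynomial.coeff_sum]
  simp only [MvPolynomial.coeff_monomial]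
  rw [Finset.sum_eq_single d]
  · simp
  · intro e _ hed
    rw [if_neg]
    exact fun h => hed (Subtype.ext h)
  · intro h; exact absurd (Finset.mem_univ _) h

theorem eval_polyOf (f : Fin r → R) {n : ℕ} (c : expos r n → R) :
    MvPolynomial.eval f (polyOf c) = monComb f n c := by
  rw [eval_eq_sum_expos f (polyOf_isHomogeneous c), monComb_apply]
  exact Finset.sum_congr rfl fun d _ => by rw [coeff_polyOf]

theorem isQuasiRegular_iff (f : Fin r → R) :
    CAlgX.IsQuasiRegular f ↔ ∀ (n : ℕ) (c : expos r n → R),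
      monComb f n c ∈ Ideal.span (Set.range f) ^ (n + 1) →
        ∀ d, c d ∈ Ideal.span (Set.range f) := by
  constructor
  · intro hq n c hc d
    have := hq n (polyOf c) (polyOf_isHomogeneous c) (by rw [eval_polyOf]; exact hc) d
    rwa [coeff_polyOf] at this
  · intro h n P hP hev d
    by_cases hd : d.degree = n
    · have := h n (fun d => P.coeff d)
        (by rw [monComb_apply, ← eval_eq_sum_expos f hP]; exact hev) ⟨d, mem_expos.mpr hd⟩
      exact this
    · rw [hP.coeff_eq_zero hd]; exact zero_mem _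

theorem mem_pow_iff (f : Fin r → R) (n : ℕ) (y : R) :
    y ∈ Ideal.span (Set.range f) ^ n ↔ ∃ c : expos r n → R, monComb f n c = y := by
  rw [Ideal.mem_span_pow_iff_exists_isHomogeneous]
  constructor
  · rintro ⟨P, hP, rfl⟩
    exact ⟨fun d => P.coeff d, by rw [monComb_apply, ← eval_eq_sum_expos f hP]⟩
  · rintro ⟨c, rfl⟩
    exact ⟨polyOf c, polyOf_isHomogeneous c, eval_polyOf f c⟩

theorem monComb_mem_pow (f : Fin r → R) (n : ℕ) (c : expos r n → R) :
    monComb f n c ∈ Ideal.span (Set.range f) ^ n := (mem_pow_iff f n _).mpr ⟨c, rfl⟩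

theorem mon_mem_pow (f : Fin r → R) (n : ℕ) (d : expos r n) :
    mon f d ∈ Ideal.span (Set.range f) ^ n := by
  classical
  have := monComb_mem_pow f n (Pi.single d 1)
  rwa [monComb, Fintype.linearCombination_apply_single, one_smul] at this

end Reformulation

section Flat

variable {A B : Type u} [CommRing A] [CommRing B] [Algebra A B] {r : ℕ} (f : Fin r → B)

/-- `(ι → B) → B/J^{n+1}`, `c ↦ [Σ c_d f^d]`. -/
noncomputable def grMap (n : ℕ) :
    (expos r n → B) →ₗ[B] (B ⧸ Ideal.span (Set.range f) ^ (n + 1)) :=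
  (Submodule.mkQ (Ideal.span (Set.range f) ^ (n + 1))) ∘ₗ monComb f n

/-- The submodule `J^ι` of `B^ι`. -/
def piJ (n : ℕ) : Submodule B (expos r n → B) :=
  Submodule.pi Set.univ (fun _ => Ideal.span (Set.range f))

theorem mem_piJ {n : ℕ} {c : expos r n → B} :
    c ∈ piJ f n ↔ ∀ d, c d ∈ Ideal.span (Set.range f) := by
  simp [piJ, Submodule.mem_pi]

theorem ker_grMap (hq : CAlgX.IsQuasiRegular f) (n : ℕ) :
    LinearMap.ker (grMap f n) = piJ f n := by
  ext c
  rw [LinearMap.mem_ker, mem_piJ, grMap, LinearMap.comp_apply, Submodule.mkQ_apply,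
    Submodule.Quotient.mk_eq_zero]
  constructor
  · exact (isQuasiRegular_iff f).mp hq n c
  · intro hc
    rw [monComb_apply]
    refine Ideal.sum_mem _ fun d _ => ?_
    rw [pow_succ']
    exact Ideal.mul_mem_mul (hc d) (mon_mem_pow f n d)

/-- `B^ι / J^ι → B/J^{n+1}`. -/
noncomputable def grIncl (hq : CAlgX.IsQuasiRegular f) (n : ℕ) :
    ((expos r n → B) ⧸ piJ f n) →ₗ[B] (B ⧸ Ideal.span (Set.range f) ^ (n + 1)) :=
  (piJ f n).liftQ (grMap f n) (ker_grMap f hq n).ge

theorem grIncl_injective (hq : CAlgX.IsQuasiRegular f) (n : ℕ) :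
    Function.Injective (grIncl f hq n) := by
  rw [← LinearMap.ker_eq_bot]
  exact Submodule.ker_liftQ_eq_bot _ _ _ (ker_grMap f hq n).le

/-- `B/J^{n+1} → B/J^n`. -/
noncomputable def grProj (n : ℕ) :
    (B ⧸ Ideal.span (Set.range f) ^ (n + 1)) →ₗ[B] (B ⧸ Ideal.span (Set.range f) ^ n) :=
  Submodule.mapQ _ _ LinearMap.id
    (by simpa using Ideal.pow_le_pow_right (I := Ideal.span (Set.range f)) (Nat.le_succ n))

theorem grProj_surjective (n : ℕ) : Function.Surjective (grProj f n) := by
  intro q
  obtain ⟨y, rfl⟩ := Submodule.Quotient.mk_surjective _ q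
  exact ⟨Submodule.Quotient.mk y, rfl⟩

theorem grIncl_grProj_exact (hq : CAlgX.IsQuasiRegular f) (n : ℕ) :
    Function.Exact (grIncl f hq n) (grProj f n) := by
  intro q
  obtain ⟨b, rfl⟩ := Submodule.Quotient.mk_surjective _ q
  have h1 : grProj f n (Submodule.Quotient.mk b) = Submodule.Quotient.mk b := rfl
  rw [h1, Submodule.Quotient.mk_eq_zero]
  constructor
  · intro hb
    obtain ⟨c, rfl⟩ := (mem_pow_iff f n b).mp hb
    exact ⟨Submodule.Quotient.mk c, rfl⟩
  · rintro ⟨g, hg⟩
    obtain ⟨c, rfl⟩ := Submodule.Quotient.mk_surjective _ g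
    have h2 : grIncl f hq n (Submodule.Quotient.mk c) = Submodule.Quotient.mk (monComb f n c) := rfl
    rw [h2] at hg
    have h3 : monComb f n c - b ∈ Ideal.span (Set.range f) ^ (n + 1) := by
      rw [← Submodule.Quotient.mk_eq_zero, Submodule.Quotient.mk_sub, hg, sub_self]
    have h4 : b = monComb f n c - (monComb f n c - b) := by ring
    rw [h4]
    exact Submodule.sub_mem _ (monComb_mem_pow f n c)
      (Ideal.pow_le_pow_right (Nat.le_succ n) h3)

theorem flat_quotient_piJ (hflat : Module.Flat A (B ⧸ Ideal.span (Set.range f))) (n : ℕ) :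
    Module.Flat A ((expos r n → B) ⧸ piJ f n) := by
  classical
  have e1 : ((expos r n → B) ⧸ piJ f n) ≃ₗ[B] (expos r n → B ⧸ Ideal.span (Set.range f)) :=
    Submodule.quotientPi (fun _ => Ideal.span (Set.range f))
  have e2 : (expos r n → B ⧸ Ideal.span (Set.range f)) ≃ₗ[A]
      (Π₀ _ : expos r n, B ⧸ Ideal.span (Set.range f)) :=
    (DFinsupp.linearEquivFunOnFintype).symm
  exact Module.Flat.of_linearEquiv ((e1.restrictScalars A).trans e2)

theorem flat_quotient_pow (hq : CAlgX.IsQuasiRegular f)
    (hflat : Module.Flat A (B ⧸ Ideal.span (Set.range f))) (n : ℕ) :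
    Module.Flat A (B ⧸ Ideal.span (Set.range f) ^ n) := by
  induction n with
  | zero =>
    have : Subsingleton (B ⧸ Ideal.span (Set.range f) ^ 0) := by
      rw [pow_zero, Ideal.one_eq_top]
      exact Submodule.Quotient.subsingleton_iff.mpr rfl
    infer_instance
  | succ n ih =>
    have := flat_quotient_piJ (A := A) f hflat n
    exact Groth.Agent.Lib.Helper89.flat_of_exact_of_flat_flat A _ _ _
      ((grIncl f hq n).restrictScalars A) ((grProj f n).restrictScalars A)
      (grIncl_injective f hq n) (grProj_surjective f n) (grIncl_grProj_exact f hq n)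

end Flat

section BaseChange

variable {A B A' : Type u} [CommRing A] [CommRing B] [CommRing A'] [Algebra A B] [Algebra A A']
  {r : ℕ} (f : Fin r → B)

/-- `(1 ⊗ φ)(z) = Σ zᵢ * (1 ⊗ gᵢ)` for `z ∈ A' ⊗ B^ι`, `φ` the linear combination of `g`. -/
theorem lTensor_linearCombination' {ι : Type} [Fintype ι] [DecidableEq ι] (g : ι → B)
    (z : A' ⊗[A] (ι → B)) :
    LinearMap.lTensor A' ((Fintype.linearCombination B g).restrictScalars A) z =
      ∑ i, (TensorProduct.piRight A A A' (fun _ : ι => B) z) i * ((1 : A') ⊗ₜ[A] g i) := by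
  induction z using TensorProduct.induction_on with
  | zero => simp
  | add x y hx hy => simp only [map_add, hx, hy, Pi.add_apply, add_mul, Finset.sum_add_distrib]
  | tmul x v =>
    simp only [LinearMap.lTensor_tmul, LinearMap.coe_restrictScalars,
      Fintype.linearCombination_apply, smul_eq_mul, tmul_sum, piRight_apply, piRightHom_tmul,
      Algebra.TensorProduct.tmul_mul_tmul, mul_one]

theorem mon_baseChange (d : Fin r →₀ ℕ) :
    mon (fun i => ((1 : A') ⊗ₜ[A] f i : A' ⊗[A] B)) d = (1 : A') ⊗ₜ[A] mon f d := by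
  have : ∀ b : B, ((1 : A') ⊗ₜ[A] b : A' ⊗[A] B) =
      (Algebra.TensorProduct.includeRight : B →ₐ[A] A' ⊗[A] B) b := fun b => rfl
  simp only [mon, this, map_prod, map_pow]

theorem span_baseChange :
    Ideal.span (Set.range (fun i => ((1 : A') ⊗ₜ[A] f i : A' ⊗[A] B))) =
      (Ideal.span (Set.range f)).map
        (Algebra.TensorProduct.includeRight : B →ₐ[A] A' ⊗[A] B) := by
  rw [Ideal.map_span, ← Set.range_comp]
  rfl

theorem mem_map_includeRight_iff (K : Ideal B) (w : A' ⊗[A] B) :
    w ∈ K.map (Algebra.TensorProduct.includeRight : B →ₐ[A] A' ⊗[A] B) ↔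
      w ∈ LinearMap.range (LinearMap.lTensor A' (Submodule.subtype (K.restrictScalars A))) := by
  rw [← Ideal.map_includeRight_eq, Submodule.restrictScalars_mem]

theorem isQuasiRegular_baseChange
    (hflat : Module.Flat A (B ⧸ Ideal.span (Set.range f))) (hq : CAlgX.IsQuasiRegular f) :
    CAlgX.IsQuasiRegular (fun i => ((1 : A') ⊗ₜ[A] f i : A' ⊗[A] B)) := by
  classical
  rw [isQuasiRegular_iff]
  intro n c' hc'
  set J : Ideal B := Ideal.span (Set.range f) with hJ
  -- the element `z ∈ A' ⊗ B^ι` corresponding to `c'`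
  set z := (TensorProduct.piRight A A A' (fun _ : expos r n => B)).symm c' with hz
  have hz' : TensorProduct.piRight A A A' (fun _ : expos r n => B) z = c' :=
    LinearEquiv.apply_symm_apply _ _
  -- `(1 ⊗ monComb)(z) = monComb f' c'`
  have h1 : LinearMap.lTensor A' ((monComb f n).restrictScalars A) z =
      monComb (fun i => ((1 : A') ⊗ₜ[A] f i : A' ⊗[A] B)) n c' := by
    rw [monComb, lTensor_linearCombination', hz', monComb_apply]
    exact Finset.sum_congr rfl fun d _ => by rw [mon_baseChange]
  -- `(1 ⊗ grMap)(z) = 0`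
  have h2 : LinearMap.lTensor A' ((grMap f n).restrictScalars A) z = 0 := by
    have h3 : (grMap f n).restrictScalars A =
        ((Submodule.mkQ (J ^ (n + 1))).restrictScalars A) ∘ₗ ((monComb f n).restrictScalars A) :=
      rfl
    rw [h3, LinearMap.lTensor_comp, LinearMap.comp_apply, h1]
    rw [span_baseChange, ← Ideal.map_pow, mem_map_includeRight_iff] at hc'
    obtain ⟨y, hy⟩ := hc'
    rw [← hy, ← LinearMap.comp_apply, ← LinearMap.lTensor_comp]
    have h4 : ((Submodule.mkQ (J ^ (n + 1))).restrictScalars A) ∘ₗ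
        (Submodule.subtype ((J ^ (n + 1)).restrictScalars A)) = 0 := by
      ext ⟨b, hb⟩
      exact (Submodule.Quotient.mk_eq_zero _).mpr hb
    rw [h4, LinearMap.lTensor_zero, LinearMap.zero_apply]
  -- factor `grMap = grIncl ∘ mkQ`
  have h5 : (grMap f n).restrictScalars A =
      ((grIncl f hq n).restrictScalars A) ∘ₗ ((Submodule.mkQ (piJ f n)).restrictScalars A) := rfl
  have hflatn := flat_quotient_pow (A := A) f hq hflat n
  have hinj : Function.Injective (((grIncl f hq n).restrictScalars A).lTensor A') :=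
    LinearMap.lTensor_injective_of_exact_of_flat
      ((grProj f n).restrictScalars A) (grProj_surjective f n)
      ((grIncl f hq n).restrictScalars A) (grIncl_injective f hq n)
      (grIncl_grProj_exact f hq n) A'
  have h6 : LinearMap.lTensor A' ((Submodule.mkQ (piJ f n)).restrictScalars A) z = 0 := by
    apply hinj
    rw [map_zero, ← LinearMap.comp_apply, ← LinearMap.lTensor_comp, ← h5]; exact h2
  -- exactness of `A' ⊗ J^ι → A' ⊗ B^ι → A' ⊗ (B^ι/J^ι)`
  have hexact : Function.Exact (Submodule.subtype ((piJ f n).restrictScalars A))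
      ((Submodule.mkQ (piJ f n)).restrictScalars A) := by
    intro v
    constructor
    · intro hv
      exact ⟨⟨v, (Submodule.Quotient.mk_eq_zero _).mp hv⟩, rfl⟩
    · rintro ⟨⟨t, ht⟩, rfl⟩
      exact (Submodule.Quotient.mk_eq_zero _).mpr ht
  have hexact' := lTensor_exact A' hexact (Submodule.mkQ_surjective (piJ f n))
  obtain ⟨y, hy⟩ := (hexact' z).mp h6
  rw [← hz', ← hy]
  clear hy h6 h2 h1 hz' hc'
  rw [span_baseChange]
  intro d
  induction y using TensorProduct.induction_on with
  | zero => simp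
  | add x y hx hy => rw [map_add, map_add, Pi.add_apply]; exact add_mem hx hy
  | tmul x t =>
    obtain ⟨t, ht⟩ := t
    rw [mem_map_includeRight_iff]
    exact ⟨x ⊗ₜ[A] ⟨t d, (mem_piJ f).mp ht d⟩, rfl⟩

end BaseChange

end Groth.Agent.Lib.Helper47
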