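import Mathlib
import Groth.Prelude.Def_CAlgX
import Groth.Agent.Lib.Helper47.QuasiRegularBaseChange
import Groth.Agent.Lib.Helper47.H1RegularBaseChange

/-!
# An `H₁`-regular sequence is quasi-regular

With `S = R[X₁,…,X_r]`, `𝔞 = (X)`, `I = ker (eval f)`: `H₁`-regularity gives `𝔞 ∩ I = 𝔞 I`,
by induction `𝔞^m ∩ I = 𝔞^m I`, and comparing coefficients of degree `m` gives quasi-regularity.
-/

set_option autoImplicit false
universe u

open MvPolynomial

namespace Groth.Agent.Lib.Helper47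

variable {R : Type u} [CommRing R] {r : ℕ} (f : Fin r → R)

/-- Trivial relations lift to polynomial relations among the variables. -/
theorem exists_lift_of_mem_trivRel (a : Fin r → R) (ha : a ∈ trivRel f) :
    ∃ p : Fin r → MvPolynomial (Fin r) R, (∀ k, eval f (p k) = a k) ∧ ∑ k, p k * X k = 0 := by
  classical
  induction ha using Submodule.span_induction with
  | mem a ha =>
    obtain ⟨i, j, rfl⟩ := ha
    refine ⟨Pi.single i (X j) - Pi.single j (X i), fun k => ?_, ?_⟩
    · simp only [Pi.sub_apply, Pi.single_apply, map_sub]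
      congr 1 <;> split_ifs <;> simp
    · simp only [Pi.sub_apply, Pi.single_apply, sub_mul, Finset.sum_sub_distrib, ite_mul, zero_mul,
        Finset.sum_ite_eq', Finset.mem_univ, if_true]
      ring
  | zero => exact ⟨0, fun k => by simp, by simp⟩
  | add a b _ _ ha hb =>
    obtain ⟨p, hp, hps⟩ := ha
    obtain ⟨q, hq, hqs⟩ := hb
    refine ⟨p + q, fun k => by simp [hp, hq], ?_⟩
    simp only [Pi.add_apply, add_mul, Finset.sum_add_distrib, hps, hqs, add_zero]
  | smul b a _ ha =>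
    obtain ⟨p, hp, hps⟩ := ha
    refine ⟨fun k => C b * p k, fun k => by simp [hp], ?_⟩
    simp only [mul_assoc, ← Finset.mul_sum, hps, mul_zero]

/-- `𝔞 ∩ I ≤ 𝔞 I` for an `H₁`-regular sequence. -/
theorem mem_mul_ker_of_mem_idealOfVars (hf : CAlgX.IsH1Regular f) (P : MvPolynomial (Fin r) R)
    (hP : P ∈ idealOfVars (Fin r) R) (h0 : eval f P = 0) :
    P ∈ idealOfVars (Fin r) R * RingHom.ker (eval f) := by
  obtain ⟨p, rfl⟩ := (Ideal.mem_span_range_iff_exists_fun).mp hP
  have ha : (fun i => eval f (p i)) ∈ trivRel f :=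
    hf _ (by simpa [map_sum, map_mul] using h0)
  obtain ⟨p0, hp0, hsum⟩ := exists_lift_of_mem_trivRel f _ ha
  have h1 : ∑ i, p i * X i = ∑ i, (p i - p0 i) * X i := by
    simp only [sub_mul, Finset.sum_sub_distrib, hsum, sub_zero]
  rw [h1]
  refine Ideal.sum_mem _ fun i _ => ?_
  rw [mul_comm (p i - p0 i)]
  exact Ideal.mul_mem_mul (Ideal.subset_span ⟨i, rfl⟩)
    (by rw [RingHom.mem_ker, map_sub, hp0, sub_self])

/-- Elements of `𝔞^m I` are combinations of the degree-`m` monomials with coefficients in `I`. -/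
theorem exists_rep_of_mem_pow_mul (I : Ideal (MvPolynomial (Fin r) R)) (m : ℕ)
    (P : MvPolynomial (Fin r) R) (hP : P ∈ idealOfVars (Fin r) R ^ m * I) :
    ∃ Q : expos r m → MvPolynomial (Fin r) R, (∀ α, Q α ∈ I) ∧
      P = ∑ α : expos r m, mon (X : Fin r → MvPolynomial (Fin r) R) (α : Fin r →₀ ℕ) * Q α := by
  refine Submodule.mul_induction_on hP ?_ ?_
  · intro a ha b hb
    obtain ⟨G, rfl⟩ := (mem_pow_iff (X : Fin r → MvPolynomial (Fin r) R) m a).mp ha
    refine ⟨fun α => G α * b, fun α => I.mul_mem_left _ hb, ?_⟩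
    rw [monComb_apply, Finset.sum_mul]
    exact Finset.sum_congr rfl fun α _ => by ring
  · rintro x y ⟨Q, hQ, rfl⟩ ⟨Q', hQ', rfl⟩
    refine ⟨Q + Q', fun α => add_mem (hQ α) (hQ' α), ?_⟩
    simp only [Pi.add_apply, mul_add, Finset.sum_add_distrib]

theorem mon_X (β : Fin r →₀ ℕ) :
    mon (X : Fin r → MvPolynomial (Fin r) R) β = monomial β 1 := by
  rw [monomial_eq, C_1, one_mul, Finsupp.prod_fintype _ _ (fun i => pow_zero _)]
  rfl

theorem le_iff_eq_of_mem_expos {m : ℕ} (α β : expos r m) :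
    (β : Fin r →₀ ℕ) ≤ α ↔ β = α := by
  constructor
  · intro h
    have h1 : (α : Fin r →₀ ℕ) = β + (α - β) := (add_tsub_cancel_of_le h).symm
    have h2 : (α : Fin r →₀ ℕ).degree = (β : Fin r →₀ ℕ).degree + ((α : Fin r →₀ ℕ) - β).degree := by
      conv_lhs => rw [h1]
      exact map_add _ _ _
    rw [mem_expos.mp α.2, mem_expos.mp β.2] at h2
    have h3 : ((α : Fin r →₀ ℕ) - β).degree = 0 := by omega
    rw [Finsupp.degree_eq_zero_iff] at h3
    rw [h3, add_zero] at h1
    exact Subtype.ext h1.symm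
  · rintro rfl; exact le_rfl

theorem coeff_sum_mon_mul {m : ℕ} (Q : expos r m → MvPolynomial (Fin r) R) (α : expos r m) :
    coeff (α : Fin r →₀ ℕ)
        (∑ β : expos r m, mon (X : Fin r → MvPolynomial (Fin r) R) (β : Fin r →₀ ℕ) * Q β) =
      coeff 0 (Q α) := by
  classical
  rw [coeff_sum]
  simp only [mon_X, coeff_monomial_mul', one_mul]
  rw [Finset.sum_eq_single α]
  · simp
  · intro β _ hβ
    rw [if_neg]
    exact fun h => hβ ((le_iff_eq_of_mem_expos α β).mp h)
  · intro h; exact absurd (Finset.mem_univ _) h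

/-- `𝔞^m ∩ I ≤ 𝔞^m I` for an `H₁`-regular sequence. -/
theorem mem_pow_mul_ker (hf : CAlgX.IsH1Regular f) (m : ℕ) :
    ∀ P ∈ idealOfVars (Fin r) R ^ m, eval f P = 0 →
      P ∈ idealOfVars (Fin r) R ^ m * RingHom.ker (eval f) := by
  induction m with
  | zero =>
    intro P _ h0
    rw [pow_zero, Ideal.one_eq_top, Ideal.top_mul]
    exact h0
  | succ m ih =>
    intro P hP h0
    have hP' : P ∈ idealOfVars (Fin r) R ^ m := Ideal.pow_le_pow_right (Nat.le_succ m) hP
    obtain ⟨Q, hQI, rfl⟩ := exists_rep_of_mem_pow_mul _ m P (ih P hP' h0)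
    have hQ0 : ∀ α, coeff 0 (Q α) = 0 := fun α => by
      rw [← coeff_sum_mon_mul]
      exact (mem_pow_idealOfVars_iff' _ _).mp hP α
        (by rw [mem_expos.mp α.2]; exact Nat.lt_succ_self m)
    have hQa : ∀ α, Q α ∈ idealOfVars (Fin r) R * RingHom.ker (eval f) := fun α => by
      refine mem_mul_ker_of_mem_idealOfVars f hf (Q α) ?_ (hQI α)
      rw [← pow_one (idealOfVars (Fin r) R), mem_pow_idealOfVars_iff']
      intro x hx
      have : x = 0 := by
        rw [← Finsupp.degree_eq_zero_iff]; omega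
      rw [this, hQ0]
    rw [pow_succ, mul_assoc]
    exact Ideal.sum_mem _ fun α _ => Ideal.mul_mem_mul (mon_mem_pow _ m α) (hQa α)

theorem coeff_zero_mem_of_mem_ker (Q : MvPolynomial (Fin r) R) (hQ : eval f Q = 0) :
    coeff 0 Q ∈ Ideal.span (Set.range f) := by
  have h1 : Q - C (coeff 0 Q) ∈ idealOfVars (Fin r) R := by
    rw [← pow_one (idealOfVars (Fin r) R), mem_pow_idealOfVars_iff']
    intro x hx
    have : x = 0 := by
      rw [← Finsupp.degree_eq_zero_iff]; omega
    rw [this]; simp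
  have h2 : idealOfVars (Fin r) R ≤ (Ideal.span (Set.range f)).comap (eval f) := by
    refine Ideal.span_le.mpr ?_
    rintro _ ⟨i, rfl⟩
    simp only [SetLike.mem_coe, Ideal.mem_comap, eval_X]
    exact Ideal.subset_span ⟨i, rfl⟩
  have h3 := h2 h1
  rw [Ideal.mem_comap, map_sub, hQ, zero_sub, eval_C] at h3
  exact (neg_mem_iff).mp h3

theorem coeff_mem_of_eval_eq_zero (hf : CAlgX.IsH1Regular f) {n : ℕ}
    {P : MvPolynomial (Fin r) R} (hP : P.IsHomogeneous n) (h0 : eval f P = 0)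
    (d : Fin r →₀ ℕ) : coeff d P ∈ Ideal.span (Set.range f) := by
  by_cases hd : d.degree = n
  · have hPa : P ∈ idealOfVars (Fin r) R ^ n :=
      (mem_pow_idealOfVars_iff' _ _).mpr fun x hx => hP.coeff_eq_zero (ne_of_lt hx)
    obtain ⟨Q, hQI, hPQ⟩ := exists_rep_of_mem_pow_mul _ n P (mem_pow_mul_ker f hf n P hPa h0)
    have h1 : coeff d P = coeff 0 (Q ⟨d, mem_expos.mpr hd⟩) := by
      rw [hPQ]; exact coeff_sum_mon_mul Q ⟨d, _⟩
    rw [h1]
    exact coeff_zero_mem_of_mem_ker f _ (hQI _)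
  · rw [hP.coeff_eq_zero hd]; exact zero_mem _

theorem exists_coeffs_mem_of_mem_pow_succ (n : ℕ) (y : R)
    (hy : y ∈ Ideal.span (Set.range f) ^ (n + 1)) :
    ∃ c : expos r n → R, (∀ d, c d ∈ Ideal.span (Set.range f)) ∧ monComb f n c = y := by
  rw [pow_succ] at hy
  refine Submodule.mul_induction_on hy ?_ ?_
  · intro a ha b hb
    obtain ⟨c, rfl⟩ := (mem_pow_iff f n a).mp ha
    exact ⟨b • c, fun d => Ideal.mul_mem_right _ _ hb,
      by rw [map_smul, smul_eq_mul, mul_comm]⟩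
  · rintro x y ⟨c, hc, rfl⟩ ⟨c', hc', rfl⟩
    exact ⟨c + c', fun d => add_mem (hc d) (hc' d), map_add _ _ _⟩

/-- An `H₁`-regular sequence is quasi-regular. -/
theorem isQuasiRegular_of_isH1Regular (hf : CAlgX.IsH1Regular f) : CAlgX.IsQuasiRegular f := by
  rw [isQuasiRegular_iff]
  intro n c hc d
  obtain ⟨c', hc', hcc'⟩ := exists_coeffs_mem_of_mem_pow_succ f n _ hc
  have h0 : eval f (polyOf (c - c')) = 0 := by rw [eval_polyOf, map_sub, hcc', sub_self]
  have h1 := coeff_mem_of_eval_eq_zero f hf (polyOf_isHomogeneous (c - c')) h0 d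
  rw [coeff_polyOf] at h1
  have h2 : c d = (c - c') d + c' d := by simp
  rw [h2]; exact add_mem h1 (hc' d)

end Groth.Agent.Lib.Helper47
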