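import Mathlib

/-!
# Gluing algebra maps into quotients (helper47)

`exists_glue`: maps `f₁ : B → C/I₁`, `f₂ : B → C/I₂` agreeing in `C/(I₁ ⊔ I₂)` come from a unique
map `B → C/(I₁ ⊓ I₂)`.
-/

set_option autoImplicit false

namespace Groth.Agent.Lib.Helper47

open Ideal

section

variable {A B C : Type*} [CommRing A] [CommRing B] [CommRing C] [Algebra A B] [Algebra A C]

theorem exists_glue (I₁ I₂ : Ideal C) (f₁ : B →ₐ[A] C ⧸ I₁) (f₂ : B →ₐ[A] C ⧸ I₂)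
    (h : (Quotient.factorₐ A (le_sup_left : I₁ ≤ I₁ ⊔ I₂)).comp f₁ =
      (Quotient.factorₐ A (le_sup_right : I₂ ≤ I₁ ⊔ I₂)).comp f₂) :
    ∃ f : B →ₐ[A] C ⧸ (I₁ ⊓ I₂),
      (Quotient.factorₐ A (inf_le_left : I₁ ⊓ I₂ ≤ I₁)).comp f = f₁ ∧
      (Quotient.factorₐ A (inf_le_right : I₁ ⊓ I₂ ≤ I₂)).comp f = f₂ := by
  let φ : C ⧸ (I₁ ⊓ I₂) →ₐ[A] (C ⧸ I₁) × (C ⧸ I₂) :=
    AlgHom.prod (Quotient.factorₐ A inf_le_left) (Quotient.factorₐ A inf_le_right)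
  have hφ : Function.Injective φ := by
    rw [injective_iff_map_eq_zero]
    intro x hx
    obtain ⟨c, rfl⟩ := Ideal.Quotient.mk_surjective x
    have h1 : Ideal.Quotient.mk I₁ c = 0 := congrArg Prod.fst hx
    have h2 : Ideal.Quotient.mk I₂ c = 0 := congrArg Prod.snd hx
    rw [Ideal.Quotient.eq_zero_iff_mem] at h1 h2 ⊢
    exact ⟨h1, h2⟩
  have hrange : ∀ b : B, (f₁ b, f₂ b) ∈ φ.range := by
    intro b
    obtain ⟨c₁, hc₁⟩ := Ideal.Quotient.mk_surjective (f₁ b)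
    obtain ⟨c₂, hc₂⟩ := Ideal.Quotient.mk_surjective (f₂ b)
    have hb := congrArg (fun g : B →ₐ[A] C ⧸ (I₁ ⊔ I₂) => g b) h
    simp only [AlgHom.comp_apply] at hb
    rw [← hc₁, ← hc₂] at hb
    have hb' : Ideal.Quotient.mk (I₁ ⊔ I₂) c₁ = Ideal.Quotient.mk (I₁ ⊔ I₂) c₂ := hb
    rw [Ideal.Quotient.eq, Submodule.mem_sup] at hb'
    obtain ⟨i₁, hi₁, i₂, hi₂, hsum⟩ := hb'
    refine ⟨Ideal.Quotient.mk _ (c₁ - i₁), ?_⟩
    have e1 : Ideal.Quotient.mk I₁ (c₁ - i₁) = f₁ b := by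
      rw [← hc₁, Ideal.Quotient.eq]
      have : c₁ - i₁ - c₁ = -i₁ := by ring
      rw [this]
      exact I₁.neg_mem hi₁
    have e2 : Ideal.Quotient.mk I₂ (c₁ - i₁) = f₂ b := by
      rw [← hc₂, Ideal.Quotient.eq]
      have : c₁ - i₁ - c₂ = i₂ := by linear_combination -hsum
      rw [this]
      exact hi₂
    exact Prod.ext e1 e2
  let e : (C ⧸ (I₁ ⊓ I₂)) ≃ₐ[A] φ.range := AlgEquiv.ofInjective φ hφ
  let g : B →ₐ[A] φ.range := (AlgHom.prod f₁ f₂).codRestrict φ.range hrange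
  refine ⟨(e.symm : φ.range →ₐ[A] C ⧸ (I₁ ⊓ I₂)).comp g, ?_, ?_⟩
  · ext b
    have : φ (e.symm (g b)) = (f₁ b, f₂ b) := by
      have h1 : (e (e.symm (g b)) : (C ⧸ I₁) × (C ⧸ I₂)) = φ (e.symm (g b)) := rfl
      rw [← h1, e.apply_symm_apply]
      rfl
    exact congrArg Prod.fst this
  · ext b
    have : φ (e.symm (g b)) = (f₁ b, f₂ b) := by
      have h1 : (e (e.symm (g b)) : (C ⧸ I₁) × (C ⧸ I₂)) = φ (e.symm (g b)) := rfl
      rw [← h1, e.apply_symm_apply]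
      rfl
    exact congrArg Prod.snd this

end

end Groth.Agent.Lib.Helper47
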