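import Mathlib
import Groth.Prelude.Def_EGA41
import Groth.Agent.Lib.Helper47.QuotientGlue

/-!
# Lifting maps from a formally smooth adic algebra to a complete local ring (helper47)

EGA 0_IV 19.3.10.
-/

set_option autoImplicit false
universe u

namespace Groth.Agent.Lib.Helper47

open Ideal IsLocalRing

theorem exists_lift_of_surjective_of_isFormallySmoothAdic {A B : Type u} [CommRing A] (𝔞 : Ideal A)
    [CommRing B] [Algebra A B] (𝔟 : Ideal B) (hB : EGA41.IsFormallySmoothAdic A 𝔞 B 𝔟)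
    {D E : Type u} [CommRing D] [CommRing E] [Algebra A D] [Algebra A E] (π : D →ₐ[A] E)
    (hπ : Function.Surjective π) (hnil : IsNilpotent (RingHom.ker π))
    (hD : ∃ k : ℕ, (𝔞 ^ k).map (algebraMap A D) = ⊥) (w : B →ₐ[A] E)
    (hw : ∃ k : ℕ, ∀ x ∈ 𝔟 ^ k, w x = 0) : ∃ v : B →ₐ[A] D, π.comp v = w := by
  let e := Ideal.quotientKerAlgEquivOfSurjective hπ
  obtain ⟨k, hk⟩ := hw
  obtain ⟨v, hv⟩ := hB D (RingHom.ker π) hnil hD ((e.symm : E →ₐ[A] _).comp w)
    ⟨k, fun x hx => by rw [AlgHom.comp_apply, hk x hx, map_zero]⟩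
  refine ⟨v, ?_⟩
  ext b
  have h1 := congrArg (fun g : B →ₐ[A] D ⧸ RingHom.ker π => e (g b)) hv
  simp only [AlgHom.comp_apply] at h1
  have h2 : e ((e.symm : E →ₐ[A] _) (w b)) = w b := e.apply_symm_apply (w b)
  rw [h2] at h1
  exact h1

section Main

variable {A B C : Type u} [CommRing A] [CommRing B] [Algebra A B] [CommRing C] [IsLocalRing C]
  [Algebra A C]

/-- The invariant of the recursive construction: `f ≡ u` modulo `J + 𝔪ⁿ`, elementwise. -/
def LiftInv (J : Ideal C) (u : B →ₐ[A] C ⧸ J) (n : ℕ)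
    (f : B →ₐ[A] C ⧸ (maximalIdeal C) ^ n) : Prop :=
  ∀ (b : B) (c c' : C), Ideal.Quotient.mk J c = u b →
    Ideal.Quotient.mk ((maximalIdeal C) ^ n) c' = f b → c' - c ∈ J ⊔ (maximalIdeal C) ^ n

variable (𝔟 : Ideal B) (J : Ideal C) (hJ : J ≠ ⊤) (u : B →ₐ[A] C ⧸ J)
  (hu : 𝔟.map u.toRingHom ≤ (maximalIdeal C).map (Ideal.Quotient.mk J))

include hu in
theorem exists_rep_mem_maximalIdeal {b : B} (hb : b ∈ 𝔟) :
    ∃ c ∈ maximalIdeal C, Ideal.Quotient.mk J c = u b := by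
  have h1 : u.toRingHom b ∈ 𝔟.map u.toRingHom := Ideal.mem_map_of_mem _ hb
  obtain ⟨c, hc, hcb⟩ := (Ideal.mem_map_iff_of_surjective _ Ideal.Quotient.mk_surjective).mp (hu h1)
  exact ⟨c, hc, hcb⟩

include hu in
theorem exists_rep_mem_pow (k : ℕ) {x : B} (hx : x ∈ 𝔟 ^ k) :
    ∃ c ∈ (maximalIdeal C) ^ k, Ideal.Quotient.mk J c = u x := by
  have h1 : u.toRingHom x ∈ (𝔟 ^ k).map u.toRingHom := Ideal.mem_map_of_mem _ hx
  rw [Ideal.map_pow] at h1
  have h2 := Ideal.pow_right_mono hu k h1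
  rw [← Ideal.map_pow] at h2
  obtain ⟨c, hc, hcb⟩ := (Ideal.mem_map_iff_of_surjective _ Ideal.Quotient.mk_surjective).mp h2
  exact ⟨c, hc, hcb⟩

include hJ hu in
theorem LiftInv.kills {n : ℕ} {f : B →ₐ[A] C ⧸ (maximalIdeal C) ^ n} (hf : LiftInv J u n f)
    {x : B} (hx : x ∈ 𝔟 ^ n) : f x = 0 := by
  have hJ𝔪 : J ≤ maximalIdeal C := le_maximalIdeal hJ
  cases n with
  | zero =>
    have : Subsingleton (C ⧸ (maximalIdeal C) ^ 0) := by
      rw [Ideal.Quotient.subsingleton_iff, pow_zero, Ideal.one_eq_top]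
    exact Subsingleton.elim _ _
  | succ k =>
    have hmap : 𝔟.map f.toRingHom ≤
        (maximalIdeal C).map (Ideal.Quotient.mk ((maximalIdeal C) ^ (k + 1))) := by
      rw [Ideal.map_le_iff_le_comap]
      intro b hb
      rw [Ideal.mem_comap]
      obtain ⟨c, hc𝔪, hc⟩ := exists_rep_mem_maximalIdeal 𝔟 J u hu hb
      obtain ⟨c', hc'⟩ := Ideal.Quotient.mk_surjective (f b)
      have h1 := hf b c c' hc hc'
      have h2 : J ⊔ (maximalIdeal C) ^ (k + 1) ≤ maximalIdeal C :=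
        sup_le hJ𝔪 (Ideal.pow_le_self (Nat.succ_ne_zero k))
      have h3 : c' ∈ maximalIdeal C := by
        have := (maximalIdeal C).add_mem (h2 h1) hc𝔪
        rwa [sub_add_cancel] at this
      change f b ∈ _
      rw [← hc']
      exact Ideal.mem_map_of_mem _ h3
    have h1 : f.toRingHom x ∈ (𝔟 ^ (k + 1)).map f.toRingHom := Ideal.mem_map_of_mem _ hx
    rw [Ideal.map_pow] at h1
    have h2 := Ideal.pow_right_mono hmap (k + 1) h1
    rw [← Ideal.map_pow, Ideal.map_quotient_self] at h2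
    exact h2

variable (𝔞 : Ideal A) (hB : EGA41.IsFormallySmoothAdic A 𝔞 B 𝔟)
  (hA : 𝔞.map (algebraMap A C) ≤ maximalIdeal C)

include hJ hu hB hA in
theorem LiftInv.step {n : ℕ} {f : B →ₐ[A] C ⧸ (maximalIdeal C) ^ n} (hf : LiftInv J u n f) :
    ∃ f' : B →ₐ[A] C ⧸ (maximalIdeal C) ^ (n + 1), LiftInv J u (n + 1) f' ∧
      (Quotient.factorₐ A (Ideal.pow_le_pow_right n.le_succ)).comp f' = f := by
  have hJm : J ≤ maximalIdeal C := le_maximalIdeal hJ
  set I₂ : Ideal C := J ⊔ maximalIdeal C ^ (n + 1) with hI₂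
  have hI₂m : I₂ ≤ maximalIdeal C := sup_le hJm (Ideal.pow_le_self (Nat.succ_ne_zero n))
  let f₂ : B →ₐ[A] C ⧸ I₂ := (Quotient.factorₐ A (le_sup_left : J ≤ I₂)).comp u
  have hJn : J ⊔ maximalIdeal C ^ n ≤ (maximalIdeal C ^ n) ⊔ I₂ := sup_le (le_sup_left.trans le_sup_right) le_sup_left
  have hglue : (Quotient.factorₐ A (le_sup_left : (maximalIdeal C ^ n) ≤ (maximalIdeal C ^ n) ⊔ I₂)).comp f =
      (Quotient.factorₐ A (le_sup_right : I₂ ≤ (maximalIdeal C ^ n) ⊔ I₂)).comp f₂ := by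
    ext b
    obtain ⟨c, hc⟩ := Ideal.Quotient.mk_surjective (u b)
    obtain ⟨c', hc'⟩ := Ideal.Quotient.mk_surjective (f b)
    have h1 := hJn (hf b c c' hc hc')
    simp only [AlgHom.comp_apply, f₂]
    rw [← hc, ← hc']
    change Ideal.Quotient.mk ((maximalIdeal C ^ n) ⊔ I₂) c' = Ideal.Quotient.mk ((maximalIdeal C ^ n) ⊔ I₂) c
    rw [Ideal.Quotient.eq]
    exact h1
  obtain ⟨g, hg₁, hg₂⟩ := exists_glue (maximalIdeal C ^ n) I₂ f f₂ hglue
  have hle : maximalIdeal C ^ (n + 1) ≤ (maximalIdeal C ^ n) ⊓ I₂ := le_inf (Ideal.pow_le_pow_right n.le_succ) le_sup_right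
  let π : C ⧸ maximalIdeal C ^ (n + 1) →ₐ[A] C ⧸ ((maximalIdeal C ^ n) ⊓ I₂) := Quotient.factorₐ A hle
  have hπ : Function.Surjective π := Ideal.Quotient.factor_surjective hle
  have hker : RingHom.ker π ≤ (maximalIdeal C).map (Ideal.Quotient.mk (maximalIdeal C ^ (n + 1))) := by
    intro x hx
    obtain ⟨c, rfl⟩ := Ideal.Quotient.mk_surjective x
    rw [RingHom.mem_ker] at hx
    have hx' : Ideal.Quotient.mk ((maximalIdeal C ^ n) ⊓ I₂) c = 0 := hx
    rw [Ideal.Quotient.eq_zero_iff_mem] at hx'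
    exact Ideal.mem_map_of_mem _ (hI₂m hx'.2)
  have hnil : IsNilpotent (RingHom.ker π) := by
    refine ⟨n + 1, ?_⟩
    rw [Ideal.zero_eq_bot, eq_bot_iff]
    refine (Ideal.pow_right_mono hker (n + 1)).trans ?_
    rw [← Ideal.map_pow, Ideal.map_quotient_self]
  have hD : ∃ k : ℕ, (𝔞 ^ k).map (algebraMap A (C ⧸ maximalIdeal C ^ (n + 1))) = ⊥ := by
    refine ⟨n + 1, ?_⟩
    rw [eq_bot_iff]
    have e1 : algebraMap A (C ⧸ maximalIdeal C ^ (n + 1)) =
        (Ideal.Quotient.mk (maximalIdeal C ^ (n + 1))).comp (algebraMap A C) := rfl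
    rw [e1, ← Ideal.map_map, Ideal.map_pow]
    refine (Ideal.map_mono (Ideal.pow_right_mono hA (n + 1))).trans ?_
    rw [Ideal.map_quotient_self]
  have hw : ∃ k : ℕ, ∀ x ∈ 𝔟 ^ k, g x = 0 := by
    refine ⟨n + 1, fun x hx => ?_⟩
    obtain ⟨c'', hc''⟩ := Ideal.Quotient.mk_surjective (g x)
    have hx' : x ∈ 𝔟 ^ n := Ideal.pow_le_pow_right n.le_succ hx
    have h1 : f x = 0 := LiftInv.kills 𝔟 J hJ u hu hf hx'
    have h2 : Ideal.Quotient.mk (maximalIdeal C ^ n) c'' = 0 := by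
      rw [← h1, ← hg₁, AlgHom.comp_apply, ← hc'']
      rfl
    obtain ⟨m, hm, hmx⟩ := exists_rep_mem_pow 𝔟 J u hu (n + 1) hx
    have h3 : Ideal.Quotient.mk I₂ c'' = 0 := by
      have : Ideal.Quotient.mk I₂ c'' = f₂ x := by
        rw [← hg₂, AlgHom.comp_apply, ← hc'']
        rfl
      rw [this]
      simp only [f₂, AlgHom.comp_apply]
      rw [← hmx]
      change Ideal.Quotient.mk I₂ m = 0
      rw [Ideal.Quotient.eq_zero_iff_mem]
      exact le_sup_right (a := J) hm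
    rw [← hc'', Ideal.Quotient.eq_zero_iff_mem]
    rw [Ideal.Quotient.eq_zero_iff_mem] at h2 h3
    exact ⟨h2, h3⟩
  obtain ⟨f', hf'⟩ := exists_lift_of_surjective_of_isFormallySmoothAdic 𝔞 𝔟 hB π hπ hnil hD g hw
  refine ⟨f', ?_, ?_⟩
  · intro b c c'' hc hc''
    have h1 : g b = Ideal.Quotient.mk ((maximalIdeal C ^ n) ⊓ I₂) c'' := by
      rw [← hf', AlgHom.comp_apply, ← hc'']
      rfl
    have h2 : f₂ b = Ideal.Quotient.mk I₂ c'' := by
      rw [← hg₂, AlgHom.comp_apply, h1]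
      rfl
    have h3 : f₂ b = Ideal.Quotient.mk I₂ c := by
      simp only [f₂, AlgHom.comp_apply]
      rw [← hc]
      rfl
    rw [h3, Ideal.Quotient.eq] at h2
    have := I₂.neg_mem h2
    rwa [neg_sub] at this
  · rw [← hg₁, ← hf']
    ext b
    obtain ⟨c, hc⟩ := Ideal.Quotient.mk_surjective (f' b)
    simp only [AlgHom.comp_apply]
    rw [← hc]
    rfl

include hJ hu hB hA in
theorem exists_lift_complete_local [IsNoetherianRing C] [IsAdicComplete (maximalIdeal C) C] :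
    ∃ v : B →ₐ[A] C, 𝔟.map v.toRingHom ≤ maximalIdeal C ∧ (Ideal.Quotient.mkₐ A J).comp v = u := by
  have hJm : J ≤ maximalIdeal C := le_maximalIdeal hJ
  -- base of the recursion
  have hJ0 : J ≤ maximalIdeal C ^ 0 := by rw [pow_zero, Ideal.one_eq_top]; exact le_top
  have h0 : LiftInv J u 0 ((Quotient.factorₐ A hJ0).comp u) := by
    intro b c c' _ _
    rw [pow_zero, Ideal.one_eq_top, sup_top_eq]
    trivial
  -- the sequence
  let T : ℕ → Type u := fun n => {f : B →ₐ[A] C ⧸ (maximalIdeal C) ^ n // LiftInv J u n f}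
  let F : (n : ℕ) → T n := fun n => Nat.rec (motive := T) ⟨_, h0⟩
    (fun n t => ⟨Classical.choose (LiftInv.step 𝔟 J hJ u hu 𝔞 hB hA t.2),
      (Classical.choose_spec (LiftInv.step 𝔟 J hJ u hu 𝔞 hB hA t.2)).1⟩) n
  have hF : ∀ n, (Quotient.factorₐ A (Ideal.pow_le_pow_right n.le_succ)).comp (F (n + 1)).1 =
      (F n).1 := fun n => (Classical.choose_spec (LiftInv.step 𝔟 J hJ u hu 𝔞 hB hA (F n).2)).2
  have hcompat : ∀ {m n : ℕ} (hle : m ≤ n),
      (Quotient.factorₐ A (Ideal.pow_le_pow_right hle)).comp (F n).1 = (F m).1 := by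
    intro m n hle
    induction n, hle using Nat.le_induction with
    | base =>
      ext b
      obtain ⟨c, hc⟩ := Ideal.Quotient.mk_surjective ((F m).1 b)
      rw [AlgHom.comp_apply, ← hc]
      rfl
    | succ n hmn ih =>
      rw [← ih, ← hF n]
      ext b
      obtain ⟨c, hc⟩ := Ideal.Quotient.mk_surjective ((F (n + 1)).1 b)
      simp only [AlgHom.comp_apply]
      rw [← hc]
      rfl
  let v : B →ₐ[A] C := IsAdicComplete.liftAlgHom (maximalIdeal C) (fun n => (F n).1) hcompat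
  have hv : ∀ n b, Ideal.Quotient.mk ((maximalIdeal C) ^ n) (v b) = (F n).1 b := fun n b =>
    IsAdicComplete.mk_liftAlgHom (maximalIdeal C) (fun n => (F n).1) hcompat n b
  have hmem : ∀ n (b : B) (c : C), Ideal.Quotient.mk J c = u b →
      v b - c ∈ J ⊔ (maximalIdeal C) ^ n := fun n b c hc => (F n).2 b c (v b) hc (hv n b)
  refine ⟨v, ?_, ?_⟩
  · rw [Ideal.map_le_iff_le_comap]
    intro b hb
    rw [Ideal.mem_comap]
    obtain ⟨c, hcm, hc⟩ := exists_rep_mem_maximalIdeal 𝔟 J u hu hb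
    have h1 := hmem 1 b c hc
    have h2 : J ⊔ (maximalIdeal C) ^ 1 ≤ maximalIdeal C := sup_le hJm (by rw [pow_one])
    have := (maximalIdeal C).add_mem (h2 h1) hcm
    rwa [sub_add_cancel] at this
  · ext b
    obtain ⟨c, hc⟩ := Ideal.Quotient.mk_surjective (u b)
    rw [AlgHom.comp_apply, ← hc]
    change Ideal.Quotient.mk J (v b) = Ideal.Quotient.mk J c
    rw [Ideal.Quotient.eq]
    have hkrull : (⨅ i : ℕ, (maximalIdeal C) ^ i • ⊤ : Submodule C (C ⧸ J)) = ⊥ :=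
      Ideal.iInf_pow_smul_eq_bot_of_isLocalRing (maximalIdeal C) Ideal.IsPrime.ne_top'
    have hx : Ideal.Quotient.mk J (v b - c) ∈
        (⨅ i : ℕ, (maximalIdeal C) ^ i • ⊤ : Submodule C (C ⧸ J)) := by
      rw [Submodule.mem_iInf]
      intro n
      obtain ⟨j, hj, m, hm, hsum⟩ := Submodule.mem_sup.mp (hmem n b c hc)
      have e1 : Ideal.Quotient.mk J (v b - c) = m • (1 : C ⧸ J) := by
        rw [← hsum, map_add, Ideal.Quotient.eq_zero_iff_mem.mpr hj, zero_add, Algebra.smul_def,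
          mul_one]
        rfl
      rw [e1]
      exact Submodule.smul_mem_smul hm Submodule.mem_top
    rw [hkrull, Submodule.mem_bot] at hx
    exact Ideal.Quotient.eq_zero_iff_mem.mp hx

end Main

end Groth.Agent.Lib.Helper47
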