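import Mathlib
import Groth.Prelude.Def_CAlgX
import Groth.Agent.Lib.Helper47.AdicSmoothCompletion

/-!
# Adic formal smoothness of power series rings over fields of characteristic zero
-/

set_option autoImplicit false
universe u

namespace Groth.Agent.Lib.Helper47

/-- A field of characteristic zero is formally smooth over `ℚ`. -/
theorem formallySmooth_rat (K : Type u) [Field K] [CharZero K] : Algebra.FormallySmooth ℚ K := by
  obtain ⟨s, hs⟩ := exists_isTranscendenceBasis ℚ K
  have halg : Algebra.IsAlgebraic (IntermediateField.adjoin ℚ (Set.range ((↑) : s → K))) K :=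
    hs.isAlgebraic_field
  exact Algebra.FormallySmooth.of_algebraicIndependent_of_isSeparable hs.1

/-- Formally smooth algebras are formally smooth for every adic topology. -/
theorem isAdicFormallySmooth_of_formallySmooth {R S : Type u} [CommRing R] [CommRing S]
    [Algebra R S] [Algebra.FormallySmooth R S] (𝔫 : Ideal S) :
    CAlgX.IsAdicFormallySmooth R S 𝔫 := by
  intro A _ _ J hJ ψ _
  refine ⟨Algebra.FormallySmooth.lift J ⟨2, hJ⟩ ψ, ?_⟩
  ext s
  exact Algebra.FormallySmooth.mk_lift J ⟨2, hJ⟩ ψ s

/-- Transport of adic formal smoothness along a ring isomorphism. -/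
theorem isAdicFormallySmooth_of_ringEquiv {R S S' : Type u} [CommRing R] [CommRing S]
    [CommRing S'] [Algebra R S] [Algebra R S'] (e : S ≃ₐ[R] S') (𝔫 : Ideal S) (𝔫' : Ideal S')
    (h𝔫 : 𝔫'.map (e.symm : S' →+* S) ≤ 𝔫)
    (h : CAlgX.IsAdicFormallySmooth R S' 𝔫') : CAlgX.IsAdicFormallySmooth R S 𝔫 := by
  intro A _ _ J hJ ψ ⟨k, hk⟩
  obtain ⟨χ, hχ⟩ := h A J hJ (ψ.comp e.symm.toAlgHom) ⟨k, fun x hx => by
    refine hk _ ?_
    have := Ideal.pow_right_mono h𝔫 k
    rw [← Ideal.map_pow] at this
    exact this (Ideal.mem_map_of_mem _ hx)⟩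
  refine ⟨χ.comp e.toAlgHom, ?_⟩
  ext s
  have := DFunLike.congr_fun hχ (e s)
  simpa using this

/-- Power series rings over a formally smooth field extension are formally smooth for the adic
topology of the maximal ideal. -/
theorem isAdicFormallySmooth_mvPowerSeries (k K : Type u) [CommRing k] [Field K] [Algebra k K]
    [Algebra.FormallySmooth k K] (n : ℕ) :
    CAlgX.IsAdicFormallySmooth k (MvPowerSeries (Fin n) K)
      (IsLocalRing.maximalIdeal (MvPowerSeries (Fin n) K)) := by
  have h1 : Algebra.FormallySmooth k (MvPolynomial (Fin n) K) :=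
    Algebra.FormallySmooth.comp k K (MvPolynomial (Fin n) K)
  have h2 := isAdicFormallySmooth_of_formallySmooth (R := k) (MvPolynomial.idealOfVars (Fin n) K)
  have h3 := isAdicFormallySmooth_completion_of _ (MvPolynomial.idealOfVars_fg (Fin n) K) h2
  let e₀ := MvPowerSeries.toAdicCompletionAlgEquiv (Fin n) K
  let e : MvPowerSeries (Fin n) K ≃ₐ[k]
      AdicCompletion (MvPolynomial.idealOfVars (Fin n) K) (MvPolynomial (Fin n) K) :=
    { e₀.toRingEquiv with
      commutes' := fun c => by
        have h4 : algebraMap k (MvPowerSeries (Fin n) K) c =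
            algebraMap (MvPolynomial (Fin n) K) (MvPowerSeries (Fin n) K)
              (algebraMap k (MvPolynomial (Fin n) K) c) := by
          simp [MvPowerSeries.algebraMap_apply, MvPowerSeries.algebraMap_apply',
            MvPolynomial.algebraMap_apply]
        change e₀ (algebraMap k (MvPowerSeries (Fin n) K) c) = _
        rw [h4, e₀.commutes]
        rfl }
  refine isAdicFormallySmooth_of_ringEquiv e _ _ ?_ h3
  rw [Ideal.map_map, Ideal.map_le_iff_le_comap]
  intro p hp
  rw [Ideal.mem_comap, RingHom.comp_apply]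
  have h5 : (e.symm : AdicCompletion (MvPolynomial.idealOfVars (Fin n) K)
        (MvPolynomial (Fin n) K) →+* MvPowerSeries (Fin n) K)
      (algebraMap (MvPolynomial (Fin n) K) _ p) = (p : MvPowerSeries (Fin n) K) := by
    have := e₀.symm.commutes p
    rw [MvPowerSeries.algebraMap_apply', Algebra.algebraMap_self, MvPowerSeries.map_id] at this
    exact this
  rw [h5, IsLocalRing.mem_maximalIdeal, mem_nonunits_iff, MvPowerSeries.isUnit_iff_constantCoeff]
  have h6 : MvPowerSeries.constantCoeff (p : MvPowerSeries (Fin n) K) = 0 := by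
    rw [← MvPowerSeries.coeff_zero_eq_constantCoeff_apply, MvPolynomial.coeff_coe]
    rw [← pow_one (MvPolynomial.idealOfVars (Fin n) K), MvPolynomial.mem_pow_idealOfVars_iff'] at hp
    exact hp 0 (by simp)
  rw [h6]
  exact not_isUnit_zero

end Groth.Agent.Lib.Helper47
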