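/-
Helper library (helper47): a flat module over a local ring is "formally projective" for an adic
topology coming from a Noetherian ring (EGA 0_IV 19.2), the input of EGA 0_IV 19.7.1.
-/
import Mathlib

set_option autoImplicit false
set_option linter.style.haveILetI false
universe u
open TensorProduct

namespace Groth.Agent.Lib.Helper47

section Retract

variable {A : Type*} [CommRing A] (𝔪 : Ideal A) [𝔪.IsMaximal]

/-- An injective map of `A`-modules killed by a maximal ideal has a retraction. -/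
theorem exists_leftInverse_of_torsion {K V : Type*} [AddCommGroup K] [Module A K]
    [AddCommGroup V] [Module A V]
    (hK : ∀ a ∈ 𝔪, ∀ x : K, a • x = 0) (hV : ∀ a ∈ 𝔪, ∀ x : V, a • x = 0)
    (j : K →ₗ[A] V) (hj : Function.Injective j) : ∃ r : V →ₗ[A] K, r ∘ₗ j = LinearMap.id := by
  letI : Field (A ⧸ 𝔪) := Ideal.Quotient.field 𝔪
  have hK' : Module.IsTorsionBySet A K 𝔪 := fun x a => hK a.1 a.2 x
  have hV' : Module.IsTorsionBySet A V 𝔪 := fun x a => hV a.1 a.2 x
  letI : Module (A ⧸ 𝔪) K := hK'.module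
  letI : Module (A ⧸ 𝔪) V := hV'.module
  haveI : IsScalarTower A (A ⧸ 𝔪) K := hK'.isScalarTower
  haveI : IsScalarTower A (A ⧸ 𝔪) V := hV'.isScalarTower
  let j' : K →ₗ[A ⧸ 𝔪] V := j.extendScalarsOfSurjective Ideal.Quotient.mk_surjective
  obtain ⟨r', hr'⟩ := j'.exists_leftInverse_of_injective (LinearMap.ker_eq_bot.mpr hj)
  refine ⟨r'.restrictScalars A, ?_⟩
  ext x
  exact LinearMap.congr_fun hr' x

end Retract

section Base

variable {A : Type*} [CommRing A] (𝔪 : Ideal A) [𝔪.IsMaximal]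
variable {P Q B : Type*} [AddCommGroup P] [Module A P] [AddCommGroup Q] [Module A Q]
  [AddCommGroup B] [Module A B]

/-- If `E/K` is flat and `𝔪 K = 0`, then `K ∩ 𝔪 E = 0`. -/
theorem eq_zero_of_mem_smul_top_of_flat {K E : Type*} [AddCommGroup K] [Module A K]
    [AddCommGroup E] [Module A E] [Module.Flat A B]
    (π : E →ₗ[A] B) (hπ : Function.Surjective π) (ι : K →ₗ[A] E) (hι : Function.Injective ι)
    (H : Function.Exact ι π) (hK : ∀ a ∈ 𝔪, ∀ x : K, a • x = 0) (κ : K)
    (hκ : ι κ ∈ (𝔪 • ⊤ : Submodule A E)) : κ = 0 := by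
  have hinj : Function.Injective (ι.lTensor (A ⧸ 𝔪)) :=
    LinearMap.lTensor_injective_of_exact_of_flat π hπ ι hι H (A ⧸ 𝔪)
  have h1 : ∀ e ∈ (𝔪 • ⊤ : Submodule A E), (1 : A ⧸ 𝔪) ⊗ₜ[A] e = 0 := by
    intro e he
    refine Submodule.smul_induction_on he ?_ ?_
    · intro a ha e' _
      rw [TensorProduct.tmul_smul, TensorProduct.smul_tmul', Algebra.smul_def, mul_one,
        Ideal.Quotient.algebraMap_eq, Ideal.Quotient.eq_zero_iff_mem.mpr ha, TensorProduct.zero_tmul]
    · intro x y hx hy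
      rw [TensorProduct.tmul_add, hx, hy, add_zero]
  have h2 : (1 : A ⧸ 𝔪) ⊗ₜ[A] κ = 0 := by
    apply hinj
    rw [LinearMap.lTensor_tmul, h1 _ hκ, map_zero]
  have h3 := congrArg (TensorProduct.quotTensorEquivQuotSMul K 𝔪) h2
  rw [map_zero, ← map_one (Ideal.Quotient.mk 𝔪), TensorProduct.quotTensorEquivQuotSMul_mk_tmul,
    one_smul, Submodule.Quotient.mk_eq_zero] at h3
  have h4 : (𝔪 • ⊤ : Submodule A K) = ⊥ := by
    rw [eq_bot_iff]
    intro x hx
    refine Submodule.smul_induction_on hx ?_ ?_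
    · intro a ha e' _
      rw [hK a ha e']
      exact Submodule.zero_mem _
    · intro x y hx hy
      exact Submodule.add_mem _ hx hy
  rw [h4] at h3
  exact (Submodule.mem_bot A).mp h3

/-- The key step of "flat implies formally projective": lifting along a surjection whose kernel is
killed by the maximal ideal, keeping track of a pair of submodules in an Artin–Rees position. -/
theorem exists_lift_of_flat_of_torsion_ker [Module.Flat A B] (f : P →ₗ[A] Q)
    (hf : Function.Surjective f)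
    (hker : ∀ a ∈ 𝔪, ∀ x ∈ LinearMap.ker f, a • x = 0) (v : B →ₗ[A] Q)
    (F F' : Submodule A B) (hF : ∀ x ∈ F, v x = 0) (hF'F : F' ≤ F)
    (hF' : F' ⊓ 𝔪 • ⊤ ≤ 𝔪 • F) :
    ∃ w : B →ₗ[A] P, f ∘ₗ w = v ∧ ∀ x ∈ F', w x = 0 := by
  classical
  let E : Submodule A (P × B) :=
    LinearMap.eqLocus (f ∘ₗ LinearMap.fst A P B) (v ∘ₗ LinearMap.snd A P B)
  have hE : ∀ e : P × B, e ∈ E ↔ f e.1 = v e.2 := fun e => Iff.rfl
  let π : E →ₗ[A] B := (LinearMap.snd A P B) ∘ₗ E.subtype
  let K := LinearMap.ker f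
  let ι : K →ₗ[A] E := LinearMap.codRestrict E ((LinearMap.inl A P B) ∘ₗ K.subtype) (by
    intro k
    rw [hE]
    simp only [LinearMap.coe_comp, Submodule.coe_subtype, Function.comp_apply,
      LinearMap.inl_apply, map_zero]
    exact k.2)
  let ι₂ : F →ₗ[A] E := LinearMap.codRestrict E ((LinearMap.inr A P B) ∘ₗ F.subtype) (by
    intro x
    rw [hE]
    simp only [LinearMap.coe_comp, Submodule.coe_subtype, Function.comp_apply,
      LinearMap.inr_apply, map_zero]
    exact (hF x.1 x.2).symm)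
  have hπ : Function.Surjective π := by
    intro b
    obtain ⟨p, hp⟩ := hf (v b)
    exact ⟨⟨(p, b), (hE _).mpr hp⟩, rfl⟩
  have hι : Function.Injective ι := by
    intro k k' h
    have := congrArg (fun e : E => e.1.1) h
    exact Subtype.ext this
  have hex : Function.Exact ι π := by
    intro e
    constructor
    · intro he
      have h1 : f e.1.1 = 0 := by
        have := (hE e.1).mp e.2
        rw [this]
        have h2 : e.1.2 = 0 := he
        rw [h2, map_zero]
      refine ⟨⟨e.1.1, h1⟩, ?_⟩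
      apply Subtype.ext
      apply Prod.ext
      · rfl
      · exact (show e.1.2 = 0 from he).symm
    · rintro ⟨k, rfl⟩
      rfl
  let W' : Submodule A E := Submodule.map ι₂ (Submodule.comap F.subtype F')
  let S : Submodule A E := 𝔪 • ⊤ ⊔ W'
  let j : K →ₗ[A] E ⧸ S := S.mkQ ∘ₗ ι
  have hK : ∀ a ∈ 𝔪, ∀ x : K, a • x = 0 := by
    intro a ha x
    apply Subtype.ext
    exact hker a ha x.1 x.2
  have hj : Function.Injective j := by
    rw [injective_iff_map_eq_zero]
    intro κ hκ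
    have h1 : ι κ ∈ S := (Submodule.Quotient.mk_eq_zero S).mp hκ
    obtain ⟨y, hy, z, hz, hyz⟩ := Submodule.mem_sup.mp h1
    obtain ⟨x', hx', rfl⟩ := hz
    have hx'F' : (x' : B) ∈ F' := hx'
    have hπy : π y ∈ (𝔪 • ⊤ : Submodule A B) := by
      have : (𝔪 • ⊤ : Submodule A E).map π ≤ 𝔪 • ⊤ := by
        rw [Submodule.map_smul'']
        exact Submodule.smul_mono le_rfl le_top
      exact this (Submodule.mem_map_of_mem hy)
    have h2 : π (ι κ) = 0 := rfl
    have h3 : π (ι₂ x') = (x' : B) := rfl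
    have h4 : (x' : B) = - π y := by
      rw [← hyz, map_add, h3] at h2
      exact eq_neg_of_add_eq_zero_right h2
    have h5 : (x' : B) ∈ 𝔪 • F := by
      apply hF'
      refine ⟨hx'F', ?_⟩
      rw [h4]
      exact Submodule.neg_mem _ hπy
    have h6 : x' ∈ (𝔪 • ⊤ : Submodule A F) := by
      have : (𝔪 • F : Submodule A B) = Submodule.map F.subtype (𝔪 • ⊤) := by
        rw [Submodule.map_smul'', Submodule.map_subtype_top]
      rw [this] at h5
      obtain ⟨x'', hx'', hxx⟩ := h5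
      have : x'' = x' := Subtype.ext hxx
      rwa [this] at hx''
    have h7 : ι₂ x' ∈ (𝔪 • ⊤ : Submodule A E) := by
      have : (𝔪 • ⊤ : Submodule A F).map ι₂ ≤ 𝔪 • ⊤ := by
        rw [Submodule.map_smul'']
        exact Submodule.smul_mono le_rfl le_top
      exact this (Submodule.mem_map_of_mem h6)
    have h8 : ι κ ∈ (𝔪 • ⊤ : Submodule A E) := by
      rw [← hyz]
      exact Submodule.add_mem _ hy h7
    exact eq_zero_of_mem_smul_top_of_flat 𝔪 π hπ ι hι hex hK κ h8
  have hV : ∀ a ∈ 𝔪, ∀ x : E ⧸ S, a • x = 0 := by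
    intro a ha x
    obtain ⟨e, rfl⟩ := Submodule.Quotient.mk_surjective S x
    rw [← Submodule.Quotient.mk_smul, Submodule.Quotient.mk_eq_zero]
    exact le_sup_left (a := (𝔪 • ⊤ : Submodule A E)) (Submodule.smul_mem_smul ha Submodule.mem_top)
  obtain ⟨r, hr⟩ := exists_leftInverse_of_torsion 𝔪 hK hV j hj
  let s' : E →ₗ[A] E := LinearMap.id - ι ∘ₗ r ∘ₗ S.mkQ
  have hs'ker : LinearMap.ker π ≤ LinearMap.ker s' := by
    intro e he
    obtain ⟨κ, rfl⟩ := (hex e).mp he
    rw [LinearMap.mem_ker]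
    change ι κ - ι (r (j κ)) = 0
    have := LinearMap.congr_fun hr κ
    rw [LinearMap.comp_apply, LinearMap.id_apply] at this
    rw [this, sub_self]
  let s : B →ₗ[A] E :=
    (LinearMap.ker π).liftQ s' hs'ker ∘ₗ (π.quotKerEquivOfSurjective hπ).symm.toLinearMap
  have hs : ∀ e : E, s (π e) = s' e := by
    intro e
    have h1 : (π.quotKerEquivOfSurjective hπ).symm (π e) = Submodule.Quotient.mk e := by
      rw [LinearEquiv.symm_apply_eq]
      rfl
    change (LinearMap.ker π).liftQ s' hs'ker ((π.quotKerEquivOfSurjective hπ).symm (π e)) = s' e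
    rw [h1]
    rfl
  refine ⟨(LinearMap.fst A P B) ∘ₗ E.subtype ∘ₗ s, ?_, ?_⟩
  · ext b
    obtain ⟨e, rfl⟩ := hπ b
    change f (s (π e)).1.1 = v (π e)
    rw [hs e]
    change f (e.1.1 - (r (S.mkQ e)).1) = v e.1.2
    rw [map_sub, (LinearMap.mem_ker).mp (r (S.mkQ e)).2, sub_zero]
    exact (hE e.1).mp e.2
  · intro x hx
    have hxF : x ∈ F := hF'F hx
    let e : E := ι₂ ⟨x, hxF⟩
    have he : e ∈ S := le_sup_right (a := (𝔪 • ⊤ : Submodule A E))
      (Submodule.mem_map_of_mem (show (⟨x, hxF⟩ : F) ∈ Submodule.comap F.subtype F' from hx))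
    have h1 : S.mkQ e = 0 := (Submodule.Quotient.mk_eq_zero S).mpr he
    have h2 : s x = s' e := hs e
    change (s x).1.1 = 0
    rw [h2]
    change e.1.1 - (r (S.mkQ e)).1 = 0
    rw [h1, map_zero]
    change (0 : P) - 0 = 0
    rw [sub_zero]

end Base

section Main

variable {A : Type*} [CommRing A] (𝔪 : Ideal A)
variable {B : Type*} [CommRing B] [Algebra A B] (𝔟 : Ideal B)

/-- `𝔟 ^ m * 𝔪 B ⊆ 𝔪 • 𝔟 ^ m` (as `A`-submodules of `B`). -/
theorem mul_map_le_smul_restrictScalars (I : Ideal B) :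
    ∀ z ∈ 𝔪.map (algebraMap A B), ∀ y ∈ I, y * z ∈ (𝔪 • (I.restrictScalars A) : Submodule A B) := by
  intro z hz
  refine Submodule.span_induction (p := fun z _ => ∀ y ∈ I, y * z ∈
    (𝔪 • (I.restrictScalars A) : Submodule A B)) ?_ ?_ ?_ ?_ hz
  · rintro _ ⟨a, ha, rfl⟩ y hy
    have : y * algebraMap A B a = a • y := by rw [Algebra.smul_def, mul_comm]
    rw [this]
    exact Submodule.smul_mem_smul ha hy
  · intro y _
    rw [mul_zero]
    exact Submodule.zero_mem _
  · intro z₁ z₂ _ _ h₁ h₂ y hy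
    rw [mul_add]
    exact Submodule.add_mem _ (h₁ y hy) (h₂ y hy)
  · intro b z _ h y hy
    have : y * (b • z) = (y * b) * z := by rw [smul_eq_mul, mul_assoc]
    rw [this]
    exact h (y * b) (I.mul_mem_right b hy)

/-- Artin–Rees in the form needed: `𝔟 ^ m' ∩ 𝔪 B ⊆ 𝔪 • 𝔟 ^ m` for `m'` large. -/
theorem exists_pow_inf_smul_top_le [IsNoetherianRing B] (m : ℕ) : ∃ m' : ℕ, m ≤ m' ∧
    ((𝔟 ^ m').restrictScalars A ⊓ (𝔪 • ⊤ : Submodule A B)) ≤
      𝔪 • ((𝔟 ^ m).restrictScalars A) := by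
  let N : Ideal B := 𝔪.map (algebraMap A B)
  obtain ⟨c, hc⟩ := Ideal.exists_pow_inf_eq_pow_smul 𝔟 (N : Submodule B B)
  refine ⟨m + c, Nat.le_add_right m c, ?_⟩
  rintro x ⟨hx1, hx2⟩
  have hxN : x ∈ N := by
    refine Submodule.smul_induction_on hx2 ?_ ?_
    · intro a ha b _
      rw [Algebra.smul_def]
      exact N.mul_mem_right b (Ideal.mem_map_of_mem _ ha)
    · intro x y hx hy
      exact N.add_mem hx hy
  have h1 : x ∈ (𝔟 ^ (m + c) • ⊤ ⊓ N : Submodule B B) := by
    refine ⟨?_, hxN⟩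
    rw [Ideal.smul_eq_mul, Ideal.mul_top]
    exact hx1
  rw [hc (m + c) (Nat.le_add_left c m), Nat.add_sub_cancel] at h1
  have h2 : (𝔟 ^ m • (𝔟 ^ c • ⊤ ⊓ N) : Submodule B B) ≤ 𝔟 ^ m • N :=
    Submodule.smul_mono le_rfl inf_le_right
  have h3 := h2 h1
  refine Submodule.smul_induction_on h3 ?_ ?_
  · intro y hy z hz
    rw [smul_eq_mul]
    exact mul_map_le_smul_restrictScalars 𝔪 (𝔟 ^ m) z hz y hy
  · intro x y hx hy
    exact Submodule.add_mem _ hx hy

variable [𝔪.IsMaximal] [IsNoetherianRing B] [Module.Flat A B]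

/-- **Flat implies formally projective** (EGA 0_IV 19.2): for `B` a Noetherian ring with the
`𝔟`-adic topology, flat over `A`, and `𝔪` a maximal ideal of `A`, continuous linear maps from `B`
lift continuously along surjections whose kernel is killed by a power of `𝔪`. -/
theorem exists_continuous_lift_of_flat (i : ℕ) :
    ∀ {P Q : Type u} [AddCommGroup P] [Module A P] [AddCommGroup Q] [Module A Q]
      (f : P →ₗ[A] Q), Function.Surjective f →
      (∀ a ∈ 𝔪 ^ i, ∀ x ∈ LinearMap.ker f, a • x = 0) →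
      ∀ v : B →ₗ[A] Q, (∃ m : ℕ, ∀ x ∈ 𝔟 ^ m, v x = 0) →
        ∃ w : B →ₗ[A] P, (∃ m : ℕ, ∀ x ∈ 𝔟 ^ m, w x = 0) ∧ f ∘ₗ w = v := by
  induction i with
  | zero =>
    intro P Q _ _ _ _ f hf hker v hv
    have hinj : Function.Injective f := by
      rw [← LinearMap.ker_eq_bot, eq_bot_iff]
      intro x hx
      have h1 : (1 : A) ∈ 𝔪 ^ 0 := by
        rw [pow_zero, Ideal.one_eq_top]
        exact Submodule.mem_top
      have := hker 1 h1 x hx
      rw [one_smul] at this
      exact (Submodule.mem_bot A).mpr this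
    let e := LinearEquiv.ofBijective f ⟨hinj, hf⟩
    obtain ⟨m, hm⟩ := hv
    refine ⟨e.symm.toLinearMap ∘ₗ v, ⟨m, fun x hx => ?_⟩, ?_⟩
    · change e.symm (v x) = 0
      rw [hm x hx, map_zero]
    · ext b
      change f (e.symm (v b)) = v b
      exact e.apply_symm_apply (v b)
  | succ i ih =>
    intro P Q _ _ _ _ f hf hker v hv
    let K := LinearMap.ker f
    let K' : Submodule A P := 𝔪 ^ i • K
    have hK'K : K' ≤ K := Submodule.smul_le.mpr fun a _ x hx => K.smul_mem a hx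
    let f' : (P ⧸ K') →ₗ[A] Q := K'.liftQ f hK'K
    have hf' : Function.Surjective f' := by
      intro q
      obtain ⟨p, rfl⟩ := hf q
      exact ⟨K'.mkQ p, rfl⟩
    have hker' : ∀ a ∈ 𝔪 ^ i, ∀ x ∈ LinearMap.ker f', a • x = 0 := by
      intro a ha x hx
      obtain ⟨p, rfl⟩ := K'.mkQ_surjective x
      have hp : p ∈ K := hx
      change a • K'.mkQ p = 0
      rw [← map_smul]
      exact (Submodule.Quotient.mk_eq_zero K').mpr (Submodule.smul_mem_smul ha hp)
    obtain ⟨w', ⟨m, hm⟩, hw'⟩ := ih f' hf' hker' v hv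
    -- second step: lift along `P → P ⧸ K'`
    have hkerq : ∀ a ∈ 𝔪, ∀ x ∈ LinearMap.ker K'.mkQ, a • x = 0 := by
      intro a ha x hx
      rw [Submodule.ker_mkQ] at hx
      refine Submodule.smul_induction_on hx ?_ ?_
      · intro b hb k hk
        rw [← mul_smul]
        exact hker (a * b) (by rw [pow_succ']; exact Ideal.mul_mem_mul ha hb) k hk
      · intro x y hx hy
        rw [smul_add, hx, hy, add_zero]
    obtain ⟨m', hmm', hAR⟩ := exists_pow_inf_smul_top_le 𝔪 𝔟 m
    obtain ⟨w, hw, hwF⟩ := exists_lift_of_flat_of_torsion_ker 𝔪 K'.mkQ K'.mkQ_surjective hkerq w'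
      ((𝔟 ^ m).restrictScalars A) ((𝔟 ^ m').restrictScalars A) hm
      (fun x hx => Ideal.pow_le_pow_right hmm' hx) hAR
    refine ⟨w, ⟨m', hwF⟩, ?_⟩
    rw [← hw', ← hw]
    ext b
    rfl

end Main

section Wrapper

variable {A : Type u} [CommRing A] (𝔪 : Ideal A) [𝔪.IsMaximal]
variable {B : Type u} [CommRing B] [Algebra A B] [IsNoetherianRing B] [Module.Flat A B]
  (𝔟 : Ideal B)

/-- The "formally projective" hypothesis of EGA 0_IV 19.4 (in the shape used by the statements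
of this project) holds for a flat algebra `B` over `A` with `B` Noetherian and `𝔪` maximal. -/
theorem formallyProjective_of_flat :
    ∀ (n : ℕ) (P Q : Type u) [AddCommGroup P] [Module A P] [AddCommGroup Q] [Module A Q],
      (∀ a ∈ 𝔪 ^ n, ∀ y : P, a • y = 0) → (∀ a ∈ 𝔪 ^ n, ∀ y : Q, a • y = 0) →
      ∀ f : P →ₗ[A] Q, Function.Surjective f → ∀ v : B →ₗ[A] Q, (∃ m : ℕ, ∀ x ∈ 𝔟 ^ m, v x = 0) →
        ∃ w : B →ₗ[A] P, (∃ m : ℕ, ∀ x ∈ 𝔟 ^ m, w x = 0) ∧ f ∘ₗ w = v := by
  intro n P Q _ _ _ _ hP _ f hf v hv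
  exact exists_continuous_lift_of_flat 𝔪 𝔟 n f hf (fun a ha x _ => hP a ha x) v hv

end Wrapper

end Groth.Agent.Lib.Helper47
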