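/-
Helper library (helper47): EGA 0_IV 19.7.1 (b ⇒ a): a flat local homomorphism of local rings (target
Noetherian) whose closed fibre is formally smooth over the residue field is formally smooth.
-/
import Mathlib
import Groth.Agent.Lib.Helper47.FormallyProjective
import Groth.Agent.S4553
import Groth.Agent.S4537

set_option autoImplicit false
universe u
open IsLocalRing

namespace Groth.Agent.Lib.Helper47

/-- EGA 0_IV 19.7.1 (b ⇒ a). -/
theorem isFormallySmoothAdic_of_flat_of_fibre {A B : Type u} [CommRing A] [IsLocalRing A]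
    [CommRing B] [IsLocalRing B] [IsNoetherianRing B] [Algebra A B] [IsLocalHom (algebraMap A B)]
    [Module.Flat A B]
    (h : EGA41.IsFormallySmoothAdic (A ⧸ maximalIdeal A) ⊥
      (B ⧸ (maximalIdeal A).map (algebraMap A B))
      ((maximalIdeal B).map (Ideal.Quotient.mk ((maximalIdeal A).map (algebraMap A B))))) :
    EGA41.IsFormallySmoothAdic A (maximalIdeal A) B (maximalIdeal B) := by
  have hAB : ∃ k : ℕ, ((maximalIdeal A) ^ k).map (algebraMap A B) ≤ maximalIdeal B := by
    refine ⟨1, ?_⟩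
    rw [pow_one]
    exact IsLocalRing.map_maximalIdeal_le (algebraMap A B)
  exact (Groth.Agent.S4553.result (maximalIdeal A) (maximalIdeal B) hAB
    (formallyProjective_of_flat (maximalIdeal A) (maximalIdeal B))).mpr h

/-- EGA 0_IV 19.7.1 (b ⇒ a), for a maximal ideal of a not necessarily local base. -/
theorem isFormallySmoothAdic_of_flat_of_fibre_maximal {A B : Type u} [CommRing A] (𝔪 : Ideal A)
    [𝔪.IsMaximal] [CommRing B] [IsNoetherianRing B] [Algebra A B] [Module.Flat A B] (𝔟 : Ideal B)
    (h𝔪𝔟 : 𝔪.map (algebraMap A B) ≤ 𝔟)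
    (h : EGA41.IsFormallySmoothAdic (A ⧸ 𝔪) ⊥ (B ⧸ 𝔪.map (algebraMap A B))
      (𝔟.map (Ideal.Quotient.mk (𝔪.map (algebraMap A B))))) :
    EGA41.IsFormallySmoothAdic A 𝔪 B 𝔟 := by
  have hAB : ∃ k : ℕ, (𝔪 ^ k).map (algebraMap A B) ≤ 𝔟 := ⟨1, by rwa [pow_one]⟩
  exact (Groth.Agent.S4553.result 𝔪 𝔟 hAB (formallyProjective_of_flat 𝔪 𝔟)).mpr h

/-- A formally smooth algebra over a discrete ring is formally smooth for the trivial topologies in
the EGA sense. -/
theorem isFormallySmoothAdic_bot_of_formallySmooth {A B : Type u} [CommRing A] [CommRing B]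
    [Algebra A B] [Algebra.FormallySmooth A B] (𝔟 : Ideal B) :
    EGA41.IsFormallySmoothAdic A ⊥ B 𝔟 := by
  intro C _ _ J hJ _ u _
  exact Algebra.FormallySmooth.exists_lift J hJ u

/-- Formal smoothness for the adic topologies (EGA sense) implies formal smoothness over the
discrete base (test ideals of square zero), when `𝔞 B ⊆ 𝔟`. -/
theorem isAdicFormallySmooth_of_isFormallySmoothAdic {A B : Type u} [CommRing A] [CommRing B]
    [Algebra A B] (𝔞 : Ideal A) (𝔟 : Ideal B) (h𝔞𝔟 : 𝔞.map (algebraMap A B) ≤ 𝔟)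
    (h : EGA41.IsFormallySmoothAdic A 𝔞 B 𝔟) : CAlgX.IsAdicFormallySmooth A B 𝔟 := by
  intro C _ _ J hJ ψ hψ
  obtain ⟨k, hk⟩ := hψ
  refine h C J ⟨2, hJ⟩ ⟨2 * k, ?_⟩ ψ ⟨k, hk⟩
  have h1 : (𝔞 ^ k).map (algebraMap A C) ≤ J := by
    rw [Ideal.map_le_iff_le_comap]
    intro a ha
    rw [Ideal.mem_comap]
    have h2 : algebraMap A B a ∈ 𝔟 ^ k := by
      have := Ideal.pow_right_mono h𝔞𝔟 k
      rw [← Ideal.map_pow] at this
      exact this (Ideal.mem_map_of_mem _ ha)
    have h3 := hk _ h2
    rw [AlgHom.commutes] at h3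
    exact Ideal.Quotient.eq_zero_iff_mem.mp h3
  rw [pow_mul', Ideal.map_pow, eq_bot_iff, ← hJ]
  exact Ideal.pow_right_mono h1 2

/-- Conversely, formal smoothness over the discrete base implies formal smoothness for any adic
topology on the base. -/
theorem isFormallySmoothAdic_of_isAdicFormallySmooth {A B : Type u} [CommRing A] [CommRing B]
    [Algebra A B] (𝔞 : Ideal A) (𝔟 : Ideal B)
    (h : CAlgX.IsAdicFormallySmooth A B 𝔟) : EGA41.IsFormallySmoothAdic A 𝔞 B 𝔟 := by
  have h' := (Groth.Agent.S4537.result 𝔟).mp h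
  intro C _ _ J hJ _ u hu
  exact h' C J hJ ⟨1, by rw [pow_one, Ideal.map_bot]⟩ u hu

/-- Adic formal smoothness is monotone in the ideal of definition. -/
theorem isAdicFormallySmooth_mono {A B : Type u} [CommRing A] [CommRing B]
    [Algebra A B] {𝔟 𝔟' : Ideal B} (hle : 𝔟 ≤ 𝔟')
    (h : CAlgX.IsAdicFormallySmooth A B 𝔟) : CAlgX.IsAdicFormallySmooth A B 𝔟' := by
  intro C _ _ J hJ ψ hψ
  obtain ⟨k, hk⟩ := hψ
  exact h C J hJ ψ ⟨k, fun x hx => hk x (Ideal.pow_right_mono hle k hx)⟩

/-- EGA 0_IV 19.7.1 (b ⇒ a) for the discrete-base notion `CAlgX.IsAdicFormallySmooth`. -/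
theorem isAdicFormallySmooth_of_flat_of_fibre {A B : Type u} [CommRing A] [IsLocalRing A]
    [CommRing B] [IsLocalRing B] [IsNoetherianRing B] [Algebra A B] [IsLocalHom (algebraMap A B)]
    [Module.Flat A B]
    (h : CAlgX.IsAdicFormallySmooth (A ⧸ maximalIdeal A)
      (B ⧸ (maximalIdeal A).map (algebraMap A B))
      ((maximalIdeal B).map (Ideal.Quotient.mk ((maximalIdeal A).map (algebraMap A B))))) :
    CAlgX.IsAdicFormallySmooth A B (maximalIdeal B) :=
  isAdicFormallySmooth_of_isFormallySmoothAdic (maximalIdeal A) (maximalIdeal B)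
    (IsLocalRing.map_maximalIdeal_le (algebraMap A B))
    (isFormallySmoothAdic_of_flat_of_fibre ((Groth.Agent.S4537.result _).mp h))

/-- A flat local homomorphism (target Noetherian) with `𝔪_A B = 𝔪_B` and formally smooth residue
field extension is formally smooth for the adic topologies (no completeness needed). -/
theorem isFormallySmoothAdic_of_flat_of_map_maximalIdeal_eq {A B : Type u} [CommRing A]
    [IsLocalRing A] [CommRing B] [IsLocalRing B] [IsNoetherianRing B] [Algebra A B]
    [IsLocalHom (algebraMap A B)] [Module.Flat A B]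
    (hmax : (maximalIdeal A).map (algebraMap A B) = maximalIdeal B)
    (hsm : Algebra.FormallySmooth (ResidueField A) (ResidueField B)) :
    EGA41.IsFormallySmoothAdic A (maximalIdeal A) B (maximalIdeal B) := by
  apply isFormallySmoothAdic_of_flat_of_fibre
  let e₀ : (B ⧸ (maximalIdeal A).map (algebraMap A B)) ≃+* ResidueField B :=
    Ideal.quotEquivOfEq hmax
  let _ : Algebra (A ⧸ maximalIdeal A) (ResidueField B) :=
    inferInstanceAs (Algebra (ResidueField A) (ResidueField B))
  have hsm₁ : Algebra.FormallySmooth (A ⧸ maximalIdeal A) (ResidueField B) := hsm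
  let e : (B ⧸ (maximalIdeal A).map (algebraMap A B)) ≃ₐ[A ⧸ maximalIdeal A] ResidueField B :=
    AlgEquiv.ofRingEquiv (f := e₀) (by
      intro x
      obtain ⟨a, rfl⟩ := Ideal.Quotient.mk_surjective (I := maximalIdeal A) x
      rfl)
  have hsm' : Algebra.FormallySmooth (A ⧸ maximalIdeal A)
      (B ⧸ (maximalIdeal A).map (algebraMap A B)) :=
    Algebra.FormallySmooth.of_equiv (A := ResidueField B) e.symm
  exact isFormallySmoothAdic_bot_of_formallySmooth _

/-- Base change of adic formal smoothness to the closed fibre (needs flatness only through the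
"formally projective" property). -/
theorem isAdicFormallySmooth_fibre_of_flat {A B : Type u} [CommRing A]
    [IsLocalRing A] [CommRing B] [IsLocalRing B] [IsNoetherianRing B] [Algebra A B]
    [IsLocalHom (algebraMap A B)] [Module.Flat A B]
    (h : CAlgX.IsAdicFormallySmooth A B (maximalIdeal B)) :
    CAlgX.IsAdicFormallySmooth (A ⧸ maximalIdeal A)
      (B ⧸ (maximalIdeal A).map (algebraMap A B))
      ((maximalIdeal B).map (Ideal.Quotient.mk ((maximalIdeal A).map (algebraMap A B)))) := by
  have h1 := isFormallySmoothAdic_of_isAdicFormallySmooth (maximalIdeal A) (maximalIdeal B) h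
  have hAB : ∃ k : ℕ, ((maximalIdeal A) ^ k).map (algebraMap A B) ≤ maximalIdeal B := by
    refine ⟨1, ?_⟩
    rw [pow_one]
    exact IsLocalRing.map_maximalIdeal_le (algebraMap A B)
  have h2 := (Groth.Agent.S4553.result (maximalIdeal A) (maximalIdeal B) hAB
    (formallyProjective_of_flat (maximalIdeal A) (maximalIdeal B))).mp h1
  exact (Groth.Agent.S4537.result _).mpr h2

end Groth.Agent.Lib.Helper47
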