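import Mathlib

/-!
# A field extension all of whose finitely generated subextensions are formally smooth is
formally smooth (helper47)
-/

set_option autoImplicit false

namespace Groth.Agent.Lib.Helper47

open MvPolynomial

section Taylor

variable {k E : Type*} [CommRing k] [CommRing E] [Algebra k E] {ι : Type*} [Fintype ι]

/-- First-order Taylor expansion for two algebra maps out of a polynomial ring which differ by
elements with vanishing pairwise products. -/
theorem algHom_eq_add_sum_of_mul_eq_zero (φ ψ : MvPolynomial ι k →ₐ[k] E)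
    (h : ∀ i j, (φ (X i) - ψ (X i)) * (φ (X j) - ψ (X j)) = 0) (F : MvPolynomial ι k) :
    φ F = ψ F + ∑ i, ψ (pderiv i F) * (φ (X i) - ψ (X i)) := by
  classical
  induction F using MvPolynomial.induction_on with
  | C a => simp [MvPolynomial.algebraMap_eq]
  | add p q hp hq =>
    rw [map_add, map_add, hp, hq]
    simp only [map_add, add_mul, Finset.sum_add_distrib]
    ring
  | mul_X p j hp =>
    have hφj : φ (X j) = ψ (X j) + (φ (X j) - ψ (X j)) := by ring
    have h1 : ∑ i, ψ (pderiv i (p * X j)) * (φ (X i) - ψ (X i)) =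
        (∑ i, ψ (pderiv i p) * (φ (X i) - ψ (X i))) * ψ (X j) + ψ p * (φ (X j) - ψ (X j)) := by
      simp only [pderiv_mul, pderiv_X, map_add, map_mul, add_mul, Finset.sum_add_distrib,
        Finset.sum_mul]
      congr 1
      · refine Finset.sum_congr rfl fun i _ => by ring
      · rw [Finset.sum_eq_single j]
        · simp
        · intro i _ hij
          simp [Pi.single_apply, hij.symm]
        · intro hj
          exact absurd (Finset.mem_univ j) hj
    have h2 : (∑ i, ψ (pderiv i p) * (φ (X i) - ψ (X i))) * (φ (X j) - ψ (X j)) = 0 := by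
      rw [Finset.sum_mul]
      refine Finset.sum_eq_zero fun i _ => ?_
      rw [mul_assoc, h i j, mul_zero]
    rw [map_mul, hp, h1, map_mul]
    conv_lhs => rw [hφj]
    rw [mul_add, add_mul, add_mul, h2]
    ring

end Taylor

section Main

universe u v

variable (k : Type u) (K : Type v) [Field k] [Field K] [Algebra k K]

theorem formallySmooth_of_forall_adjoin_finset
    (H : ∀ s : Finset K, Algebra.FormallySmooth k (IntermediateField.adjoin k (s : Set K))) :
    Algebra.FormallySmooth k K := by
  classical
  refine ⟨inferInstance, ?_⟩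
  let P := Algebra.Generators.self k K
  change Subsingleton P.toExtension.H1Cotangent
  rw [Algebra.Extension.subsingleton_h1Cotangent, injective_iff_map_eq_zero]
  intro x hx
  obtain ⟨⟨F, hF⟩, rfl⟩ := Algebra.Extension.Cotangent.mk_surjective x
  rw [Algebra.Extension.cotangentComplex_mk] at hx
  rw [Algebra.Extension.Cotangent.mk_eq_zero_iff]
  change F ∈ P.toExtension.ker ^ 2
  have hF0 : aeval (R := k) (_root_.id : K → K) F = 0 := by
    have h : algebraMap P.Ring K F = 0 := hF
    exact (P.algebraMap_apply F).symm.trans h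
  -- partial derivatives vanish
  have hpd : ∀ i : K, aeval (R := k) (_root_.id : K → K) (pderiv i F) = 0 := by
    intro i
    have h1 := P.cotangentSpaceBasis_repr_one_tmul F i
    rw [hx, map_zero, Finsupp.zero_apply] at h1
    exact h1.symm
  obtain ⟨s, F₀, rfl⟩ := exists_finset_rename F
  have := H s
  set I : Ideal (MvPolynomial K k) := P.toExtension.ker with hI
  have hImem : ∀ a : MvPolynomial K k, a ∈ I ↔ aeval (R := k) (_root_.id : K → K) a = 0 := by
    intro a
    constructor
    · intro h
      have h' : algebraMap P.Ring K a = 0 := h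
      exact (P.algebraMap_apply a).symm.trans h'
    · intro h
      exact (RingHom.mem_ker (f := algebraMap P.Ring K)).mpr ((P.algebraMap_apply a).trans h)
  let g : (MvPolynomial K k ⧸ I ^ 2) →ₐ[k] K :=
    Ideal.Quotient.liftₐ (I ^ 2) (aeval (R := k) (_root_.id : K → K)) (fun a ha =>
      (hImem a).mp (Ideal.pow_le_self two_ne_zero ha))
  have hg_mk : ∀ a, g (Ideal.Quotient.mk _ a) = aeval (R := k) (_root_.id : K → K) a := fun _ => rfl
  have hg : Function.Surjective g := fun c => ⟨Ideal.Quotient.mk _ (X c), by rw [hg_mk]; simp⟩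
  have hker : RingHom.ker g ≤ I.map (Ideal.Quotient.mk (I ^ 2)) := by
    intro y hy
    obtain ⟨a, rfl⟩ := Ideal.Quotient.mk_surjective y
    rw [RingHom.mem_ker, hg_mk] at hy
    exact Ideal.mem_map_of_mem _ ((hImem a).mpr hy)
  have hker2 : RingHom.ker g ^ 2 = ⊥ := by
    rw [eq_bot_iff]
    refine (Ideal.pow_right_mono hker 2).trans ?_
    rw [← Ideal.map_pow, Ideal.map_quotient_self]
  have hmul : ∀ a b, a ∈ RingHom.ker g → b ∈ RingHom.ker g → a * b = 0 := by
    intro a b ha hb
    have : a * b ∈ RingHom.ker g ^ 2 := (sq (RingHom.ker g)).ge (Ideal.mul_mem_mul ha hb)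
    exact Ideal.mem_bot.mp (hker2.le this)
  let L := IntermediateField.adjoin k (s : Set K)
  let σ : L →ₐ[k] (MvPolynomial K k ⧸ I ^ 2) :=
    Algebra.FormallySmooth.liftOfSurjective L.val g hg ⟨2, hker2⟩
  have hσ : ∀ x : L, g (σ x) = x := fun x =>
    Algebra.FormallySmooth.liftOfSurjective_apply L.val g hg ⟨2, hker2⟩ x
  let ιL : s → L := fun i => ⟨i, IntermediateField.subset_adjoin k _ i.2⟩
  let φ : MvPolynomial s k →ₐ[k] (MvPolynomial K k ⧸ I ^ 2) :=
    (Ideal.Quotient.mkₐ k (I ^ 2)).comp (rename (↑))
  let ψ : MvPolynomial s k →ₐ[k] (MvPolynomial K k ⧸ I ^ 2) := σ.comp (aeval ιL)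
  have hdiff : ∀ i, φ (X i) - ψ (X i) ∈ RingHom.ker g := by
    intro i
    rw [RingHom.mem_ker, map_sub]
    have h1 : g (φ (X i)) = i := by
      change g (Ideal.Quotient.mk _ (rename (↑) (X i))) = _
      rw [hg_mk]; simp
    have h2 : g (ψ (X i)) = i := by
      change g (σ (aeval ιL (X i))) = _
      rw [hσ]; simp [ιL]
    rw [h1, h2, sub_self]
  have hzero : ∀ G : MvPolynomial s k,
      aeval (R := k) (_root_.id : K → K) (rename (↑) G) = 0 → ψ G = 0 := by
    intro G hG
    have h2 : L.val (aeval ιL G) = 0 := by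
      rw [comp_aeval_apply]
      rw [aeval_rename] at hG
      exact hG
    have h1 : aeval ιL G = 0 := Subtype.ext h2
    change σ (aeval ιL G) = 0
    rw [h1, map_zero]
  have htaylor := algHom_eq_add_sum_of_mul_eq_zero φ ψ
    (fun i j => hmul _ _ (hdiff i) (hdiff j)) F₀
  rw [hzero F₀ hF0, zero_add] at htaylor
  have hsum : ∑ i, ψ (pderiv i F₀) * (φ (X i) - ψ (X i)) = 0 := by
    refine Finset.sum_eq_zero fun i _ => ?_
    rw [hzero (pderiv i F₀), zero_mul]
    rw [← pderiv_rename Subtype.val_injective]
    exact hpd i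
  rw [hsum] at htaylor
  exact Ideal.Quotient.eq_zero_iff_mem.mp htaylor

end Main

end Groth.Agent.Lib.Helper47
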