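import Mathlib
import Groth.Agent.Lib.Helper47.FieldSmoothColimit

/-!
# Separable (geometrically reduced) field extensions are formally smooth (helper47)
-/

set_option autoImplicit false

namespace Groth.Agent.Lib.Helper47

open TensorProduct

universe u v

section

variable (k : Type u) (K : Type v) [Field k] [Field K] [Algebra k K]

/-- Any field extension of a perfect field is formally smooth. -/
theorem formallySmooth_of_perfectField [PerfectField k] : Algebra.FormallySmooth k K :=
  formallySmooth_of_forall_adjoin_finset k K fun s => by
    have : Algebra.EssFiniteType k (IntermediateField.adjoin k (s : Set K)) :=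
      IntermediateField.essFiniteType_iff.mpr (IntermediateField.fg_adjoin_finset s)
    infer_instance

/-- MacLane: in a geometrically reduced extension, `p`-th powers of linearly independent elements
stay linearly independent. -/
theorem linearIndepOn_pow_of_isGeometricallyReduced [Algebra.IsGeometricallyReduced k K]
    (p : ℕ) [hp : Fact p.Prime] [CharP k p] (s : Finset K)
    (hs : LinearIndepOn k _root_.id (s : Set K)) : LinearIndepOn k (· ^ p) (s : Set K) := by
  classical
  have : IsReduced (AlgebraicClosure k ⊗[k] K) :=
    (Algebra.isGeometricallyReduced_field_iff k K).mp inferInstance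
  have : CharP (AlgebraicClosure k) p := charP_of_injective_algebraMap
    (algebraMap k (AlgebraicClosure k)).injective p
  have : CharP (AlgebraicClosure k ⊗[k] K) p := charP_of_injective_algebraMap
    (algebraMap k (AlgebraicClosure k ⊗[k] K)).injective p
  have hind : LinearIndependent (AlgebraicClosure k)
      (fun x : (s : Set K) => (1 : AlgebraicClosure k) ⊗ₜ[k] (x : K)) :=
    Module.Flat.linearIndependent_one_tmul (S := AlgebraicClosure k) hs
  rw [LinearIndepOn, linearIndependent_iff']
  intro t g hsum i hi
  choose d hd using fun j : (s : Set K) =>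
    IsAlgClosed.exists_pow_nat_eq (algebraMap k (AlgebraicClosure k) (g j)) hp.out.pos
  set z : AlgebraicClosure k ⊗[k] K := ∑ j ∈ t, d j ⊗ₜ[k] (j : K) with hz
  have hzp : z ^ p = 0 := by
    rw [hz, sum_pow_char]
    have : ∀ j ∈ t, (d j ⊗ₜ[k] (j : K)) ^ p = (1 : AlgebraicClosure k) ⊗ₜ[k] (g j • (j : K) ^ p) := by
      intro j _
      rw [Algebra.TensorProduct.tmul_pow, hd, Algebra.algebraMap_eq_smul_one,
        TensorProduct.smul_tmul]
    rw [Finset.sum_congr rfl this, ← TensorProduct.tmul_sum, hsum, TensorProduct.tmul_zero]
  have hz0 : z = 0 := IsNilpotent.eq_zero ⟨p, hzp⟩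
  have hz' : ∑ j ∈ t, d j • ((1 : AlgebraicClosure k) ⊗ₜ[k] (j : K)) = 0 := by
    rw [← hz0, hz]
    refine Finset.sum_congr rfl fun j _ => ?_
    rw [TensorProduct.smul_tmul', smul_eq_mul, mul_one]
  have hdi := linearIndependent_iff'.mp hind t d hz' i hi
  have : algebraMap k (AlgebraicClosure k) (g i) = 0 := by
    rw [← hd, hdi, zero_pow hp.out.ne_zero]
  exact (map_eq_zero _).mp this

/-- A geometrically reduced (separable) field extension is formally smooth. -/
theorem formallySmooth_of_isGeometricallyReduced [Algebra.IsGeometricallyReduced k K] :
    Algebra.FormallySmooth k K := by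
  obtain _ | ⟨p, hp, hpk⟩ := CharP.exists' k
  · have : PerfectField k := PerfectField.ofCharZero
    exact formallySmooth_of_perfectField k K
  refine formallySmooth_of_forall_adjoin_finset k K fun s => ?_
  set L := IntermediateField.adjoin k (s : Set K) with hL
  have : Algebra.EssFiniteType k L :=
    IntermediateField.essFiniteType_iff.mpr (IntermediateField.fg_adjoin_finset s)
  have : Algebra.IsGeometricallyReduced k L :=
    Algebra.IsGeometricallyReduced.of_injective L.val L.val.injective
  have : ExpChar k p := .prime hp.out
  obtain ⟨t, ht, Ht⟩ :=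
    exists_isTranscendenceBasis_and_isSeparable_of_linearIndepOn_pow_of_essFiniteType (k := k)
      (K := L) p hp.out (fun t ht => linearIndepOn_pow_of_isGeometricallyReduced k L p t ht)
  have : Algebra.IsSeparable (IntermediateField.adjoin k (Set.range ((↑) : t → L))) L := by
    convert Ht <;> simp
  exact Algebra.FormallySmooth.of_algebraicIndependent_of_isSeparable ht.1

end

end Groth.Agent.Lib.Helper47
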