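/-
Helper library (helper47): Cohen rings (in any universe) are formally smooth over `ULift ℤ` for
the adic topology; consequences for lifting of homomorphisms.
-/
import Mathlib
import Groth.Agent.Lib.Helper47.FlatFibreSmooth
import Groth.Agent.Lib.Helper47.SeparableSmooth
import Groth.Agent.Lib.Helper47.AdicSmoothPowerSeries
import Groth.Agent.S2462

set_option autoImplicit false
set_option linter.style.haveILetI false
universe u
open IsLocalRing

namespace Groth.Agent.Lib.Helper47

section ZU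

/-- The ring of integers lifted to the universe `u`, as an opaque synonym (to avoid the `ULift`
module diamonds). -/
def ZU : Type u := ULift.{u} ℤ

noncomputable instance : CommRing ZU.{u} := inferInstanceAs (CommRing (ULift.{u} ℤ))

/-- `ZU ≃+* ℤ`. -/
def ZU.equiv : ZU.{u} ≃+* ℤ := (ULift.ringEquiv : ULift.{u} ℤ ≃+* ℤ)

instance : IsDomain ZU.{u} := ZU.equiv.toMulEquiv.isDomain

instance : IsPrincipalIdealRing ZU.{u} :=
  IsPrincipalIdealRing.of_surjective (ZU.equiv.symm : ℤ ≃+* ZU.{u}).toRingHom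
    ZU.equiv.symm.surjective

/-- Every commutative ring is a `ZU`-algebra. -/
@[reducible] noncomputable def ZU.algebra (W : Type*) [CommRing W] : Algebra ZU.{u} W :=
  ((Int.castRingHom W).comp (ZU.equiv : ZU.{u} ≃+* ℤ).toRingHom).toAlgebra

/-- The structure map of a `ZU`-algebra. -/
theorem ZU.algebraMap_eq (W : Type*) [CommRing W] [Algebra ZU.{u} W] (r : ZU.{u}) :
    algebraMap ZU.{u} W r = ((ZU.equiv r : ℤ) : W) := by
  have h := RingHom.congr_fun (RingHom.ext_int
    ((algebraMap ZU.{u} W).comp (ZU.equiv.symm : ℤ ≃+* ZU.{u}).toRingHom)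
    (Int.castRingHom W)) (ZU.equiv r)
  rw [RingHom.comp_apply] at h
  have h2 : (ZU.equiv.symm : ℤ ≃+* ZU.{u}).toRingHom (ZU.equiv r) = r :=
    ZU.equiv.symm_apply_apply r
  rw [h2] at h
  exact h

/-- Any ring homomorphism between `ZU`-algebras is a `ZU`-algebra homomorphism. -/
noncomputable def ZU.toAlgHom {W C : Type*} [CommRing W] [CommRing C] [Algebra ZU.{u} W]
    [Algebra ZU.{u} C] (f : W →+* C) : W →ₐ[ZU.{u}] C :=
  { f with
    commutes' := fun r => by
      change f (algebraMap ZU.{u} W r) = algebraMap ZU.{u} C r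
      rw [ZU.algebraMap_eq, ZU.algebraMap_eq, map_intCast] }

@[simp] theorem ZU.toAlgHom_apply {W C : Type*} [CommRing W] [CommRing C] [Algebra ZU.{u} W]
    [Algebra ZU.{u} C] (f : W →+* C) (x : W) : ZU.toAlgHom f x = f x := rfl

/-- The element `p` of `ZU`. -/
noncomputable def ZU.ofNat (p : ℕ) : ZU.{u} := ZU.equiv.symm (p : ℤ)

/-- The ideal `(p)` of `ZU` is maximal for `p` prime. -/
theorem ZU.isMaximal_span (p : ℕ) [hp : Fact p.Prime] :
    (Ideal.span {ZU.ofNat.{u} p}).IsMaximal := by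
  have h1 : (Ideal.span {(p : ℤ)}).IsMaximal := inferInstance
  have h2 : Ideal.span {ZU.ofNat.{u} p} =
      (Ideal.span {(p : ℤ)}).comap (ZU.equiv : ZU.{u} ≃+* ℤ) := by
    rw [← Ideal.map_symm, Ideal.map_span, Set.image_singleton]
    rfl
  rw [h2]
  exact Ideal.comap_isMaximal_of_equiv _

/-- The residue ring `ZU ⧸ (p)` is finite. -/
theorem ZU.finite_quotient (p : ℕ) [hp : Fact p.Prime] :
    Finite (ZU.{u} ⧸ Ideal.span {ZU.ofNat.{u} p}) := by
  have h1 : Ideal.span {(p : ℤ)} =
      (Ideal.span {ZU.ofNat.{u} p}).map (ZU.equiv : ZU.{u} ≃+* ℤ) := by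
    rw [Ideal.map_span, Set.image_singleton]
    rfl
  exact Finite.of_equiv _ (Ideal.quotientEquiv (Ideal.span {ZU.ofNat.{u} p})
    (Ideal.span {(p : ℤ)}) (ZU.equiv : ZU.{u} ≃+* ℤ) h1).symm.toEquiv

end ZU

section Cohen

/-- A Cohen ring has characteristic zero. -/
theorem charZero_of_isCohenRing (W : Type u) [CommRing W] (hW : CAlg.IsCohenRing W) :
    CharZero W := by
  obtain ⟨hdom, hdvr, hcomp, p, hp, hmax⟩ := hW
  have hp0 : (p : W) ≠ 0 := by
    intro h0
    rw [h0, Ideal.span_singleton_eq_bot.mpr rfl] at hmax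
    exact IsDiscreteValuationRing.not_a_field W hmax
  have hpm : (p : W) ∈ IsLocalRing.maximalIdeal W := by
    rw [hmax]
    exact Ideal.mem_span_singleton_self _
  obtain ⟨q, hq⟩ := CharP.exists W
  rcases CharP.char_is_prime_or_zero W q with hq' | hq'
  · exfalso
    have hq0 : (q : W) = 0 := CharP.cast_eq_zero W q
    by_cases hqp : q = p
    · exact hp0 (hqp ▸ hq0)
    · have hcop : Nat.Coprime q p := (Nat.coprime_primes hq' hp).mpr hqp
      obtain ⟨a, b, hab⟩ := Nat.Coprime.isCoprime hcop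
      have h1 : ((a * q + b * p : ℤ) : W) = 1 := by
        rw [hab]
        exact Int.cast_one
      push_cast at h1
      rw [hq0, mul_zero, zero_add] at h1
      have : (1 : W) ∈ IsLocalRing.maximalIdeal W := by
        rw [← h1]
        exact Ideal.mul_mem_left _ _ hpm
      exact (Ideal.ne_top_iff_one _).mp (IsLocalRing.maximalIdeal.isMaximal W).ne_top this
  · subst hq'
    exact CharP.charP_to_charZero W

/-- **A Cohen ring is formally smooth over the integers** (in any universe, with `ZU` as the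
base), for the adic topologies. -/
theorem isFormallySmoothAdic_ZU_of_isCohenRing (W : Type u) [CommRing W] [IsLocalRing W]
    [Algebra ZU.{u} W] (hW : CAlg.IsCohenRing W) :
    ∃ p : ℕ, p.Prime ∧ IsLocalRing.maximalIdeal W = Ideal.span {(p : W)} ∧
      EGA41.IsFormallySmoothAdic ZU.{u} (Ideal.span {ZU.ofNat.{u} p}) W
        (IsLocalRing.maximalIdeal W) := by
  classical
  haveI : CharZero W := charZero_of_isCohenRing W hW
  obtain ⟨hdom, hdvr, hcomp, p, hp, hmax⟩ := hW
  refine ⟨p, hp, hmax, ?_⟩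
  haveI : Fact p.Prime := ⟨hp⟩
  let 𝔞 : Ideal ZU.{u} := Ideal.span {ZU.ofNat.{u} p}
  haveI h𝔞max : 𝔞.IsMaximal := ZU.isMaximal_span p
  have h𝔞W : 𝔞.map (algebraMap ZU.{u} W) = IsLocalRing.maximalIdeal W := by
    rw [hmax, Ideal.map_span, Set.image_singleton, ZU.algebraMap_eq]
    congr 2
    rw [ZU.ofNat, RingEquiv.apply_symm_apply]
    exact Int.cast_natCast p
  haveI : Module.IsTorsionFree ZU.{u} W := by
    apply Module.IsTorsionFree.of_smul_eq_zero
    intro r w hrw
    rw [Algebra.smul_def, ZU.algebraMap_eq, mul_eq_zero] at hrw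
    rcases hrw with h | h
    · left
      have : (ZU.equiv r : ℤ) = 0 := by exact_mod_cast h
      exact (map_eq_zero_iff ZU.equiv ZU.equiv.injective).mp this
    · exact Or.inr h
  haveI : Module.Flat ZU.{u} W := inferInstance
  apply isFormallySmoothAdic_of_flat_of_fibre_maximal 𝔞 _ h𝔞W.le
  haveI : (𝔞.map (algebraMap ZU.{u} W)).IsMaximal :=
    h𝔞W ▸ IsLocalRing.maximalIdeal.isMaximal W
  let _ : Field (ZU.{u} ⧸ 𝔞) := Ideal.Quotient.field 𝔞
  let _ : Field (W ⧸ 𝔞.map (algebraMap ZU.{u} W)) := Ideal.Quotient.field _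
  haveI : Finite (ZU.{u} ⧸ 𝔞) := ZU.finite_quotient p
  haveI : PerfectField (ZU.{u} ⧸ 𝔞) := PerfectField.ofFinite
  haveI : Algebra.FormallySmooth (ZU.{u} ⧸ 𝔞) (W ⧸ 𝔞.map (algebraMap ZU.{u} W)) :=
    formallySmooth_of_perfectField _ _
  exact isFormallySmoothAdic_bot_of_formallySmooth _

end Cohen

section FieldCase

/-- A field of characteristic zero is formally smooth over `ZU`. -/
theorem formallySmooth_ZU_of_charZero (W : Type u) [Field W] [CharZero W] [Algebra ZU.{u} W] :
    Algebra.FormallySmooth ZU.{u} W := by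
  letI : Algebra ZU.{u} ℤ := ZU.algebra ℤ
  haveI : IsScalarTower ZU.{u} ℤ W := IsScalarTower.of_algebraMap_eq (fun r => by
    rw [ZU.algebraMap_eq, ZU.algebraMap_eq]
    simp)
  let e : ZU.{u} ≃ₐ[ZU.{u}] ℤ := AlgEquiv.ofRingEquiv (f := ZU.equiv) (fun x => by
    change ZU.equiv x = algebraMap ZU.{u} ℤ x
    rw [ZU.algebraMap_eq ℤ x]
    exact (Int.cast_id).symm)
  haveI : Algebra.FormallySmooth ZU.{u} ℤ := Algebra.FormallySmooth.of_equiv e
  haveI : Algebra.FormallySmooth ℤ ℚ :=
    Algebra.FormallySmooth.of_isLocalization (nonZeroDivisors ℤ)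
  haveI : Algebra.FormallySmooth ℚ W := formallySmooth_rat W
  haveI : Algebra.FormallySmooth ℤ W := Algebra.FormallySmooth.comp ℤ ℚ W
  exact Algebra.FormallySmooth.comp ZU.{u} ℤ W

end FieldCase

section Lifting

/-- EGA 0_IV 19.8.6 (i): homomorphisms from a Cohen ring lift to complete Noetherian local
rings. -/
theorem exists_lift_of_isCohenRingEGA {W C : Type u} [CommRing W] [IsLocalRing W]
    (hW : EGA41.IsCohenRingEGA W) [CommRing C] [IsLocalRing C] [IsNoetherianRing C]
    [IsAdicComplete (maximalIdeal C) C] (J : Ideal C) (hJ : J ≠ ⊤) [IsLocalRing (C ⧸ J)]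
    (u : W →+* C ⧸ J) [IsLocalHom u] :
    ∃ v : W →+* C, IsLocalHom v ∧ (Ideal.Quotient.mk J).comp v = u := by
  letI : Algebra ZU.{u} W := ZU.algebra W
  letI : Algebra ZU.{u} C := ZU.algebra C
  let u' : W →ₐ[ZU.{u}] C ⧸ J := ZU.toAlgHom u
  have hu : (maximalIdeal W).map u'.toRingHom ≤ (maximalIdeal C).map (Ideal.Quotient.mk J) := by
    rw [IsLocalRing.map_maximalIdeal_of_surjective (Ideal.Quotient.mk J)
      Ideal.Quotient.mk_surjective]
    exact IsLocalRing.map_maximalIdeal_le u
  have key : ∃ v' : W →ₐ[ZU.{u}] C, (Ideal.Quotient.mkₐ ZU.{u} J).comp v' = u' := by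
    rcases hW with ⟨hfield, hchar⟩ | hcohen
    · letI : Field W := hfield.toField
      haveI : Algebra.FormallySmooth ZU.{u} W := formallySmooth_ZU_of_charZero W
      have hB : EGA41.IsFormallySmoothAdic ZU.{u} ⊥ W (maximalIdeal W) :=
        isFormallySmoothAdic_bot_of_formallySmooth _
      have hA : (⊥ : Ideal ZU.{u}).map (algebraMap ZU.{u} C) ≤ maximalIdeal C := by
        rw [Ideal.map_bot]
        exact bot_le
      obtain ⟨v', _, hv'⟩ := Groth.Agent.S2462.result ⊥ (maximalIdeal W) hB hA J hJ u' hu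
      exact ⟨v', hv'⟩
    · obtain ⟨p, hp, hmax, hB⟩ := isFormallySmoothAdic_ZU_of_isCohenRing W hcohen
      have hA : (Ideal.span {ZU.ofNat.{u} p}).map (algebraMap ZU.{u} C) ≤ maximalIdeal C := by
        rw [Ideal.map_span, Set.image_singleton, Ideal.span_le, Set.singleton_subset_iff,
          ZU.algebraMap_eq, ZU.ofNat, RingEquiv.apply_symm_apply, Int.cast_natCast]
        rw [SetLike.mem_coe, IsLocalRing.mem_maximalIdeal, mem_nonunits_iff]
        intro hunit
        have h1 : IsUnit (Ideal.Quotient.mk J (p : C)) := hunit.map _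
        rw [map_natCast, ← map_natCast u] at h1
        have h2 : IsUnit (p : W) := IsUnit.of_map u _ h1
        have h3 : (p : W) ∈ maximalIdeal W := by
          rw [hmax]
          exact Ideal.mem_span_singleton_self _
        exact (IsLocalRing.mem_maximalIdeal _).mp h3 h2
      obtain ⟨v', _, hv'⟩ := Groth.Agent.S2462.result _ (maximalIdeal W) hB hA J hJ u' hu
      exact ⟨v', hv'⟩
  obtain ⟨v', hv'⟩ := key
  have hv : ∀ x, Ideal.Quotient.mk J (v' x) = u x := fun x => AlgHom.congr_fun hv' x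
  refine ⟨v'.toRingHom, ⟨fun x hx => ?_⟩, ?_⟩
  · have h1 : IsUnit (Ideal.Quotient.mk J (v' x)) := hx.map _
    rw [hv] at h1
    exact IsUnit.of_map u x h1
  · ext x
    exact hv x

end Lifting

end Groth.Agent.Lib.Helper47
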