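import Mathlib
import Groth.Prelude.Def_EGA41
import Groth.Agent.Lib.Helper47.AdicLiftComplete
import Groth.Agent.Lib.Helper44.AdicQuot
import Groth.Agent.Lib.Helper47.CohenSmooth
import Groth.Agent.Lib.Helper81.CohenRing
import Groth.Agent.Lib.Helper81.CohenLift
import Groth.Agent.Lib.Helper90.PSSurj
import Groth.Agent.Lib.Helper58.MvPSComplete
import Groth.Agent.S0579
import Groth.Agent.S0543
import Groth.Agent.Lib.Helper21.AdicSmooth
import Groth.Agent.Lib.Helper90.SmoothRegular3
import Groth.Agent.Lib.Helper71.LocalCritNoeth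
import Groth.Agent.Lib.Helper71.FibreCritNoeth
import Groth.Agent.Lib.Helper47.AdicSmoothCompletion

/-!
# Adic formal smoothness implies flatness (EGA 0_IV 19.7.1, (a) ⇒ (b)) — helper47

Strategy (Stacks 07NQ): reduce to an Artinian base `A` and a complete `B`; choose Cohen presentations
`R = Λ[X] ↠ A`, `S₀ = Λ'[[Y]] ↠ B`, lift `Λ → B` to `Λ → S₀`; then `S = S₀[[X]]` is flat over `R`,
`T = A ⊗[R] S` is a flat `A`-algebra which is a complete Noetherian local ring surjecting onto `B`,
and formal smoothness of `B` produces a section `B → T`; hence `B` is a retract of a flat module.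
-/

set_option autoImplicit false
universe u

open IsLocalRing TensorProduct

namespace Groth.Agent.Lib.Helper47.SmoothFlat

/-- A surjective image of a complete Noetherian local ring is complete. -/
theorem isAdicComplete_of_surjective {S T : Type u} [CommRing S] [CommRing T] [IsLocalRing S]
    [IsNoetherianRing S] [IsAdicComplete (maximalIdeal S) S] [IsLocalRing T]
    (π : S →+* T) (hπ : Function.Surjective π) : IsAdicComplete (maximalIdeal T) T := by
  let e : S ⧸ RingHom.ker π ≃+* T := RingHom.quotientKerEquivOfSurjective hπ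
  have h1 := Groth.Agent.Lib.Helper44.isAdicComplete_quotient_ring (maximalIdeal S) (RingHom.ker π)
  have h2 := (IsAdicComplete.congr_ringEquiv
    ((maximalIdeal S).map (algebraMap S (S ⧸ RingHom.ker π))) e).mpr h1
  have h3 : ((maximalIdeal S).map (algebraMap S (S ⧸ RingHom.ker π))).map e = maximalIdeal T := by
    rw [← IsLocalRing.map_maximalIdeal_of_surjective π hπ]
    change ((maximalIdeal S).map (algebraMap S (S ⧸ RingHom.ker π))).map (e : _ →+* T) = _
    rw [Ideal.map_map]
    congr 1
  rwa [h3] at h2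

/-- **Retract criterion.** Let `B` be an `A`-algebra which is a local ring, formally smooth over `A`
for the adic topology. Suppose `R → A` is a surjective ring map, `S` is a flat `R`-algebra which is
a complete Noetherian local ring and `g : S → B` is a surjective `R`-algebra map. Then `B` is flat
over `A`. -/
theorem flat_of_flat_presentation {A B R S : Type u} [CommRing A] [CommRing B] [Algebra A B]
    [IsLocalRing B] (hB : EGA41.IsFormallySmoothAdic A ⊥ B (maximalIdeal B))
    [CommRing R] [CommRing S] [Algebra R A] [Algebra R S] [Algebra R B] [IsScalarTower R A B]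
    [Module.Flat R S] (hRA : Function.Surjective (algebraMap R A))
    [IsLocalRing S] [IsNoetherianRing S] [IsAdicComplete (maximalIdeal S) S]
    (g : S →ₐ[R] B) (hg : Function.Surjective g) : Module.Flat A B := by
  -- the flat `A`-algebra `T`
  let T := A ⊗[R] S
  let π : S →ₐ[R] T := Algebra.TensorProduct.includeRight
  have hπ : Function.Surjective π := by
    intro t
    induction t using TensorProduct.induction_on with
    | zero => exact ⟨0, map_zero _⟩
    | tmul a s =>
      obtain ⟨r, rfl⟩ := hRA a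
      refine ⟨r • s, ?_⟩
      change (1 : A) ⊗ₜ[R] (r • s) = algebraMap R A r ⊗ₜ[R] s
      rw [TensorProduct.tmul_smul, TensorProduct.smul_tmul', Algebra.smul_def, mul_one]
    | add x y hx hy =>
      obtain ⟨x', rfl⟩ := hx
      obtain ⟨y', rfl⟩ := hy
      exact ⟨x' + y', map_add _ _ _⟩
  -- the map `T → B`
  let gT : T →ₐ[A] B := Algebra.TensorProduct.lift (Algebra.ofId A B) g (fun _ _ => Commute.all _ _)
  have hgTπ : ∀ s, gT (π s) = g s := by
    intro s
    change gT ((1 : A) ⊗ₜ[R] s) = g s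
    rw [Algebra.TensorProduct.lift_tmul, map_one, one_mul]
  have hgT : Function.Surjective gT := by
    intro b
    obtain ⟨s, rfl⟩ := hg b
    exact ⟨π s, hgTπ s⟩
  haveI : Nontrivial T := (gT : T →+* B).domain_nontrivial
  haveI : IsLocalRing T := IsLocalRing.of_surjective' (π : S →+* T) hπ
  haveI : IsNoetherianRing T := isNoetherianRing_of_surjective S T (π : S →+* T) hπ
  haveI : IsAdicComplete (maximalIdeal T) T := isAdicComplete_of_surjective (π : S →+* T) hπ
  -- the section
  let J : Ideal T := RingHom.ker gT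
  have hJ : J ≠ ⊤ := RingHom.ker_ne_top _
  let e : (T ⧸ J) ≃ₐ[A] B := Ideal.quotientKerAlgEquivOfSurjective hgT
  let u : B →ₐ[A] T ⧸ J := e.symm
  have hu : (maximalIdeal B).map u.toRingHom ≤ (maximalIdeal T).map (Ideal.Quotient.mk J) := by
    rw [Ideal.map_le_iff_le_comap]
    intro b hb
    rw [Ideal.mem_comap]
    obtain ⟨t, ht⟩ := Ideal.Quotient.mk_surjective (u b)
    change u b ∈ _
    rw [← ht]
    apply Ideal.mem_map_of_mem
    rw [IsLocalRing.mem_maximalIdeal, mem_nonunits_iff]
    intro htu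
    have h1 : IsUnit (gT t) := htu.map gT
    have h2 : gT t = b := by
      have : e (Ideal.Quotient.mk J t) = gT t := rfl
      rw [← this, ht]
      exact e.apply_symm_apply b
    rw [h2] at h1
    exact (IsLocalRing.mem_maximalIdeal b).mp hb h1
  obtain ⟨v, -, hv⟩ := exists_lift_complete_local (maximalIdeal B) J hJ u hu ⊥ hB
    (by rw [Ideal.map_bot]; exact bot_le)
  have hsec : ∀ b, gT (v b) = b := by
    intro b
    have h1 : Ideal.Quotient.mk J (v b) = u b := AlgHom.congr_fun hv b
    have h2 : e (Ideal.Quotient.mk J (v b)) = gT (v b) := rfl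
    rw [← h2, h1]
    exact e.apply_symm_apply b
  -- conclude
  haveI : Module.Flat A T := inferInstance
  exact Module.Flat.of_retract v.toLinearMap gT.toLinearMap (LinearMap.ext hsec)

/-- A surjective ring map from a local ring onto a nontrivial ring is a local homomorphism. -/
theorem isLocalHom_of_surjective {Λ k : Type*} [CommRing Λ] [IsLocalRing Λ] [CommRing k]
    [Nontrivial k] (f : Λ →+* k) (hf : Function.Surjective f) : IsLocalHom f := by
  constructor
  intro x hx
  by_contra hnx
  obtain ⟨y, hy⟩ := hf (↑hx.unit⁻¹ : k)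
  have h1 : f (1 - x * y) = 0 := by
    rw [map_sub, map_mul, hy, map_one, IsUnit.mul_val_inv, sub_self]
  have h2 : IsUnit (1 - x * y) := by
    have hxy : x * y ∈ maximalIdeal Λ := Ideal.mul_mem_right _ _ ((mem_maximalIdeal x).mpr hnx)
    by_contra h3
    have h4 : (1 - x * y) ∈ maximalIdeal Λ := (mem_maximalIdeal _).mpr h3
    have h5 : (1 : Λ) ∈ maximalIdeal Λ := by
      have := Ideal.add_mem _ h4 hxy
      rwa [sub_add_cancel] at this
    exact (Ideal.ne_top_iff_one _).mp (Ideal.IsPrime.ne_top inferInstance) h5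
  have h6 := h2.map f
  rw [h1] at h6
  exact not_isUnit_zero h6

/-- **Cohen data.** A complete local ring receives a ring map from a Cohen ring (EGA sense: a field
of characteristic zero or a complete DVR with uniformizer `p`) inducing a surjection onto the
residue field. -/
theorem exists_cohen_hom (A : Type u) [CommRing A] [IsLocalRing A]
    [IsAdicComplete (maximalIdeal A) A] :
    ∃ (Λ : Type u) (_ : CommRing Λ) (_ : IsLocalRing Λ) (c : Λ →+* A), EGA41.IsCohenRingEGA Λ ∧
      Function.Surjective ((Ideal.Quotient.mk (maximalIdeal A)).comp c) := by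
  classical
  obtain ⟨q, hq⟩ := CharP.exists (ResidueField A)
  rcases CharP.char_is_prime_or_zero (ResidueField A) q with hprime | rfl
  · haveI : Fact q.Prime := ⟨hprime⟩
    obtain ⟨Λ, _, _, hdom, hdvr, hcomp, hm, ⟨e⟩⟩ :=
      Groth.Agent.Lib.Helper81.CohenRing.exists_cohenRing q (ResidueField A)
    haveI := hdom
    haveI := hdvr
    haveI := hcomp
    let u : Λ →+* A ⧸ maximalIdeal A := (e : ResidueField Λ →+* ResidueField A).comp (residue Λ)
    have hqI : (q : A) ∈ maximalIdeal A := by
      rw [← IsLocalRing.residue_eq_zero_iff, map_natCast]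
      exact CharP.cast_eq_zero _ q
    obtain ⟨v, hv⟩ := Groth.Agent.Lib.Helper81.CohenLift.exists_lift_complete hprime hm
      (maximalIdeal A) hqI u
    refine ⟨Λ, inferInstance, inferInstance, v, Or.inr ⟨hdom, hdvr, hcomp, q, hprime, hm⟩, ?_⟩
    rw [hv]
    exact e.surjective.comp IsLocalRing.residue_surjective
  · haveI : CharZero (ResidueField A) := CharP.charP_to_charZero _
    obtain ⟨s, hs⟩ := Groth.Agent.S0579.result A
    refine ⟨ResidueField A, inferInstance, inferInstance, s,
      Or.inl ⟨Field.toIsField _, inferInstance⟩, ?_⟩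
    have : (Ideal.Quotient.mk (maximalIdeal A)).comp s = RingHom.id _ := hs
    rw [this]
    exact Function.surjective_id

/-- Structural facts about a local Cohen ring in the EGA sense. -/
theorem cohenRingEGA_facts {Λ : Type u} [CommRing Λ] [IsLocalRing Λ] (h : EGA41.IsCohenRingEGA Λ) :
    IsDomain Λ ∧ IsPrincipalIdealRing Λ ∧ CharZero Λ ∧ IsAdicComplete (maximalIdeal Λ) Λ ∧
      (IsField Λ ∨ ∃ p : ℕ, p.Prime ∧ maximalIdeal Λ = Ideal.span {(p : Λ)}) := by
  rcases h with ⟨hF, hchar⟩ | hC
  · letI := hF.toField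
    refine ⟨inferInstance, inferInstance, hchar, ?_, Or.inl hF⟩
    rw [IsLocalRing.maximalIdeal_eq_bot]
    infer_instance
  · haveI : CharZero Λ := charZero_of_isCohenRing Λ hC
    obtain ⟨hdom, hdvr, hcomp, p, hp, hm⟩ := hC
    exact ⟨hdom, inferInstance, inferInstance, hcomp, Or.inr ⟨p, hp, hm⟩⟩

/-- A domain of characteristic zero is flat over any local Cohen ring (EGA sense). -/
theorem flat_of_cohenRingEGA {Λ : Type u} [CommRing Λ] [IsLocalRing Λ]
    (h : EGA41.IsCohenRingEGA Λ) {S₀ : Type u} [CommRing S₀] [IsDomain S₀] [CharZero S₀]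
    [Algebra Λ S₀] : Module.Flat Λ S₀ := by
  rcases h with ⟨hF, -⟩ | hC
  · letI := hF.toField
    infer_instance
  · obtain ⟨hdom, hdvr, -, p, hp, hm⟩ := hC
    have hirr : Irreducible (p : Λ) :=
      (IsDiscreteValuationRing.irreducible_iff_uniformizer _).mpr hm
    have hp0 : (p : S₀) ≠ 0 := by exact_mod_cast hp.ne_zero
    have hinj : Function.Injective (algebraMap Λ S₀) := by
      rw [injective_iff_map_eq_zero]
      intro x hx
      by_contra hne
      obtain ⟨n, c, hc⟩ := IsDiscreteValuationRing.eq_unit_mul_pow_irreducible hne hirr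
      rw [hc, map_mul, map_pow, map_natCast] at hx
      rcases mul_eq_zero.mp hx with h | h
      · exact (c.isUnit.map (algebraMap Λ S₀)).ne_zero h
      · exact hp0 (eq_zero_of_pow_eq_zero h)
    haveI : Module.IsTorsionFree Λ S₀ := by
      apply Module.IsTorsionFree.of_smul_eq_zero
      intro a b hab
      rw [Algebra.smul_def, mul_eq_zero] at hab
      rcases hab with h | h
      · left
        exact (map_eq_zero_iff _ hinj).mp h
      · exact Or.inr h
    infer_instance

/-- If the maximal ideal of `A` is nilpotent and generated by `a`, and `Λ → A/𝔪` is surjective,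
then `Λ[X] → A`, `X ↦ a`, is surjective. -/
theorem aeval_surjective_of_nilpotent {Λ A : Type u} [CommRing Λ] [CommRing A] [IsLocalRing A]
    [Algebra Λ A] [IsAdicComplete (maximalIdeal A) A] {N : ℕ} (hN : maximalIdeal A ^ N = ⊥)
    {n : ℕ} (a : Fin n → A) (ha : Ideal.span (Set.range a) = maximalIdeal A)
    (hsurj : Function.Surjective ((Ideal.Quotient.mk (maximalIdeal A)).comp (algebraMap Λ A))) :
    Function.Surjective (MvPolynomial.aeval a : MvPolynomial (Fin n) Λ →ₐ[Λ] A) := by
  obtain ⟨φ, hφsurj, -, hP1, hP2⟩ :=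
    Groth.Agent.Lib.Helper90.PSSurj.exists_surjective_eval (B := Λ) (maximalIdeal A) a ha hsurj
  intro y
  obtain ⟨F, rfl⟩ := hφsurj y
  obtain ⟨p, hp⟩ := Groth.Agent.Lib.Helper90.PSUniv.exists_trunc N F
  refine ⟨p, ?_⟩
  have h1 := hP2 N (F - (p : MvPowerSeries (Fin n) Λ)) hp
  rw [hN, Ideal.mem_bot, map_sub, sub_eq_zero] at h1
  rw [h1, hP1]

/-- A ring is adically complete for a nilpotent ideal. -/
theorem isAdicComplete_of_pow_eq_bot {R : Type*} [CommRing R] (I : Ideal R) {N : ℕ}
    (hN : I ^ N = ⊥) : IsAdicComplete I R := by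
  have hbot : (I ^ N • ⊤ : Submodule R R) = ⊥ := by rw [hN]; simp
  refine { toIsHausdorff := ⟨fun x hx => ?_⟩, toIsPrecomplete := ⟨fun f hf => ⟨f N, fun n => ?_⟩⟩ }
  · have := hx N
    rw [hbot, SModEq.bot] at this
    exact this
  · rcases le_total n N with h | h
    · exact hf h
    · have := hf h
      rw [hbot, SModEq.bot] at this
      rw [this]

attribute [local instance] MvPolynomial.algebraMvPolynomial in
/-- For a flat map `Λ → S₀` with `S₀` Noetherian, `S₀[[X]]` is flat over `Λ[X]`. -/
theorem flat_mvPolynomial_mvPowerSeries {Λ S₀ : Type u} [CommRing Λ] [CommRing S₀] [Algebra Λ S₀]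
    [Module.Flat Λ S₀] [IsNoetherianRing S₀] (n : ℕ) :
    Module.Flat (MvPolynomial (Fin n) Λ) (MvPowerSeries (Fin n) S₀) := by
  haveI : Module.Flat (MvPolynomial (Fin n) Λ) (MvPolynomial (Fin n) S₀) :=
    Module.Flat.isBaseChange (R := Λ) (S := MvPolynomial (Fin n) Λ) (M := S₀)
      (N := MvPolynomial (Fin n) S₀)
      (Algebra.IsPushout.out (R := Λ) (S := MvPolynomial (Fin n) Λ) (R' := S₀)
        (S' := MvPolynomial (Fin n) S₀))
  haveI : Module.Flat (MvPolynomial (Fin n) S₀) (MvPowerSeries (Fin n) S₀) :=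
    Module.Flat.of_linearEquiv (MvPowerSeries.toAdicCompletionAlgEquiv (Fin n) S₀).toLinearEquiv
  haveI : IsScalarTower (MvPolynomial (Fin n) Λ) (MvPolynomial (Fin n) S₀)
      (MvPowerSeries (Fin n) S₀) := by
    apply IsScalarTower.of_algebraMap_eq
    intro p
    rw [MvPolynomial.algebraMap_def, MvPowerSeries.algebraMap_apply',
      MvPowerSeries.algebraMap_apply']
    ext d
    simp [MvPolynomial.coeff_map]
  exact Module.Flat.trans (MvPolynomial (Fin n) Λ) (MvPolynomial (Fin n) S₀)
    (MvPowerSeries (Fin n) S₀)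

/-- **Formally smooth ⟹ flat, nilpotent base.** Let `A` be a Noetherian local ring with nilpotent
maximal ideal and `B` a complete Noetherian local `A`-algebra (local homomorphism), formally smooth
over `A` for the adic topology. Then `B` is flat over `A`. -/
theorem flat_of_isFormallySmoothAdic_of_nilpotent {A B : Type u} [CommRing A] [IsLocalRing A]
    [IsNoetherianRing A] {N : ℕ} (hN : maximalIdeal A ^ N = ⊥)
    [CommRing B] [IsLocalRing B] [IsNoetherianRing B] [IsAdicComplete (maximalIdeal B) B]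
    [Algebra A B] [IsLocalHom (algebraMap A B)]
    (hB : EGA41.IsFormallySmoothAdic A ⊥ B (maximalIdeal B)) : Module.Flat A B := by
  classical
  haveI : IsAdicComplete (maximalIdeal A) A := isAdicComplete_of_pow_eq_bot _ hN
  obtain ⟨Λ, _, _, c, hΛ, hc⟩ := exists_cohen_hom A
  obtain ⟨Λ', _, _, c', hΛ', hc'⟩ := exists_cohen_hom B
  obtain ⟨hdom', hpid', hchar', hcomp', -⟩ := cohenRingEGA_facts hΛ'
  haveI := hdom'
  haveI := hpid'
  haveI := hchar'
  haveI := hcomp'
  -- generators of the maximal ideals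
  obtain ⟨n, a, ha⟩ := Submodule.fg_iff_exists_fin_generating_family.1
    (IsNoetherian.noetherian (maximalIdeal A))
  obtain ⟨m, b, hb⟩ := Submodule.fg_iff_exists_fin_generating_family.1
    (IsNoetherian.noetherian (maximalIdeal B))
  have ha' : Ideal.span (Set.range a) = maximalIdeal A := ha
  have hb' : Ideal.span (Set.range b) = maximalIdeal B := hb
  -- the power series ring `S₀` over `Λ'` surjecting onto `B`
  letI algΛ'B : Algebra Λ' B := c'.toAlgebra
  obtain ⟨g₀, hg₀, -, -, -⟩ := Groth.Agent.Lib.Helper90.PSSurj.exists_surjective_eval (B := Λ')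
    (maximalIdeal B) b hb' hc'
  haveI : IsAdicComplete (maximalIdeal (MvPowerSeries (Fin m) Λ')) (MvPowerSeries (Fin m) Λ') :=
    Groth.Agent.Lib.Helper58.MvPSComplete.isAdicComplete
  haveI : IsDomain (MvPowerSeries (Fin m) Λ') := NoZeroDivisors.to_isDomain _
  haveI : CharZero (MvPowerSeries (Fin m) Λ') :=
    charZero_of_injective_ringHom (f := (MvPowerSeries.C : Λ' →+* MvPowerSeries (Fin m) Λ'))
      MvPowerSeries.C_injective
  -- lift `Λ → A → B` to `Λ → S₀`
  let J : Ideal (MvPowerSeries (Fin m) Λ') := RingHom.ker (g₀ : MvPowerSeries (Fin m) Λ' →+* B)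
  have hJ : J ≠ ⊤ := RingHom.ker_ne_top _
  let e : MvPowerSeries (Fin m) Λ' ⧸ J ≃+* B :=
    RingHom.quotientKerEquivOfSurjective (f := (g₀ : MvPowerSeries (Fin m) Λ' →+* B)) hg₀
  haveI : Nontrivial (MvPowerSeries (Fin m) Λ' ⧸ J) := Ideal.Quotient.nontrivial_iff.mpr hJ
  haveI : IsLocalRing (MvPowerSeries (Fin m) Λ' ⧸ J) :=
    IsLocalRing.of_surjective' (Ideal.Quotient.mk J) Ideal.Quotient.mk_surjective
  let u : Λ →+* MvPowerSeries (Fin m) Λ' ⧸ J :=
    (e.symm : B →+* MvPowerSeries (Fin m) Λ' ⧸ J).comp ((algebraMap A B).comp c)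
  haveI : Nontrivial (A ⧸ maximalIdeal A) :=
    Ideal.Quotient.nontrivial_iff.mpr (Ideal.IsPrime.ne_top inferInstance)
  haveI : IsLocalHom u := by
    have hc1 : IsLocalHom ((Ideal.Quotient.mk (maximalIdeal A)).comp c) :=
      isLocalHom_of_surjective _ hc
    constructor
    intro x hx
    have h1 : IsUnit (e (u x)) := hx.map e
    have h2 : e (u x) = algebraMap A B (c x) := e.apply_symm_apply _
    rw [h2] at h1
    have h3 : IsUnit (c x) := isUnit_of_map_unit (algebraMap A B) _ h1
    have h4 : IsUnit (((Ideal.Quotient.mk (maximalIdeal A)).comp c) x) :=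
      h3.map (Ideal.Quotient.mk (maximalIdeal A))
    exact hc1.map_nonunit x h4
  obtain ⟨φ₀, -, hφ₀⟩ := exists_lift_of_isCohenRingEGA hΛ J hJ u
  have hgφ : ∀ l, g₀ (φ₀ l) = algebraMap A B (c l) := by
    intro l
    have h1 : Ideal.Quotient.mk J (φ₀ l) = u l := RingHom.congr_fun hφ₀ l
    have h2 : e (Ideal.Quotient.mk J (φ₀ l)) = g₀ (φ₀ l) := rfl
    rw [← h2, h1]
    exact e.apply_symm_apply _
  letI algΛS₀ : Algebra Λ (MvPowerSeries (Fin m) Λ') := φ₀.toAlgebra
  haveI : Module.Flat Λ (MvPowerSeries (Fin m) Λ') := flat_of_cohenRingEGA hΛ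
  -- the polynomial ring `R` surjecting onto `A`
  letI algΛA : Algebra Λ A := c.toAlgebra
  have hf : Function.Surjective
      (MvPolynomial.aeval a : MvPolynomial (Fin n) Λ →ₐ[Λ] A) :=
    aeval_surjective_of_nilpotent hN a ha' hc
  letI algRA : Algebra (MvPolynomial (Fin n) Λ) A :=
    (MvPolynomial.aeval a : MvPolynomial (Fin n) Λ →ₐ[Λ] A).toRingHom.toAlgebra
  -- `S = S₀[[X]]`
  haveI : IsAdicComplete (maximalIdeal (MvPowerSeries (Fin n) (MvPowerSeries (Fin m) Λ')))
      (MvPowerSeries (Fin n) (MvPowerSeries (Fin m) Λ')) :=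
    Groth.Agent.Lib.Helper58.MvPSComplete.isAdicComplete
  haveI : Module.Flat (MvPolynomial (Fin n) Λ) (MvPowerSeries (Fin n) (MvPowerSeries (Fin m) Λ')) :=
    flat_mvPolynomial_mvPowerSeries n
  -- the map `S → B`
  letI algS₀B : Algebra (MvPowerSeries (Fin m) Λ') B :=
    (g₀ : MvPowerSeries (Fin m) Λ' →+* B).toAlgebra
  let x : Fin n → B := fun i => algebraMap A B (a i)
  have hx : ∀ i, x i ∈ maximalIdeal B := by
    intro i
    have h1 : a i ∈ maximalIdeal A := by
      rw [← ha']
      exact Ideal.subset_span ⟨i, rfl⟩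
    exact (IsLocalRing.map_maximalIdeal_le (algebraMap A B)) (Ideal.mem_map_of_mem _ h1)
  obtain ⟨g₁, hP1, -⟩ := Groth.Agent.Lib.Helper90.PSUniv.exists_eval
    (B := MvPowerSeries (Fin m) Λ') (maximalIdeal B) x hx
  letI algRB : Algebra (MvPolynomial (Fin n) Λ) B :=
    ((algebraMap A B).comp (algebraMap (MvPolynomial (Fin n) Λ) A)).toAlgebra
  haveI : IsScalarTower (MvPolynomial (Fin n) Λ) A B :=
    IsScalarTower.of_algebraMap_eq (fun _ => rfl)
  have hcomm : (g₁ : MvPowerSeries (Fin n) (MvPowerSeries (Fin m) Λ') →+* B).comp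
      (algebraMap (MvPolynomial (Fin n) Λ) (MvPowerSeries (Fin n) (MvPowerSeries (Fin m) Λ'))) =
      algebraMap (MvPolynomial (Fin n) Λ) B := by
    apply MvPolynomial.ringHom_ext
    · intro l
      have h1 : algebraMap (MvPolynomial (Fin n) Λ)
          (MvPowerSeries (Fin n) (MvPowerSeries (Fin m) Λ')) (MvPolynomial.C l) =
          algebraMap (MvPowerSeries (Fin m) Λ') (MvPowerSeries (Fin n) (MvPowerSeries (Fin m) Λ'))
            (φ₀ l) := by
        rw [MvPowerSeries.algebraMap_apply', MvPolynomial.coe_C, MvPowerSeries.map_C,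
          MvPowerSeries.algebraMap_apply]
        rfl
      have h2 : algebraMap (MvPolynomial (Fin n) Λ) B (MvPolynomial.C l) =
          algebraMap A B (c l) := by
        change algebraMap A B (MvPolynomial.aeval a (MvPolynomial.C l)) = _
        rw [MvPolynomial.aeval_C]
        rfl
      rw [RingHom.comp_apply, h1, h2]
      change g₁ (algebraMap _ _ (φ₀ l)) = _
      rw [g₁.commutes]
      exact hgφ l
    · intro i
      have h1 : algebraMap (MvPolynomial (Fin n) Λ)
          (MvPowerSeries (Fin n) (MvPowerSeries (Fin m) Λ')) (MvPolynomial.X i) =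
          ((MvPolynomial.X i : MvPolynomial (Fin n) (MvPowerSeries (Fin m) Λ')) :
            MvPowerSeries (Fin n) (MvPowerSeries (Fin m) Λ')) := by
        rw [MvPowerSeries.algebraMap_apply', MvPolynomial.coe_X, MvPowerSeries.map_X,
          MvPolynomial.coe_X]
      have h2 : algebraMap (MvPolynomial (Fin n) Λ) B (MvPolynomial.X i) = x i := by
        change algebraMap A B (MvPolynomial.aeval a (MvPolynomial.X i)) = _
        rw [MvPolynomial.aeval_X]
      rw [RingHom.comp_apply, h1, h2]
      change g₁ _ = _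
      rw [hP1, MvPolynomial.aeval_X]
  let g : MvPowerSeries (Fin n) (MvPowerSeries (Fin m) Λ') →ₐ[MvPolynomial (Fin n) Λ] B :=
    { (g₁ : MvPowerSeries (Fin n) (MvPowerSeries (Fin m) Λ') →+* B) with
      commutes' := fun r => RingHom.congr_fun hcomm r }
  have hg : Function.Surjective g := by
    intro y
    obtain ⟨s, rfl⟩ := hg₀ y
    refine ⟨algebraMap (MvPowerSeries (Fin m) Λ')
      (MvPowerSeries (Fin n) (MvPowerSeries (Fin m) Λ')) s, ?_⟩
    change g₁ (algebraMap _ _ s) = _
    rw [g₁.commutes]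
    rfl
  exact flat_of_flat_presentation hB hf g hg

/-- If `R → A` is surjective then `S → A ⊗[R] S` is surjective. -/
theorem includeRight_surjective {R A S : Type*} [CommRing R] [CommRing A] [CommRing S]
    [Algebra R A] [Algebra R S] (h : Function.Surjective (algebraMap R A)) :
    Function.Surjective (Algebra.TensorProduct.includeRight : S →ₐ[R] A ⊗[R] S) := by
  intro t
  induction t using TensorProduct.induction_on with
  | zero => exact ⟨0, map_zero _⟩
  | tmul a s =>
    obtain ⟨r, rfl⟩ := h a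
    refine ⟨r • s, ?_⟩
    change (1 : A) ⊗ₜ[R] (r • s) = algebraMap R A r ⊗ₜ[R] s
    rw [TensorProduct.tmul_smul, TensorProduct.smul_tmul', Algebra.smul_def, mul_one]
  | add x y hx hy =>
    obtain ⟨x', rfl⟩ := hx
    obtain ⟨y', rfl⟩ := hy
    exact ⟨x' + y', map_add _ _ _⟩

/-- **Formally smooth ⟹ flat, complete case.** -/
theorem flat_of_isAdicFormallySmooth_of_complete {A B : Type u} [CommRing A] [IsLocalRing A]
    [IsNoetherianRing A] [CommRing B] [IsLocalRing B] [IsNoetherianRing B]
    [IsAdicComplete (maximalIdeal B) B] [Algebra A B] [IsLocalHom (algebraMap A B)]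
    (hB : CAlgX.IsAdicFormallySmooth A B (maximalIdeal B)) : Module.Flat A B := by
  refine Groth.Agent.Lib.Helper71.LocalCritNoeth.flat_of_flat_quotient_pow (B := B)
    (maximalIdeal A) B ?_ ?_
  · rw [IsLocalRing.jacobson_eq_maximalIdeal ⊥ bot_ne_top]
    exact IsLocalRing.map_maximalIdeal_le (algebraMap A B)
  · intro n
    have h𝔞le : maximalIdeal A ^ (n + 1) ≤ maximalIdeal A := Ideal.pow_le_self (Nat.succ_ne_zero n)
    have h𝔞 : maximalIdeal A ^ (n + 1) ≠ ⊤ :=
      ne_top_of_le_ne_top (Ideal.IsPrime.ne_top inferInstance) h𝔞le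
    haveI : Nontrivial (A ⧸ maximalIdeal A ^ (n + 1)) := Ideal.Quotient.nontrivial_iff.mpr h𝔞
    haveI : IsLocalRing (A ⧸ maximalIdeal A ^ (n + 1)) :=
      IsLocalRing.of_surjective' (Ideal.Quotient.mk _) Ideal.Quotient.mk_surjective
    have hN : maximalIdeal (A ⧸ maximalIdeal A ^ (n + 1)) ^ (n + 1) = ⊥ := by
      rw [← IsLocalRing.map_maximalIdeal_of_surjective (Ideal.Quotient.mk (maximalIdeal A ^ (n + 1)))
        Ideal.Quotient.mk_surjective, ← Ideal.map_pow, Ideal.map_quotient_self]
    -- the ring `Bn`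
    let π : B →+* (A ⧸ maximalIdeal A ^ (n + 1)) ⊗[A] B :=
      (Algebra.TensorProduct.includeRight :
        B →ₐ[A] (A ⧸ maximalIdeal A ^ (n + 1)) ⊗[A] B).toRingHom
    have hπ : Function.Surjective π := includeRight_surjective Ideal.Quotient.mk_surjective
    -- a map to the residue field of `B`
    have hkill : ∀ a ∈ maximalIdeal A ^ (n + 1), (Algebra.ofId A (ResidueField B)) a = 0 := by
      intro a ha
      change algebraMap A (ResidueField B) a = 0
      rw [IsScalarTower.algebraMap_apply A B (ResidueField B)]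
      change residue B (algebraMap A B a) = 0
      rw [IsLocalRing.residue_eq_zero_iff]
      exact (IsLocalRing.map_maximalIdeal_le (algebraMap A B)) (Ideal.mem_map_of_mem _ (h𝔞le ha))
    let f₁ : (A ⧸ maximalIdeal A ^ (n + 1)) →ₐ[A] ResidueField B :=
      Ideal.Quotient.liftₐ (maximalIdeal A ^ (n + 1)) (Algebra.ofId A (ResidueField B)) hkill
    let ρ : (A ⧸ maximalIdeal A ^ (n + 1)) ⊗[A] B →ₐ[A] ResidueField B :=
      Algebra.TensorProduct.lift f₁ (IsScalarTower.toAlgHom A B (ResidueField B))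
        (fun _ _ => Commute.all _ _)
    haveI : Nontrivial ((A ⧸ maximalIdeal A ^ (n + 1)) ⊗[A] B) :=
      (ρ : (A ⧸ maximalIdeal A ^ (n + 1)) ⊗[A] B →+* ResidueField B).domain_nontrivial
    haveI : IsLocalRing ((A ⧸ maximalIdeal A ^ (n + 1)) ⊗[A] B) :=
      IsLocalRing.of_surjective' π hπ
    haveI : IsNoetherianRing ((A ⧸ maximalIdeal A ^ (n + 1)) ⊗[A] B) :=
      isNoetherianRing_of_surjective B _ π hπ
    haveI : IsAdicComplete (maximalIdeal ((A ⧸ maximalIdeal A ^ (n + 1)) ⊗[A] B))
        ((A ⧸ maximalIdeal A ^ (n + 1)) ⊗[A] B) :=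
      isAdicComplete_of_surjective π hπ
    haveI : IsLocalHom (algebraMap (A ⧸ maximalIdeal A ^ (n + 1))
        ((A ⧸ maximalIdeal A ^ (n + 1)) ⊗[A] B)) := by
      constructor
      intro x hx
      obtain ⟨a, rfl⟩ := Ideal.Quotient.mk_surjective x
      have h1 : IsUnit (ρ (algebraMap (A ⧸ maximalIdeal A ^ (n + 1))
          ((A ⧸ maximalIdeal A ^ (n + 1)) ⊗[A] B) (Ideal.Quotient.mk _ a))) := hx.map ρ
      have h2 : ρ (algebraMap (A ⧸ maximalIdeal A ^ (n + 1))
          ((A ⧸ maximalIdeal A ^ (n + 1)) ⊗[A] B) (Ideal.Quotient.mk _ a)) =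
          residue B (algebraMap A B a) := by
        rw [Algebra.TensorProduct.algebraMap_apply]
        change ρ (Ideal.Quotient.mk _ a ⊗ₜ[A] (1 : B)) = _
        rw [Algebra.TensorProduct.lift_tmul, map_one, mul_one]
        rfl
      rw [h2] at h1
      have h3 : IsUnit (algebraMap A B a) := by
        by_contra h4
        have h5 : residue B (algebraMap A B a) = 0 :=
          (IsLocalRing.residue_eq_zero_iff _).mpr ((IsLocalRing.mem_maximalIdeal _).mpr h4)
        rw [h5] at h1
        exact not_isUnit_zero h1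
      exact (isUnit_of_map_unit (algebraMap A B) a h3).map (Ideal.Quotient.mk _)
    -- formal smoothness of the base change
    have hfs := Groth.Agent.Lib.Helper90.SmoothRegular.isAdicFormallySmooth_baseChange
      (k := A) (k' := A ⧸ maximalIdeal A ^ (n + 1)) (A := B) (maximalIdeal B) hB
    have hmax : (maximalIdeal B).map (Algebra.TensorProduct.includeRight :
        B →ₐ[A] (A ⧸ maximalIdeal A ^ (n + 1)) ⊗[A] B) =
        maximalIdeal ((A ⧸ maximalIdeal A ^ (n + 1)) ⊗[A] B) :=
      IsLocalRing.map_maximalIdeal_of_surjective π hπ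
    rw [hmax] at hfs
    exact flat_of_isFormallySmoothAdic_of_nilpotent hN
      ((Groth.Agent.Lib.Helper21.isAdicFormallySmooth_iff_isFormallySmoothAdic_bot _).mp hfs)

/-- **EGA 0_IV 19.7.1, (a) ⟹ (b)**: a local homomorphism `A → B` of Noetherian local rings which is
formally smooth for the adic topology of `B` is flat. -/
theorem flat_of_isAdicFormallySmooth {A B : Type u} [CommRing A] [IsLocalRing A]
    [IsNoetherianRing A] [CommRing B] [IsLocalRing B] [IsNoetherianRing B] [Algebra A B]
    [IsLocalHom (algebraMap A B)]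
    (hB : CAlgX.IsAdicFormallySmooth A B (maximalIdeal B)) : Module.Flat A B := by
  haveI : IsNoetherianRing (AdicCompletion (maximalIdeal B) B) := Groth.Agent.S0543.result B _
  have h1 : CAlgX.IsAdicFormallySmooth A (AdicCompletion (maximalIdeal B) B)
      (maximalIdeal (AdicCompletion (maximalIdeal B) B)) := by
    rw [AdicCompletion.maximalIdeal_eq_map]
    exact isAdicFormallySmooth_completion_of (maximalIdeal B)
      (IsNoetherian.noetherian (maximalIdeal B)) hB
  haveI : IsLocalHom (algebraMap A (AdicCompletion (maximalIdeal B) B)) := by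
    rw [IsScalarTower.algebraMap_eq A B (AdicCompletion (maximalIdeal B) B)]
    infer_instance
  haveI : Module.Flat A (AdicCompletion (maximalIdeal B) B) :=
    flat_of_isAdicFormallySmooth_of_complete h1
  haveI : Module.FaithfullyFlat B (AdicCompletion (maximalIdeal B) B) :=
    Module.FaithfullyFlat.of_flat_of_isLocalHom
  exact Groth.Agent.Lib.Helper71.FibreCritNoeth.flat_base_of_faithfullyFlat
    (AdicCompletion (maximalIdeal B) B)

/-- Transport of adic formal smoothness along compatible ring isomorphisms of the base and of the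
algebra. -/
theorem isAdicFormallySmooth_of_ringEquiv {k₁ k₂ A₁ A₂ : Type u} [CommRing k₁] [CommRing k₂]
    [CommRing A₁] [CommRing A₂] [Algebra k₁ A₁] [Algebra k₂ A₂] (σ : k₁ ≃+* k₂) (e : A₁ ≃+* A₂)
    (hσe : ∀ x, e (algebraMap k₁ A₁ x) = algebraMap k₂ A₂ (σ x))
    (𝔫₁ : Ideal A₁) (𝔫₂ : Ideal A₂) (h𝔫 : 𝔫₁.map (e : A₁ →+* A₂) ≤ 𝔫₂)
    (h : CAlgX.IsAdicFormallySmooth k₁ A₁ 𝔫₁) : CAlgX.IsAdicFormallySmooth k₂ A₂ 𝔫₂ := by
  intro C _ _ J hJ ψ ⟨m, hm⟩
  letI : Algebra k₁ C := Algebra.compHom C (σ : k₁ →+* k₂)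
  let ψ₁ : A₁ →ₐ[k₁] C ⧸ J :=
    { ((ψ : A₂ →+* C ⧸ J).comp (e : A₁ →+* A₂)) with
      commutes' := fun x => by
        change ψ (e (algebraMap k₁ A₁ x)) = _
        rw [hσe, ψ.commutes]
        rfl }
  obtain ⟨χ₁, hχ₁⟩ := h C J hJ ψ₁ ⟨m, fun x hx => by
    change ψ (e x) = 0
    apply hm
    have h1 : e x ∈ (𝔫₁ ^ m).map (e : A₁ →+* A₂) := Ideal.mem_map_of_mem _ hx
    rw [Ideal.map_pow] at h1
    exact Ideal.pow_right_mono h𝔫 m h1⟩
  let χ : A₂ →ₐ[k₂] C :=
    { ((χ₁ : A₁ →+* C).comp (e.symm : A₂ →+* A₁)) with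
      commutes' := fun y => by
        change χ₁ (e.symm (algebraMap k₂ A₂ y)) = _
        have h1 : e.symm (algebraMap k₂ A₂ y) = algebraMap k₁ A₁ (σ.symm y) := by
          rw [RingEquiv.symm_apply_eq, hσe, RingEquiv.apply_symm_apply]
        rw [h1, χ₁.commutes]
        change algebraMap k₂ C (σ (σ.symm y)) = _
        rw [RingEquiv.apply_symm_apply] }
  refine ⟨χ, ?_⟩
  ext y
  have h1 := AlgHom.congr_fun hχ₁ (e.symm y)
  change Ideal.Quotient.mk J (χ₁ (e.symm y)) = ψ y
  have h2 : ψ₁ (e.symm y) = ψ y := by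
    change ψ (e (e.symm y)) = ψ y
    rw [RingEquiv.apply_symm_apply]
  rw [← h2, ← h1]
  rfl

end Groth.Agent.Lib.Helper47.SmoothFlat
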