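import Mathlib
import Groth.Prelude.Def_CAlgX
import Groth.Agent.Lib.Helper47.AdicSmoothCompletion

/-!
# Adic formal smoothness and completion of the base
-/

set_option autoImplicit false
universe u

namespace Groth.Agent.Lib.Helper47

open AdicCompletion

section Uniq

variable {R : Type u} [CommRing R] (𝔪 : Ideal R)

/-- Every element of the completion is congruent to an element of `R` modulo `𝔪^N R̂`. -/
theorem exists_sub_of_mem_map (fg : 𝔪.FG) (N : ℕ) (x : AdicCompletion 𝔪 R) :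
    ∃ r : R, x - algebraMap R (AdicCompletion 𝔪 R) r ∈
      (𝔪 ^ N).map (algebraMap R (AdicCompletion 𝔪 R)) := by
  obtain ⟨r, hr⟩ := Ideal.Quotient.mk_surjective (AdicCompletion.evalₐ 𝔪 N x)
  refine ⟨r, ?_⟩
  rw [← ker_evalₐ_eq_map 𝔪 fg N, RingHom.mem_ker]
  change (AdicCompletion.evalₐ 𝔪 N) (x - AdicCompletion.of 𝔪 R r) = 0
  rw [map_sub, AdicCompletion.evalₐ_of, hr, sub_self]

/-- Two ring maps out of the completion that agree on `R` and kill `𝔪^N R̂` are equal. -/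
theorem ringHom_ext_of_kill (fg : 𝔪.FG) {B : Type u} [CommRing B] (N : ℕ)
    (α β : AdicCompletion 𝔪 R →+* B)
    (h1 : ∀ r, α (algebraMap R (AdicCompletion 𝔪 R) r) = β (algebraMap R (AdicCompletion 𝔪 R) r))
    (hα : ∀ x ∈ (𝔪 ^ N).map (algebraMap R (AdicCompletion 𝔪 R)), α x = 0)
    (hβ : ∀ x ∈ (𝔪 ^ N).map (algebraMap R (AdicCompletion 𝔪 R)), β x = 0) : α = β := by
  ext x
  obtain ⟨r, hr⟩ := exists_sub_of_mem_map 𝔪 fg N x
  have h2 := hα _ hr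
  have h3 := hβ _ hr
  rw [map_sub, sub_eq_zero] at h2 h3
  rw [h2, h3, h1]

/-- A ring map killing `𝔪^N R̂` modulo a square-zero ideal kills `𝔪^(2N) R̂`. -/
theorem kill_of_kill_mod_sq {A : Type u} [CommRing A] (J : Ideal A) (hJ : J ^ 2 = ⊥) (N : ℕ)
    (α : AdicCompletion 𝔪 R →+* A)
    (hα : ∀ x ∈ (𝔪 ^ N).map (algebraMap R (AdicCompletion 𝔪 R)), α x ∈ J) :
    ∀ x ∈ (𝔪 ^ (2 * N)).map (algebraMap R (AdicCompletion 𝔪 R)), α x = 0 := by
  have h1 : ((𝔪 ^ N).map (algebraMap R (AdicCompletion 𝔪 R))).map α ≤ J := by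
    rw [Ideal.map_le_iff_le_comap]
    exact fun x hx => hα x hx
  have h2 : ((𝔪 ^ (2 * N)).map (algebraMap R (AdicCompletion 𝔪 R))).map α ≤ ⊥ := by
    rw [mul_comm, pow_mul, Ideal.map_pow, Ideal.map_pow, ← hJ]
    exact Ideal.pow_right_mono h1 2
  intro x hx
  simpa using h2 (Ideal.mem_map_of_mem _ hx)

end Uniq

section Main

variable {R S : Type u} [CommRing R] [CommRing S] [Algebra R S] (𝔪 : Ideal R) (𝔫 : Ideal S)
  (ψ : AdicCompletion 𝔪 R →+* AdicCompletion 𝔫 S)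

/-- `ψ` maps `𝔪^{cN} R̂` into `(𝔫 Ŝ)^N`. -/
theorem map_pow_mul_le (c : ℕ) (hc : (𝔪 ^ c).map (algebraMap R S) ≤ 𝔫)
    (hψ : ψ.comp (algebraMap R (AdicCompletion 𝔪 R)) =
      (algebraMap S (AdicCompletion 𝔫 S)).comp (algebraMap R S)) (N : ℕ) :
    ((𝔪 ^ (c * N)).map (algebraMap R (AdicCompletion 𝔪 R))).map ψ ≤
      (𝔫.map (algebraMap S (AdicCompletion 𝔫 S))) ^ N := by
  rw [Ideal.map_map, hψ, ← Ideal.map_map, pow_mul, Ideal.map_pow, Ideal.map_pow]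
  exact Ideal.pow_right_mono (Ideal.map_mono hc) N

theorem isAdicFormallySmooth_completion_base_of (h𝔪 : 𝔪.FG)
    (c : ℕ) (hc : (𝔪 ^ c).map (algebraMap R S) ≤ 𝔫)
    (hψ : ψ.comp (algebraMap R (AdicCompletion 𝔪 R)) =
      (algebraMap S (AdicCompletion 𝔫 S)).comp (algebraMap R S))
    (h : CAlgX.IsAdicFormallySmooth R (AdicCompletion 𝔫 S)
      (𝔫.map (algebraMap S (AdicCompletion 𝔫 S)))) :
    @CAlgX.IsAdicFormallySmooth (AdicCompletion 𝔪 R) _ (AdicCompletion 𝔫 S) _ ψ.toAlgebra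
      (𝔫.map (algebraMap S (AdicCompletion 𝔫 S))) := by
  let _ : Algebra (AdicCompletion 𝔪 R) (AdicCompletion 𝔫 S) := ψ.toAlgebra
  intro A _ instA J hJ ψ' ⟨k, hk⟩
  let _ : Algebra R A :=
    ((algebraMap (AdicCompletion 𝔪 R) A).comp (algebraMap R (AdicCompletion 𝔪 R))).toAlgebra
  have hRA : ∀ r : R, algebraMap R A r =
      algebraMap (AdicCompletion 𝔪 R) A (algebraMap R (AdicCompletion 𝔪 R) r) := fun r => rfl
  have hψ' : ∀ r : R, ψ (algebraMap R (AdicCompletion 𝔪 R) r) =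
      algebraMap R (AdicCompletion 𝔫 S) r := fun r => RingHom.congr_fun hψ r
  -- `ψ'` as an `R`-algebra map
  let ψR : AdicCompletion 𝔫 S →ₐ[R] A ⧸ J :=
    { toRingHom := ψ'.toRingHom
      commutes' := fun r => by
        change ψ' (algebraMap R (AdicCompletion 𝔫 S) r) = _
        rw [← hψ']
        change ψ' (algebraMap (AdicCompletion 𝔪 R) (AdicCompletion 𝔫 S) _) = _
        rw [ψ'.commutes]
        rfl }
  obtain ⟨χ, hχ⟩ := h A J hJ ψR ⟨k, hk⟩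
  have hχ' : ∀ s, Ideal.Quotient.mk J (χ s) = ψ' s := fun s => DFunLike.congr_fun hχ s
  -- `χ` is `R̂`-linear
  have hlin : (χ : AdicCompletion 𝔫 S →+* A).comp ψ = algebraMap (AdicCompletion 𝔪 R) A := by
    refine ringHom_ext_of_kill 𝔪 h𝔪 (2 * (c * k)) _ _ (fun r => ?_) ?_ ?_
    · rw [RingHom.comp_apply, hψ']
      exact χ.commutes r
    · refine kill_of_kill_mod_sq 𝔪 J hJ (c * k) _ fun x hx => ?_
      rw [← Ideal.Quotient.eq_zero_iff_mem]
      change Ideal.Quotient.mk J (χ (ψ x)) = 0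
      rw [hχ']
      exact hk _ (map_pow_mul_le 𝔪 𝔫 ψ c hc hψ k (Ideal.mem_map_of_mem _ hx))
    · refine kill_of_kill_mod_sq 𝔪 J hJ (c * k) _ fun x hx => ?_
      rw [← Ideal.Quotient.eq_zero_iff_mem]
      have : Ideal.Quotient.mk J (algebraMap (AdicCompletion 𝔪 R) A x) =
          ψ' (algebraMap (AdicCompletion 𝔪 R) (AdicCompletion 𝔫 S) x) := (ψ'.commutes x).symm
      rw [this]
      exact hk _ (map_pow_mul_le 𝔪 𝔫 ψ c hc hψ k (Ideal.mem_map_of_mem _ hx))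
  refine ⟨{ toRingHom := χ.toRingHom
            commutes' := fun x => RingHom.congr_fun hlin x }, ?_⟩
  ext s
  exact hχ' s

theorem isAdicFormallySmooth_of_completion_base (h𝔪 : 𝔪.FG)
    (c : ℕ) (hc : (𝔪 ^ c).map (algebraMap R S) ≤ 𝔫)
    (hψ : ψ.comp (algebraMap R (AdicCompletion 𝔪 R)) =
      (algebraMap S (AdicCompletion 𝔫 S)).comp (algebraMap R S))
    (h : @CAlgX.IsAdicFormallySmooth (AdicCompletion 𝔪 R) _ (AdicCompletion 𝔫 S) _ ψ.toAlgebra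
      (𝔫.map (algebraMap S (AdicCompletion 𝔫 S)))) :
    CAlgX.IsAdicFormallySmooth R (AdicCompletion 𝔫 S)
      (𝔫.map (algebraMap S (AdicCompletion 𝔫 S))) := by
  let _ : Algebra (AdicCompletion 𝔪 R) (AdicCompletion 𝔫 S) := ψ.toAlgebra
  intro A _ instA J hJ ψ' ⟨k, hk⟩
  have hψ' : ∀ r : R, ψ (algebraMap R (AdicCompletion 𝔪 R) r) =
      algebraMap R (AdicCompletion 𝔫 S) r := fun r => RingHom.congr_fun hψ r
  -- `R → A` kills `𝔪^(2ck)`
  have hkJ : ∀ r ∈ 𝔪 ^ (c * k), algebraMap R A r ∈ J := fun r hr => by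
    rw [← Ideal.Quotient.eq_zero_iff_mem]
    have : Ideal.Quotient.mk J (algebraMap R A r) =
        ψ' (algebraMap R (AdicCompletion 𝔫 S) r) := (ψ'.commutes r).symm
    rw [this, ← hψ']
    exact hk _ (map_pow_mul_le 𝔪 𝔫 ψ c hc hψ k
      (Ideal.mem_map_of_mem _ (Ideal.mem_map_of_mem _ hr)))
  have hk0 : ∀ r ∈ 𝔪 ^ (2 * (c * k)), algebraMap R A r = 0 := by
    have h1 : (𝔪 ^ (c * k)).map (algebraMap R A) ≤ J := by
      rw [Ideal.map_le_iff_le_comap]; exact hkJ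
    have h2 : (𝔪 ^ (2 * (c * k))).map (algebraMap R A) ≤ ⊥ := by
      rw [mul_comm 2, pow_mul, Ideal.map_pow, ← hJ]
      exact Ideal.pow_right_mono h1 2
    intro r hr
    simpa using h2 (Ideal.mem_map_of_mem _ hr)
  let ρ : AdicCompletion 𝔪 R →+* A :=
    (Ideal.Quotient.lift (𝔪 ^ (2 * (c * k))) (algebraMap R A) hk0).comp
      (AdicCompletion.evalₐ 𝔪 (2 * (c * k))).toRingHom
  have hρ : ∀ r : R, ρ (algebraMap R (AdicCompletion 𝔪 R) r) = algebraMap R A r := fun r => by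
    change (Ideal.Quotient.lift (𝔪 ^ (2 * (c * k))) (algebraMap R A) hk0)
      ((AdicCompletion.evalₐ 𝔪 (2 * (c * k))) (AdicCompletion.of 𝔪 R r)) = _
    rw [AdicCompletion.evalₐ_of, Ideal.Quotient.lift_mk]
  have hρ0 : ∀ x ∈ (𝔪 ^ (2 * (c * k))).map (algebraMap R (AdicCompletion 𝔪 R)), ρ x = 0 := by
    intro x hx
    rw [← ker_evalₐ_eq_map 𝔪 h𝔪, RingHom.mem_ker] at hx
    change (Ideal.Quotient.lift (𝔪 ^ (2 * (c * k))) (algebraMap R A) hk0)
      ((AdicCompletion.evalₐ 𝔪 (2 * (c * k))).toRingHom x) = 0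
    rw [hx, _root_.map_zero]
  let _ : Algebra (AdicCompletion 𝔪 R) A := ρ.toAlgebra
  -- `ψ'` is `R̂`-linear
  have hlin : (ψ' : AdicCompletion 𝔫 S →+* A ⧸ J).comp ψ = (Ideal.Quotient.mk J).comp ρ := by
    refine ringHom_ext_of_kill 𝔪 h𝔪 (2 * (c * k)) _ _ (fun r => ?_) ?_ ?_
    · rw [RingHom.comp_apply, RingHom.comp_apply, hψ', hρ]
      exact ψ'.commutes r
    · intro x hx
      rw [RingHom.comp_apply]
      refine hk _ ?_
      have h3 := map_pow_mul_le 𝔪 𝔫 ψ c hc hψ (2 * k) (by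
        rw [show c * (2 * k) = 2 * (c * k) by ring]
        exact Ideal.mem_map_of_mem _ hx)
      exact Ideal.pow_le_pow_right (by omega) h3
    · intro x hx
      rw [RingHom.comp_apply, hρ0 x hx, _root_.map_zero]
  let ψ₂ : AdicCompletion 𝔫 S →ₐ[AdicCompletion 𝔪 R] A ⧸ J :=
    { toRingHom := ψ'.toRingHom
      commutes' := fun x => RingHom.congr_fun hlin x }
  obtain ⟨χ, hχ⟩ := h A J hJ ψ₂ ⟨k, hk⟩
  refine ⟨{ toRingHom := χ.toRingHom
            commutes' := fun r => ?_ }, ?_⟩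
  · change χ (algebraMap R (AdicCompletion 𝔫 S) r) = _
    rw [← hψ']
    change χ (algebraMap (AdicCompletion 𝔪 R) (AdicCompletion 𝔫 S) _) = _
    rw [χ.commutes]
    exact hρ r
  · ext s
    exact DFunLike.congr_fun hχ s

theorem isAdicFormallySmooth_iff_completion_base (h𝔪 : 𝔪.FG) (h𝔫 : 𝔫.FG)
    (hc : ∃ c : ℕ, (𝔪 ^ c).map (algebraMap R S) ≤ 𝔫)
    (hψ : ψ.comp (algebraMap R (AdicCompletion 𝔪 R)) =
      (algebraMap S (AdicCompletion 𝔫 S)).comp (algebraMap R S)) :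
    CAlgX.IsAdicFormallySmooth R S 𝔫 ↔
      @CAlgX.IsAdicFormallySmooth (AdicCompletion 𝔪 R) _ (AdicCompletion 𝔫 S) _ ψ.toAlgebra
        (𝔫.map (algebraMap S (AdicCompletion 𝔫 S))) := by
  obtain ⟨c, hc⟩ := hc
  rw [isAdicFormallySmooth_iff_completion 𝔫 h𝔫]
  exact ⟨isAdicFormallySmooth_completion_base_of 𝔪 𝔫 ψ h𝔪 c hc hψ,
    isAdicFormallySmooth_of_completion_base 𝔪 𝔫 ψ h𝔪 c hc hψ⟩

end Main

end Groth.Agent.Lib.Helper47
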