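import Mathlib
import Groth.Agent.Lib.Helper47.AdicSmoothCompletion2
import Groth.Agent.Lib.Helper9.TorsionTensor

/-!
# The map of completions induced by a flat local map with `𝔪_A B = 𝔪_B` and trivial residue
extension is bijective
-/

set_option autoImplicit false
universe u

open IsLocalRing AdicCompletion

namespace Groth.Agent.Lib.Helper47

variable (A B : Type u) [CommRing A] [CommRing B] [IsLocalRing A] [IsLocalRing B]
  [IsNoetherianRing A] [IsNoetherianRing B] [Algebra A B] [IsLocalHom (algebraMap A B)]

section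

variable {A B}
variable (hm : Ideal.map (algebraMap A B) (maximalIdeal A) = maximalIdeal B)
  (ψ : AdicCompletion (maximalIdeal A) A →+* AdicCompletion (maximalIdeal B) B)
  (hψ : ψ.comp (algebraMap A (AdicCompletion (maximalIdeal A) A)) =
    (algebraMap B (AdicCompletion (maximalIdeal B) B)).comp (algebraMap A B))

include hm hψ in
omit [IsLocalHom (algebraMap A B)] in
/-- Compatibility of `ψ` with the truncations. -/
theorem evalₐ_map_of_evalₐ (n : ℕ) (x : AdicCompletion (maximalIdeal A) A) (a : A)
    (hx : AdicCompletion.evalₐ (maximalIdeal A) n x = Ideal.Quotient.mk _ a) :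
    AdicCompletion.evalₐ (maximalIdeal B) n (ψ x) = Ideal.Quotient.mk _ (algebraMap A B a) := by
  have h1 : x - algebraMap A _ a ∈
      (maximalIdeal A ^ n).map (algebraMap A (AdicCompletion (maximalIdeal A) A)) := by
    rw [← ker_evalₐ_eq_map _ (maximalIdeal A).fg_of_isNoetherianRing n, RingHom.mem_ker]
    change (AdicCompletion.evalₐ (maximalIdeal A) n) (x - AdicCompletion.of _ A a) = 0
    rw [map_sub, AdicCompletion.evalₐ_of, hx, sub_self]
  have h2 : ψ (x - algebraMap A _ a) ∈
      (maximalIdeal B ^ n).map (algebraMap B (AdicCompletion (maximalIdeal B) B)) := by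
    have h3 := Ideal.mem_map_of_mem ψ h1
    rw [Ideal.map_map, hψ, ← Ideal.map_map, Ideal.map_pow, hm] at h3
    exact h3
  rw [← ker_evalₐ_eq_map _ (maximalIdeal B).fg_of_isNoetherianRing n, RingHom.mem_ker] at h2
  have h4 : ψ (algebraMap A _ a) = AdicCompletion.of _ B (algebraMap A B a) :=
    RingHom.congr_fun hψ a
  have h5 : (AdicCompletion.evalₐ (maximalIdeal B) n) (ψ (x - algebraMap A _ a)) = 0 := h2
  rw [map_sub, map_sub, sub_eq_zero, h4, AdicCompletion.evalₐ_of] at h5
  exact h5

end

theorem completion_map_bijective [Module.Flat A B]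
    (hm : Ideal.map (algebraMap A B) (maximalIdeal A) = maximalIdeal B)
    (hk : Function.Bijective (ResidueField.map (algebraMap A B)))
    (ψ : AdicCompletion (maximalIdeal A) A →+* AdicCompletion (maximalIdeal B) B)
    (hψ : ψ.comp (algebraMap A (AdicCompletion (maximalIdeal A) A)) =
      (algebraMap B (AdicCompletion (maximalIdeal B) B)).comp (algebraMap A B)) :
    Function.Bijective ψ := by
  -- the two element-wise hypotheses of helper9's lemmas
  have hsurj : ∀ b : B, ∃ a : A, b - algebraMap A B a ∈
      (maximalIdeal A).map (algebraMap A B) := by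
    intro b
    obtain ⟨c, hc⟩ := hk.2 (residue B b)
    obtain ⟨a, rfl⟩ := residue_surjective c
    refine ⟨a, ?_⟩
    rw [hm, ← Ideal.Quotient.eq_zero_iff_mem]
    change residue B (b - algebraMap A B a) = 0
    rw [map_sub, sub_eq_zero, ← hc]
    rfl
  have hinj : ∀ a : A, algebraMap A B a ∈ (maximalIdeal A).map (algebraMap A B) →
      a ∈ maximalIdeal A := by
    intro a ha
    rw [hm] at ha
    rw [mem_maximalIdeal, mem_nonunits_iff] at ha ⊢
    exact fun hu => ha (hu.map _)
  have hpow_surj := fun n => Groth.Agent.Lib.Helper9.exists_sub_mem_map_pow (maximalIdeal A) hsurj n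
  have hpow_inj := fun n => Groth.Agent.Lib.Helper9.mem_pow_of_algebraMap_mem_map_pow
    (maximalIdeal A) hsurj hinj n
  have hmn : ∀ n, (maximalIdeal A ^ n).map (algebraMap A B) = maximalIdeal B ^ n := fun n => by
    rw [Ideal.map_pow, hm]
  constructor
  · -- injectivity
    rw [injective_iff_map_eq_zero]
    intro x hx
    refine AdicCompletion.ext_evalₐ fun n => ?_
    obtain ⟨a, ha⟩ := Ideal.Quotient.mk_surjective (AdicCompletion.evalₐ (maximalIdeal A) n x)
    have h1 := evalₐ_map_of_evalₐ hm ψ hψ n x a ha.symm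
    rw [hx, _root_.map_zero] at h1
    have h2 : algebraMap A B a ∈ (maximalIdeal A ^ n).map (algebraMap A B) := by
      rw [hmn]; exact Ideal.Quotient.eq_zero_iff_mem.mp h1.symm
    rw [← ha, _root_.map_zero]
    exact Ideal.Quotient.eq_zero_iff_mem.mpr (hpow_inj n a h2)
  · -- surjectivity
    intro y
    have h1 : ∀ n, ∃ a : A, AdicCompletion.evalₐ (maximalIdeal B) n y =
        Ideal.Quotient.mk _ (algebraMap A B a) := fun n => by
      obtain ⟨b, hb⟩ := Ideal.Quotient.mk_surjective (AdicCompletion.evalₐ (maximalIdeal B) n y)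
      obtain ⟨a, ha⟩ := hpow_surj n b
      refine ⟨a, ?_⟩
      rw [← hb, Ideal.Quotient.eq, ← hmn]
      exact ha
    choose a ha using h1
    have hcauchy : ∀ n, a n ≡ a (n + 1) [SMOD (maximalIdeal A ^ n • ⊤ : Submodule A A)] := by
      intro n
      rw [SModEq.sub_mem, smul_eq_mul, Ideal.mul_top]
      apply hpow_inj n
      rw [hmn, map_sub, ← Ideal.Quotient.eq, ← ha n]
      have h2 := ha (n + 1)
      have h3 := congrArg (Ideal.Quotient.factor (Ideal.pow_le_pow_right (Nat.le_succ n))) h2
      rw [Ideal.Quotient.factor_mk] at h3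
      rw [← h3]
      have h4 : ∀ z : AdicCompletion (maximalIdeal B) B,
          Ideal.Quotient.factor (Ideal.pow_le_pow_right (Nat.le_succ n))
            (AdicCompletion.evalₐ (maximalIdeal B) (n + 1) z) =
          AdicCompletion.evalₐ (maximalIdeal B) n z := by
        intro z
        obtain ⟨z, rfl⟩ := AdicCompletion.mk_surjective _ _ z
        rw [AdicCompletion.evalₐ_mk, AdicCompletion.evalₐ_mk, Ideal.Quotient.factor_mk,
          Ideal.Quotient.eq]
        have := z.property (Nat.le_succ n)
        rw [SModEq.sub_mem, smul_eq_mul, Ideal.mul_top] at this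
        have h5 := neg_mem this
        rwa [neg_sub] at h5
      exact (h4 y).symm
    let x : AdicCompletion (maximalIdeal A) A :=
      AdicCompletion.mk _ A (AdicCompletion.AdicCauchySequence.mk _ A a hcauchy)
    refine ⟨x, AdicCompletion.ext_evalₐ fun n => ?_⟩
    have h6 : AdicCompletion.evalₐ (maximalIdeal A) n x = Ideal.Quotient.mk _ (a n) := by
      rw [AdicCompletion.evalₐ_mk]; rfl
    rw [evalₐ_map_of_evalₐ hm ψ hψ n x (a n) h6, ha n]

end Groth.Agent.Lib.Helper47
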