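import Mathlib
import Groth.Prelude.Def_Found

/-!
# Transport of geometric regularity along semilinear isomorphisms (helper47)
-/

set_option autoImplicit false
set_option linter.style.haveILetI false
universe u
open TensorProduct

namespace Groth.Agent.Lib.Helper47.GeomRegTransport

variable {k₁ k₂ A₁ A₂ : Type u} [Field k₁] [Field k₂] [CommRing A₁] [CommRing A₂]
  [Algebra k₁ A₁] [Algebra k₂ A₂]

/-- base change along a semilinear isomorphism -/
theorem nonempty_tensor_ringEquiv (σ : k₁ ≃+* k₂) (θ : A₁ ≃+* A₂)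
    (hθ : ∀ c, θ (algebraMap k₁ A₁ c) = algebraMap k₂ A₂ (σ c))
    (k' : Type u) [Field k'] [Algebra k₂ k'] :
    letI : Algebra k₁ k' := ((algebraMap k₂ k').comp σ.toRingHom).toAlgebra
    Nonempty ((k' ⊗[k₁] A₁) ≃+* (k' ⊗[k₂] A₂)) := by
  letI : Algebra k₁ k' := ((algebraMap k₂ k').comp σ.toRingHom).toAlgebra
  letI : Algebra k₁ k₂ := σ.toRingHom.toAlgebra
  letI : Algebra k₁ A₂ := ((algebraMap k₂ A₂).comp σ.toRingHom).toAlgebra
  haveI : IsScalarTower k₁ k₂ k' := IsScalarTower.of_algebraMap_eq (fun _ => rfl)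
  haveI : IsScalarTower k₁ k₂ A₂ := IsScalarTower.of_algebraMap_eq (fun _ => rfl)
  let θ' : A₁ ≃ₐ[k₁] A₂ := AlgEquiv.ofRingEquiv (f := θ) hθ
  have hsmul : ∀ (r : k₂) (m : k'), r • m = (σ.symm r) • m := by
    intro r m
    rw [Algebra.smul_def, Algebra.smul_def]
    change _ = algebraMap k₂ k' (σ (σ.symm r)) * m
    rw [σ.apply_symm_apply]
  have hsmul' : ∀ (r : k₂) (n : A₂), r • n = (σ.symm r) • n := by
    intro r n
    rw [Algebra.smul_def, Algebra.smul_def]
    change _ = algebraMap k₂ A₂ (σ (σ.symm r)) * n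
    rw [σ.apply_symm_apply]
  haveI : TensorProduct.CompatibleSMul k₁ k₂ k' A₂ :=
    ⟨fun r m n => by rw [hsmul, hsmul', TensorProduct.smul_tmul]⟩
  haveI : SMulCommClass k₂ k₁ k' :=
    ⟨fun a b c => by rw [Algebra.smul_def, Algebra.smul_def, Algebra.smul_def, Algebra.smul_def,
      mul_left_comm]⟩
  haveI : SMulCommClass k₁ k₂ k' := SMulCommClass.symm _ _ _
  let e2 : (k' ⊗[k₁] A₂) ≃ₐ[k'] (k' ⊗[k₂] A₂) :=
    Algebra.TensorProduct.equivOfCompatibleSMul k₂ k₁ k' k' A₂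
  exact ⟨(Algebra.TensorProduct.congr (AlgEquiv.refl (R := k₁) (A₁ := k')) θ').toRingEquiv.trans
    e2.toRingEquiv⟩

theorem isGeometricallyRegular_of_semilinear (σ : k₁ ≃+* k₂) (θ : A₁ ≃+* A₂)
    (hθ : ∀ c, θ (algebraMap k₁ A₁ c) = algebraMap k₂ A₂ (σ c))
    (h : CAlg.IsGeometricallyRegular k₁ A₁) : CAlg.IsGeometricallyRegular k₂ A₂ := by
  intro k' _ _ hfin
  letI : Algebra k₁ k' := ((algebraMap k₂ k').comp σ.toRingHom).toAlgebra
  letI : Algebra k₁ k₂ := σ.toRingHom.toAlgebra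
  haveI : IsScalarTower k₁ k₂ k' := IsScalarTower.of_algebraMap_eq (fun _ => rfl)
  haveI : Module.Finite k₁ k₂ :=
    Module.Finite.of_surjective (Algebra.linearMap k₁ k₂) σ.surjective
  haveI : Module.Finite k₁ k' := Module.Finite.trans k₂ k'
  obtain ⟨e⟩ := nonempty_tensor_ringEquiv σ θ hθ k'
  haveI := h k' inferInstance
  exact IsRegularRing.of_ringEquiv e

end Groth.Agent.Lib.Helper47.GeomRegTransport
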