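import Groth.Agent.Lib.Helper47.RegularLocal2

/-!
# Regularity of a ring map is local on source and target (helper47)

Transport of flatness / adic formal smoothness of `A_p → B_q` along localization of localizations,
and the statement `A → B` regular iff all `A_p → B_q` regular iff all `A_p → B_n` (n maximal)
regular (`B` Noetherian).
-/

set_option autoImplicit false
set_option linter.style.haveILetI false
universe u
open IsLocalRing TensorProduct

namespace Groth.Agent.Lib.Helper47.RegularLocal

/-- Transport of flatness along compatible ring isomorphisms. -/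
theorem flat_ringEquiv_iff {k₁ k₂ A₁ A₂ : Type u} [CommRing k₁] [CommRing k₂]
    [CommRing A₁] [CommRing A₂] [Algebra k₁ A₁] [Algebra k₂ A₂] (σ : k₁ ≃+* k₂) (e : A₁ ≃+* A₂)
    (hσe : ∀ x, e (algebraMap k₁ A₁ x) = algebraMap k₂ A₂ (σ x)) :
    Module.Flat k₁ A₁ ↔ Module.Flat k₂ A₂ := by
  rw [← RingHom.flat_algebraMap_iff, ← RingHom.flat_algebraMap_iff]
  have h1 : algebraMap k₂ A₂ = ((e : A₁ →+* A₂).comp (algebraMap k₁ A₁)).comp
      (σ.symm : k₂ →+* k₁) := by
    ext y
    simp only [RingHom.comp_apply, RingEquiv.coe_toRingHom]
    rw [hσe, RingEquiv.apply_symm_apply]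
  have h2 : algebraMap k₁ A₁ = ((e.symm : A₂ →+* A₁).comp (algebraMap k₂ A₂)).comp
      (σ : k₁ →+* k₂) := by
    ext y
    simp only [RingHom.comp_apply, RingEquiv.coe_toRingHom]
    rw [← hσe, RingEquiv.symm_apply_apply]
  constructor
  · intro h
    rw [h1]
    exact RingHom.Flat.comp (RingHom.Flat.of_bijective σ.symm.bijective)
      (RingHom.Flat.comp h (RingHom.Flat.of_bijective e.bijective))
  · intro h
    rw [h2]
    exact RingHom.Flat.comp (RingHom.Flat.of_bijective σ.bijective)
      (RingHom.Flat.comp h (RingHom.Flat.of_bijective e.symm.bijective))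

section transport

variable {A B A' B' : Type u} [CommRing A] [CommRing B] [Algebra A B]
  [CommRing A'] [CommRing B'] [Algebra A A'] [Algebra B B'] [Algebra A' B']
  [Algebra A B'] [IsScalarTower A A' B'] [IsScalarTower A B B']
  (M : Submonoid A) [IsLocalization M A'] (N : Submonoid B) [IsLocalization N B']
  (p'' : Ideal A') [p''.IsPrime] (q'' : Ideal B') [q''.IsPrime] [hlo : q''.LiesOver p'']

omit [p''.IsPrime] [q''.IsPrime] in
include hlo in
theorem liesOver_comap :
    (q''.comap (algebraMap B B')).LiesOver (p''.comap (algebraMap A A')) := by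
  constructor
  rw [hlo.over]
  change Ideal.comap (algebraMap A A') (Ideal.comap (algebraMap A' B') q'') =
    Ideal.comap (algebraMap A B) (Ideal.comap (algebraMap B B') q'')
  rw [Ideal.comap_comap, Ideal.comap_comap, ← IsScalarTower.algebraMap_eq,
    ← IsScalarTower.algebraMap_eq]

include M N in
theorem transport :
    haveI := liesOver_comap (A := A) (B := B) p'' q''
    (FS (p''.comap (algebraMap A A')) (q''.comap (algebraMap B B')) ↔ FS p'' q'') ∧
    (FL (p''.comap (algebraMap A A')) (q''.comap (algebraMap B B')) ↔ FL p'' q'') := by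
  haveI hlo' := liesOver_comap (A := A) (B := B) p'' q''
  set p' := p''.comap (algebraMap A A') with hp'
  set q' := q''.comap (algebraMap B B') with hq'
  letI alg' := Localization.AtPrime.algebraOfLiesOver p' q'
  letI alg'' := Localization.AtPrime.algebraOfLiesOver p'' q''
  haveI : IsLocalization.AtPrime (Localization.AtPrime p'') p' :=
    IsLocalization.isLocalization_isLocalization_atPrime_isLocalization M _ p''
  haveI : IsLocalization.AtPrime (Localization.AtPrime q'') q' :=
    IsLocalization.isLocalization_isLocalization_atPrime_isLocalization N _ q''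
  let σ : Localization.AtPrime p' ≃ₐ[A] Localization.AtPrime p'' :=
    IsLocalization.algEquiv p'.primeCompl _ _
  let e : Localization.AtPrime q' ≃ₐ[B] Localization.AtPrime q'' :=
    IsLocalization.algEquiv q'.primeCompl _ _
  have hσe : ∀ x, e.toRingEquiv (algebraMap (Localization.AtPrime p') (Localization.AtPrime q') x) =
      algebraMap (Localization.AtPrime p'') (Localization.AtPrime q'') (σ.toRingEquiv x) := by
    have key : ((e.toRingEquiv : Localization.AtPrime q' →+* Localization.AtPrime q'').comp
        (algebraMap (Localization.AtPrime p') (Localization.AtPrime q'))) =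
        ((algebraMap (Localization.AtPrime p'') (Localization.AtPrime q'')).comp
          (σ.toRingEquiv : Localization.AtPrime p' →+* Localization.AtPrime p'')) := by
      apply IsLocalization.ringHom_ext p'.primeCompl
      ext a
      simp only [RingHom.comp_apply, RingEquiv.coe_toRingHom]
      change e _ = algebraMap _ _ (σ _)
      rw [AlgEquiv.commutes]
      have h1 : algebraMap (Localization.AtPrime p') (Localization.AtPrime q')
          (algebraMap A (Localization.AtPrime p') a) =
          algebraMap B (Localization.AtPrime q') (algebraMap A B a) :=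
        Localization.localRingHom_to_map p' q' (algebraMap A B) _ a
      have h2 : algebraMap (Localization.AtPrime p'') (Localization.AtPrime q'')
          (algebraMap A' (Localization.AtPrime p'') (algebraMap A A' a)) =
          algebraMap B' (Localization.AtPrime q'') (algebraMap A' B' (algebraMap A A' a)) :=
        Localization.localRingHom_to_map p'' q'' (algebraMap A' B') _ _
      rw [h1, AlgEquiv.commutes, IsScalarTower.algebraMap_apply A A' (Localization.AtPrime p''), h2,
        IsScalarTower.algebraMap_apply B B' (Localization.AtPrime q''),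
        ← IsScalarTower.algebraMap_apply A B B', ← IsScalarTower.algebraMap_apply A A' B']
    intro x
    exact congrArg (fun f => f x) key
  refine ⟨?_, ?_⟩
  · refine isAdicFormallySmooth_ringEquiv_iff'
      (k₁ := Localization.AtPrime p') (k₂ := Localization.AtPrime p'')
      (A₁ := Localization.AtPrime q') (A₂ := Localization.AtPrime q'')
      σ.toRingEquiv e.toRingEquiv hσe _ _ ?_
    intro x
    rw [mem_maximalIdeal, mem_maximalIdeal, mem_nonunits_iff, mem_nonunits_iff, not_iff_not]
    exact (isUnit_map_iff e.toRingEquiv x).symm
  · exact flat_ringEquiv_iff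
      (k₁ := Localization.AtPrime p') (k₂ := Localization.AtPrime p'')
      (A₁ := Localization.AtPrime q') (A₂ := Localization.AtPrime q'')
      σ.toRingEquiv e.toRingEquiv hσe

end transport

section assembly

variable {A B : Type u} [CommRing A] [CommRing B] [Algebra A B] [IsNoetherianRing B]

/-- Regularity of `A_{p₀} → B_{q₀}` in terms of the local homomorphisms `A_{p'} → B_{q'}`,
`q' ⊆ q₀`. -/
theorem isRegularHom_localization_iff (p₀ : Ideal A) [p₀.IsPrime] (q₀ : Ideal B) [q₀.IsPrime]
    [q₀.LiesOver p₀] :
    letI := Localization.AtPrime.algebraOfLiesOver p₀ q₀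
    CAlg.IsRegularHom (Localization.AtPrime p₀) (Localization.AtPrime q₀) ↔
      ∀ (q' : Ideal B) [q'.IsPrime], q' ≤ q₀ → FL (q'.under A) q' ∧ FS (q'.under A) q' := by
  letI alg := Localization.AtPrime.algebraOfLiesOver p₀ q₀
  haveI : Localization.AtPrime.IsLiesOverAlgebra p₀ q₀ := ⟨rfl⟩
  rw [isRegularHom_iff_forall_fl_fs]
  constructor
  · intro h q' _ hq'
    have hdisj : Disjoint (q₀.primeCompl : Set B) (q' : Set B) := by
      rw [Set.disjoint_left]
      intro x hx hx'
      exact hx (hq' hx')
    set q'' := q'.map (algebraMap B (Localization.AtPrime q₀)) with hq''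
    haveI : q''.IsPrime := IsLocalization.isPrime_of_isPrime_disjoint q₀.primeCompl _ q'
      inferInstance hdisj
    have hcomap : q''.comap (algebraMap B (Localization.AtPrime q₀)) = q' :=
      IsLocalization.comap_map_of_isPrime_disjoint q₀.primeCompl _ inferInstance hdisj
    obtain ⟨h1, h2⟩ := h q''
    have ht := transport (A := A) (B := B) p₀.primeCompl q₀.primeCompl
      (q''.under (Localization.AtPrime p₀)) q''
    haveI := liesOver_comap (A := A) (B := B) (q''.under (Localization.AtPrime p₀)) q''
    exact ⟨(fl_congr' _ _ _ _ hcomap).mp (ht.2.mpr h1), (fs_congr' _ _ _ _ hcomap).mp (ht.1.mpr h2)⟩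
  · intro h q'' _
    set q' := q''.comap (algebraMap B (Localization.AtPrime q₀)) with hq'
    have hle : q' ≤ q₀ := by
      rw [← Localization.AtPrime.comap_maximalIdeal (I := q₀), hq']
      exact Ideal.comap_mono (IsLocalRing.le_maximalIdeal (Ideal.IsPrime.ne_top inferInstance))
    obtain ⟨h1, h2⟩ := h q' hle
    have ht := transport (A := A) (B := B) p₀.primeCompl q₀.primeCompl
      (q''.under (Localization.AtPrime p₀)) q''
    haveI := liesOver_comap (A := A) (B := B) (q''.under (Localization.AtPrime p₀)) q''
    exact ⟨ht.2.mp ((fl_congr _ _ _).mp h1), ht.1.mp ((fs_congr _ _ _).mp h2)⟩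

/-- **Regularity is local on source and target.** -/
theorem isRegularHom_iff_localizations :
    (CAlg.IsRegularHom A B ↔
      ∀ (q : Ideal B) [q.IsPrime],
        letI := Localization.AtPrime.algebraOfLiesOver (q.under A) q
        CAlg.IsRegularHom (Localization.AtPrime (q.under A)) (Localization.AtPrime q)) ∧
    (CAlg.IsRegularHom A B ↔
      ∀ (n : Ideal B) [n.IsMaximal],
        letI := Localization.AtPrime.algebraOfLiesOver (n.under A) n
        CAlg.IsRegularHom (Localization.AtPrime (n.under A)) (Localization.AtPrime n)) := by
  have key : CAlg.IsRegularHom A B → ∀ (q : Ideal B) [q.IsPrime],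
        letI := Localization.AtPrime.algebraOfLiesOver (q.under A) q
        CAlg.IsRegularHom (Localization.AtPrime (q.under A)) (Localization.AtPrime q) := by
    intro h q _
    rw [isRegularHom_localization_iff]
    intro q' _ _
    exact (isRegularHom_iff_forall_fl_fs.mp h) q'
  refine ⟨⟨key, ?_⟩, ⟨fun h n _ => key h n, ?_⟩⟩
  · intro h
    rw [isRegularHom_iff_forall_fl_fs]
    intro q _
    exact (isRegularHom_localization_iff (q.under A) q).mp (h q) q le_rfl
  · intro h
    rw [isRegularHom_iff_forall_fl_fs]
    intro q _
    obtain ⟨n, hn, hqn⟩ := Ideal.exists_le_maximal q (Ideal.IsPrime.ne_top inferInstance)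
    haveI := hn
    exact (isRegularHom_localization_iff (n.under A) n).mp (h n) q hqn

end assembly

end Groth.Agent.Lib.Helper47.RegularLocal
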