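import Groth.Agent.Lib.Helper47.LocalGenerators
import Mathlib.RingTheory.RegularLocalRing.Defs
import Mathlib.RingTheory.Ideal.KrullsHeightTheorem
import Mathlib.RingTheory.Ideal.GoingDown
import Mathlib.RingTheory.Flat.FaithfullyFlat.Algebra
import Mathlib.RingTheory.LocalRing.ResidueField.Basic

/-!
# Regularity along flat local homomorphisms with `𝔪_R S = 𝔪_S`
-/

set_option autoImplicit false

open IsLocalRing

namespace Groth.Agent.Lib.Helper47

variable {R S : Type*} [CommRing R] [CommRing S] [IsLocalRing R] [IsLocalRing S] [Algebra R S]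
  [IsLocalHom (algebraMap R S)] [Module.Flat R S]

/-- Dimension is preserved. -/
theorem ringKrullDim_eq_of_flat_of_map_maximalIdeal [IsNoetherianRing R] [IsNoetherianRing S]
    (h : (maximalIdeal R).map (algebraMap R S) = maximalIdeal S) :
    ringKrullDim S = ringKrullDim R := by
  have h1 := Ideal.height_eq_height_add_of_liesOver_of_hasGoingDown (maximalIdeal R)
    (maximalIdeal S)
  rw [h] at h1
  have h2 : (maximalIdeal S).map (Ideal.Quotient.mk (maximalIdeal S)) = ⊥ := by
    rw [Ideal.map_quotient_self]
  rw [h2, Ideal.height_bot, add_zero] at h1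
  rw [← IsLocalRing.maximalIdeal_height_eq_ringKrullDim,
    ← IsLocalRing.maximalIdeal_height_eq_ringKrullDim, h1]

/-- The minimal number of generators of the maximal ideal is preserved. -/
theorem spanFinrank_maximalIdeal_eq_of_flat_of_map_maximalIdeal [IsNoetherianRing R]
    [IsNoetherianRing S] (h : (maximalIdeal R).map (algebraMap R S) = maximalIdeal S) :
    (maximalIdeal S).spanFinrank = (maximalIdeal R).spanFinrank := by
  classical
  have hff : Module.FaithfullyFlat R S := Module.FaithfullyFlat.of_flat_of_isLocalHom
  apply le_antisymm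
  · rw [← h]
    exact Ideal.spanFinrank_map_le_of_fg _ (maximalIdeal R).fg_of_isNoetherianRing
  · obtain ⟨t, htG, htcard, htspan⟩ := exists_finset_subset_span_eq_of_isLocalRing
      (maximalIdeal S) (maximalIdeal S).fg_of_isNoetherianRing
      (algebraMap R S '' (maximalIdeal R : Set R)) (by rw [← h]; rfl)
    choose! x hxm hx using fun y (hy : y ∈ (t : Set S)) => htG hy
    let s : Finset R := t.image x
    have hsle : Ideal.span (s : Set R) ≤ maximalIdeal R := by
      rw [Ideal.span_le]
      intro a ha
      obtain ⟨y, hy, rfl⟩ := Finset.mem_image.mp (Finset.mem_coe.mp ha)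
      exact hxm y (Finset.mem_coe.mpr hy)
    have hmap : (Ideal.span (s : Set R)).map (algebraMap R S) =
        (maximalIdeal R).map (algebraMap R S) := by
      rw [h, Ideal.map_span, ← htspan]
      congr 1
      ext y
      simp only [Set.mem_image, Finset.mem_coe, s, Finset.mem_image]
      constructor
      · rintro ⟨a, ⟨y', hy', rfl⟩, rfl⟩
        rw [hx y' (Finset.mem_coe.mpr hy')]; exact hy'
      · intro hy
        exact ⟨x y, ⟨y, hy, rfl⟩, hx y (Finset.mem_coe.mpr hy)⟩
    have heq : Ideal.span (s : Set R) = maximalIdeal R :=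
      Ideal.map_injective_of_faithfullyFlat (B := S) hmap
    calc (maximalIdeal R).spanFinrank = (Ideal.span (s : Set R)).spanFinrank := by rw [heq]
      _ ≤ (s : Set R).ncard := Submodule.spanFinrank_span_le_ncard_of_finite s.finite_toSet
      _ = s.card := Set.ncard_coe_finset s
      _ ≤ t.card := Finset.card_image_le
      _ ≤ (maximalIdeal S).spanFinrank := htcard

/-- Regularity is equivalent. -/
theorem isRegularLocalRing_iff_of_flat_of_map_maximalIdeal [IsNoetherianRing R]
    [IsNoetherianRing S] (h : (maximalIdeal R).map (algebraMap R S) = maximalIdeal S) :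
    IsRegularLocalRing R ↔ IsRegularLocalRing S := by
  rw [isRegularLocalRing_iff, isRegularLocalRing_iff,
    spanFinrank_maximalIdeal_eq_of_flat_of_map_maximalIdeal h,
    ringKrullDim_eq_of_flat_of_map_maximalIdeal h]

end Groth.Agent.Lib.Helper47
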