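import Groth.Agent.Lib.Helper47.RegularLocalFlat2
import Groth.Prelude.Def_Found
import Mathlib.RingTheory.LocalRing.ResidueField.Fiber
import Mathlib.RingTheory.Flat.Localization

set_option autoImplicit false
universe u

open IsLocalRing TensorProduct

namespace Groth.Agent.Lib.Helper47

variable {R S : Type u} [CommRing R] [CommRing S] [Algebra R S]

theorem isRegularRing_fiber_of_isRegularHom (h : CAlg.IsRegularHom R S) (p : Ideal R) [p.IsPrime] :
    IsRegularRing (p.Fiber S) := by
  have h1 := (h.2 p).2 p.ResidueField (Module.Finite.self _)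
  let e' : (p.ResidueField ⊗[p.ResidueField] p.Fiber S) ≃+* p.Fiber S :=
    (Algebra.TensorProduct.lid p.ResidueField (p.Fiber S)).toRingEquiv
  exact IsRegularRing.of_ringEquiv (R := p.ResidueField ⊗[p.ResidueField] p.Fiber S) e'

theorem isRegularLocalRing_localization_comap_of_isRegularHom [IsRegularRing R]
    [IsNoetherianRing S] (h : CAlg.IsRegularHom R S) (p : Ideal R) [p.IsPrime]
    (q : Ideal (p.Fiber S)) [q.IsPrime] :
    IsRegularLocalRing (Localization.AtPrime
      (q.comap (Algebra.TensorProduct.includeRight : S →ₐ[R] p.Fiber S))) := by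
  have hflat : Module.Flat R S := h.1
  have hreg := isRegularRing_fiber_of_isRegularHom h p
  let _ := Localization.AtPrime.algebraOfLiesOver p
    (q.comap (Algebra.TensorProduct.includeRight : S →ₐ[R] p.Fiber S))
  let e := Ideal.Fiber.localizationAlgEquivQuotient p q
  have h1 : IsRegularLocalRing (Localization.AtPrime q) := inferInstance
  let e' : Localization.AtPrime q ≃+* (Localization.AtPrime
      (q.comap (Algebra.TensorProduct.includeRight : S →ₐ[R] p.Fiber S)) ⧸
      p.map (algebraMap R (Localization.AtPrime
        (q.comap (Algebra.TensorProduct.includeRight : S →ₐ[R] p.Fiber S))))) := e.toRingEquiv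
  have h2 := IsRegularLocalRing.of_ringEquiv (R := Localization.AtPrime q) e'
  have hloc : IsLocalHom (algebraMap (Localization.AtPrime p) (Localization.AtPrime
      (q.comap (Algebra.TensorProduct.includeRight : S →ₐ[R] p.Fiber S)))) := by
    change IsLocalHom (Localization.localRingHom p _ (algebraMap R S) _)
    infer_instance
  have hideal : (maximalIdeal (Localization.AtPrime p)).map (algebraMap (Localization.AtPrime p)
      (Localization.AtPrime (q.comap (Algebra.TensorProduct.includeRight : S →ₐ[R] p.Fiber S)))) =
      p.map (algebraMap R (Localization.AtPrime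
        (q.comap (Algebra.TensorProduct.includeRight : S →ₐ[R] p.Fiber S)))) := by
    rw [← Localization.AtPrime.map_eq_maximalIdeal, Ideal.map_map, ← IsScalarTower.algebraMap_eq]
  apply isRegularLocalRing_of_flat_of_isRegularLocalRing_quotient (A := Localization.AtPrime p)
  exact IsRegularLocalRing.of_ringEquiv (Ideal.quotEquivOfEq hideal.symm)

theorem isRegularRing_of_isRegularHom [IsRegularRing R] [IsNoetherianRing S]
    (h : CAlg.IsRegularHom R S) : IsRegularRing S := by
  rw [isRegularRing_iff]
  intro r hr
  let p : Ideal R := r.comap (algebraMap R S)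
  let x : PrimeSpectrum.comap (algebraMap R S) ⁻¹' {(⟨p, inferInstance⟩ : PrimeSpectrum R)} :=
    ⟨⟨r, hr⟩, rfl⟩
  let q := PrimeSpectrum.preimageEquivFiber R S ⟨p, inferInstance⟩ x
  have hq : (PrimeSpectrum.preimageEquivFiber R S ⟨p, inferInstance⟩).symm q = x :=
    (PrimeSpectrum.preimageEquivFiber R S ⟨p, inferInstance⟩).symm_apply_apply x
  have hq' : q.asIdeal.comap (Algebra.TensorProduct.includeRight : S →ₐ[R] p.Fiber S) = r := by
    have := congrArg (fun y => y.1.asIdeal) hq
    exact this
  have key := isRegularLocalRing_localization_comap_of_isRegularHom h p q.asIdeal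
  have aux : ∀ (r' : Ideal S) [r'.IsPrime], r' = r →
      IsRegularLocalRing (Localization.AtPrime r') → IsRegularLocalRing (Localization.AtPrime r) := by
    intro r' _ e
    subst e
    exact id
  exact aux _ hq' key

end Groth.Agent.Lib.Helper47
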