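import Mathlib
import Groth.Prelude.Def_FSch3

/-!
# Completions along ideals defining the same topology; finiteness of completed local maps
(helper47)
-/

set_option autoImplicit false
set_option linter.style.haveILetI false
universe u
open IsLocalRing

namespace Groth.Agent.Lib.Helper47.ComplMap

section eval

variable {S T : Type u} [CommRing S] [CommRing T] (I : Ideal S) (K : Ideal T) (g : S →+* T)

set_option backward.isDefEq.respectTransparency false in
theorem evalₐ_complMap (h : I.map g ≤ K) (n : ℕ) (x : AdicCompletion I S) :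
    AdicCompletion.evalₐ K n (FSch.complMap I K g h x) =
      Ideal.quotientMap (K ^ n) g (FSch.pow_le_comap_pow_of_map_le I K g h n)
        (AdicCompletion.evalₐ I n x) := by
  unfold FSch.complMap
  apply AdicCompletion.evalₐ_liftRingHom
  intro m n hle
  apply RingHom.ext
  intro x
  obtain ⟨y, rfl⟩ := AdicCompletion.mk_surjective I S x
  simp only [RingHom.coe_comp, Function.comp_apply, AlgHom.toRingHom_eq_coe, AlgHom.coe_toRingHom,
    AdicCompletion.evalₐ_mk, Ideal.quotientMap_mk, Ideal.Quotient.factorPow, Ideal.Quotient.factor_mk]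
  rw [Ideal.Quotient.eq]
  have hy := y.2 hle
  rw [SModEq.sub_mem] at hy
  simp only [smul_eq_mul, Ideal.mul_top] at hy
  rw [← map_sub]
  have hy' : (y : ℕ → S) n - (y : ℕ → S) m ∈ I ^ m := by
    rw [← neg_sub]; exact (I ^ m).neg_mem hy
  exact FSch.pow_le_comap_pow_of_map_le I K g h m hy'

theorem evalₐ_complMap_mk (h : I.map g ≤ K) (n : ℕ) (c : AdicCompletion.AdicCauchySequence I S) :
    AdicCompletion.evalₐ K n (FSch.complMap I K g h (AdicCompletion.mk I S c)) =
      Ideal.Quotient.mk (K ^ n) (g (c.val n)) := by
  rw [evalₐ_complMap, AdicCompletion.evalₐ_mk, Ideal.quotientMap_mk]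

end eval

section sameTopology

variable {S : Type u} [CommRing S] (I J : Ideal S)

/-- If `I ≤ J` and `J ^ t ≤ I`, the canonical map between the completions is bijective. -/
theorem complMap_id_bijective (h' : I.map (RingHom.id S) ≤ J) (t : ℕ) (hJt : J ^ t ≤ I) :
    Function.Bijective (FSch.complMap I J (RingHom.id S) h') := by
  have hIJ : I ≤ J := by simpa using h'
  -- WLOG t ≥ 1
  obtain ⟨t, ht1, hJt⟩ : ∃ t, 1 ≤ t ∧ J ^ t ≤ I :=
    ⟨t + 1, by omega, (Ideal.pow_le_pow_right (Nat.le_succ t)).trans hJt⟩
  have hpow : ∀ n, J ^ (t * n) ≤ I ^ n := fun n => by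
    rw [pow_mul]; exact Ideal.pow_right_mono hJt n
  have hle : ∀ n, n ≤ t * n := fun n => Nat.le_mul_of_pos_left n ht1
  constructor
  · rw [injective_iff_map_eq_zero]
    intro x hx
    obtain ⟨c, rfl⟩ := AdicCompletion.mk_surjective I S x
    apply AdicCompletion.ext_evalₐ
    intro n
    rw [map_zero, AdicCompletion.evalₐ_mk, Ideal.Quotient.eq_zero_iff_mem]
    have h1 : c.val (t * n) ∈ J ^ (t * n) := by
      have := congrArg (AdicCompletion.evalₐ J (t * n)) hx
      rw [evalₐ_complMap_mk, map_zero, Ideal.Quotient.eq_zero_iff_mem] at this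
      exact this
    have h2 : c.val n - c.val (t * n) ∈ I ^ n := by
      have := c.2 (hle n)
      rw [SModEq.sub_mem] at this
      simpa using this
    have h3 : c.val n = (c.val n - c.val (t * n)) + c.val (t * n) := by ring
    rw [h3]
    exact Ideal.add_mem _ h2 (hpow n h1)
  · intro y
    obtain ⟨d, rfl⟩ := AdicCompletion.mk_surjective J S y
    have hc : ∀ n, d.val (t * n) ≡ d.val (t * (n + 1)) [SMOD (I ^ n • ⊤ : Submodule S S)] := by
      intro n
      rw [SModEq.sub_mem]
      have := d.2 (show t * n ≤ t * (n + 1) by nlinarith)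
      rw [SModEq.sub_mem] at this
      simp only [smul_eq_mul, Ideal.mul_top] at this ⊢
      exact hpow n this
    refine ⟨AdicCompletion.mk I S (AdicCompletion.AdicCauchySequence.mk I S (fun n => d.val (t * n)) hc), ?_⟩
    apply AdicCompletion.ext_evalₐ
    intro n
    rw [evalₐ_complMap_mk, AdicCompletion.evalₐ_mk, RingHom.id_apply, Ideal.Quotient.eq]
    change d.val (t * n) - d.val n ∈ J ^ n
    have := d.2 (hle n)
    rw [SModEq.sub_mem] at this
    simp only [smul_eq_mul, Ideal.mul_top] at this
    rw [← neg_sub]
    exact (J ^ n).neg_mem this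

end sameTopology

section nakayama

open Submodule in
/-- A finite module over an `I`-adically precomplete ring is `I`-adically precomplete
(copied from helper3 / helper48). -/
theorem isPrecomplete_of_finite' {R : Type*} [CommRing R] (I : Ideal R) [IsPrecomplete I R]
    (M : Type*) [AddCommGroup M] [Module R M] [Module.Finite R M] : IsPrecomplete I M := by
  rw [← AdicCompletion.of_surjective_iff]
  intro y
  obtain ⟨t, rfl⟩ := AdicCompletion.ofTensorProduct_surjective_of_finite I M y
  induction t using TensorProduct.induction_on with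
  | zero => exact ⟨0, by simp⟩
  | tmul r x =>
    obtain ⟨r, rfl⟩ := AdicCompletion.of_surjective I R r
    refine ⟨r • x, ?_⟩
    rw [AdicCompletion.ofTensorProduct_tmul, map_smul]
    have h1 : AdicCompletion.of I R r = r • (1 : AdicCompletion I R) := by
      rw [← Algebra.algebraMap_eq_smul_one, AdicCompletion.algebraMap_apply,
        Algebra.algebraMap_self, RingHom.id_apply]
    rw [h1, smul_assoc, one_smul]
  | add a b ha hb =>
    obtain ⟨a', ha'⟩ := ha
    obtain ⟨b', hb'⟩ := hb
    exact ⟨a' + b', by rw [map_add, ha', hb', map_add]⟩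

/-- Complete Nakayama (copied from helper48's `Tate`): over an `I`-adically precomplete ring, an
`I`-adically separated module which is generated modulo `I` by a finitely generated submodule is
finite. -/
theorem finite_of_isPrecomplete_of_isHausdorff {R : Type*} [CommRing R] (I : Ideal R)
    [IsPrecomplete I R] {M : Type*} [AddCommGroup M] [Module R M] [IsHausdorff I M]
    (T : Submodule R M) (hT : T.FG)
    (h : ∀ m : M, ∃ t ∈ T, m - t ∈ I • (⊤ : Submodule R M)) : Module.Finite R M := by
  obtain ⟨n, s, hs⟩ := Submodule.fg_iff_exists_fin_generating_family.mp hT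
  haveI : IsPrecomplete I (Fin n → R) := isPrecomplete_of_finite' I (Fin n → R)
  let f : (Fin n → R) →ₗ[R] M := Fintype.linearCombination R s
  have hf : Function.Surjective f := by
    apply surjective_of_mkQ_comp_surjective (I := I)
    intro z
    obtain ⟨m, rfl⟩ := Submodule.mkQ_surjective _ z
    obtain ⟨t, ht, hmt⟩ := h m
    have ht' : t ∈ LinearMap.range f := by
      rw [Fintype.range_linearCombination, hs]; exact ht
    obtain ⟨c, rfl⟩ := ht'
    refine ⟨c, ?_⟩
    rw [LinearMap.comp_apply, eq_comm]
    exact (Submodule.Quotient.eq _).mpr hmt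
  exact Module.Finite.of_surjective f hf

end nakayama

section local_

open TensorProduct

variable (R S : Type u) [CommRing R] [CommRing S] [IsLocalRing R] [IsLocalRing S] [Algebra R S]
  [IsLocalHom (algebraMap R S)]

/-- The closed fibre as a quotient. -/
noncomputable def fibreEquiv :
    (maximalIdeal R).Fiber S ≃ₐ[R] S ⧸ (maximalIdeal R).map (algebraMap R S) :=
  (Algebra.TensorProduct.congr (.symm <| .ofBijective _
    (Ideal.bijective_algebraMap_quotient_residueField (maximalIdeal R))) .refl).trans <|
  (Algebra.TensorProduct.comm _ _ _).trans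
  ((Algebra.TensorProduct.quotIdealMapEquivTensorQuot S (maximalIdeal R)).symm.restrictScalars _)

variable {R S}

theorem map_maximalIdeal_le : (maximalIdeal R).map (algebraMap R S) ≤ maximalIdeal S :=
  ((IsLocalRing.local_hom_TFAE (algebraMap R S)).out 0 2).mp ‹IsLocalHom (algebraMap R S)›

/-- If the closed fibre is finite over the residue field, some power of `𝔫` lies in `𝔪 S`. -/
theorem exists_pow_le_map
    (hfib : Module.Finite (maximalIdeal R).ResidueField ((maximalIdeal R).Fiber S)) :
    ∃ t : ℕ, maximalIdeal S ^ t ≤ (maximalIdeal R).map (algebraMap R S) := by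
  set I := (maximalIdeal R).map (algebraMap R S) with hI
  have hIn : I ≤ maximalIdeal S := map_maximalIdeal_le
  haveI : IsArtinianRing ((maximalIdeal R).Fiber S) :=
    IsArtinianRing.of_finite (maximalIdeal R).ResidueField _
  haveI : IsArtinianRing (S ⧸ I) :=
    (fibreEquiv R S).surjective.isArtinianRing (F := (maximalIdeal R).Fiber S ≃ₐ[R] S ⧸ I)
  haveI : Nontrivial (S ⧸ I) :=
    Ideal.Quotient.nontrivial_iff.mpr (fun h => (maximalIdeal.isMaximal S).ne_top (top_le_iff.mp (h ▸ hIn)))
  haveI : IsLocalRing (S ⧸ I) :=
    IsLocalRing.of_surjective' (Ideal.Quotient.mk I) Ideal.Quotient.mk_surjective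
  have hnil : IsNilpotent (Ideal.jacobson (⊥ : Ideal (S ⧸ I))) :=
    IsArtinianRing.isNilpotent_jacobson_bot
  rw [IsLocalRing.jacobson_eq_maximalIdeal ⊥ bot_ne_top] at hnil
  obtain ⟨t, ht⟩ := hnil
  refine ⟨t, ?_⟩
  have hmax : (maximalIdeal S).map (Ideal.Quotient.mk I) = maximalIdeal (S ⧸ I) := by
    apply le_antisymm
    · haveI : IsLocalHom (Ideal.Quotient.mk I) :=
        IsLocalHom.of_surjective _ Ideal.Quotient.mk_surjective
      exact IsLocalRing.map_maximalIdeal_le (Ideal.Quotient.mk I)
    · intro x hx
      obtain ⟨s, rfl⟩ := Ideal.Quotient.mk_surjective x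
      refine Ideal.mem_map_of_mem _ ?_
      rw [mem_maximalIdeal, mem_nonunits_iff] at hx ⊢
      intro hu
      exact hx (hu.map _)
  intro x hx
  have h1 : Ideal.Quotient.mk I x ∈ maximalIdeal (S ⧸ I) ^ t := by
    rw [← hmax, ← Ideal.map_pow]
    exact Ideal.mem_map_of_mem _ hx
  rw [ht] at h1
  exact Ideal.Quotient.eq_zero_iff_mem.mp ((Ideal.mem_bot).mp h1)

end local_

section finite

variable {R S : Type u} [CommRing R] [CommRing S]

theorem complMap_algebraMap (I : Ideal R) (J : Ideal S) (g : R →+* S) (h : I.map g ≤ J) (r : R) :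
    FSch.complMap I J g h (algebraMap R (AdicCompletion I R) r) =
      algebraMap S (AdicCompletion J S) (g r) := by
  apply AdicCompletion.ext_evalₐ
  intro n
  rw [evalₐ_complMap, AdicCompletion.algebraMap_apply, AdicCompletion.algebraMap_apply,
    AdicCompletion.evalₐ_of, AdicCompletion.evalₐ_of, Ideal.quotientMap_mk]
  rfl

theorem map_complMap_map (I : Ideal R) (J : Ideal S) (g : R →+* S) (h : I.map g ≤ J)
    (𝔞 : Ideal R) :
    (𝔞.map (algebraMap R (AdicCompletion I R))).map (FSch.complMap I J g h) =
      (𝔞.map g).map (algebraMap S (AdicCompletion J S)) := by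
  have e : (FSch.complMap I J g h).comp (algebraMap R (AdicCompletion I R)) =
      (algebraMap S (AdicCompletion J S)).comp g := RingHom.ext (complMap_algebraMap I J g h)
  rw [Ideal.map_map, Ideal.map_map, e]

/-- Membership in the kernel of `evalₐ`. -/
theorem mem_map_pow_of_evalₐ_eq_zero (J : Ideal S) (hJ : J.FG) (n : ℕ)
    (y : AdicCompletion J S) (hy : AdicCompletion.evalₐ J n y = 0) :
    y ∈ (J ^ n).map (algebraMap S (AdicCompletion J S)) := by
  have h1 : y ∈ (AdicCompletion.eval J S n).ker := by
    rw [LinearMap.mem_ker]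
    have := AdicCompletion.factor_evalₐ_eq_eval J y (n := n) (by simp)
    rw [← this, hy, map_zero]
  rw [← AdicCompletion.pow_smul_top_eq_ker_eval hJ] at h1
  rw [← Submodule.restrictScalars_mem S, ← Ideal.smul_top_eq_map]
  exact h1

end finite

section finiteLocal

variable {R S : Type u} [CommRing R] [CommRing S]
  [IsLocalRing R] [IsLocalRing S] [Algebra R S] [IsLocalHom (algebraMap R S)]

omit [IsLocalRing S] [IsLocalHom (algebraMap R S)] in
theorem finite_quotient_map
    (hfib : Module.Finite (maximalIdeal R).ResidueField ((maximalIdeal R).Fiber S)) :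
    Module.Finite R (S ⧸ (maximalIdeal R).map (algebraMap R S)) := by
  haveI : Module.Finite R (maximalIdeal R).ResidueField :=
    Module.Finite.of_surjective (Algebra.linearMap R (maximalIdeal R).ResidueField)
      (Ideal.algebraMap_residueField_surjective (maximalIdeal R))
  haveI : Module.Finite R ((maximalIdeal R).Fiber S) :=
    Module.Finite.trans (maximalIdeal R).ResidueField _
  exact Module.Finite.equiv (fibreEquiv R S).toLinearEquiv

theorem complMap_finite (hm : (maximalIdeal R).FG) (hn : (maximalIdeal S).FG)
    (hfib : Module.Finite (maximalIdeal R).ResidueField ((maximalIdeal R).Fiber S))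
    (h : (maximalIdeal R).map (algebraMap R S) ≤ maximalIdeal S) :
    (FSch.complMap (maximalIdeal R) (maximalIdeal S) (algebraMap R S) h).Finite := by
  set φ := FSch.complMap (maximalIdeal R) (maximalIdeal S) (algebraMap R S) h with hφ
  letI : Algebra (AdicCompletion (maximalIdeal R) R) (AdicCompletion (maximalIdeal S) S) :=
    φ.toAlgebra
  change Module.Finite (AdicCompletion (maximalIdeal R) R) (AdicCompletion (maximalIdeal S) S)
  have halg : algebraMap (AdicCompletion (maximalIdeal R) R) (AdicCompletion (maximalIdeal S) S)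
      = φ := rfl
  set mh := (maximalIdeal R).map (algebraMap R (AdicCompletion (maximalIdeal R) R)) with hmh
  set nh := (maximalIdeal S).map (algebraMap S (AdicCompletion (maximalIdeal S) S)) with hnh
  haveI c1 : IsAdicComplete mh (AdicCompletion (maximalIdeal R) R) :=
    AdicCompletion.isAdicComplete_self (maximalIdeal R) hm
  haveI c2 : IsAdicComplete nh (AdicCompletion (maximalIdeal S) S) :=
    AdicCompletion.isAdicComplete_self (maximalIdeal S) hn
  have hmap : mh.map (algebraMap (AdicCompletion (maximalIdeal R) R)
      (AdicCompletion (maximalIdeal S) S)) =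
      ((maximalIdeal R).map (algebraMap R S)).map
        (algebraMap S (AdicCompletion (maximalIdeal S) S)) := by
    rw [halg, hmh, hφ, map_complMap_map]
  have hIJ : mh.map (algebraMap (AdicCompletion (maximalIdeal R) R)
      (AdicCompletion (maximalIdeal S) S)) ≤ nh := by
    rw [hmap]; exact Ideal.map_mono h
  haveI : IsHausdorff mh (AdicCompletion (maximalIdeal S) S) :=
    IsHausdorff.of_map (I := mh) (J := nh) hIJ
  -- generators of S / 𝔪 S
  haveI := finite_quotient_map hfib
  obtain ⟨k, a, ha⟩ := Module.Finite.exists_fin (R := R)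
    (M := S ⧸ (maximalIdeal R).map (algebraMap R S))
  let a' : Fin k → S := fun i => Function.surjInv Ideal.Quotient.mk_surjective (a i)
  have ha' : ∀ i, Ideal.Quotient.mk ((maximalIdeal R).map (algebraMap R S)) (a' i) = a i :=
    fun i => Function.surjInv_eq Ideal.Quotient.mk_surjective (a i)
  let N : Submodule R S := Submodule.span R (Set.range a')
  have hN : ∀ s : S, ∃ n ∈ N, s - n ∈ (maximalIdeal R).map (algebraMap R S) := by
    intro s
    have h1 : N.map (Ideal.Quotient.mkₐ R ((maximalIdeal R).map (algebraMap R S))).toLinearMap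
        = ⊤ := by
      rw [Submodule.map_span, ← Set.range_comp, ← ha]
      congr 2
      ext i
      exact ha' i
    have h2 : Ideal.Quotient.mk ((maximalIdeal R).map (algebraMap R S)) s ∈
        N.map (Ideal.Quotient.mkₐ R ((maximalIdeal R).map (algebraMap R S))).toLinearMap := by
      rw [h1]; trivial
    obtain ⟨n, hn, hns⟩ := h2
    refine ⟨n, hn, ?_⟩
    rw [← Ideal.Quotient.eq]
    exact hns.symm
  let T : Submodule (AdicCompletion (maximalIdeal R) R) (AdicCompletion (maximalIdeal S) S) :=
    Submodule.span _ (Set.range fun i => algebraMap S (AdicCompletion (maximalIdeal S) S) (a' i))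
  have hT : T.FG := Submodule.fg_span (Set.finite_range _)
  have hNT : ∀ n ∈ N, algebraMap S (AdicCompletion (maximalIdeal S) S) n ∈ T := by
    intro n hn
    induction hn using Submodule.span_induction with
    | mem x hx =>
      obtain ⟨i, rfl⟩ := hx
      exact Submodule.subset_span ⟨i, rfl⟩
    | zero => rw [map_zero]; exact T.zero_mem
    | add x y _ _ hx hy => rw [map_add]; exact T.add_mem hx hy
    | smul r x _ hx =>
      have : algebraMap S (AdicCompletion (maximalIdeal S) S) (r • x) =
          (algebraMap R (AdicCompletion (maximalIdeal R) R) r) •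
            algebraMap S (AdicCompletion (maximalIdeal S) S) x := by
        rw [Algebra.smul_def, map_mul, Algebra.smul_def, halg, hφ, complMap_algebraMap]
      rw [this]
      exact T.smul_mem _ hx
  obtain ⟨t₀, ht₀⟩ := exists_pow_le_map hfib
  apply finite_of_isPrecomplete_of_isHausdorff mh T hT
  intro y
  obtain ⟨s, hs⟩ := Ideal.Quotient.mk_surjective (AdicCompletion.evalₐ (maximalIdeal S) t₀ y)
  obtain ⟨n, hnN, hsn⟩ := hN s
  refine ⟨algebraMap S (AdicCompletion (maximalIdeal S) S) n, hNT n hnN, ?_⟩
  rw [Ideal.smul_top_eq_map, Submodule.restrictScalars_mem, hmap]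
  have e : y - algebraMap S (AdicCompletion (maximalIdeal S) S) n =
      (y - algebraMap S (AdicCompletion (maximalIdeal S) S) s) +
        algebraMap S (AdicCompletion (maximalIdeal S) S) (s - n) := by
    rw [map_sub]; ring
  rw [e]
  refine Ideal.add_mem _ ?_ (Ideal.mem_map_of_mem _ hsn)
  have h3 : y - algebraMap S (AdicCompletion (maximalIdeal S) S) s ∈
      (maximalIdeal S ^ t₀).map (algebraMap S (AdicCompletion (maximalIdeal S) S)) := by
    apply mem_map_pow_of_evalₐ_eq_zero _ hn
    rw [map_sub, AdicCompletion.algebraMap_apply, Algebra.algebraMap_self, RingHom.id_apply,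
      AdicCompletion.evalₐ_of, hs, sub_self]
  exact Ideal.map_mono ht₀ h3

end finiteLocal

end Groth.Agent.Lib.Helper47.ComplMap
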