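import Groth.Agent.Lib.Helper85.RegularLocal
import Mathlib.RingTheory.Localization.Ideal
import Mathlib.RingTheory.Ideal.Over
import Mathlib.RingTheory.Localization.AtPrime.Basic
import Mathlib.RingTheory.Derivation.Basic

/-!
# Regularity of `R ⧸ (f)` via derivations (the Jacobian criterion in its simplest form)
-/

set_option autoImplicit false
universe u

open IsLocalRing

namespace Groth.Agent.Lib.Helper47

variable {R : Type u} [CommRing R]

/-- The localisation of a quotient at a prime is the quotient of the localisation. -/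
theorem nonempty_localization_quotient_ringEquiv (I : Ideal R) (Q : Ideal (R ⧸ I)) [Q.IsPrime] :
    Nonempty (Localization.AtPrime Q ≃+*
      (Localization.AtPrime (Q.comap (Ideal.Quotient.mk I)) ⧸
        I.map (algebraMap R (Localization.AtPrime (Q.comap (Ideal.Quotient.mk I)))))) := by
  have hlo : Q.LiesOver (Q.comap (Ideal.Quotient.mk I)) := ⟨rfl⟩
  have h1 : Algebra.algebraMapSubmonoid (R ⧸ I) (Q.comap (Ideal.Quotient.mk I)).primeCompl =
      Q.primeCompl :=
    Ideal.algebraMapSubmonoid_primeCompl_of_liesOver_surjective Q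
      (Q.comap (Ideal.Quotient.mk I)) Ideal.Quotient.mk_surjective
  have h2 : IsLocalization (Algebra.algebraMapSubmonoid (R ⧸ I)
      (Q.comap (Ideal.Quotient.mk I)).primeCompl)
      (Localization.AtPrime (Q.comap (Ideal.Quotient.mk I)) ⧸
        I.map (algebraMap R (Localization.AtPrime (Q.comap (Ideal.Quotient.mk I))))) :=
    inferInstance
  rw [h1] at h2
  exact ⟨(IsLocalization.algEquiv Q.primeCompl (Localization.AtPrime Q) _).toRingEquiv⟩

/-- A derivation maps the square of an ideal into the ideal. -/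
theorem derivation_mem_of_mem_sq (D : Derivation ℤ R R) (q : Ideal R) {x : R} (hx : x ∈ q ^ 2) :
    D x ∈ q := by
  rw [pow_two] at hx
  refine Submodule.mul_induction_on hx (fun a ha b hb => ?_) (fun x y hx hy => ?_)
  · rw [D.leibniz, smul_eq_mul, smul_eq_mul]
    exact q.add_mem (q.mul_mem_right _ ha) (q.mul_mem_right _ hb)
  · rw [map_add]
    exact q.add_mem hx hy

/-- If `D f ∉ q` then `f` is not in the square of the maximal ideal of `R_q`. -/
theorem algebraMap_notMem_maximalIdeal_sq_of_derivation (D : Derivation ℤ R R) (f : R)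
    (q : Ideal R) [q.IsPrime] (hf : f ∈ q) (hD : D f ∉ q) :
    algebraMap R (Localization.AtPrime q) f ∉ maximalIdeal (Localization.AtPrime q) ^ 2 := by
  intro h
  rw [← Localization.AtPrime.map_eq_maximalIdeal, ← Ideal.map_pow,
    IsLocalization.algebraMap_mem_map_algebraMap_iff q.primeCompl] at h
  obtain ⟨s, hs, hsf⟩ := h
  have h1 := derivation_mem_of_mem_sq D q hsf
  rw [D.leibniz, smul_eq_mul, smul_eq_mul] at h1
  have h2 : s * D f ∈ q := by
    have h3 : f * D s ∈ q := q.mul_mem_right _ hf
    exact (Ideal.add_mem_iff_left q h3).mp h1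
  rcases (Ideal.IsPrime.mem_or_mem inferInstance h2) with h4 | h4
  · exact hs h4
  · exact hD h4

/-- If every prime `q ∋ f` has `D f ∉ q`, then `R ⧸ (f)` is regular. -/
theorem isRegularRing_quotient_span_singleton_of_derivation [IsRegularRing R] (f : R)
    (D : Derivation ℤ R R)
    (hD : IsUnit (Ideal.Quotient.mk (Ideal.span {f}) (D f))) :
    IsRegularRing (R ⧸ Ideal.span ({f} : Set R)) := by
  rw [isRegularRing_iff]
  intro Q hQ
  obtain ⟨e⟩ := nonempty_localization_quotient_ringEquiv (Ideal.span {f}) Q
  set q := Q.comap (Ideal.Quotient.mk (Ideal.span ({f} : Set R))) with hq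
  have hfq : f ∈ q := by
    rw [hq, Ideal.mem_comap]
    have : Ideal.Quotient.mk (Ideal.span ({f} : Set R)) f = 0 :=
      Ideal.Quotient.eq_zero_iff_mem.mpr (Ideal.subset_span rfl)
    rw [this]; exact Q.zero_mem
  have hDq : D f ∉ q := by
    intro h
    rw [hq, Ideal.mem_comap] at h
    exact hQ.ne_top (Ideal.eq_top_of_isUnit_mem Q h hD)
  have h1 := algebraMap_notMem_maximalIdeal_sq_of_derivation D f q hfq hDq
  have h0 : algebraMap R (Localization.AtPrime q) f ∈ maximalIdeal (Localization.AtPrime q) := by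
    rw [← Localization.AtPrime.map_eq_maximalIdeal]
    exact Ideal.mem_map_of_mem _ hfq
  obtain ⟨h2, -⟩ := Groth.Agent.Lib.Helper85.isRegularLocalRing_quotient_span_singleton
    (algebraMap R (Localization.AtPrime q) f) h0 h1
  have h3 : (Ideal.span ({f} : Set R)).map (algebraMap R (Localization.AtPrime q)) =
      Ideal.span {algebraMap R (Localization.AtPrime q) f} := by
    rw [Ideal.map_span, Set.image_singleton]
  rw [h3] at e
  exact IsRegularLocalRing.of_ringEquiv e.symm

/-! ### Instance-free versions: `D` is just an additive map satisfying the Leibniz rule -/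

theorem leibniz_mem_of_mem_sq (D : R → R) (hadd : ∀ a b, D (a + b) = D a + D b)
    (hmul : ∀ a b, D (a * b) = a * D b + b * D a) (q : Ideal R) {x : R} (hx : x ∈ q ^ 2) :
    D x ∈ q := by
  rw [pow_two] at hx
  refine Submodule.mul_induction_on hx (fun a ha b hb => ?_) (fun x y hx hy => ?_)
  · rw [hmul]
    exact q.add_mem (q.mul_mem_right _ ha) (q.mul_mem_right _ hb)
  · rw [hadd]
    exact q.add_mem hx hy

theorem algebraMap_notMem_maximalIdeal_sq_of_leibniz (D : R → R)
    (hadd : ∀ a b, D (a + b) = D a + D b) (hmul : ∀ a b, D (a * b) = a * D b + b * D a) (f : R)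
    (q : Ideal R) [q.IsPrime] (hf : f ∈ q) (hD : D f ∉ q) :
    algebraMap R (Localization.AtPrime q) f ∉ maximalIdeal (Localization.AtPrime q) ^ 2 := by
  intro h
  rw [← Localization.AtPrime.map_eq_maximalIdeal, ← Ideal.map_pow,
    IsLocalization.algebraMap_mem_map_algebraMap_iff q.primeCompl] at h
  obtain ⟨s, hs, hsf⟩ := h
  have h1 := leibniz_mem_of_mem_sq D hadd hmul q hsf
  rw [hmul] at h1
  have h2 : s * D f ∈ q := by
    have h3 : f * D s ∈ q := q.mul_mem_right _ hf
    exact (Ideal.add_mem_iff_left q h3).mp h1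
  rcases (Ideal.IsPrime.mem_or_mem inferInstance h2) with h4 | h4
  · exact hs h4
  · exact hD h4

theorem isRegularRing_quotient_span_singleton_of_leibniz [IsRegularRing R] (f : R)
    (D : R → R) (hadd : ∀ a b, D (a + b) = D a + D b)
    (hmul : ∀ a b, D (a * b) = a * D b + b * D a)
    (hD : IsUnit (Ideal.Quotient.mk (Ideal.span {f}) (D f))) :
    IsRegularRing (R ⧸ Ideal.span ({f} : Set R)) := by
  rw [isRegularRing_iff]
  intro Q hQ
  obtain ⟨e⟩ := nonempty_localization_quotient_ringEquiv (Ideal.span {f}) Q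
  set q := Q.comap (Ideal.Quotient.mk (Ideal.span ({f} : Set R))) with hq
  have hfq : f ∈ q := by
    rw [hq, Ideal.mem_comap]
    have : Ideal.Quotient.mk (Ideal.span ({f} : Set R)) f = 0 :=
      Ideal.Quotient.eq_zero_iff_mem.mpr (Ideal.subset_span rfl)
    rw [this]; exact Q.zero_mem
  have hDq : D f ∉ q := by
    intro h
    rw [hq, Ideal.mem_comap] at h
    exact hQ.ne_top (Ideal.eq_top_of_isUnit_mem Q h hD)
  have h1 := algebraMap_notMem_maximalIdeal_sq_of_leibniz D hadd hmul f q hfq hDq
  have h0 : algebraMap R (Localization.AtPrime q) f ∈ maximalIdeal (Localization.AtPrime q) := by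
    rw [← Localization.AtPrime.map_eq_maximalIdeal]
    exact Ideal.mem_map_of_mem _ hfq
  obtain ⟨h2, -⟩ := Groth.Agent.Lib.Helper85.isRegularLocalRing_quotient_span_singleton
    (algebraMap R (Localization.AtPrime q) f) h0 h1
  have h3 : (Ideal.span ({f} : Set R)).map (algebraMap R (Localization.AtPrime q)) =
      Ideal.span {algebraMap R (Localization.AtPrime q) f} := by
    rw [Ideal.map_span, Set.image_singleton]
  rw [h3] at e
  exact IsRegularLocalRing.of_ringEquiv e.symm

end Groth.Agent.Lib.Helper47
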