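import Groth.Agent.Lib.Helper47.RegularLocalFlat

/-!
# Regularity ascends along flat local homomorphisms with regular closed fibre
-/

set_option autoImplicit false

open IsLocalRing

namespace Groth.Agent.Lib.Helper47

/-- Let `A → B` be a flat local homomorphism of Noetherian local rings. If `A` is regular and the
closed fibre `B ⧸ 𝔪_A B` is regular, then `B` is regular. -/
theorem isRegularLocalRing_of_flat_of_isRegularLocalRing_quotient
    {A B : Type*} [CommRing A] [CommRing B] [IsRegularLocalRing A] [IsLocalRing B] [Algebra A B]
    [IsLocalHom (algebraMap A B)] [Module.Flat A B] [IsNoetherianRing B]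
    (h : IsRegularLocalRing (B ⧸ (maximalIdeal A).map (algebraMap A B))) :
    IsRegularLocalRing B := by
  classical
  set I := (maximalIdeal A).map (algebraMap A B) with hIdef
  have hI : I ≤ maximalIdeal B :=
    ((local_hom_TFAE (algebraMap A B)).out 0 2 rfl rfl).mp inferInstance
  have hlocal : IsLocalRing (B ⧸ I) := h.toIsLocalRing
  have hsurj : Function.Surjective (Ideal.Quotient.mk I) := Ideal.Quotient.mk_surjective
  have hker : RingHom.ker (Ideal.Quotient.mk I) = I := Ideal.mk_ker
  -- the image of the maximal ideal is the maximal ideal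
  have hmax : (maximalIdeal B).map (Ideal.Quotient.mk I) = maximalIdeal (B ⧸ I) := by
    have : ((maximalIdeal B).map (Ideal.Quotient.mk I)).IsMaximal :=
      Ideal.IsMaximal.map_of_surjective_of_ker_le hsurj (by rw [hker]; exact hI)
    exact IsLocalRing.eq_maximalIdeal this
  -- dimension formula
  have hdim : ringKrullDim B = ringKrullDim A + ringKrullDim (B ⧸ I) := by
    have h1 := Ideal.height_eq_height_add_of_liesOver_of_hasGoingDown (maximalIdeal A)
      (maximalIdeal B)
    rw [← hIdef, hmax] at h1
    rw [← IsLocalRing.maximalIdeal_height_eq_ringKrullDim,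
      ← IsLocalRing.maximalIdeal_height_eq_ringKrullDim,
      ← IsLocalRing.maximalIdeal_height_eq_ringKrullDim, h1]
    rfl
  -- generators
  have hfgA : (maximalIdeal A).FG := (maximalIdeal A).fg_of_isNoetherianRing
  have hfgQ : (maximalIdeal (B ⧸ I)).FG := (maximalIdeal (B ⧸ I)).fg_of_isNoetherianRing
  let s : Set A := Submodule.generators (maximalIdeal A)
  let tbar : Set (B ⧸ I) := Submodule.generators (maximalIdeal (B ⧸ I))
  let t : Set B := Function.surjInv hsurj '' tbar
  have hs_fin : s.Finite := Submodule.FG.finite_generators hfgA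
  have htbar_fin : tbar.Finite := Submodule.FG.finite_generators hfgQ
  have ht_fin : t.Finite := htbar_fin.image _
  have hmk_t : Ideal.Quotient.mk I '' t = tbar := by
    rw [Set.image_image]
    simp only [Function.surjInv_eq hsurj, Set.image_id']
  have hspan_s : Ideal.span (algebraMap A B '' s) = I := by
    rw [← Ideal.map_span]
    congr 1
    exact Submodule.span_generators (maximalIdeal A)
  have hspan_t : (Ideal.span t).map (Ideal.Quotient.mk I) = maximalIdeal (B ⧸ I) := by
    rw [Ideal.map_span, hmk_t]
    exact Submodule.span_generators (maximalIdeal (B ⧸ I))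
  have hspan : Ideal.span (algebraMap A B '' s ∪ t) = maximalIdeal B := by
    rw [Ideal.span_union, hspan_s]
    have h2 : (maximalIdeal (B ⧸ I)).comap (Ideal.Quotient.mk I) = maximalIdeal B := by
      rw [← hmax, Ideal.comap_map_of_surjective _ hsurj, ← RingHom.ker_eq_comap_bot, hker]
      exact sup_eq_left.mpr hI
    rw [← h2, ← hspan_t, Ideal.comap_map_of_surjective _ hsurj, ← RingHom.ker_eq_comap_bot, hker,
      sup_comm]
  apply IsRegularLocalRing.of_spanFinrank_maximalIdeal_le
  have hle : (maximalIdeal B).spanFinrank ≤
      (maximalIdeal A).spanFinrank + (maximalIdeal (B ⧸ I)).spanFinrank := by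
    calc (maximalIdeal B).spanFinrank
        = (Ideal.span (algebraMap A B '' s ∪ t)).spanFinrank := by rw [hspan]
      _ ≤ (algebraMap A B '' s ∪ t).ncard :=
          Submodule.spanFinrank_span_le_ncard_of_finite ((hs_fin.image _).union ht_fin)
      _ ≤ (algebraMap A B '' s).ncard + t.ncard := Set.ncard_union_le _ _
      _ ≤ s.ncard + tbar.ncard :=
          add_le_add (Set.ncard_image_le hs_fin) (Set.ncard_image_le htbar_fin)
      _ = (maximalIdeal A).spanFinrank + (maximalIdeal (B ⧸ I)).spanFinrank := by
          rw [Submodule.FG.generators_ncard hfgA, Submodule.FG.generators_ncard hfgQ]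
  rw [hdim, ← IsRegularLocalRing.spanFinrank_maximalIdeal (R := A),
    ← h.spanFinrank_maximalIdeal]
  exact_mod_cast hle

end Groth.Agent.Lib.Helper47
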