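import Mathlib.AlgebraicGeometry.Morphisms.QuasiCompact
import Mathlib.AlgebraicGeometry.Morphisms.UnderlyingMap
import Mathlib.AlgebraicGeometry.PullbackCarrier

/-!
# Closure of the image of a quasi-compact morphism

For a quasi-compact morphism `f : X ⟶ S`, every point in the closure of the image of `f`
is a specialization of a point in the image.
-/

set_option autoImplicit false
universe u

open AlgebraicGeometry CategoryTheory

namespace Groth.Agent.Lib.Helper47

/-- Affine case: a point in the closure of the range of `Spec.map φ` is a specialization of a point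
in the range. -/
theorem exists_specializes_of_mem_closure_range_Spec {R A : CommRingCat.{u}} (φ : A ⟶ R)
    (p : Spec A) (hp : p ∈ closure (Set.range (Spec.map φ))) :
    ∃ q : Spec R, Spec.map φ q ⤳ p := by
  have hp' : p ∈ closure (Set.range (PrimeSpectrum.comap φ.hom)) := hp
  rw [PrimeSpectrum.closure_range_comap] at hp'
  have hle : (⊥ : Ideal R).comap φ.hom ≤ p.asIdeal := hp'
  obtain ⟨Q, -, hQ, hQle⟩ := Ideal.exists_ideal_comap_le_prime p.asIdeal (⊥ : Ideal R) hle
  refine ⟨⟨Q, hQ⟩, ?_⟩
  exact (PrimeSpectrum.le_iff_specializes (PrimeSpectrum.comap φ.hom ⟨Q, hQ⟩) p).mp hQle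

/-- For a quasi-compact morphism, every point in the closure of the image is a specialization
of a point of the image. -/
theorem exists_specializes_of_mem_closure_range {X S : Scheme.{u}} (f : X ⟶ S) [QuasiCompact f]
    (s : S) (hs : s ∈ closure (Set.range f)) : ∃ x : X, f x ⤳ s := by
  obtain ⟨_, ⟨U, hU, rfl⟩, hsU, -⟩ :=
    S.isBasis_affineOpens.exists_subset_of_mem_open (Set.mem_univ s) isOpen_univ
  have hcomp : IsCompact ((f ⁻¹ᵁ U : X.Opens) : Set X) :=
    QuasiCompact.isCompact_preimage (f := f) _ U.2 hU.isCompact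
  obtain ⟨R, g, hg⟩ := isCompact_iff_exists.mp hcomp
  -- `h = g ≫ f` factors through `hU.fromSpec`
  have hrange : Set.range (g ≫ f) ⊆ Set.range hU.fromSpec := by
    rw [hU.range_fromSpec]
    rintro _ ⟨y, rfl⟩
    have : g y ∈ (f ⁻¹ᵁ U : X.Opens) := by
      rw [← SetLike.mem_coe, ← hg]; exact Set.mem_range_self y
    simpa using this
  let h' : Spec R ⟶ Spec Γ(S, U) := IsOpenImmersion.lift hU.fromSpec (g ≫ f) hrange
  have hfac : h' ≫ hU.fromSpec = g ≫ f := IsOpenImmersion.lift_fac _ _ _
  obtain ⟨φ, hφ⟩ := Spec.map_surjective h'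
  -- the point of `Spec Γ(S, U)` corresponding to `s`
  let p : Spec Γ(S, U) := hU.primeIdealOf ⟨s, hsU⟩
  have hps : hU.fromSpec p = s := hU.fromSpec_primeIdealOf ⟨s, hsU⟩
  -- `s` lies in the closure of the range of `g ≫ f`
  have hs' : s ∈ closure (Set.range (g ≫ f)) := by
    rw [mem_closure_iff] at hs ⊢
    intro V hV hsV
    obtain ⟨_, ⟨hyV, hyU⟩, ⟨x, rfl⟩⟩ := hs (V ∩ U) (hV.inter U.2) ⟨hsV, hsU⟩
    have hx : x ∈ Set.range g := by
      rw [hg]; exact hyU
    obtain ⟨y, rfl⟩ := hx
    exact ⟨_, hyV, y, by simp⟩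
  have hp : p ∈ closure (Set.range (Spec.map φ)) := by
    rw [hφ, hU.fromSpec.isOpenEmbedding.isInducing.closure_eq_preimage_closure_image,
      Set.mem_preimage, hps, ← Set.range_comp]
    have : (hU.fromSpec : _ → _) ∘ (h' : _ → _) = (g ≫ f : _ → _) := by
      rw [← hfac]; ext; simp
    rw [this]
    exact hs'
  obtain ⟨q, hq⟩ := exists_specializes_of_mem_closure_range_Spec φ p hp
  refine ⟨g q, ?_⟩
  have := hq.map hU.fromSpec.continuous
  rw [hps, hφ] at this
  have h2 : hU.fromSpec (h' q) = f (g q) := by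
    rw [← Scheme.Hom.comp_apply, hfac, Scheme.Hom.comp_apply]
  rwa [h2] at this

end Groth.Agent.Lib.Helper47
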