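import Mathlib
import Groth.Agent.Lib.Helper44.RigPoint
import Groth.Agent.Lib.Helper89.AdicProj

/-!
# Dual numbers over a complete local ring (helper47)

`TwDual B` is `B[ε]` under a name of its own (so that it can carry a non-standard algebra
structure); it is local, Noetherian and complete when `B` is.
-/

set_option autoImplicit false
universe u

namespace Groth.Agent.Lib.Helper47

open IsLocalRing

/-- The dual numbers `B[ε]`, as a type synonym of `TrivSqZeroExt B B`. -/
def TwDual (B : Type u) [CommRing B] : Type u := TrivSqZeroExt B B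

namespace TwDual

variable {B : Type u} [CommRing B]

instance : CommRing (TwDual B) := inferInstanceAs (CommRing (TrivSqZeroExt B B))

instance : Algebra B (TwDual B) := inferInstanceAs (Algebra B (TrivSqZeroExt B B))

/-- The projection `B[ε] → B`. -/
def fst : TwDual B →+* B := (TrivSqZeroExt.fstHom B B B).toRingHom

/-- `b ↦ b + 0 ε`. -/
def inl (b : B) : TwDual B := (TrivSqZeroExt.inl b : TrivSqZeroExt B B)

/-- `b ↦ 0 + b ε`. -/
def inr (b : B) : TwDual B := (TrivSqZeroExt.inr b : TrivSqZeroExt B B)

/-- The `ε`-coefficient. -/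
def snd (x : TwDual B) : B := TrivSqZeroExt.snd (x : TrivSqZeroExt B B)

@[simp] theorem fst_inl (b : B) : fst (inl b) = b := rfl
@[simp] theorem fst_inr (b : B) : fst (inr b) = 0 := rfl
@[simp] theorem snd_inl (b : B) : snd (inl b) = 0 := rfl
@[simp] theorem snd_inr (b : B) : snd (inr b) = b := rfl

theorem ext {x y : TwDual B} (h1 : fst x = fst y) (h2 : snd x = snd y) : x = y :=
  TrivSqZeroExt.ext h1 h2

theorem snd_add (x y : TwDual B) : snd (x + y) = snd x + snd y := rfl

theorem snd_mul (x y : TwDual B) : snd (x * y) = fst x * snd y + fst y * snd x := by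
  have h := TrivSqZeroExt.snd_mul (R := B) (M := B) x y
  rw [op_smul_eq_smul, smul_eq_mul, smul_eq_mul] at h
  exact h

theorem isUnit_iff {x : TwDual B} : IsUnit x ↔ IsUnit (fst x) :=
  TrivSqZeroExt.isUnit_iff_isUnit_fst (R := B) (M := B)

theorem algebraMap_eq (b : B) : algebraMap B (TwDual B) b = inl b := rfl

theorem eq_add (x : TwDual B) :
    x = algebraMap B (TwDual B) (fst x) + algebraMap B (TwDual B) (snd x) * inr 1 := by
  apply ext
  · simp [algebraMap_eq, map_add, map_mul]
  · rw [snd_add, snd_mul, algebraMap_eq, algebraMap_eq]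
    simp

instance : IsLocalHom (fst : TwDual B →+* B) := ⟨fun _ hx => isUnit_iff.mpr hx⟩

instance [IsLocalRing B] : IsLocalRing (TwDual B) := RingHom.domain_isLocalRing fst

/-- `B[ε] ≃ B × B` as `B`-modules. -/
def prodEquiv : TwDual B ≃ₗ[B] B × B where
  toFun x := (fst x, snd x)
  invFun p := inl p.1 + inr p.2
  map_add' _ _ := rfl
  map_smul' _ _ := rfl
  left_inv x := by
    apply ext
    · simp [map_add]
    · simp [snd_add]
  right_inv p := by
    apply Prod.ext
    · simp [map_add]
    · simp [snd_add]

instance : Module.Finite B (TwDual B) := Module.Finite.equiv prodEquiv.symm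

instance : Module.Free B (TwDual B) := Module.Free.of_equiv prodEquiv.symm

instance [IsNoetherianRing B] : IsNoetherianRing (TwDual B) := IsNoetherianRing.of_finite B _

theorem mem_maximalIdeal_iff [IsLocalRing B] {x : TwDual B} :
    x ∈ maximalIdeal (TwDual B) ↔ fst x ∈ maximalIdeal B := by
  rw [mem_maximalIdeal, mem_maximalIdeal, mem_nonunits_iff, mem_nonunits_iff, isUnit_iff]

theorem isAdicComplete [IsLocalRing B] [IsAdicComplete (maximalIdeal B) B] :
    IsAdicComplete (maximalIdeal (TwDual B)) (TwDual B) := by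
  have h1 : IsAdicComplete (maximalIdeal B) (TwDual B) :=
    Groth.Agent.Lib.Helper89.isAdicComplete_of_finite_projective (maximalIdeal B) (TwDual B)
  have h2 : IsAdicComplete ((maximalIdeal B).map (algebraMap B (TwDual B))) (TwDual B) :=
    { toIsHausdorff := IsHausdorff.map_algebraMap_iff.mpr h1.toIsHausdorff
      toIsPrecomplete := IsPrecomplete.map_algebraMap_iff.mpr h1.toIsPrecomplete }
  refine Groth.Agent.Lib.Helper44.isAdicComplete_of_le_of_pow_le
    ((maximalIdeal B).map (algebraMap B (TwDual B))) (maximalIdeal (TwDual B)) ?_ 2 ?_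
  · rw [Ideal.map_le_iff_le_comap]
    intro b hb
    rw [Ideal.mem_comap, mem_maximalIdeal_iff]
    exact hb
  · rw [sq, Ideal.mul_le]
    intro x hx y hy
    rw [mem_maximalIdeal_iff] at hx hy
    rw [eq_add (x * y)]
    refine Ideal.add_mem _ (Ideal.mem_map_of_mem _ ?_)
      (Ideal.mul_mem_right _ _ (Ideal.mem_map_of_mem _ ?_))
    · rw [map_mul]
      exact Ideal.mul_mem_right _ _ hx
    · rw [snd_mul]
      exact Ideal.add_mem _ (Ideal.mul_mem_right _ _ hx) (Ideal.mul_mem_right _ _ hy)

end TwDual

end Groth.Agent.Lib.Helper47
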