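import Mathlib
import Groth.Agent.Lib.Helper47.DualComplete
import Groth.Agent.Lib.Helper47.AdicLiftComplete
import Groth.Agent.Lib.Helper21.AdicSmooth

/-!
# Extending derivations along adically formally smooth maps to complete local rings (helper47)
-/

set_option autoImplicit false
universe u

namespace Groth.Agent.Lib.Helper47

open IsLocalRing

section

variable {A B : Type u} [CommRing A] [CommRing B] [Algebra A B]

/-- `a ↦ a + D(a) ε` as a ring map `A → B[ε]`. -/
def twistHom (D : Derivation ℤ A A) : A →+* TwDual B where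
  toFun a := TwDual.inl (algebraMap A B a) + TwDual.inr (algebraMap A B (D a))
  map_one' := by
    apply TwDual.ext
    · simp [map_add]
    · simp [TwDual.snd_add]
      rfl
  map_mul' x y := by
    apply TwDual.ext
    · simp [map_add, map_mul]
    · simp only [TwDual.snd_add, TwDual.snd_mul, map_add, TwDual.fst_inl, TwDual.fst_inr,
        TwDual.snd_inl, TwDual.snd_inr, Derivation.leibniz, smul_eq_mul, map_mul]
      ring
  map_zero' := by
    apply TwDual.ext
    · simp [map_add]
    · simp [TwDual.snd_add]
      rfl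
  map_add' x y := by
    apply TwDual.ext
    · simp [map_add]
    · simp [TwDual.snd_add, map_add]

theorem fst_twistHom (D : Derivation ℤ A A) (a : A) :
    TwDual.fst (twistHom (B := B) D a) = algebraMap A B a := by
  simp [twistHom, map_add]

theorem snd_twistHom (D : Derivation ℤ A A) (a : A) :
    TwDual.snd (twistHom (B := B) D a) = algebraMap A B (D a) := by
  simp [twistHom, TwDual.snd_add]

end

theorem exists_derivation_extension (A B : Type u) [CommRing A] [CommRing B] [IsLocalRing B]
    [IsNoetherianRing B] [Algebra A B] [IsAdicComplete (maximalIdeal B) B]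
    (hfs : CAlgX.IsAdicFormallySmooth A B (maximalIdeal B)) (D : Derivation ℤ A A) :
    ∃ D' : Derivation ℤ B B, ∀ a : A, D' (algebraMap A B a) = algebraMap A B (D a) := by
  let _ : Algebra A (TwDual B) := (twistHom (B := B) D).toAlgebra
  have halg : ∀ a : A, algebraMap A (TwDual B) a = twistHom D a := fun _ => rfl
  have : IsAdicComplete (maximalIdeal (TwDual B)) (TwDual B) := TwDual.isAdicComplete
  let fstₐ : TwDual B →ₐ[A] B :=
    { (TwDual.fst : TwDual B →+* B) with
      commutes' := fun a => by
        change TwDual.fst (algebraMap A (TwDual B) a) = _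
        rw [halg, fst_twistHom] }
  have hfstₐ : ∀ x, fstₐ x = TwDual.fst x := fun _ => rfl
  have hsurj : Function.Surjective fstₐ := fun b => ⟨TwDual.inl b, rfl⟩
  let e : (TwDual B ⧸ RingHom.ker fstₐ) ≃ₐ[A] B := Ideal.quotientKerAlgEquivOfSurjective hsurj
  have hJ : RingHom.ker fstₐ ≠ ⊤ := by
    intro h
    have h1 : (1 : TwDual B) ∈ RingHom.ker fstₐ := h ▸ Submodule.mem_top
    rw [RingHom.mem_ker, map_one] at h1
    exact one_ne_zero h1
  let u : B →ₐ[A] TwDual B ⧸ RingHom.ker fstₐ := e.symm
  have hu_apply : ∀ b : B, u b = Ideal.Quotient.mk _ (TwDual.inl b) := by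
    intro b
    change e.symm b = _
    rw [AlgEquiv.symm_apply_eq]
    rfl
  have hu : (maximalIdeal B).map u.toRingHom ≤
      (maximalIdeal (TwDual B)).map (Ideal.Quotient.mk (RingHom.ker fstₐ)) := by
    rw [Ideal.map_le_iff_le_comap]
    intro b hb
    rw [Ideal.mem_comap]
    change u b ∈ _
    rw [hu_apply]
    exact Ideal.mem_map_of_mem _ (TwDual.mem_maximalIdeal_iff.mpr hb)
  have hB : EGA41.IsFormallySmoothAdic A ⊥ B (maximalIdeal B) :=
    (Groth.Agent.Lib.Helper21.isAdicFormallySmooth_iff_isFormallySmoothAdic_bot _).mp hfs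
  have hA : (⊥ : Ideal A).map (algebraMap A (TwDual B)) ≤ maximalIdeal (TwDual B) := by
    rw [Ideal.map_bot]; exact bot_le
  obtain ⟨v, -, hv⟩ := exists_lift_complete_local (maximalIdeal B) (RingHom.ker fstₐ) hJ u hu ⊥ hB hA
  have hfst : ∀ b : B, TwDual.fst (v b) = b := by
    intro b
    have h1 := congrArg (fun g : B →ₐ[A] TwDual B ⧸ RingHom.ker fstₐ => e (g b)) hv
    simp only [AlgHom.comp_apply] at h1
    have h2 : e (u b) = b := e.apply_symm_apply b
    rw [h2] at h1
    exact h1
  let D₀ : B →+ B := AddMonoidHom.mk' (fun b => TwDual.snd (v b)) (fun b b' => by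
    rw [map_add, TwDual.snd_add])
  refine ⟨Derivation.mk' D₀.toIntLinearMap ?_, ?_⟩
  · intro b b'
    change TwDual.snd (v (b * b')) = b • TwDual.snd (v b') + b' • TwDual.snd (v b)
    rw [map_mul, TwDual.snd_mul, hfst, hfst, smul_eq_mul, smul_eq_mul]
  · intro a
    change TwDual.snd (v (algebraMap A B a)) = _
    rw [v.commutes, halg, snd_twistHom]

end Groth.Agent.Lib.Helper47
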