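import Mathlib
import Groth.Agent.Lib.Helper85.RegularLocal

/-!
# A discrete valuation ring is the same as a regular local ring of dimension one
-/

set_option autoImplicit false
universe u

open IsLocalRing

namespace Groth.Agent.Lib.Helper47

theorem exists_isDiscreteValuationRing_iff (R : Type u) [CommRing R] :
    (∃ _ : IsDomain R, IsDiscreteValuationRing R) ↔ IsRegularLocalRing R ∧ ringKrullDim R = 1 := by
  constructor
  · rintro ⟨hD, hdvr⟩
    exact ⟨inferInstance, IsDiscreteValuationRing.ringKrullDim_eq_one R⟩
  · rintro ⟨hreg, hdim⟩
    have hD : IsDomain R := Groth.Agent.Lib.Helper85.isDomain_of_isRegularLocalRing R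
    refine ⟨hD, ?_⟩
    have h1 := (IsRegularLocalRing.iff_finrank_cotangentSpace R).mp hreg
    rw [hdim] at h1
    have h2 : Module.finrank (ResidueField R) (CotangentSpace R) ≤ 1 := by
      have : Module.finrank (ResidueField R) (CotangentSpace R) = 1 := by exact_mod_cast h1
      omega
    have hPID : IsPrincipalIdealRing R :=
      ((tfae_of_isNoetherianRing_of_isLocalRing_of_isDomain R).out 5 0).mp
        h2
    refine { not_a_field' := ?_ }
    intro h
    have hf : IsField R := (IsLocalRing.isField_iff_maximalIdeal_eq).mpr h
    rw [ringKrullDim_eq_zero_of_isField hf] at hdim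
    exact zero_ne_one hdim

end Groth.Agent.Lib.Helper47
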