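import Mathlib.RingTheory.RegularLocalRing.Defs
import Mathlib.RingTheory.HopkinsLevitzki
import Mathlib.RingTheory.LocalProperties.Reduced
import Mathlib.RingTheory.Artinian.Ring
import Mathlib.RingTheory.KrullDimension.Field

/-!
# Artinian regular rings are exactly the Artinian reduced rings
-/

set_option autoImplicit false

namespace Groth.Agent.Lib.Helper47

/-- A field is a regular local ring. -/
theorem isRegularLocalRing_of_isField {T : Type*} [CommRing T] (h : IsField T) :
    IsRegularLocalRing T := by
  let := h.toField
  infer_instance

/-- A regular local ring of dimension zero is a field. -/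
theorem isField_of_isRegularLocalRing_of_krullDimLE_zero {T : Type*} [CommRing T]
    [IsRegularLocalRing T] [Ring.KrullDimLE 0 T] : IsField T := by
  have hdim : ringKrullDim T ≤ 0 := by
    have := (Ring.krullDimLE_iff (R := T) (n := 0)).mp inferInstance
    simpa using this
  have h1 : ((IsLocalRing.maximalIdeal T).spanFinrank : WithBot ℕ∞) ≤ 0 := by
    rw [IsRegularLocalRing.spanFinrank_maximalIdeal]; exact hdim
  have h2 : (IsLocalRing.maximalIdeal T).spanFinrank = 0 := by
    have : ((IsLocalRing.maximalIdeal T).spanFinrank : WithBot ℕ∞) = 0 :=
      le_antisymm h1 (by positivity)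
    exact_mod_cast this
  have h3 : IsLocalRing.maximalIdeal T = ⊥ :=
    (Submodule.spanFinrank_eq_zero_iff_eq_bot
      (IsLocalRing.maximalIdeal T).fg_of_isNoetherianRing).mp h2
  exact IsLocalRing.isField_iff_maximalIdeal_eq.mpr h3

/-- An Artinian ring is regular iff it is reduced. -/
theorem isRegularRing_iff_isReduced_of_isArtinianRing (T : Type*) [CommRing T]
    [IsArtinianRing T] : IsRegularRing T ↔ IsReduced T := by
  constructor
  · intro h
    apply isReduced_ofLocalizationMaximal
    intro J hJ
    have : IsRegularLocalRing (Localization.AtPrime J) := inferInstance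
    have hf : IsField (Localization.AtPrime J) :=
      isField_of_isRegularLocalRing_of_krullDimLE_zero
    let := hf.toField
    infer_instance
  · intro h
    rw [isRegularRing_iff]
    intro p hp
    exact isRegularLocalRing_of_isField (IsArtinianRing.isField_of_isReduced_of_isLocalRing _)

end Groth.Agent.Lib.Helper47
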