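import Groth.Prelude.Def_Found
import Groth.Agent.Lib.Helper47.ArtinianRegular
import Mathlib.RingTheory.Nilpotent.GeometricallyReduced
import Mathlib.RingTheory.TensorProduct.Finite
import Mathlib.FieldTheory.IntermediateField.Adjoin.Algebra
import Mathlib.FieldTheory.IntermediateField.Adjoin.Basic

/-!
# Regular homomorphisms between fields
-/

set_option autoImplicit false
universe u

open TensorProduct

namespace Groth.Agent.Lib.Helper47

section

variable (k K : Type u) [Field k] [Field K] [Algebra k K]

/-- For a finite field extension `k'` of `k` the ring `k' ⊗[k] K` is Artinian. -/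
theorem isArtinianRing_tensor_of_finite (k' : Type u) [Field k'] [Algebra k k']
    [Module.Finite k k'] : IsArtinianRing (k' ⊗[k] K) := by
  have : IsArtinianRing (K ⊗[k] k') := IsArtinianRing.of_finite K (K ⊗[k] k')
  exact (Algebra.TensorProduct.comm k K k').toRingEquiv.isArtinianRing

/-- For a finite field extension `k'` of `k`, `k' ⊗[k] K` is regular iff it is reduced. -/
theorem isRegularRing_tensor_iff_isReduced (k' : Type u) [Field k'] [Algebra k k']
    [Module.Finite k k'] : IsRegularRing (k' ⊗[k] K) ↔ IsReduced (k' ⊗[k] K) := by
  have := isArtinianRing_tensor_of_finite k K k'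
  exact isRegularRing_iff_isReduced_of_isArtinianRing _

end

section Main

variable (k K : Type u) [Field k] [Field K] [Algebra k K]

/-- If `k → K` is a regular ring map of fields then `K` is geometrically reduced over `k`. -/
theorem isGeometricallyReduced_of_isRegularHom (h : CAlg.IsRegularHom k K) :
    Algebra.IsGeometricallyReduced k K := by
  obtain ⟨-, h⟩ := h
  have hp : (⊥ : Ideal k).IsPrime := Ideal.isPrime_bot
  obtain ⟨-, hreg⟩ := h ⊥
  rw [Algebra.isGeometricallyReduced_field_iff]
  have h1 : IsReduced (K ⊗[k] AlgebraicClosure k) := by
    apply IsReduced.tensorProduct_of_flat_of_forall_fg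
    rintro B ⟨S, rfl⟩
    let E : IntermediateField k (AlgebraicClosure k) :=
      IntermediateField.adjoin k (S : Set (AlgebraicClosure k))
    have hfin : Module.Finite k E :=
      IntermediateField.finiteDimensional_adjoin (fun x _ => Algebra.IsIntegral.isIntegral x)
    have hle : Algebra.adjoin k (S : Set (AlgebraicClosure k)) ≤ E.toSubalgebra :=
      Algebra.adjoin_le (IntermediateField.subset_adjoin k _)
    let ι : ↥(Algebra.adjoin k (S : Set (AlgebraicClosure k))) →ₐ[k] E :=
      Subalgebra.inclusion hle
    have hinj : Function.Injective ι := Subalgebra.inclusion_injective hle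
    have hred : IsReduced (K ⊗[k] E) := by
      let e : k ≃ₐ[k] (⊥ : Ideal k).ResidueField := (⊥ : Ideal k).algEquivResidueFieldOfField
      let algκE : Algebra (⊥ : Ideal k).ResidueField E :=
        ((algebraMap k E).comp (e.symm : (⊥ : Ideal k).ResidueField →+* k)).toAlgebra
      have : IsScalarTower k (⊥ : Ideal k).ResidueField E := by
        refine IsScalarTower.of_algebraMap_eq fun x => ?_
        change algebraMap k E x = algebraMap k E (e.symm (algebraMap k _ x))
        rw [← Ideal.algEquivResidueFieldOfField_apply, AlgEquiv.symm_apply_apply]
      have : Module.Finite (⊥ : Ideal k).ResidueField E :=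
        Module.Finite.of_restrictScalars_finite k _ E
      have hE := hreg E inferInstance
      have h2 : IsRegularRing (E ⊗[k] K) :=
        IsRegularRing.of_ringEquiv
          (Algebra.TensorProduct.cancelBaseChange k (⊥ : Ideal k).ResidueField
            (⊥ : Ideal k).ResidueField E K).toRingEquiv
      have h3 : IsReduced (E ⊗[k] K) := (isRegularRing_tensor_iff_isReduced k K E).mp h2
      exact isReduced_of_injective (Algebra.TensorProduct.comm k K E).toRingEquiv.toRingHom
        (Algebra.TensorProduct.comm k K E).injective
    exact isReduced_of_injective (Algebra.TensorProduct.map (AlgHom.id K K) ι)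
      (Module.Flat.lTensor_preserves_injective_linearMap _ hinj)
  exact isReduced_of_injective
    (Algebra.TensorProduct.comm k (AlgebraicClosure k) K).toRingEquiv.toRingHom
    (Algebra.TensorProduct.comm k (AlgebraicClosure k) K).injective

/-- If `K` is geometrically reduced over `k` then `k → K` is a regular ring map. -/
theorem isRegularHom_of_isGeometricallyReduced [hgr : Algebra.IsGeometricallyReduced k K] :
    CAlg.IsRegularHom k K := by
  refine ⟨inferInstance, fun p hp => ?_⟩
  let e : k ≃ₐ[k] p.ResidueField := p.algEquivResidueFieldOfField
  constructor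
  · let f : p.Fiber K ≃ₐ[k] K :=
      (Algebra.TensorProduct.congr e.symm (AlgEquiv.refl : K ≃ₐ[k] K)).trans
        (Algebra.TensorProduct.lid k K)
    exact isNoetherianRing_of_ringEquiv K f.symm.toRingEquiv
  · intro k' _ _ hfin
    let : Algebra k k' := ((algebraMap p.ResidueField k').comp (algebraMap k p.ResidueField)).toAlgebra
    have : IsScalarTower k p.ResidueField k' := IsScalarTower.of_algebraMap_eq' rfl
    have : Module.Finite k p.ResidueField := Module.Finite.equiv e.toLinearEquiv
    have : Module.Finite k k' := Module.Finite.trans p.ResidueField k'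
    have : Algebra.IsAlgebraic k k' := Algebra.IsAlgebraic.of_finite k k'
    have h1 : IsReduced (k' ⊗[k] K) := inferInstance
    have h2 : IsRegularRing (k' ⊗[k] K) := (isRegularRing_tensor_iff_isReduced k K k').mpr h1
    exact IsRegularRing.of_ringEquiv
      (Algebra.TensorProduct.cancelBaseChange k p.ResidueField p.ResidueField k' K).symm.toRingEquiv

end Main

end Groth.Agent.Lib.Helper47
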