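import Mathlib
import Groth.Prelude.Def_CAlgX
import Groth.Agent.Lib.Helper47.H1RegularQuasiRegular

/-!
# Appending an `H₁`-regular sequence (modulo `J`) to a quasi-regular sequence generating `J`
-/

set_option autoImplicit false
universe u

open MvPolynomial

namespace Groth.Agent.Lib.Helper47

section H1Ext

variable {B B' : Type u} [CommRing B] [CommRing B'] {m : ℕ}

/-- Trivial relations lift along a surjective ring hom. -/
theorem exists_lift_trivRel (π : B →+* B') (hπ : Function.Surjective π) (g : Fin m → B)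
    (v : Fin m → B') (hv : v ∈ trivRel (fun k => π (g k))) :
    ∃ t ∈ trivRel g, ∀ k, π (t k) = v k := by
  induction hv using Submodule.span_induction with
  | mem v hv =>
    obtain ⟨i, j, rfl⟩ := hv
    refine ⟨Pi.single i (g j) - Pi.single j (g i), Submodule.subset_span ⟨i, j, rfl⟩, fun k => ?_⟩
    simp only [Pi.sub_apply, Pi.single_apply, map_sub]
    congr 1 <;> split_ifs <;> simp
  | zero => exact ⟨0, zero_mem _, fun k => by simp⟩
  | add a b _ _ ha hb =>
    obtain ⟨s, hs, hs'⟩ := ha
    obtain ⟨t, ht, ht'⟩ := hb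
    exact ⟨s + t, add_mem hs ht, fun k => by simp [hs', ht']⟩
  | smul b a _ ha =>
    obtain ⟨s, hs, hs'⟩ := ha
    obtain ⟨b, rfl⟩ := hπ b
    exact ⟨b • s, Submodule.smul_mem _ _ hs, fun k => by simp [hs']⟩

/-- Trivial relations map to trivial relations. -/
theorem map_mem_trivRel (π : B →+* B') (g : Fin m → B)
    (t : Fin m → B) (ht : t ∈ trivRel g) :
    (fun k => π (t k)) ∈ trivRel (fun k => π (g k)) := by
  induction ht using Submodule.span_induction with
  | mem v hv =>
    obtain ⟨i, j, rfl⟩ := hv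
    have : (fun k => π ((Pi.single i (g j) - Pi.single j (g i) : Fin m → B) k)) =
        Pi.single i (π (g j)) - Pi.single j (π (g i)) := by
      ext k
      simp only [Pi.sub_apply, Pi.single_apply, map_sub]
      congr 1 <;> split_ifs <;> simp
    rw [this]
    exact Submodule.subset_span ⟨i, j, rfl⟩
  | zero =>
    have : (fun k => π ((0 : Fin m → B) k)) = 0 := by ext k; simp
    rw [this]; exact zero_mem _
  | add a b _ _ ha hb =>
    have : (fun k => π ((a + b) k)) = (fun k => π (a k)) + fun k => π (b k) := by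
      ext k; simp
    rw [this]; exact add_mem ha hb
  | smul b a _ ha =>
    have : (fun k => π ((b • a) k)) = π b • fun k => π (a k) := by
      ext k; simp
    rw [this]; exact Submodule.smul_mem _ _ ha

theorem sum_mul_eq_zero_of_mem_trivRel (g : Fin m → B) (t : Fin m → B) (ht : t ∈ trivRel g) :
    ∑ k, t k * g k = 0 := by
  have := trivRel_le_ker g ht
  simpa [Fintype.linearCombination_apply] using LinearMap.mem_ker.mp this

/-- `H₁`-regularity passes to an extension: if it holds modulo `ker π` and for relations with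
entries in `ker π`. -/
theorem isH1Regular_of_surjective (π : B →+* B') (hπ : Function.Surjective π) (g : Fin m → B)
    (h1 : CAlgX.IsH1Regular (fun k => π (g k)))
    (h2 : ∀ ν : Fin m → B, (∀ k, π (ν k) = 0) → ∑ k, ν k * g k = 0 → ν ∈ trivRel g) :
    CAlgX.IsH1Regular g := by
  intro a ha
  have h3 : (fun k => π (a k)) ∈ trivRel (fun k => π (g k)) := by
    refine h1 _ ?_
    rw [← map_zero π, ← ha, map_sum]
    exact Finset.sum_congr rfl fun k _ => (map_mul π _ _).symm
  obtain ⟨t, ht, ht'⟩ := exists_lift_trivRel π hπ g _ h3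
  have h4 : a - t ∈ trivRel g := by
    refine h2 _ (fun k => by simp [ht']) ?_
    simp only [Pi.sub_apply, sub_mul, Finset.sum_sub_distrib, ha,
      sum_mul_eq_zero_of_mem_trivRel g t ht, sub_zero]
  have h5 : a = (a - t) + t := by abel
  rw [h5]
  exact add_mem h4 ht

end H1Ext

section Claim1

variable {A : Type u} [CommRing A] {n m : ℕ} (f : Fin n → A) (g : Fin m → A)

/-- Relations among the `g` with entries in `J^d / J^{d+1}` are trivial. -/
theorem mem_trivRel_of_mem_pow (hf : CAlgX.IsQuasiRegular f)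
    (hg : CAlgX.IsH1Regular (fun j => Ideal.Quotient.mk (Ideal.span (Set.range f)) (g j)))
    (d : ℕ) (x : Fin m → A) (hx : ∀ k, x k ∈ Ideal.span (Set.range f) ^ d)
    (hrel : ∑ k, x k * g k ∈ Ideal.span (Set.range f) ^ (d + 1)) :
    (fun k => Ideal.Quotient.mk (Ideal.span (Set.range f) ^ (d + 1)) (x k)) ∈
      trivRel (fun k => Ideal.Quotient.mk (Ideal.span (Set.range f) ^ (d + 1)) (g k)) := by
  set J := Ideal.span (Set.range f) with hJ
  choose c hc using fun k => (mem_pow_iff f d (x k)).mp (hx k)
  have h1 : monComb f d (∑ k, g k • c k) ∈ J ^ (d + 1) := by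
    rw [map_sum]
    simp only [map_smul, hc, smul_eq_mul]
    convert hrel using 2
    exact mul_comm _ _
  have h2 : ∀ α, ∑ k, c k α * g k ∈ J := fun α => by
    have := (isQuasiRegular_iff f).mp hf d _ h1 α
    simpa [Finset.sum_apply, mul_comm] using this
  have h3 : ∀ α, ∃ t ∈ trivRel g, ∀ k, c k α - t k ∈ J := fun α => by
    have h : (fun k => Ideal.Quotient.mk J (c k α)) ∈
        trivRel (fun k => Ideal.Quotient.mk J (g k)) := by
      refine hg _ ?_
      simp only [← map_mul, ← map_sum]
      exact Ideal.Quotient.eq_zero_iff_mem.mpr (h2 α)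
    obtain ⟨t, ht, ht'⟩ := exists_lift_trivRel (Ideal.Quotient.mk J)
      Ideal.Quotient.mk_surjective g _ h
    exact ⟨t, ht, fun k => by
      rw [← Ideal.Quotient.eq_zero_iff_mem, map_sub, ht', sub_self]⟩
  choose t ht ht' using h3
  have h4 : (fun k => Ideal.Quotient.mk (J ^ (d + 1)) (x k)) =
      ∑ α : expos n d, Ideal.Quotient.mk (J ^ (d + 1)) (mon f (α : Fin n →₀ ℕ)) •
        (fun k => Ideal.Quotient.mk (J ^ (d + 1)) (t α k)) := by
    ext k
    simp only [Finset.sum_apply, Pi.smul_apply, smul_eq_mul, ← map_mul, ← map_sum]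
    rw [Ideal.Quotient.eq, ← hc k, monComb_apply, ← Finset.sum_sub_distrib]
    refine Ideal.sum_mem _ fun α _ => ?_
    have : c k α * mon f α - mon f α * t α k = (c k α - t α k) * mon f α := by ring
    rw [this, pow_succ']
    exact Ideal.mul_mem_mul (ht' α k) (mon_mem_pow f d α)
  rw [h4]
  exact Submodule.sum_mem _ fun α _ =>
    Submodule.smul_mem _ _ (map_mem_trivRel (Ideal.Quotient.mk _) g _ (ht α))

/-- The images of the `g` in `A/J^d` form an `H₁`-regular sequence, for every `d`. -/
theorem isH1Regular_quotient_pow (hf : CAlgX.IsQuasiRegular f)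
    (hg : CAlgX.IsH1Regular (fun j => Ideal.Quotient.mk (Ideal.span (Set.range f)) (g j)))
    (d : ℕ) :
    CAlgX.IsH1Regular (fun k => Ideal.Quotient.mk (Ideal.span (Set.range f) ^ d) (g k)) := by
  induction d with
  | zero =>
    intro a _
    have : Subsingleton (A ⧸ Ideal.span (Set.range f) ^ 0) := by
      rw [pow_zero, Ideal.one_eq_top]
      exact Submodule.Quotient.subsingleton_iff.mpr rfl
    have h0 : a = 0 := Subsingleton.elim _ _
    rw [h0]; exact zero_mem _
  | succ d ih =>
    have hle : Ideal.span (Set.range f) ^ (d + 1) ≤ Ideal.span (Set.range f) ^ d :=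
      Ideal.pow_le_pow_right (Nat.le_succ d)
    refine isH1Regular_of_surjective (Ideal.Quotient.factor hle)
      (Ideal.Quotient.factor_surjective hle) _ ?_ ?_
    · simpa only [Ideal.Quotient.factor_mk] using ih
    · intro ν hν hrel
      choose x hx using fun k => Ideal.Quotient.mk_surjective (ν k)
      obtain rfl : (fun k => Ideal.Quotient.mk _ (x k)) = ν := funext hx
      refine mem_trivRel_of_mem_pow f g hf hg d x (fun k => ?_) ?_
      · have := hν k
        rwa [Ideal.Quotient.factor_mk, Ideal.Quotient.eq_zero_iff_mem] at this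
      · rw [← Ideal.Quotient.eq_zero_iff_mem, map_sum]
        simpa only [map_mul] using hrel

/-- `J^d ∩ G ⊆ J^d G`. -/
theorem exists_coeffs_mem_pow_of_mem_inf (hf : CAlgX.IsQuasiRegular f)
    (hg : CAlgX.IsH1Regular (fun j => Ideal.Quotient.mk (Ideal.span (Set.range f)) (g j)))
    (d : ℕ) (x : A) (hxG : x ∈ Ideal.span (Set.range g))
    (hxJ : x ∈ Ideal.span (Set.range f) ^ d) :
    ∃ j : Fin m → A, (∀ k, j k ∈ Ideal.span (Set.range f) ^ d) ∧ ∑ k, j k * g k = x := by
  obtain ⟨b, rfl⟩ := Ideal.mem_span_range_iff_exists_fun.mp hxG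
  have h1 : (fun k => Ideal.Quotient.mk (Ideal.span (Set.range f) ^ d) (b k)) ∈
      trivRel (fun k => Ideal.Quotient.mk (Ideal.span (Set.range f) ^ d) (g k)) := by
    refine isH1Regular_quotient_pow f g hf hg d _ ?_
    simp only [← map_mul, ← map_sum]
    exact Ideal.Quotient.eq_zero_iff_mem.mpr hxJ
  obtain ⟨t, ht, ht'⟩ := exists_lift_trivRel (Ideal.Quotient.mk _)
    Ideal.Quotient.mk_surjective g _ h1
  refine ⟨b - t, fun k => ?_, ?_⟩
  · rw [← Ideal.Quotient.eq_zero_iff_mem, Pi.sub_apply, map_sub, ht', sub_self]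
  · simp only [Pi.sub_apply, sub_mul, Finset.sum_sub_distrib,
      sum_mul_eq_zero_of_mem_trivRel g t ht, sub_zero]

/-- The images of the `f` in `A/(g)` are quasi-regular (in coefficient form). -/
theorem coeff_mem_sup_of_monComb_mem (hf : CAlgX.IsQuasiRegular f)
    (hg : CAlgX.IsH1Regular (fun j => Ideal.Quotient.mk (Ideal.span (Set.range f)) (g j)))
    (d : ℕ) (c : expos n d → A)
    (hc : monComb f d c ∈ Ideal.span (Set.range f) ^ (d + 1) ⊔ Ideal.span (Set.range g)) :
    ∀ α, c α ∈ Ideal.span (Set.range f) ⊔ Ideal.span (Set.range g) := by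
  obtain ⟨j', hj', γ, hγ, hsum⟩ := Submodule.mem_sup.mp hc
  have hγJ : γ ∈ Ideal.span (Set.range f) ^ d := by
    have : γ = monComb f d c - j' := by rw [← hsum]; ring
    rw [this]
    exact sub_mem (monComb_mem_pow f d c) (Ideal.pow_le_pow_right (Nat.le_succ d) hj')
  obtain ⟨j, hj, hjγ⟩ := exists_coeffs_mem_pow_of_mem_inf f g hf hg d γ hγ hγJ
  choose c' hc' using fun k => (mem_pow_iff f d (j k)).mp (hj k)
  have h1 : monComb f d (c - ∑ k, g k • c' k) = j' := by
    rw [map_sub, map_sum]
    simp only [map_smul, hc', smul_eq_mul]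
    have : ∑ k, g k * j k = γ := by
      rw [← hjγ]; exact Finset.sum_congr rfl fun k _ => mul_comm _ _
    rw [this, ← hsum]; ring
  intro α
  have h2 := (isQuasiRegular_iff f).mp hf d _ (h1 ▸ hj') α
  have h3 : c α = (c - ∑ k, g k • c' k) α + ∑ k, g k * c' k α := by
    simp [Finset.sum_apply]
  rw [h3]
  exact add_mem (Ideal.mem_sup_left h2) (Ideal.mem_sup_right (Ideal.sum_mem _ fun k _ =>
    Ideal.mul_mem_right _ _ (Ideal.subset_span ⟨k, rfl⟩)))

end Claim1

section Exponents

variable {n m : ℕ}

/-- Append of exponent vectors. -/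
noncomputable def appendExp (N : Fin n →₀ ℕ) (M : Fin m →₀ ℕ) : Fin (n + m) →₀ ℕ :=
  Finsupp.equivFunOnFinite.symm (Fin.append N M)

/-- The first `n` exponents. -/
noncomputable def expL (D : Fin (n + m) →₀ ℕ) : Fin n →₀ ℕ :=
  Finsupp.equivFunOnFinite.symm (fun i => D (Fin.castAdd m i))

/-- The last `m` exponents. -/
noncomputable def expR (D : Fin (n + m) →₀ ℕ) : Fin m →₀ ℕ :=
  Finsupp.equivFunOnFinite.symm (fun k => D (Fin.natAdd n k))

@[simp] theorem appendExp_castAdd (N : Fin n →₀ ℕ) (M : Fin m →₀ ℕ) (i : Fin n) :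
    appendExp N M (Fin.castAdd m i) = N i := by simp [appendExp]

@[simp] theorem appendExp_natAdd (N : Fin n →₀ ℕ) (M : Fin m →₀ ℕ) (k : Fin m) :
    appendExp N M (Fin.natAdd n k) = M k := by simp [appendExp]

@[simp] theorem expL_apply (D : Fin (n + m) →₀ ℕ) (i : Fin n) :
    expL D i = D (Fin.castAdd m i) := by simp [expL]

@[simp] theorem expR_apply (D : Fin (n + m) →₀ ℕ) (k : Fin m) :
    expR D k = D (Fin.natAdd n k) := by simp [expR]

theorem appendExp_expL_expR (D : Fin (n + m) →₀ ℕ) : appendExp (expL D) (expR D) = D := by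
  ext i
  refine Fin.addCases (fun j => ?_) (fun j => ?_) i <;> simp

@[simp] theorem expL_appendExp (N : Fin n →₀ ℕ) (M : Fin m →₀ ℕ) : expL (appendExp N M) = N := by
  ext i; simp

@[simp] theorem expR_appendExp (N : Fin n →₀ ℕ) (M : Fin m →₀ ℕ) : expR (appendExp N M) = M := by
  ext i; simp

theorem degree_eq_expL_add_expR (D : Fin (n + m) →₀ ℕ) :
    D.degree = (expL D).degree + (expR D).degree := by
  simp [Finsupp.degree_eq_sum, Fin.sum_univ_add]

theorem degree_appendExp (N : Fin n →₀ ℕ) (M : Fin m →₀ ℕ) :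
    (appendExp N M).degree = N.degree + M.degree := by
  rw [degree_eq_expL_add_expR, expL_appendExp, expR_appendExp]

theorem mon_append {A : Type u} [CommRing A] (f : Fin n → A) (g : Fin m → A)
    (D : Fin (n + m) →₀ ℕ) :
    mon (Fin.append f g) D = mon f (expL D) * mon g (expR D) := by
  simp [mon, Fin.prod_univ_add]

end Exponents

section Partial

variable {A : Type u} [CommRing A] {n m : ℕ} (f : Fin n → A)

/-- Partial evaluation `A[Z₁..Z_{n+m}] → A[Y₁..Y_m]`, `Z_i ↦ f_i` (`i < n`), `Z_{n+k} ↦ Y_k`. -/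
noncomputable def partialEval :
    MvPolynomial (Fin (n + m)) A →ₐ[A] MvPolynomial (Fin m) A :=
  aeval (Fin.append (fun i => C (f i)) (X : Fin m → MvPolynomial (Fin m) A))

theorem eval_partialEval (g : Fin m → A) (P : MvPolynomial (Fin (n + m)) A) :
    eval g (partialEval f P) = eval (Fin.append f g) P := by
  have h : (eval g).comp ((partialEval (m := m) f : MvPolynomial (Fin (n + m)) A →ₐ[A] _) :
      MvPolynomial (Fin (n + m)) A →+* MvPolynomial (Fin m) A) = eval (Fin.append f g) := by
    apply MvPolynomial.ringHom_ext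
    · intro a; simp [partialEval]
    · intro i
      refine Fin.addCases (fun j => ?_) (fun j => ?_) i <;> simp [partialEval]
  exact RingHom.congr_fun h P

theorem partialEval_monomial (D : Fin (n + m) →₀ ℕ) (a : A) :
    partialEval (m := m) f (monomial D a) = monomial (expR D) (a * mon f (expL D)) := by
  rw [partialEval, aeval_monomial, Finsupp.prod_fintype _ _ (fun i => pow_zero _),
    Fin.prod_univ_add]
  simp only [Fin.append_left, Fin.append_right, ← map_pow, ← map_prod]
  have h1 : ∏ k : Fin m, (X k : MvPolynomial (Fin m) A) ^ D (Fin.natAdd n k) =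
      monomial (expR D) 1 := by
    rw [← mon_X]; simp [mon]
  have h2 : ∏ i : Fin n, f i ^ D (Fin.castAdd m i) = mon f (expL D) := by simp [mon]
  rw [h1, h2, algebraMap_eq, ← mul_assoc, ← map_mul, C_mul_monomial, mul_one]

theorem polyOf_coeff {r d : ℕ} {P : MvPolynomial (Fin r) A} (hP : P.IsHomogeneous d) :
    polyOf (fun D : expos r d => P.coeff D) = P := by
  ext D
  by_cases hD : D.degree = d
  · exact coeff_polyOf _ ⟨D, mem_expos.mpr hD⟩
  · rw [hP.coeff_eq_zero hD, (polyOf_isHomogeneous _).coeff_eq_zero hD]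

/-- Coefficients of the partial evaluation of a homogeneous polynomial. -/
theorem coeff_partialEval {d : ℕ} {P : MvPolynomial (Fin (n + m)) A} (hP : P.IsHomogeneous d)
    (M : Fin m →₀ ℕ) (e : ℕ) (hM : M.degree = e) (he : e ≤ d) :
    coeff M (partialEval f P) =
      monComb f (d - e) (fun N : expos n (d - e) => P.coeff (appendExp (N : Fin n →₀ ℕ) M)) := by
  classical
  conv_lhs => rw [← polyOf_coeff hP]
  rw [polyOf, map_sum, coeff_sum, monComb_apply]
  simp only [partialEval_monomial, coeff_monomial]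
  symm
  have hmem : ∀ N : expos n (d - e), appendExp (N : Fin n →₀ ℕ) M ∈ expos (n + m) d := fun N => by
    rw [mem_expos, degree_appendExp, mem_expos.mp N.2, hM]; omega
  refine Finset.sum_of_injOn (fun N => ⟨appendExp (N : Fin n →₀ ℕ) M, hmem N⟩) ?_ ?_ ?_ ?_
  · intro N _ N' _ h
    have := congrArg (fun D : expos (n + m) d => expL (D : Fin (n + m) →₀ ℕ)) h
    simp only [expL_appendExp] at this
    exact Subtype.ext this
  · intro N _; exact Finset.mem_coe.mpr (Finset.mem_univ _)
  · intro D _ hD
    rw [if_neg]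
    intro h
    apply hD
    have hdeg : (expL (D : Fin (n + m) →₀ ℕ)).degree = d - e := by
      have := degree_eq_expL_add_expR (D : Fin (n + m) →₀ ℕ)
      rw [mem_expos.mp D.2, h, hM] at this
      omega
    refine ⟨⟨expL (D : Fin (n + m) →₀ ℕ), mem_expos.mpr hdeg⟩, Finset.mem_coe.mpr (Finset.mem_univ _), ?_⟩
    apply Subtype.ext
    simp only
    rw [← h, appendExp_expL_expR]
  · intro N _
    simp only [expR_appendExp, if_true, expL_appendExp]

/-- Coefficients of the partial evaluation vanish in high degrees. -/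
theorem coeff_partialEval_eq_zero {d : ℕ} {P : MvPolynomial (Fin (n + m)) A}
    (hP : P.IsHomogeneous d) (M : Fin m →₀ ℕ) (hM : d < M.degree) :
    coeff M (partialEval f P) = 0 := by
  classical
  conv_lhs => rw [← polyOf_coeff hP]
  rw [polyOf, map_sum, coeff_sum]
  simp only [partialEval_monomial, coeff_monomial]
  refine Finset.sum_eq_zero fun D _ => ?_
  rw [if_neg]
  intro h
  have := degree_eq_expL_add_expR (D : Fin (n + m) →₀ ℕ)
  rw [mem_expos.mp D.2, h] at this
  omega

theorem coeff_partialEval_mem_pow {d : ℕ} {P : MvPolynomial (Fin (n + m)) A}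
    (hP : P.IsHomogeneous d) (M : Fin m →₀ ℕ) :
    coeff M (partialEval f P) ∈ Ideal.span (Set.range f) ^ (d - M.degree) := by
  by_cases hM : M.degree ≤ d
  · rw [coeff_partialEval f hP M _ rfl hM]
    exact monComb_mem_pow f _ _
  · rw [coeff_partialEval_eq_zero f hP M (not_le.mp hM)]
    exact zero_mem _

end Partial

section Main

variable {A : Type u} [CommRing A] {n m : ℕ} (f : Fin n → A) (g : Fin m → A)

theorem sup_pow_succ_le (I J : Ideal A) (a b : ℕ) :
    (I ⊔ J) ^ (a + b + 1) ≤ I ^ (a + 1) ⊔ J ^ (b + 1) := by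
  rw [← Ideal.add_eq_sup, ← Ideal.add_eq_sup, add_pow, Ideal.sum_eq_sup]
  apply Finset.sup_le
  intro i hi
  by_cases hn : a + 1 ≤ i
  · exact (Ideal.mul_le_left.trans (Ideal.mul_le_left.trans
      ((Ideal.pow_le_pow_right hn).trans le_sup_left)))
  · refine (Ideal.mul_le_left.trans (Ideal.mul_le_right.trans
      ((Ideal.pow_le_pow_right ?_).trans le_sup_right)))
    omega

omit [CommRing A] in
theorem range_append : Set.range (Fin.append f g) = Set.range f ∪ Set.range g := by
  ext x
  constructor
  · rintro ⟨i, rfl⟩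
    refine Fin.addCases (fun j => ?_) (fun j => ?_) i
    · left; exact ⟨j, by simp⟩
    · right; exact ⟨j, by simp⟩
  · rintro (⟨j, rfl⟩ | ⟨j, rfl⟩)
    · exact ⟨Fin.castAdd m j, by simp⟩
    · exact ⟨Fin.natAdd n j, by simp⟩

theorem eval_mem_of_coeff_mem (I : Ideal A) (Q : MvPolynomial (Fin m) A)
    (hQ : ∀ M, coeff M Q ∈ I) : eval g Q ∈ I := by
  rw [eval_eq']
  exact Ideal.sum_mem _ fun M _ => Ideal.mul_mem_right _ _ (hQ M)

/-- Appending to a quasi-regular sequence `f` a sequence `g` which is `H₁`-regular modulo `(f)`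
gives a quasi-regular sequence. -/
theorem isQuasiRegular_append (hf : CAlgX.IsQuasiRegular f)
    (hg : CAlgX.IsH1Regular (fun j => Ideal.Quotient.mk (Ideal.span (Set.range f)) (g j))) :
    CAlgX.IsQuasiRegular (Fin.append f g) := by
  classical
  intro d P hP hev D
  set J := Ideal.span (Set.range f) with hJ
  set G := Ideal.span (Set.range g) with hG
  have hK : Ideal.span (Set.range (Fin.append f g)) = J ⊔ G := by
    rw [range_append, Ideal.span_union]
  rw [hK] at hev ⊢
  by_cases hD : D.degree = d
  swap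
  · rw [hP.coeff_eq_zero hD]; exact zero_mem _
  obtain ⟨M, hM⟩ : ∃ M, M = expR D := ⟨_, rfl⟩
  obtain ⟨e, he⟩ : ∃ e, e = M.degree := ⟨_, rfl⟩
  have hdeg := degree_eq_expL_add_expR D
  rw [hD, ← hM, ← he] at hdeg
  have hed : e ≤ d := by omega
  have hNdeg : (expL D).degree = d - e := by omega
  set R := partialEval (m := m) f P with hR
  -- bounds on the homogeneous components of `R` evaluated at `g`
  have hcompG : ∀ e', eval g (homogeneousComponent e' R) ∈ G ^ e' := fun e' =>
    (Ideal.mem_span_pow_iff_exists_isHomogeneous g _).mpr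
      ⟨_, homogeneousComponent_isHomogeneous e' R, rfl⟩
  have hcompJ : ∀ e', eval g (homogeneousComponent e' R) ∈ J ^ (d - e') := fun e' => by
    refine eval_mem_of_coeff_mem g _ _ fun M' => ?_
    rw [coeff_homogeneousComponent]
    split_ifs with h
    · rw [← h]; exact coeff_partialEval_mem_pow f hP M'
    · exact zero_mem _
  have hother : ∀ e', e' ≠ e →
      eval g (homogeneousComponent e' R) ∈ J ^ (d - e + 1) ⊔ G ^ (e + 1) := fun e' he' => by
    rcases lt_or_gt_of_ne he' with h | h
    · exact Ideal.mem_sup_left (Ideal.pow_le_pow_right (by omega) (hcompJ e'))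
    · exact Ideal.mem_sup_right (Ideal.pow_le_pow_right (by omega) (hcompG e'))
  have htotal : eval g R ∈ J ^ (d - e + 1) ⊔ G ^ (e + 1) := by
    rw [hR, eval_partialEval]
    have : d + 1 = (d - e) + e + 1 := by omega
    rw [this] at hev
    exact sup_pow_succ_le J G (d - e) e hev
  have hmain : eval g (homogeneousComponent e R) ∈ J ^ (d - e + 1) ⊔ G ^ (e + 1) := by
    by_cases hmem : e ∈ Finset.range (R.totalDegree + 1)
    · have h1 := sum_homogeneousComponent R
      have h2 : eval g R = eval g (homogeneousComponent e R) +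
          ∑ i ∈ (Finset.range (R.totalDegree + 1)).erase e,
            eval g (homogeneousComponent i R) := by
        conv_lhs => rw [← h1]
        rw [map_sum]
        exact (Finset.add_sum_erase _ (fun i => eval g (homogeneousComponent i R)) hmem).symm
      have h3 : eval g (homogeneousComponent e R) = eval g R -
          ∑ i ∈ (Finset.range (R.totalDegree + 1)).erase e,
            eval g (homogeneousComponent i R) := by
        rw [h2]; ring
      rw [h3]
      exact sub_mem htotal (Ideal.sum_mem _ fun i hi => hother i (Finset.ne_of_mem_erase hi))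
    · rw [homogeneousComponent_eq_zero _ _ (by
        rw [Finset.mem_range, not_lt] at hmem; omega), map_zero]
      exact zero_mem _
  -- pass to `A/J^{d-e+1}`, where `g` is quasi-regular
  set π := Ideal.Quotient.mk (J ^ (d - e + 1)) with hπ
  have hqr : CAlgX.IsQuasiRegular (fun k => π (g k)) :=
    isQuasiRegular_of_isH1Regular _ (isH1Regular_quotient_pow f g hf hg (d - e + 1))
  have hspan : Ideal.span (Set.range (fun k => π (g k))) = G.map π := by
    rw [hG, Ideal.map_span, ← Set.range_comp]; rfl
  have h4 := hqr e (map π (homogeneousComponent e R))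
    ((homogeneousComponent_isHomogeneous e R).map π) (by
      rw [hspan, ← Ideal.map_pow]
      have h5 : eval (fun k => π (g k)) (map π (homogeneousComponent e R)) =
          π (eval g (homogeneousComponent e R)) := by
        rw [eval_map, ← eval₂_id, eval₂_comp_left π]; rfl
      rw [h5]
      obtain ⟨a, ha, b, hb, hab⟩ := Submodule.mem_sup.mp hmain
      rw [← hab, map_add, Ideal.Quotient.eq_zero_iff_mem.mpr ha, zero_add]
      exact Ideal.mem_map_of_mem π hb) M
  rw [coeff_map, hspan, coeff_homogeneousComponent, if_pos he.symm] at h4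
  obtain ⟨y, hy, hy'⟩ := (Ideal.mem_map_iff_of_surjective π Ideal.Quotient.mk_surjective).mp h4
  have h6 : coeff M R ∈ J ^ (d - e + 1) ⊔ G := by
    have h7 : coeff M R - y ∈ J ^ (d - e + 1) := by
      rw [← Ideal.Quotient.eq_zero_iff_mem, map_sub, hy', sub_self]
    have h8 : coeff M R = (coeff M R - y) + y := by ring
    rw [h8]
    exact add_mem (Ideal.mem_sup_left h7) (Ideal.mem_sup_right hy)
  rw [hR, coeff_partialEval f hP M e he.symm hed] at h6
  have h9 := coeff_mem_sup_of_monComb_mem f g hf hg (d - e) _ h6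
    ⟨expL D, mem_expos.mpr hNdeg⟩
  simpa only [hM, appendExp_expL_expR] using h9

end Main

end Groth.Agent.Lib.Helper47
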