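import Mathlib
import Groth.Agent.Lib.Helper47.QuasiRegularAppend

/-!
# `I ∩ J² = I J` when `J/I` is locally `H₁`-regular (helper47)
-/

set_option autoImplicit false
universe u

namespace Groth.Agent.Lib.Helper47

section Key

variable {A' Q : Type u} [CommRing A'] [CommRing Q]

theorem inf_sq_le_mul_of_isH1Regular (π : A' →+* Q) (hπ : Function.Surjective π)
    (I' J' : Ideal A') (hI : RingHom.ker π = I') {c : ℕ} (f : Fin c → Q)
    (hf : CAlgX.IsH1Regular f) (hspan : Ideal.span (Set.range f) = J'.map π) :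
    I' ⊓ J' ^ 2 ≤ I' * J' := by
  -- lifts of the generators
  have hex : ∀ k, ∃ gk ∈ J', π gk = f k := by
    intro k
    have : f k ∈ J'.map π := by
      rw [← hspan]
      exact Ideal.subset_span ⟨k, rfl⟩
    exact (Ideal.mem_map_iff_of_surjective π hπ).mp this
  choose g hgJ hgf using hex
  have hfg : f = fun k => π (g k) := funext fun k => (hgf k).symm
  set G : Ideal A' := Ideal.span (Set.range g) with hG
  have hGJ : G ≤ J' := Ideal.span_le.mpr (by rintro _ ⟨k, rfl⟩; exact hgJ k)
  have hJ : J' ≤ I' ⊔ G := by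
    intro y hy
    have h1 : π y ∈ Ideal.span (Set.range f) := by
      rw [hspan]
      exact Ideal.mem_map_of_mem π hy
    obtain ⟨q, hq⟩ := Ideal.mem_span_range_iff_exists_fun.mp h1
    choose a ha using fun k => hπ (q k)
    have h2 : y - ∑ k, a k * g k ∈ I' := by
      rw [← hI, RingHom.mem_ker, map_sub, map_sum, ← hq, sub_eq_zero]
      refine Finset.sum_congr rfl fun k _ => ?_
      rw [map_mul, ha, hgf]
    have h3 : ∑ k, a k * g k ∈ G :=
      Ideal.sum_mem _ fun k _ => Ideal.mul_mem_left _ _ (Ideal.subset_span ⟨k, rfl⟩)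
    have : y = (y - ∑ k, a k * g k) + ∑ k, a k * g k := by ring
    rw [this]
    exact Submodule.add_mem_sup h2 h3
  have hsq : J' ^ 2 ≤ I' * J' ⊔ G := by
    rw [sq, Ideal.mul_le]
    intro r hr s hs
    obtain ⟨i, hi, t, ht, rfl⟩ := Submodule.mem_sup.mp (hJ hr)
    rw [add_mul]
    exact Submodule.add_mem_sup (Ideal.mul_mem_mul hi hs) (Ideal.mul_mem_right _ _ ht)
  intro x hx
  obtain ⟨hxI, hxJ⟩ := Ideal.mem_inf.mp hx
  obtain ⟨y, hy, z, hz, rfl⟩ := Submodule.mem_sup.mp (hsq hxJ)
  have hyI : y ∈ I' := Ideal.mul_le_left hy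
  have hzI : z ∈ I' := by
    have := I'.sub_mem hxI hyI
    rwa [add_sub_cancel_left] at this
  obtain ⟨cf, hcf⟩ := Ideal.mem_span_range_iff_exists_fun.mp hz
  -- the relation
  have hrel : ∑ k, π (cf k) * f k = 0 := by
    have : π z = 0 := by rw [← RingHom.mem_ker, hI]; exact hzI
    rw [← this, ← hcf, map_sum]
    refine Finset.sum_congr rfl fun k _ => ?_
    rw [map_mul, hgf]
  have htriv : (fun k => π (cf k)) ∈ trivRel (fun k => π (g k)) := by
    rw [← hfg]
    exact hf _ hrel
  obtain ⟨t, ht, htπ⟩ := exists_lift_trivRel π hπ g _ htriv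
  have ht0 := sum_mul_eq_zero_of_mem_trivRel g t ht
  have hz' : z = ∑ k, (cf k - t k) * g k := by
    rw [← hcf]
    simp only [sub_mul, Finset.sum_sub_distrib, ht0, sub_zero]
  refine Ideal.add_mem _ hy ?_
  rw [hz']
  refine Ideal.sum_mem _ fun k _ => Ideal.mul_mem_mul ?_ (hgJ k)
  rw [← hI, RingHom.mem_ker, map_sub, htπ, sub_self]

end Key

section Away

variable {A : Type u} [CommRing A]

theorem awayMap_mk_surjective (I : Ideal A) (g : A) :
    Function.Surjective (Localization.awayMap (Ideal.Quotient.mk I) g) := by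
  rw [Localization.awayMap_surjective_iff]
  intro a
  obtain ⟨b, rfl⟩ := Ideal.Quotient.mk_surjective a
  exact ⟨b, 0, by simp⟩

theorem ker_awayMap_mk (I : Ideal A) (g : A) :
    RingHom.ker (Localization.awayMap (Ideal.Quotient.mk I) g) =
      I.map (algebraMap A (Localization.Away g)) := by
  apply le_antisymm
  · intro x hx
    obtain ⟨a, s, rfl⟩ := IsLocalization.exists_mk'_eq (Submonoid.powers g) x
    rw [RingHom.mem_ker] at hx
    change IsLocalization.map (Localization.Away (Ideal.Quotient.mk I g)) (Ideal.Quotient.mk I) _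
      (IsLocalization.mk' (Localization.Away g) a s) = 0 at hx
    rw [IsLocalization.map_mk', IsLocalization.mk'_eq_zero_iff] at hx
    obtain ⟨⟨m, n, hn⟩, hm⟩ := hx
    rw [IsLocalization.mk'_mem_map_algebraMap_iff]
    refine ⟨g ^ n, ⟨n, rfl⟩, ?_⟩
    rw [← Ideal.Quotient.eq_zero_iff_mem, map_mul, map_pow]
    simp only at hn
    rw [hn]
    exact hm
  · rw [Ideal.map_le_iff_le_comap]
    intro a ha
    rw [Ideal.mem_comap, RingHom.mem_ker]
    change IsLocalization.map (Localization.Away (Ideal.Quotient.mk I g)) (Ideal.Quotient.mk I) _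
      (algebraMap A (Localization.Away g) a) = 0
    rw [IsLocalization.map_eq, Ideal.Quotient.eq_zero_iff_mem.mpr ha, map_zero]

theorem awayMap_comp_algebraMap (I : Ideal A) (g : A) :
    (Localization.awayMap (Ideal.Quotient.mk I) g).comp (algebraMap A (Localization.Away g)) =
      (algebraMap (A ⧸ I) (Localization.Away (Ideal.Quotient.mk I g))).comp
        (Ideal.Quotient.mk I) := by
  ext a
  simp only [RingHom.comp_apply]
  change IsLocalization.map (Localization.Away (Ideal.Quotient.mk I g)) (Ideal.Quotient.mk I) _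
      (algebraMap A (Localization.Away g) a) = _
  rw [IsLocalization.map_eq]

/-- If, after inverting `g`, the ideal `J/I` is generated by an `H₁`-regular sequence, then any
`x ∈ I ∩ J²` is multiplied into `I J` by a power of `g`. -/
theorem exists_pow_mul_mem_of_isH1Regular (I J : Ideal A) (g : A) {c : ℕ}
    (f : Fin c → Localization.Away (Ideal.Quotient.mk I g)) (hf : CAlgX.IsH1Regular f)
    (hspan : Ideal.span (Set.range f) = (J.map (Ideal.Quotient.mk I)).map
      (algebraMap (A ⧸ I) (Localization.Away (Ideal.Quotient.mk I g))))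
    {x : A} (hx : x ∈ I ⊓ J ^ 2) : ∃ N : ℕ, g ^ N * x ∈ I * J := by
  set π := Localization.awayMap (Ideal.Quotient.mk I) g with hπdef
  have hspan' : Ideal.span (Set.range f) = (J.map (algebraMap A (Localization.Away g))).map π := by
    rw [hspan, Ideal.map_map, Ideal.map_map, awayMap_comp_algebraMap]
  have hkey := inf_sq_le_mul_of_isH1Regular π (awayMap_mk_surjective I g)
    (I.map (algebraMap A (Localization.Away g))) (J.map (algebraMap A (Localization.Away g)))
    (ker_awayMap_mk I g) f hf hspan'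
  have hx' : algebraMap A (Localization.Away g) x ∈
      I.map (algebraMap A (Localization.Away g)) ⊓ J.map (algebraMap A (Localization.Away g)) ^ 2 := by
    refine ⟨Ideal.mem_map_of_mem _ hx.1, ?_⟩
    rw [← Ideal.map_pow]
    exact Ideal.mem_map_of_mem _ hx.2
  have h1 := hkey hx'
  rw [← Ideal.map_mul,
    IsLocalization.algebraMap_mem_map_algebraMap_iff (Submonoid.powers g)] at h1
  obtain ⟨m, ⟨N, rfl⟩, hm⟩ := h1
  exact ⟨N, hm⟩

end Away

section Main

variable {A : Type u} [CommRing A]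

theorem inf_sq_eq_mul_of_locally_isH1Regular (I J : Ideal A) (hIJ : I ≤ J)
    (h : ∀ (𝔮 : Ideal (A ⧸ I)) [𝔮.IsPrime], J.map (Ideal.Quotient.mk I) ≤ 𝔮 →
      ∃ g : A ⧸ I, g ∉ 𝔮 ∧ ∃ (c : ℕ) (f : Fin c → Localization.Away g),
        CAlgX.IsH1Regular f ∧
          Ideal.span (Set.range f) =
            (J.map (Ideal.Quotient.mk I)).map (algebraMap (A ⧸ I) (Localization.Away g))) :
    I ⊓ J ^ 2 = I * J := by
  apply le_antisymm
  · intro x hx
    by_contra hxIJ
    have hK : (I * J).colon {x} ≠ ⊤ := by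
      intro htop
      have : (1 : A) ∈ (I * J).colon {x} := htop ▸ Submodule.mem_top
      rw [Submodule.mem_colon_singleton, one_smul] at this
      exact hxIJ this
    obtain ⟨𝔪, h𝔪, hK𝔪⟩ := Ideal.exists_le_maximal _ hK
    have hprime : 𝔪.IsPrime := h𝔪.isPrime
    by_cases hJ𝔪 : J ≤ 𝔪
    · have hI𝔪 : I ≤ 𝔪 := hIJ.trans hJ𝔪
      have hker : RingHom.ker (Ideal.Quotient.mk I) ≤ 𝔪 := by rw [Ideal.mk_ker]; exact hI𝔪
      have hq : (𝔪.map (Ideal.Quotient.mk I)).IsPrime :=
        Ideal.map_isPrime_of_surjective Ideal.Quotient.mk_surjective hker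
      obtain ⟨g, hg, c, f, hf, hspan⟩ := h (𝔪.map (Ideal.Quotient.mk I)) (Ideal.map_mono hJ𝔪)
      obtain ⟨g', rfl⟩ := Ideal.Quotient.mk_surjective g
      obtain ⟨N, hN⟩ := exists_pow_mul_mem_of_isH1Regular I J g' f hf hspan hx
      have h1 : g' ^ N ∈ (I * J).colon {x} := by
        rw [Submodule.mem_colon_singleton, smul_eq_mul]
        exact hN
      have h2 : g' ∈ 𝔪 := hprime.mem_of_pow_mem N (hK𝔪 h1)
      exact hg (Ideal.mem_map_of_mem _ h2)
    · obtain ⟨j, hjJ, hj𝔪⟩ := Set.not_subset.mp hJ𝔪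
      have h1 : j ∈ (I * J).colon {x} := by
        rw [Submodule.mem_colon_singleton, smul_eq_mul, mul_comm j x]
        exact Ideal.mul_mem_mul hx.1 hjJ
      exact hj𝔪 (hK𝔪 h1)
  · exact le_inf Ideal.mul_le_left ((Ideal.mul_mono_left hIJ).trans (by rw [sq]))

end Main

end Groth.Agent.Lib.Helper47
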