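import Mathlib.AlgebraicGeometry.Morphisms.QuasiFinite
import Mathlib.AlgebraicGeometry.Morphisms.Integral
import Mathlib.AlgebraicGeometry.Morphisms.Finite
import Mathlib.AlgebraicGeometry.Fiber
import Mathlib.AlgebraicGeometry.ZariskisMainTheorem
import Mathlib.AlgebraicGeometry.Noetherian
import Mathlib.RingTheory.Spectrum.Prime.Jacobson

/-!
# Closed points of fibres and residue field extensions
-/

set_option autoImplicit false
universe u

open AlgebraicGeometry CategoryTheory

namespace Groth.Agent.Lib.Helper47

/-- Let `Z` be a scheme over `Spec k` and `j : Spec K ⟶ Z` a morphism from a one-point spectrum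
such that the composite `Spec K ⟶ Spec k` comes from an integral ring map `k ⟶ K`.
Then the image of `j` is closed. -/
theorem isClosed_range_of_isIntegral {Z : Scheme.{u}} {k K : CommRingCat.{u}}
    [Subsingleton (Spec K)]
    (π : Z ⟶ Spec k) (j : Spec K ⟶ Z) (ψ : k ⟶ K) (h : j ≫ π = Spec.map ψ)
    (hψ : ψ.hom.IsIntegral) : IsClosed (Set.range j) := by
  rw [← closure_subset_iff_isClosed]
  intro z' hz'
  -- take an affine open neighbourhood `U` of `z'`
  obtain ⟨_, ⟨U₀, hU₀, rfl⟩, hz'U₀, -⟩ :=
    Z.isBasis_affineOpens.exists_subset_of_mem_open (Set.mem_univ z') isOpen_univ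
  obtain ⟨U, hU, hz'U⟩ : ∃ U : Z.Opens, IsAffineOpen U ∧ z' ∈ U := ⟨U₀, hU₀, hz'U₀⟩
  clear hz'U₀ hU₀ U₀
  -- some point of the range lies in `U`
  obtain ⟨_, hyU, ⟨a, rfl⟩⟩ := mem_closure_iff.mp hz' U U.2 hz'U
  have hsub : Set.range j ⊆ Set.range U.ι := by
    rw [Scheme.Opens.range_ι]
    rintro _ ⟨b, rfl⟩
    rw [Subsingleton.elim b a]
    exact hyU
  let jU : Spec K ⟶ U.toScheme := IsOpenImmersion.lift U.ι j hsub
  have hfac : jU ≫ U.ι = j := IsOpenImmersion.lift_fac _ _ _
  have : IsAffine U.toScheme := hU
  have hint : IsIntegralHom (jU ≫ (U.ι ≫ π)) := by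
    rw [← Category.assoc, hfac, h, IsIntegralHom.SpecMap_iff]
    exact hψ
  have : IsIntegralHom jU := IsIntegralHom.of_comp jU (U.ι ≫ π)
  have hcl : IsClosed (Set.range jU) := jU.isClosedMap.isClosed_range
  -- `z'` as a point of `U` lies in the closure of the range of `jU`
  let zU : U.toScheme := ⟨z', hz'U⟩
  have hzU : U.ι zU = z' := rfl
  have hmem : zU ∈ closure (Set.range jU) := by
    rw [U.ι.isOpenEmbedding.isInducing.closure_eq_preimage_closure_image, Set.mem_preimage,
      ← Set.range_comp, hzU]
    have : (U.ι : _ → _) ∘ (jU : _ → _) = (j : _ → _) := by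
      rw [← hfac]; ext; simp
    rw [this]
    exact hz'
  rw [hcl.closure_eq] at hmem
  obtain ⟨b, hb⟩ := hmem
  refine ⟨b, ?_⟩
  rw [← hfac, Scheme.Hom.comp_apply, hb, hzU]

/-- If `κ(x)` is integral over `κ(f x)`, then `x` is closed in its fibre. -/
theorem isClosed_singleton_asFiber_of_isIntegral {X S : Scheme.{u}} (f : X ⟶ S) (x : X)
    (hψ : (f.residueFieldMap x).hom.IsIntegral) :
    IsClosed ({f.asFiber x} : Set ↑(f.fiber (f x))) := by
  rw [← Scheme.Hom.range_asFiberHom]
  exact isClosed_range_of_isIntegral
    (f.fiberToSpecResidueField (f x)) (f.asFiberHom x) (f.residueFieldMap x)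
    (f.asFiberHom_fiberToSpecResidueField x) hψ

/-- For `f` locally of finite type, `x` is closed in its fibre iff `κ(x)` is finite over
`κ(f x)`. -/
theorem isClosed_singleton_asFiber_iff_finite {X S : Scheme.{u}} (f : X ⟶ S)
    [LocallyOfFiniteType f] (x : X) :
    IsClosed ({f.asFiber x} : Set ↑(f.fiber (f x))) ↔ (f.residueFieldMap x).hom.Finite := by
  constructor
  · intro hcl
    have hcl' : IsClosed (Set.range (f.asFiberHom x)) := by
      rw [Scheme.Hom.range_asFiberHom]; exact hcl
    have : IsClosedImmersion (f.asFiberHom x) := .of_isPreimmersion _ hcl'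
    have : LocallyOfFiniteType (f.fiberToSpecResidueField (f x)) :=
      MorphismProperty.pullback_snd _ _ inferInstance
    have hlft : LocallyOfFiniteType (f.asFiberHom x ≫ f.fiberToSpecResidueField (f x)) :=
      inferInstance
    rw [f.asFiberHom_fiberToSpecResidueField x,
      HasRingHomProperty.Spec_iff (P := @LocallyOfFiniteType)] at hlft
    exact RingHom.finite_iff_finiteType_of_isJacobsonRing.mpr hlft
  · intro hfin
    exact isClosed_singleton_asFiber_of_isIntegral f x hfin.to_isIntegral

/-- In a locally Noetherian Jacobson scheme a point is isolated iff it is closed and has no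
proper generization. -/
theorem isOpen_singleton_iff_of_isLocallyNoetherian_of_jacobsonSpace (F : Scheme.{u})
    [IsLocallyNoetherian F] [JacobsonSpace F] (z : F) :
    IsOpen ({z} : Set F) ↔ IsClosed ({z} : Set F) ∧ ∀ z' : F, z' ⤳ z → z' = z := by
  constructor
  · intro ho
    refine ⟨isClosed_singleton_of_isLocallyClosed_singleton ho.isLocallyClosed, fun z' hz' => ?_⟩
    exact hz'.mem_open ho (Set.mem_singleton z)
  · rintro ⟨hcl, hgen⟩
    obtain ⟨_, ⟨U₀, hU₀, rfl⟩, hzU₀, -⟩ :=
      F.isBasis_affineOpens.exists_subset_of_mem_open (Set.mem_univ z) isOpen_univ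
    obtain ⟨U, hU, hzU⟩ : ∃ U : F.Opens, IsAffineOpen U ∧ z ∈ U := ⟨U₀, hU₀, hzU₀⟩
    clear hzU₀ hU₀ U₀
    have : IsNoetherianRing Γ(F, U) := IsLocallyNoetherian.component_noetherian ⟨U, hU⟩
    have : JacobsonSpace (Spec Γ(F, U)) :=
      JacobsonSpace.of_isOpenEmbedding hU.fromSpec.isOpenEmbedding
    have : IsJacobsonRing Γ(F, U) := PrimeSpectrum.isJacobsonRing_iff_jacobsonSpace.mpr this
    let g : PrimeSpectrum Γ(F, U) → F := fun q => hU.fromSpec q
    have hgemb : Topology.IsOpenEmbedding g := hU.fromSpec.isOpenEmbedding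
    let p : PrimeSpectrum Γ(F, U) := hU.primeIdealOf ⟨z, hzU⟩
    have hp : g p = z := hU.fromSpec_primeIdealOf ⟨z, hzU⟩
    have hinj : Function.Injective g := hgemb.injective
    have hpre : ({p} : Set (PrimeSpectrum Γ(F, U))) = g ⁻¹' {z} := by
      ext q
      simp only [Set.mem_singleton_iff, Set.mem_preimage]
      rw [← hp]
      exact ⟨fun h => by rw [h], fun h => hinj h⟩
    have h1 : IsClosed ({p} : Set (PrimeSpectrum Γ(F, U))) := by
      have := hcl.preimage hgemb.continuous
      rw [← hpre] at this
      exact this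
    have h2 : StableUnderGeneralization ({p} : Set (PrimeSpectrum Γ(F, U))) := by
      intro a b hba ha
      rw [Set.mem_singleton_iff] at ha ⊢
      subst ha
      have h4 : g b ⤳ g p := hba.map hgemb.continuous
      rw [hp] at h4
      have h5 := hgen _ h4
      rw [← hp] at h5
      exact hinj h5
    have h3 : IsOpen ({p} : Set (PrimeSpectrum Γ(F, U))) := by
      have htfae := PrimeSpectrum.isOpen_singleton_tfae_of_isNoetherian_of_isJacobsonRing p
      have h7 : IsClosed ({p} : Set (PrimeSpectrum Γ(F, U))) ∧
          StableUnderGeneralization ({p} : Set (PrimeSpectrum Γ(F, U))) ↔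
          IsOpen ({p} : Set (PrimeSpectrum Γ(F, U))) := htfae.out 2 0
      exact h7.mp ⟨h1, h2⟩
    have h6 := hgemb.isOpenMap _ h3
    rwa [Set.image_singleton, hp] at h6

/-- A morphism locally of finite type is quasi-finite at `x` iff `x` is closed in its fibre
and no other point of the fibre specializes to it. -/
theorem quasiFiniteAt_iff_isClosed_and_forall_specializes {X S : Scheme.{u}} (f : X ⟶ S)
    [LocallyOfFiniteType f] (x : X) :
    f.QuasiFiniteAt x ↔
      (IsClosed ({f.asFiber x} : Set ↑(f.fiber (f x))) ∧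
        ∀ x' : ↑(f.fiber (f x)), x' ⤳ f.asFiber x → x' = f.asFiber x) := by
  have : LocallyOfFiniteType (f.fiberToSpecResidueField (f x)) :=
    MorphismProperty.pullback_snd _ _ inferInstance
  have : IsLocallyNoetherian (f.fiber (f x)) :=
    LocallyOfFiniteType.isLocallyNoetherian (f.fiberToSpecResidueField (f x))
  rw [Scheme.Hom.quasiFiniteAt_iff_isOpen_singleton_asFiber]
  exact isOpen_singleton_iff_of_isLocallyNoetherian_of_jacobsonSpace _ _

/-- In a Noetherian space, the set of isolated points is finite. -/
theorem finite_setOf_isOpen_singleton (T : Type*) [TopologicalSpace T]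
    [TopologicalSpace.NoetherianSpace T] : {z : T | IsOpen ({z} : Set T)}.Finite := by
  refine (TopologicalSpace.NoetherianSpace.isCompact _).finite ?_
  rw [isDiscrete_iff_forall_mem_exists_isOpen]
  intro y hy
  refine ⟨{y}, hy, ?_⟩
  ext z
  simp only [Set.mem_inter_iff, Set.mem_singleton_iff, Set.mem_ofPred_eq, and_iff_left_iff_imp]
  rintro rfl
  exact hy

/-- A morphism of finite type is quasi-finite at only finitely many points of a given fibre. -/
theorem finite_setOf_quasiFiniteAt {X S : Scheme.{u}} (f : X ⟶ S) [LocallyOfFiniteType f]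
    [QuasiCompact f] (s : S) : {x : X | f x = s ∧ f.QuasiFiniteAt x}.Finite := by
  have : LocallyOfFiniteType (f.fiberToSpecResidueField s) :=
    MorphismProperty.pullback_snd _ _ inferInstance
  have : IsLocallyNoetherian (f.fiber s) :=
    LocallyOfFiniteType.isLocallyNoetherian (f.fiberToSpecResidueField s)
  have : IsNoetherian (f.fiber s) := { }
  have hfin := finite_setOf_isOpen_singleton (f.fiber s)
  refine (hfin.image (f.fiberι s)).subset ?_
  rintro x ⟨rfl, hx⟩
  refine ⟨f.asFiber x, ?_, f.fiberι_asFiber x⟩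
  exact Scheme.Hom.quasiFiniteAt_iff_isOpen_singleton_asFiber.mp hx

/-- `x` is closed in its fibre iff no other point of `X` with the same image is a specialization
of `x`. -/
theorem isClosed_singleton_asFiber_iff_forall_specializes {X S : Scheme.{u}} (f : X ⟶ S) (x : X) :
    IsClosed ({f.asFiber x} : Set ↑(f.fiber (f x))) ↔
      ∀ x' : X, x ⤳ x' → f x' = f x → x' = x := by
  have hind : Topology.IsInducing (f.fiberι (f x)) := (f.fiberι (f x)).isEmbedding.isInducing
  have hinj : Function.Injective (f.fiberι (f x)) := (f.fiberι (f x)).isEmbedding.injective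
  rw [← closure_subset_iff_isClosed]
  constructor
  · intro h x' hxx' hfx'
    have hx' : x' ∈ Set.range (f.fiberι (f x)) := by
      rw [Scheme.Hom.range_fiberι]; exact hfx'
    obtain ⟨z', rfl⟩ := hx'
    have h1 : f.asFiber x ⤳ z' := by
      rw [← hind.specializes_iff, Scheme.Hom.fiberι_asFiber]
      exact hxx'
    have h2 : z' ∈ ({f.asFiber x} : Set _) := h (specializes_iff_mem_closure.mp h1)
    rw [Set.mem_singleton_iff] at h2
    rw [h2, Scheme.Hom.fiberι_asFiber]
  · intro h z' hz'
    rw [← specializes_iff_mem_closure] at hz'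
    have h1 : x ⤳ f.fiberι (f x) z' := by
      have := hz'.map (f.fiberι (f x)).continuous
      rwa [Scheme.Hom.fiberι_asFiber] at this
    have h2 : f (f.fiberι (f x) z') = f x := by
      have : f.fiberι (f x) z' ∈ Set.range (f.fiberι (f x)) := Set.mem_range_self z'
      rw [Scheme.Hom.range_fiberι] at this
      exact this
    have h3 := h _ h1 h2
    rw [Set.mem_singleton_iff]
    apply hinj
    rw [h3, Scheme.Hom.fiberι_asFiber]

/-- If `f` is surjective, `g` is locally of finite type and `f ≫ g` is locally quasi-finite,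
then `g` is locally quasi-finite. -/
theorem locallyQuasiFinite_of_comp_of_surjective {X Y S : Scheme.{u}} (f : X ⟶ Y) (g : Y ⟶ S)
    [Surjective f] [LocallyQuasiFinite (f ≫ g)] [LocallyOfFiniteType (f ≫ g)]
    [LocallyOfFiniteType g] : LocallyQuasiFinite g := by
  -- every point of `Y` is closed in its fibre
  have hclosed : ∀ y : Y, IsClosed ({g.asFiber y} : Set ↑(g.fiber (g y))) := by
    intro y
    obtain ⟨x, rfl⟩ := f.surjective y
    have hq : (f ≫ g).QuasiFiniteAt x := (f ≫ g).quasiFiniteAt x
    have hfin : ((f ≫ g).residueFieldMap x).hom.Finite :=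
      (isClosed_singleton_asFiber_iff_finite (f ≫ g) x).mp
        ((quasiFiniteAt_iff_isClosed_and_forall_specializes (f ≫ g) x).mp hq).1
    have hint : ((f ≫ g).residueFieldMap x).hom.IsIntegral := hfin.to_isIntegral
    have hcomp : ((f ≫ g).residueFieldMap x).hom =
        (f.residueFieldMap x).hom.comp (g.residueFieldMap (f x)).hom := by
      rw [Scheme.residueFieldMap_comp]; rfl
    have hint2 : ((f.residueFieldMap x).hom.comp (g.residueFieldMap (f x)).hom).IsIntegral := by
      rw [← hcomp]; exact hint
    have hint' : (g.residueFieldMap (f x)).hom.IsIntegral :=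
      RingHom.IsIntegral.tower_bot _ _ (f.residueFieldMap x).hom.injective hint2
    exact isClosed_singleton_asFiber_of_isIntegral g (f x) hint'
  rw [← Scheme.Hom.quasiFiniteLocus_eq_top_iff]
  ext y
  simp only [TopologicalSpace.Opens.coe_top, Set.mem_univ, iff_true, SetLike.mem_coe,
    Scheme.Hom.mem_quasiFiniteLocus]
  rw [quasiFiniteAt_iff_isClosed_and_forall_specializes]
  refine ⟨hclosed y, fun z' hz' => ?_⟩
  have hinj : Function.Injective (g.fiberι (g y)) := (g.fiberι (g y)).isEmbedding.injective
  set y₁ := g.fiberι (g y) z' with hy₁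
  have h1 : y₁ ⤳ y := by
    have := hz'.map (g.fiberι (g y)).continuous
    rwa [Scheme.Hom.fiberι_asFiber] at this
  have h2 : g y₁ = g y := by
    have : y₁ ∈ Set.range (g.fiberι (g y)) := Set.mem_range_self z'
    rw [Scheme.Hom.range_fiberι] at this
    exact this
  have h3 : y = y₁ :=
    (isClosed_singleton_asFiber_iff_forall_specializes g y₁).mp (hclosed y₁) y h1 h2.symm
  apply hinj
  rw [Scheme.Hom.fiberι_asFiber, ← hy₁, ← h3]

/-- A point `z` of the fibre of `f` over `t` is closed iff no other point of `X` over `t` is a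
specialization of its image. -/
theorem isClosed_singleton_fiber_iff_forall_specializes {X S : Scheme.{u}} (f : X ⟶ S) (t : S)
    (z : ↑(f.fiber t)) :
    IsClosed ({z} : Set ↑(f.fiber t)) ↔
      ∀ x' : X, f.fiberι t z ⤳ x' → f x' = t → x' = f.fiberι t z := by
  have hind : Topology.IsInducing (f.fiberι t) := (f.fiberι t).isEmbedding.isInducing
  have hinj : Function.Injective (f.fiberι t) := (f.fiberι t).isEmbedding.injective
  rw [← closure_subset_iff_isClosed]
  constructor
  · intro h x' hxx' hfx'
    have hx' : x' ∈ Set.range (f.fiberι t) := by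
      rw [Scheme.Hom.range_fiberι]; exact hfx'
    obtain ⟨z', rfl⟩ := hx'
    have h1 : z ⤳ z' := by
      rw [← hind.specializes_iff]
      exact hxx'
    have h2 : z' ∈ ({z} : Set _) := h (specializes_iff_mem_closure.mp h1)
    rw [Set.mem_singleton_iff] at h2
    rw [h2]
  · intro h z' hz'
    rw [← specializes_iff_mem_closure] at hz'
    have h1 : f.fiberι t z ⤳ f.fiberι t z' := hz'.map (f.fiberι t).continuous
    have h2 : f (f.fiberι t z') = t := by
      have : f.fiberι t z' ∈ Set.range (f.fiberι t) := Set.mem_range_self z'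
      rw [Scheme.Hom.range_fiberι] at this
      exact this
    have h3 := h _ h1 h2
    rw [Set.mem_singleton_iff]
    exact hinj h3

/-- Being closed in the fibre is stable under base change (for morphisms locally of finite
type). -/
theorem isClosed_singleton_asFiber_baseChange {X S X' S' : Scheme.{u}} (f : X ⟶ S)
    [LocallyOfFiniteType f] (g : S' ⟶ S) (g' : X' ⟶ X) (f' : X' ⟶ S')
    (hsq : IsPullback g' f' f g) (x' : X')
    (hx : IsClosed ({f.asFiber (g' x')} : Set ↑(f.fiber (f (g' x'))))) :
    IsClosed ({f'.asFiber x'} : Set ↑(f'.fiber (f' x'))) := by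
  set s' := f' x' with hs'
  have hcomm : f (g' x') = g s' := by
    rw [← Scheme.Hom.comp_apply, hsq.w, Scheme.Hom.comp_apply]
  -- the comparison map of fibres and the pullback square
  let φ : f'.fiber s' ⟶ f.fiber (g s') :=
    Limits.pullback.map _ _ _ _ g' (Spec.map (g.residueFieldMap s')) g hsq.w.symm (by simp)
  have hφsq : IsPullback φ (f'.fiberToSpecResidueField s') (f.fiberToSpecResidueField (g s'))
      (Spec.map (g.residueFieldMap s')) := isPullback_fiberToSpecResidueField_of_isPullback hsq s'
  have hφι : φ ≫ f.fiberι (g s') = f'.fiberι s' ≫ g' := Limits.pullback.lift_fst _ _ _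
  let z : ↑(f.fiber (g s')) := φ (f'.asFiber x')
  have hz : f.fiberι (g s') z = g' x' := by
    change (φ ≫ f.fiberι (g s')) (f'.asFiber x') = _
    rw [hφι, Scheme.Hom.comp_apply, Scheme.Hom.fiberι_asFiber]
  -- `z` is a closed point of the fibre
  have hzcl : IsClosed ({z} : Set ↑(f.fiber (g s'))) := by
    rw [isClosed_singleton_fiber_iff_forall_specializes, hz]
    intro y hy hfy
    exact (isClosed_singleton_asFiber_iff_forall_specializes f (g' x')).mp hx y hy
      (hfy.trans hcomm.symm)
  have : IsClosedImmersion ((f.fiber (g s')).fromSpecResidueField z) :=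
    isClosed_singleton_iff_isClosedImmersion.mp hzcl
  let a := (f.fiber (g s')).fromSpecResidueField z
  have : LocallyOfFiniteType (f.fiberToSpecResidueField (g s')) :=
    MorphismProperty.pullback_snd _ _ inferInstance
  have hfin : IsFinite (a ≫ f.fiberToSpecResidueField (g s')) :=
    isFinite_iff_locallyOfFiniteType_of_jacobsonSpace.mpr inferInstance
  -- the base change `T` of `a` along `φ`
  have hpaste := (IsPullback.of_hasPullback φ a).flip.paste_vert hφsq
  have hfinT : IsFinite (Limits.pullback.fst φ a ≫ f'.fiberToSpecResidueField s') :=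
    MorphismProperty.of_isPullback hpaste hfin
  have : IsLocallyArtinian (Spec (S'.residueField s')) :=
    Scheme.isLocallyArtinianScheme_Spec.mpr inferInstance
  have : IsLocallyArtinian (Limits.pullback φ a) :=
    IsLocallyArtinian.of_locallyQuasiFinite
      (Limits.pullback.fst φ a ≫ f'.fiberToSpecResidueField s')
  -- the point `asFiber x'` lies in the image of `T`
  obtain ⟨t, ht, -⟩ := Scheme.Pullback.exists_preimage_pullback (f := φ) (g := a)
    (f'.asFiber x') (IsLocalRing.closedPoint _) (by
      change z = _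
      exact ((f.fiber (g s')).fromSpecResidueField_apply z _).symm)
  have hclT : IsClosed ({t} : Set ↑(Limits.pullback φ a)) := isClosed_discrete _
  have := (Limits.pullback.fst φ a).isClosedEmbedding.isClosedMap _ hclT
  rwa [Set.image_singleton, ht] at this

end Groth.Agent.Lib.Helper47
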