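import Groth.Prelude.Def_Brnch
import Mathlib.RingTheory.Ideal.MinimalPrime.Basic
import Mathlib.RingTheory.Ideal.Operations
import Mathlib.RingTheory.Nilpotent.Lemmas
import Mathlib.RingTheory.Localization.FractionRing
import Mathlib.SetTheory.Cardinal.Finite
import Mathlib.RingTheory.LocalRing.Basic
import Mathlib.RingTheory.LocalRing.MaximalIdeal.Basic
import Mathlib.RingTheory.Ideal.MinimalPrime.Localization
import Mathlib.RingTheory.IntegralClosure.IsIntegralClosure.Basic

/-!
# One branch iff unibranch
-/

set_option autoImplicit false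
universe u

namespace Groth.Agent.Lib.Helper47

/-- In a reduced ring with finitely many minimal primes, two distinct minimal primes give
orthogonal nonzero elements whose sum is a nonzerodivisor. -/
theorem exists_orthogonal_of_two_minimalPrimes (B : Type*) [CommRing B] [IsReduced B]
    (hfin : (minimalPrimes B).Finite) (p₁ p₂ : Ideal B) (h₁ : p₁ ∈ minimalPrimes B)
    (h₂ : p₂ ∈ minimalPrimes B) (hne : p₁ ≠ p₂) :
    ∃ x y : B, x ≠ 0 ∧ y ≠ 0 ∧ x * y = 0 ∧ x + y ∈ nonZeroDivisors B := by
  classical
  have hprime : ∀ q ∈ minimalPrimes B, q.IsPrime := fun q hq => Ideal.IsMinimalPrime.isPrime hq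
  have hmin : ∀ q ∈ minimalPrimes B, ∀ q' : Ideal B, q'.IsPrime → q' ≤ q → q ≤ q' :=
    fun q hq q' hq' hle => hq.2 ⟨hq', bot_le⟩ hle
  have hp₁ := hprime p₁ h₁
  set T : Set (Ideal B) := minimalPrimes B \ {p₁} with hT
  have hTfin : T.Finite := hfin.subset Set.sdiff_subset
  set J : Ideal B := hTfin.toFinset.inf id with hJ
  have hJle : ∀ q ∈ T, J ≤ q := fun q hq =>
    Finset.inf_le (f := id) (hTfin.mem_toFinset.mpr hq)
  -- prime avoidance
  have havoid : ¬ (((p₁ ⊔ J : Ideal B) : Set B) ⊆ ⋃ q ∈ minimalPrimes B, (q : Set B)) := by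
    intro hsub
    obtain ⟨q, hq, hle⟩ := (Ideal.subset_union_prime_finite hfin (f := id) p₁ p₁
      (fun i hi _ _ => hprime i hi)).mp hsub
    have hq1 : q = p₁ :=
      le_antisymm (hmin q hq p₁ hp₁ (le_sup_left.trans hle)) (le_sup_left.trans hle)
    subst hq1
    have hJq : J ≤ q := le_sup_right.trans hle
    obtain ⟨q', hq', hq'le⟩ := (Ideal.IsPrime.inf_le' hp₁).mp hJq
    have hq'T : q' ∈ T := hTfin.mem_toFinset.mp hq'
    have : q' = q := le_antisymm hq'le (hmin q h₁ q' (hprime q' hq'T.1) hq'le)
    exact hq'T.2 this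
  rw [Set.not_subset] at havoid
  obtain ⟨z, hz, hzn⟩ := havoid
  have hzn' : ∀ q ∈ minimalPrimes B, z ∉ q := by
    intro q hq hzq
    exact hzn (Set.mem_biUnion hq hzq)
  obtain ⟨y, hy, x, hx, rfl⟩ := Submodule.mem_sup.mp hz
  have hnil : ∀ w : B, (∀ q ∈ minimalPrimes B, w ∈ q) → w = 0 := by
    intro w hw
    have : w ∈ sInf (minimalPrimes B) := Ideal.mem_sInf.mpr fun {q} hq => hw q hq
    rw [minimalPrimes, Ideal.sInf_minimalPrimes] at this
    have h0 : (⊥ : Ideal B).radical = ⊥ := by
      have := nilradical_eq_zero B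
      rwa [nilradical] at this
    rw [h0] at this
    exact this
  have hp₂T : p₂ ∈ T := ⟨h₂, fun h => hne h.symm⟩
  refine ⟨x, y, ?_, ?_, ?_, ?_⟩
  · rintro rfl
    apply hzn' p₁ h₁
    rw [add_zero]; exact hy
  · rintro rfl
    apply hzn' p₂ h₂
    rw [zero_add]; exact hJle p₂ hp₂T hx
  · apply hnil
    intro q hq
    by_cases hqp : q = p₁
    · subst hqp
      exact Ideal.mul_mem_left _ _ hy
    · exact Ideal.mul_mem_right _ _ (hJle q ⟨hq, hqp⟩ hx)
  · rw [add_comm]
    refine mem_nonZeroDivisors_iff_right.mpr ?_
    intro w hw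
    apply hnil
    intro q hq
    have hq' := hprime q hq
    have : w * (y + x) ∈ q := by rw [hw]; exact q.zero_mem
    rcases hq'.mem_or_mem this with h | h
    · exact h
    · exact (hzn' q hq h).elim

/-- In a local ring every idempotent is `0` or `1`. -/
theorem eq_zero_or_eq_one_of_isIdempotentElem {L : Type*} [CommRing L] [IsLocalRing L] (e : L)
    (he : IsIdempotentElem e) : e = 0 ∨ e = 1 := by
  have h0 : e * (1 - e) = 0 := by
    have : e * e = e := he
    rw [mul_sub, mul_one, this, sub_self]
  rcases IsLocalRing.isUnit_or_isUnit_one_sub_self e with h | h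
  · right
    have := h.mul_right_eq_zero.mp h0
    exact (sub_eq_zero.mp this).symm
  · left
    exact h.mul_left_eq_zero.mp h0

/-- If the integral closure of a reduced ring with finitely many minimal primes in its total ring
of fractions is local, the ring is a domain. -/
theorem isDomain_of_isLocalRing_integralClosure (B : Type u) [CommRing B] [IsReduced B]
    [Nontrivial B] (hfin : (minimalPrimes B).Finite)
    (hloc : IsLocalRing (integralClosure B (FractionRing B))) : IsDomain B := by
  obtain ⟨⟨p₁, h₁⟩⟩ := Ideal.nonempty_minimalPrimes (I := (⊥ : Ideal B)) bot_ne_top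
  have h₁' : p₁ ∈ minimalPrimes B := h₁
  by_cases hall : ∀ q ∈ minimalPrimes B, q = p₁
  · -- unique minimal prime, equal to the nilradical, which is zero
    have hp₁ : p₁.IsPrime := Ideal.IsMinimalPrime.isPrime h₁
    have hbot : p₁ = ⊥ := by
      rw [eq_bot_iff]
      intro w hw
      have : w ∈ sInf (minimalPrimes B) :=
        Ideal.mem_sInf.mpr fun {q} hq => by rw [hall q hq]; exact hw
      rw [minimalPrimes, Ideal.sInf_minimalPrimes] at this
      have h0 : (⊥ : Ideal B).radical = ⊥ := by
        have := nilradical_eq_zero B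
        rwa [nilradical] at this
      rw [h0] at this
      exact this
    have : NoZeroDivisors B := ⟨fun {a b} hab => by
      have hmem : a * b ∈ p₁ := by rw [hab]; exact p₁.zero_mem
      rcases hp₁.mem_or_mem hmem with h | h
      · left; rw [hbot] at h; exact h
      · right; rw [hbot] at h; exact h⟩
    exact NoZeroDivisors.to_isDomain B
  · exfalso
    push Not at hall
    obtain ⟨p₂, h₂, hne⟩ := hall
    obtain ⟨x, y, hx, hy, hxy, hz⟩ :=
      exists_orthogonal_of_two_minimalPrimes B hfin p₁ p₂ h₁' h₂ (Ne.symm hne)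
    set Q := FractionRing B
    have hinj : Function.Injective (algebraMap B Q) := IsLocalization.injective Q le_rfl
    obtain ⟨u, hu⟩ : IsUnit (algebraMap B Q (x + y)) :=
      IsLocalization.map_units Q (⟨x + y, hz⟩ : nonZeroDivisors B)
    set ξ := algebraMap B Q x with hξ
    set η := algebraMap B Q y with hη
    have hξη : ξ * η = 0 := by rw [hξ, hη, ← map_mul, hxy, map_zero]
    have hsum : (u : Q) = ξ + η := by rw [hu, map_add]
    set e : Q := ξ * ↑u⁻¹ with he
    have hidem : IsIdempotentElem e := by
      change e * e = e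
      have h1 : ξ * ξ = ξ * ↑u := by rw [hsum, mul_add, hξη, add_zero]
      calc e * e = (ξ * ξ) * (↑u⁻¹ * ↑u⁻¹) := by rw [he]; ring
        _ = ξ * (↑u * ↑u⁻¹) * ↑u⁻¹ := by rw [h1]; ring
        _ = e := by rw [Units.mul_inv, mul_one]
    have hint : IsIntegral B e := by
      refine ⟨Polynomial.X ^ 2 - Polynomial.X, ?_, ?_⟩
      · exact Polynomial.monic_X_pow_sub (by simp)
      · have : e * e = e := hidem
        simp [pow_two, this]
    let e' : integralClosure B Q := ⟨e, hint⟩
    have hidem' : IsIdempotentElem e' := Subtype.ext hidem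
    rcases eq_zero_or_eq_one_of_isIdempotentElem e' hidem' with h | h
    · have h0 : e = 0 := congrArg Subtype.val h
      have : ξ = 0 := by
        have := congrArg (· * (u : Q)) h0
        simpa [he, mul_assoc] using this
      exact hx (hinj (by rw [← hξ, this, map_zero]))
    · have h1 : e = 1 := congrArg Subtype.val h
      have : ξ = ↑u := by
        have := congrArg (· * (u : Q)) h1
        simpa [he, mul_assoc] using this
      have hη0 : η = 0 := by
        rw [hsum] at this
        have := congrArg (fun t => t - ξ) this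
        simpa using this.symm
      exact hy (hinj (by rw [← hη, hη0, map_zero]))

/-- The minimal primes of `A` and of its reduction correspond. -/
theorem finite_minimalPrimes_red_iff (A : Type u) [CommRing A] :
    (minimalPrimes (CAlg2.red A)).Finite ↔ (minimalPrimes A).Finite := by
  have h1 : minimalPrimes A = (nilradical A).minimalPrimes := by
    rw [nilradical, Ideal.radical_minimalPrimes]; rfl
  rw [h1, Ideal.minimalPrimes_eq_comap]
  constructor
  · intro h
    exact h.image _
  · intro h
    exact Set.Finite.of_finite_image h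
      (Ideal.comap_injective_of_surjective _ Ideal.Quotient.mk_surjective).injOn

/-- A local ring has exactly one branch iff it is unibranch. -/
theorem numBranches_eq_one_iff (A : Type u) [CommRing A] [IsLocalRing A] :
    Brnch.numBranches A = 1 ↔ CAlg2.IsUnibranch A := by
  have hred : IsReduced (CAlg2.red A) :=
    (Ideal.isRadical_iff_quotient_reduced (nilradical A)).mp (Ideal.radical_isRadical _)
  have hnt : Nontrivial (CAlg2.red A) :=
    Ideal.Quotient.nontrivial_iff.mpr (by
      intro h
      have : (1 : A) ∈ nilradical A := by rw [h]; trivial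
      obtain ⟨n, hn⟩ := mem_nilradical.mp this
      rw [one_pow] at hn
      exact one_ne_zero hn)
  unfold Brnch.numBranches CAlg2.IsUnibranch
  constructor
  · intro h
    split_ifs at h with hfin
    · obtain ⟨hu⟩ := ENat.card_eq_one_iff_unique.mp h
      have hloc : IsLocalRing (CAlg2.normRed A) := by
        apply IsLocalRing.of_unique_max_ideal
        refine ⟨hu.default.asIdeal, hu.default.isMaximal, fun I hI => ?_⟩
        exact congrArg MaximalSpectrum.asIdeal (hu.uniq ⟨I, hI⟩)
      exact ⟨isDomain_of_isLocalRing_integralClosure (CAlg2.red A)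
        ((finite_minimalPrimes_red_iff A).mpr hfin) hloc, hloc⟩
    · exact (ENat.top_ne_one h).elim
  · rintro ⟨hdom, hloc⟩
    have hfin : (minimalPrimes A).Finite := by
      rw [← finite_minimalPrimes_red_iff]
      have hsub : minimalPrimes (CAlg2.red A) ⊆ {⊥} := by
        intro q hq
        have hbot : (⊥ : Ideal (CAlg2.red A)).IsPrime := Ideal.isPrime_bot
        exact le_antisymm (hq.2 ⟨hbot, le_rfl⟩ bot_le) bot_le
      exact (Set.finite_singleton _).subset hsub
    rw [if_pos hfin]
    exact ENat.card_eq_one_iff_unique.mpr ⟨inferInstance⟩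

end Groth.Agent.Lib.Helper47
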