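import Groth.Agent.Lib.Helper47.Unibranch
import Mathlib.FieldTheory.PurelyInseparable.Basic
import Mathlib.FieldTheory.SeparableDegree
import Mathlib.RingTheory.Ideal.GoingUp
import Mathlib.FieldTheory.IsAlgClosed.AlgebraicClosure

/-!
# Geometric branches of a local ring
-/

set_option autoImplicit false
universe u

open IsLocalRing

namespace Groth.Agent.Lib.Helper47

variable (A : Type u) [CommRing A] [IsLocalRing A] (m' : MaximalSpectrum (CAlg2.normRed A))

/-- The residue field of `m'`. -/
@[instance_reducible]
noncomputable def fieldQuotientNormRed : Field (CAlg2.normRed A ⧸ m'.asIdeal) :=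
  Ideal.Quotient.field m'.asIdeal

attribute [local instance] fieldQuotientNormRed

/-- `m'` lies over the maximal ideal of `A`. -/
theorem comap_toResidue_eq_maximalIdeal :
    RingHom.ker (Brnch.toResidue A m') = maximalIdeal A := by
  have h1 : (m'.asIdeal.comap (algebraMap (CAlg2.red A) (CAlg2.normRed A))).IsMaximal :=
    Ideal.isMaximal_comap_of_isIntegral_of_isMaximal m'.asIdeal
  have h2 : ((m'.asIdeal.comap (algebraMap (CAlg2.red A) (CAlg2.normRed A))).comap
      (Ideal.Quotient.mk (nilradical A))).IsMaximal :=
    Ideal.comap_isMaximal_of_surjective _ Ideal.Quotient.mk_surjective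
  rw [← IsLocalRing.eq_maximalIdeal h2]
  ext a
  rw [RingHom.mem_ker, Ideal.mem_comap, Ideal.mem_comap]
  change Ideal.Quotient.mk m'.asIdeal _ = 0 ↔ _
  rw [Ideal.Quotient.eq_zero_iff_mem]
  rfl

instance isLocalHom_toResidue : IsLocalHom (Brnch.toResidue A m') := by
  constructor
  intro a ha
  by_contra hna
  have : a ∈ maximalIdeal A := (IsLocalRing.mem_maximalIdeal a).mpr hna
  rw [← comap_toResidue_eq_maximalIdeal A m', RingHom.mem_ker] at this
  rw [this] at ha
  exact not_isUnit_zero ha

/-- The residue field extension. -/
noncomputable def residueLift : ResidueField A →+* CAlg2.normRed A ⧸ m'.asIdeal :=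
  IsLocalRing.ResidueField.lift (Brnch.toResidue A m')

theorem residueLift_residue (a : A) :
    residueLift A m' (residue A a) = Brnch.toResidue A m' a := rfl

omit [IsLocalRing A] in
theorem isIntegral_toResidue : (Brnch.toResidue A m').IsIntegral := by
  have h1 : (Ideal.Quotient.mk (nilradical A)).IsIntegral :=
    RingHom.isIntegral_of_surjective _ Ideal.Quotient.mk_surjective
  have h2 : (algebraMap (CAlg2.red A) (CAlg2.normRed A)).IsIntegral :=
    algebraMap_isIntegral_iff.mpr inferInstance
  have h3 : (Ideal.Quotient.mk m'.asIdeal).IsIntegral :=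
    RingHom.isIntegral_of_surjective _ Ideal.Quotient.mk_surjective
  exact (h1.trans _ _ h2).trans _ _ h3

theorem isIntegral_residueLift : (residueLift A m').IsIntegral := by
  have h : ((residueLift A m').comp (residue A)).IsIntegral := isIntegral_toResidue A m'
  exact RingHom.IsIntegral.tower_top _ _ h

theorem range_residueLift : (residueLift A m').range = (Brnch.toResidue A m').range := by
  ext x
  constructor
  · rintro ⟨c, rfl⟩
    obtain ⟨a, rfl⟩ := residue_surjective c
    exact ⟨a, rfl⟩
  · rintro ⟨a, rfl⟩
    exact ⟨residue A a, rfl⟩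

section WithAlgebra

/-- The algebra structure of the residue field of `m'` over the residue field of `A`. -/
noncomputable local instance algebraResidue :
    Algebra (ResidueField A) (CAlg2.normRed A ⧸ m'.asIdeal) :=
  (residueLift A m').toAlgebra

instance : Algebra.IsIntegral (ResidueField A) (CAlg2.normRed A ⧸ m'.asIdeal) :=
  algebraMap_isIntegral_iff.mp (isIntegral_residueLift A m')

/-- Embeddings over the residue field are `Brnch.Emb`. -/
noncomputable def embEquiv :
    Brnch.Emb A m' ≃
      ((CAlg2.normRed A ⧸ m'.asIdeal) →ₐ[ResidueField A] AlgebraicClosure (ResidueField A)) where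
  toFun σ :=
    { toRingHom := σ.1
      commutes' := by
        intro c
        obtain ⟨a, rfl⟩ := residue_surjective c
        have := congrArg (fun g => g a) σ.2
        exact this }
  invFun τ := ⟨τ.toRingHom, by
    ext a
    exact τ.commutes (residue A a)⟩
  left_inv σ := rfl
  right_inv τ := rfl

instance nonempty_emb : Nonempty (Brnch.Emb A m') :=
  ⟨(embEquiv A m').symm (IsAlgClosed.lift)⟩

/-- There is exactly one embedding iff the residue field extension is purely inseparable. -/
theorem natCard_emb_eq_one_iff :
    Nat.card (Brnch.Emb A m') = 1 ↔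
      ∀ x : CAlg2.normRed A ⧸ m'.asIdeal,
        ∃ n : ℕ, x ^ (ringExpChar (CAlg2.normRed A ⧸ m'.asIdeal)) ^ n ∈
          (Brnch.toResidue A m').range := by
  rw [Nat.card_congr (embEquiv A m'),
    ← Field.finSepDegree_eq_of_isAlgClosed (ResidueField A) (CAlg2.normRed A ⧸ m'.asIdeal)
      (AlgebraicClosure (ResidueField A)),
    ← isPurelyInseparable_iff_finSepDegree_eq_one]
  have : ExpChar (ResidueField A) (ringExpChar (CAlg2.normRed A ⧸ m'.asIdeal)) :=
    RingHom.expChar (residueLift A m') (residueLift A m').injective _
  rw [isPurelyInseparable_iff_pow_mem (ResidueField A)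
    (ringExpChar (CAlg2.normRed A ⧸ m'.asIdeal))]
  have hr : (algebraMap (ResidueField A) (CAlg2.normRed A ⧸ m'.asIdeal)).range =
      (Brnch.toResidue A m').range := range_residueLift A m'
  rw [hr]

end WithAlgebra

end Groth.Agent.Lib.Helper47
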