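import Mathlib
import Groth.Prelude.Def_Found
import Groth.Prelude.Def_EGA41
import Groth.Agent.Lib.Helper47.SmoothFlat
import Groth.Agent.Lib.Helper47.CohenSmooth
import Groth.Agent.Lib.Helper81.PSFlat
import Groth.Agent.Lib.Helper81.CoeffLift
import Groth.Agent.Lib.Helper90.PSSurj
import Groth.Agent.Lib.Helper90.PSIdeal
import Groth.Agent.Lib.Helper73.RegularPowerSeries
import Groth.Agent.Lib.Helper58.MvPSComplete

/-!
# Cohen factorizations of local homomorphisms of complete local rings (helper47)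

Stacks 032D: a local homomorphism `A → B` of complete Noetherian local rings is covered by a flat
map of power series rings over Cohen rings (or fields) with regular closed fibre.
-/

set_option autoImplicit false
universe u

open IsLocalRing

namespace Groth.Agent.Lib.Helper47.CohenFactor

section iso

/-- `PowerSeries.map` of a ring isomorphism, as a ring isomorphism. -/
noncomputable def powerSeriesMapEquiv {R S : Type*} [CommRing R] [CommRing S] (e : R ≃+* S) :
    PowerSeries R ≃+* PowerSeries S :=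
  RingEquiv.ofRingHom (PowerSeries.map (e : R →+* S)) (PowerSeries.map (e.symm : S →+* R))
    (by ext f n; simp [PowerSeries.coeff_map]) (by ext f n; simp [PowerSeries.coeff_map])

/-- Iterated power series rings are power series rings. -/
theorem exists_mvPowerSeries_equiv (Λ : Type u) [CommRing Λ] (r : ℕ) : ∀ n : ℕ, ∃ m : ℕ,
    Nonempty (MvPowerSeries (Fin n) (MvPowerSeries (Fin r) Λ) ≃+* MvPowerSeries (Fin m) Λ)
  | 0 => ⟨r, ⟨(MvPowerSeries.isEmptyEquiv (Fin 0) _).toRingEquiv⟩⟩
  | n + 1 => by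
    obtain ⟨m, ⟨e⟩⟩ := exists_mvPowerSeries_equiv Λ r n
    exact ⟨m + 1, ⟨((MvPowerSeries.finSuccEquiv _ n).toRingEquiv.trans
      (powerSeriesMapEquiv e)).trans (MvPowerSeries.finSuccEquiv Λ m).toRingEquiv.symm⟩⟩

end iso

section uniq

open MvPowerSeries

/-- Two continuous ring homomorphisms out of a power series ring into a Hausdorff ring that agree
on polynomials are equal. -/
theorem ringHom_ext_of_hausdorff {σ : Type*} [Finite σ] {Λ B : Type*} [CommRing Λ] [CommRing B]
    (I : Ideal B) [IsHausdorff I B] (h₁ h₂ : MvPowerSeries σ Λ →+* B)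
    (hc₁ : ∀ (n : ℕ) (f : MvPowerSeries σ Λ), (∀ d : σ →₀ ℕ, d.degree < n → coeff d f = 0) →
      h₁ f ∈ I ^ n)
    (hc₂ : ∀ (n : ℕ) (f : MvPowerSeries σ Λ), (∀ d : σ →₀ ℕ, d.degree < n → coeff d f = 0) →
      h₂ f ∈ I ^ n)
    (hp : ∀ p : MvPolynomial σ Λ, h₁ (p : MvPowerSeries σ Λ) = h₂ (p : MvPowerSeries σ Λ)) :
    h₁ = h₂ := by
  ext f
  rw [← sub_eq_zero]
  apply IsHausdorff.haus' (I := I)
  intro n
  obtain ⟨p, hp'⟩ := Groth.Agent.Lib.Helper90.PSUniv.exists_trunc n f
  have e : h₁ f - h₂ f = h₁ (f - p) - h₂ (f - p) := by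
    rw [map_sub, map_sub, hp p]; ring
  rw [SModEq.zero, e]
  simp only [smul_eq_mul, Ideal.mul_top]
  exact Ideal.sub_mem _ (hc₁ n _ hp') (hc₂ n _ hp')

end uniq

section fibre

variable {Λ S : Type*} [CommRing Λ] [IsLocalRing Λ] [CommRing S] (ψ : Λ →+* S) (n : ℕ)

theorem map_maximalIdeal_eq_ker :
    (maximalIdeal (MvPowerSeries (Fin n) Λ)).map (MvPowerSeries.map (σ := Fin n) ψ) =
      RingHom.ker ((Ideal.Quotient.mk ((maximalIdeal Λ).map ψ)).comp
        (MvPowerSeries.constantCoeff (σ := Fin n) (R := S))) := by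
  apply le_antisymm
  · rw [Ideal.map_le_iff_le_comap]
    intro f hf
    rw [Ideal.mem_comap, RingHom.mem_ker, RingHom.comp_apply, Ideal.Quotient.eq_zero_iff_mem]
    have : MvPowerSeries.constantCoeff (MvPowerSeries.map ψ f) =
        ψ (MvPowerSeries.constantCoeff f) := by
      simp
    rw [this]
    exact Ideal.mem_map_of_mem ψ
      ((Groth.Agent.Lib.Helper58.MvPSComplete.mem_maximalIdeal_iff f).mp hf)
  · intro g hg
    rw [RingHom.mem_ker, RingHom.comp_apply, Ideal.Quotient.eq_zero_iff_mem] at hg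
    have h1 : g = MvPowerSeries.C (MvPowerSeries.constantCoeff g) +
        (g - MvPowerSeries.C (MvPowerSeries.constantCoeff g)) := by ring
    rw [h1]
    refine Ideal.add_mem _ ?_ ?_
    · have h2 : ((maximalIdeal Λ).map ψ).map (MvPowerSeries.C (σ := Fin n) (R := S)) ≤
          (maximalIdeal (MvPowerSeries (Fin n) Λ)).map (MvPowerSeries.map (σ := Fin n) ψ) := by
        rw [Ideal.map_map]
        have : (MvPowerSeries.C (σ := Fin n) (R := S)).comp ψ =
            (MvPowerSeries.map (σ := Fin n) ψ).comp (MvPowerSeries.C (σ := Fin n) (R := Λ)) := by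
          ext x; simp
        rw [this, ← Ideal.map_map]
        apply Ideal.map_mono
        rw [Ideal.map_le_iff_le_comap]
        intro c hc
        rw [Ideal.mem_comap, Groth.Agent.Lib.Helper58.MvPSComplete.mem_maximalIdeal_iff,
          MvPowerSeries.constantCoeff_C]
        exact hc
      exact h2 (Ideal.mem_map_of_mem _ hg)
    · have h3 : g - MvPowerSeries.C (MvPowerSeries.constantCoeff g) ∈
          Ideal.span (Set.range (MvPowerSeries.X : Fin n → MvPowerSeries (Fin n) S)) := by
        rw [Groth.Agent.Lib.Helper90.PSIdeal.mem_span_X_iff]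
        simp
      refine (Ideal.span_le.mpr ?_) h3
      rintro _ ⟨i, rfl⟩
      have : (MvPowerSeries.X i : MvPowerSeries (Fin n) S) =
          MvPowerSeries.map ψ (MvPowerSeries.X i) := by
        simp
      rw [this]
      apply Ideal.mem_map_of_mem
      rw [Groth.Agent.Lib.Helper58.MvPSComplete.mem_maximalIdeal_iff,
        MvPowerSeries.constantCoeff_X]
      exact zero_mem _

/-- The closed fibre of `Λ[[x]] → S[[x]]` is the closed fibre of `Λ → S`. -/
noncomputable def fibreEquiv :
    (MvPowerSeries (Fin n) S ⧸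
      (maximalIdeal (MvPowerSeries (Fin n) Λ)).map (MvPowerSeries.map (σ := Fin n) ψ)) ≃+*
      (S ⧸ (maximalIdeal Λ).map ψ) :=
  (Ideal.quotEquivOfEq (map_maximalIdeal_eq_ker ψ n)).trans
    (RingHom.quotientKerEquivOfSurjective
      (f := (Ideal.Quotient.mk ((maximalIdeal Λ).map ψ)).comp
        (MvPowerSeries.constantCoeff (σ := Fin n) (R := S)))
      (Ideal.Quotient.mk_surjective.comp (fun s => ⟨MvPowerSeries.C s, by simp⟩)))

end fibre

/-- Power series over a local ring with principal maximal ideal `(p)` modulo `p` form a regular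
ring. -/
theorem isRegularRing_quotient_natCast {Λ' : Type u} [CommRing Λ'] [IsLocalRing Λ'] (p : ℕ)
    (hm : maximalIdeal Λ' = Ideal.span {(p : Λ')}) (r : ℕ) :
    IsRegularRing (MvPowerSeries (Fin r) Λ' ⧸
      Ideal.span {(p : MvPowerSeries (Fin r) Λ')}) := by
  have hker : RingHom.ker (residue Λ') = Ideal.span {(p : Λ')} := by
    rw [IsLocalRing.ker_residue, hm]
  have h1 := Groth.Agent.Lib.Helper81.CoeffLift.ker_map_eq_span (σ := Fin r) (residue Λ')
    (p : Λ') hker
  have hsurj := Groth.Agent.Lib.Helper81.CoeffLift.map_surjective (σ := Fin r) (residue Λ')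
    residue_surjective
  have hC : MvPowerSeries.C (σ := Fin r) (p : Λ') = (p : MvPowerSeries (Fin r) Λ') := by
    rw [map_natCast]
  rw [hC] at h1
  let e : (MvPowerSeries (Fin r) Λ' ⧸ Ideal.span {(p : MvPowerSeries (Fin r) Λ')}) ≃+*
      MvPowerSeries (Fin r) (ResidueField Λ') :=
    (Ideal.quotEquivOfEq h1.symm).trans (RingHom.quotientKerEquivOfSurjective hsurj)
  haveI : IsRegularRing (MvPowerSeries (Fin r) (ResidueField Λ')) :=
    Groth.Agent.Lib.Helper73.RegularRing.isRegularRing_mvPowerSeries _ r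
  exact IsRegularRing.of_ringEquiv e.symm

/-- **Cohen data with prescribed uniformizer.** -/
theorem exists_cohen_data (A : Type u) [CommRing A] [IsLocalRing A]
    [IsAdicComplete (maximalIdeal A) A] (q : ℕ) [hq : CharP (ResidueField A) q] :
    ∃ (Λ : Type u) (_ : CommRing Λ) (_ : IsLocalRing Λ) (c : Λ →+* A), EGA41.IsCohenRingEGA Λ ∧
      Function.Surjective ((Ideal.Quotient.mk (maximalIdeal A)).comp c) ∧
      maximalIdeal Λ = Ideal.span {(q : Λ)} ∧ (q = 0 → IsField Λ) ∧
      (q ≠ 0 → CAlg.IsCohenRing Λ) := by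
  classical
  rcases CharP.char_is_prime_or_zero (ResidueField A) q with hprime | rfl
  · haveI : Fact q.Prime := ⟨hprime⟩
    obtain ⟨Λ, _, _, hdom, hdvr, hcomp, hm, ⟨e⟩⟩ :=
      Groth.Agent.Lib.Helper81.CohenRing.exists_cohenRing q (ResidueField A)
    haveI := hdom
    haveI := hdvr
    haveI := hcomp
    let u : Λ →+* A ⧸ maximalIdeal A := (e : ResidueField Λ →+* ResidueField A).comp (residue Λ)
    have hqI : (q : A) ∈ maximalIdeal A := by
      rw [← IsLocalRing.residue_eq_zero_iff, map_natCast]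
      exact CharP.cast_eq_zero _ q
    obtain ⟨v, hv⟩ := Groth.Agent.Lib.Helper81.CohenLift.exists_lift_complete hprime hm
      (maximalIdeal A) hqI u
    refine ⟨Λ, inferInstance, inferInstance, v, Or.inr ⟨hdom, hdvr, hcomp, q, hprime, hm⟩, ?_, hm,
      fun h0 => absurd h0 hprime.ne_zero, fun _ => ⟨hdom, hdvr, hcomp, q, hprime, hm⟩⟩
    rw [hv]
    exact e.surjective.comp IsLocalRing.residue_surjective
  · haveI : CharZero (ResidueField A) := CharP.charP_to_charZero _
    obtain ⟨s, hs⟩ := Groth.Agent.S0579.result A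
    refine ⟨ResidueField A, inferInstance, inferInstance, s,
      Or.inl ⟨Field.toIsField _, inferInstance⟩, ?_, ?_, fun _ => Field.toIsField _,
      fun h => absurd rfl h⟩
    · have : (Ideal.Quotient.mk (maximalIdeal A)).comp s = RingHom.id _ := hs
      rw [this]
      exact Function.surjective_id
    · have h0 : Ideal.span {((0 : ℕ) : ResidueField A)} = ⊥ := by
        rw [Ideal.span_singleton_eq_bot]; exact Nat.cast_zero
      rw [h0]
      exact IsLocalRing.maximalIdeal_eq_bot

open Groth.Agent.Lib.Helper47.SmoothFlat in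
/-- **Cohen factorization** (Stacks 032D). -/
theorem cohen_factorization {A B : Type u} [CommRing A] [CommRing B]
    [IsLocalRing A] [IsLocalRing B] [IsNoetherianRing A] [IsNoetherianRing B]
    [IsAdicComplete (maximalIdeal A) A] [IsAdicComplete (maximalIdeal B) B]
    [Algebra A B] [IsLocalHom (algebraMap A B)] :
    ∃ (Λ Λ' : Type u) (_ : CommRing Λ) (_ : CommRing Λ') (_ : IsLocalRing Λ) (n m : ℕ)
      (ρ : MvPowerSeries (Fin n) Λ →+* A) (σ : MvPowerSeries (Fin m) Λ' →+* B)
      (τ : MvPowerSeries (Fin n) Λ →+* MvPowerSeries (Fin m) Λ'),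
      ((CharZero (ResidueField A) ∧ IsField Λ ∧ IsField Λ') ∨
        (¬ CharZero (ResidueField A) ∧ CAlg.IsCohenRing Λ ∧ CAlg.IsCohenRing Λ')) ∧
        Function.Surjective ρ ∧ Function.Surjective σ ∧ σ.comp τ = (algebraMap A B).comp ρ ∧
        τ.Flat ∧ IsRegularRing (MvPowerSeries (Fin m) Λ' ⧸
          (maximalIdeal (MvPowerSeries (Fin n) Λ)).map τ) := by
  classical
  obtain ⟨q, hq⟩ := CharP.exists (ResidueField A)
  haveI := hq
  haveI : CharP (ResidueField B) q :=
    ((ResidueField.map (algebraMap A B)).charP_iff_charP q).mp hq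
  obtain ⟨Λ, _, _, c, hΛ, hc, hmΛ, hq0, hq1⟩ := exists_cohen_data A q
  obtain ⟨Λ', _, _, c', hΛ', hc', hmΛ', hq0', hq1'⟩ := exists_cohen_data B q
  obtain ⟨hdom, hpid, hchar, hcomp, -⟩ := cohenRingEGA_facts hΛ
  obtain ⟨hdom', hpid', hchar', hcomp', -⟩ := cohenRingEGA_facts hΛ'
  haveI := hdom
  haveI := hpid
  haveI := hchar
  haveI := hcomp
  haveI := hdom'
  haveI := hpid'
  haveI := hchar'
  haveI := hcomp'
  -- generators of the maximal ideals
  obtain ⟨n, a, ha⟩ := Submodule.fg_iff_exists_fin_generating_family.1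
    (IsNoetherian.noetherian (maximalIdeal A))
  obtain ⟨r, b, hb⟩ := Submodule.fg_iff_exists_fin_generating_family.1
    (IsNoetherian.noetherian (maximalIdeal B))
  have ha' : Ideal.span (Set.range a) = maximalIdeal A := ha
  have hb' : Ideal.span (Set.range b) = maximalIdeal B := hb
  have ham : ∀ i, a i ∈ maximalIdeal A := fun i => ha' ▸ Ideal.subset_span ⟨i, rfl⟩
  -- the surjection `ρ`
  letI algΛA : Algebra Λ A := c.toAlgebra
  obtain ⟨ρ, hρsurj, -, hρpoly, hρcont⟩ :=
    Groth.Agent.Lib.Helper90.PSSurj.exists_surjective_eval (B := Λ) (maximalIdeal A) a ha' hc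
  -- the power series ring `S` over `Λ'` surjecting onto `B`
  letI algΛ'B : Algebra Λ' B := c'.toAlgebra
  obtain ⟨g₀, hg₀, -, -, -⟩ := Groth.Agent.Lib.Helper90.PSSurj.exists_surjective_eval (B := Λ')
    (maximalIdeal B) b hb' hc'
  haveI : IsAdicComplete (maximalIdeal (MvPowerSeries (Fin r) Λ')) (MvPowerSeries (Fin r) Λ') :=
    Groth.Agent.Lib.Helper58.MvPSComplete.isAdicComplete
  haveI : IsDomain (MvPowerSeries (Fin r) Λ') := NoZeroDivisors.to_isDomain _
  haveI : CharZero (MvPowerSeries (Fin r) Λ') :=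
    charZero_of_injective_ringHom (f := (MvPowerSeries.C : Λ' →+* MvPowerSeries (Fin r) Λ'))
      MvPowerSeries.C_injective
  -- lift `Λ → A → B` to `Λ → S`
  let J : Ideal (MvPowerSeries (Fin r) Λ') := RingHom.ker (g₀ : MvPowerSeries (Fin r) Λ' →+* B)
  have hJ : J ≠ ⊤ := RingHom.ker_ne_top _
  let e₀ : MvPowerSeries (Fin r) Λ' ⧸ J ≃+* B :=
    RingHom.quotientKerEquivOfSurjective (f := (g₀ : MvPowerSeries (Fin r) Λ' →+* B)) hg₀
  haveI : Nontrivial (MvPowerSeries (Fin r) Λ' ⧸ J) := Ideal.Quotient.nontrivial_iff.mpr hJ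
  haveI : IsLocalRing (MvPowerSeries (Fin r) Λ' ⧸ J) :=
    IsLocalRing.of_surjective' (Ideal.Quotient.mk J) Ideal.Quotient.mk_surjective
  let u : Λ →+* MvPowerSeries (Fin r) Λ' ⧸ J :=
    (e₀.symm : B →+* MvPowerSeries (Fin r) Λ' ⧸ J).comp ((algebraMap A B).comp c)
  haveI : Nontrivial (A ⧸ maximalIdeal A) :=
    Ideal.Quotient.nontrivial_iff.mpr (Ideal.IsPrime.ne_top inferInstance)
  haveI : IsLocalHom u := by
    have hc1 : IsLocalHom ((Ideal.Quotient.mk (maximalIdeal A)).comp c) :=
      isLocalHom_of_surjective _ hc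
    constructor
    intro x hx
    have h1 : IsUnit (e₀ (u x)) := hx.map e₀
    have h2 : e₀ (u x) = algebraMap A B (c x) := e₀.apply_symm_apply _
    rw [h2] at h1
    have h3 : IsUnit (c x) := isUnit_of_map_unit (algebraMap A B) _ h1
    have h4 : IsUnit (((Ideal.Quotient.mk (maximalIdeal A)).comp c) x) :=
      h3.map (Ideal.Quotient.mk (maximalIdeal A))
    exact hc1.map_nonunit x h4
  obtain ⟨φ₀, -, hφ₀⟩ := exists_lift_of_isCohenRingEGA hΛ J hJ u
  have hgφ : ∀ l, g₀ (φ₀ l) = algebraMap A B (c l) := by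
    intro l
    have h1 : Ideal.Quotient.mk J (φ₀ l) = u l := RingHom.congr_fun hφ₀ l
    have h2 : e₀ (Ideal.Quotient.mk J (φ₀ l)) = g₀ (φ₀ l) := rfl
    rw [← h2, h1]
    exact e₀.apply_symm_apply _
  have hφ₀flat : φ₀.Flat := by
    letI algΛS : Algebra Λ (MvPowerSeries (Fin r) Λ') := φ₀.toAlgebra
    exact (flat_of_cohenRingEGA hΛ : Module.Flat Λ (MvPowerSeries (Fin r) Λ'))
  -- the flat map `τ₀ : Λ[[x]] → S[[x]]`
  have hτ₀flat : (MvPowerSeries.map (σ := Fin n) φ₀).Flat :=
    Groth.Agent.Lib.Helper81.PSFlat.flat_map φ₀ hφ₀flat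
  -- the surjection `S[[x]] → B`
  letI algSB : Algebra (MvPowerSeries (Fin r) Λ') B :=
    (g₀ : MvPowerSeries (Fin r) Λ' →+* B).toAlgebra
  have hx : ∀ i, algebraMap A B (a i) ∈ maximalIdeal B := by
    intro i
    exact IsLocalRing.map_maximalIdeal_le (algebraMap A B) (Ideal.mem_map_of_mem _ (ham i))
  obtain ⟨σT, hσTpoly, hσTcont⟩ := Groth.Agent.Lib.Helper90.PSUniv.exists_eval
    (B := MvPowerSeries (Fin r) Λ') (maximalIdeal B) (fun i => algebraMap A B (a i)) hx
  have hσTsurj : Function.Surjective σT := by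
    intro y
    obtain ⟨s, rfl⟩ := hg₀ y
    refine ⟨algebraMap (MvPowerSeries (Fin r) Λ') _ s, ?_⟩
    rw [AlgHom.commutes]
    rfl
  -- commutation
  have hcomm : (σT : MvPowerSeries (Fin n) (MvPowerSeries (Fin r) Λ') →+* B).comp
      (MvPowerSeries.map (σ := Fin n) φ₀) =
      (algebraMap A B).comp (ρ : MvPowerSeries (Fin n) Λ →+* A) := by
    apply ringHom_ext_of_hausdorff (maximalIdeal B)
    · intro k f hf
      rw [RingHom.comp_apply]
      apply hσTcont
      intro d hd
      rw [MvPowerSeries.coeff_map, hf d hd, map_zero]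
    · intro k f hf
      have h1 := hρcont k f hf
      have h2 : (maximalIdeal A ^ k).map (algebraMap A B) ≤ maximalIdeal B ^ k := by
        rw [Ideal.map_pow]
        exact Ideal.pow_right_mono (IsLocalRing.map_maximalIdeal_le (algebraMap A B)) k
      exact h2 (Ideal.mem_map_of_mem _ h1)
    · intro p
      rw [RingHom.comp_apply, RingHom.comp_apply, Groth.Agent.Lib.Helper81.PSFlat.coe_map]
      change σT _ = algebraMap A B (ρ _)
      rw [hσTpoly, hρpoly]
      induction p using MvPolynomial.induction_on with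
      | C l =>
        rw [MvPolynomial.map_C, MvPolynomial.aeval_C, MvPolynomial.aeval_C]
        exact hgφ l
      | add p q hp hq => rw [map_add, map_add, map_add, map_add, hp, hq]
      | mul_X p i hp =>
        rw [map_mul, map_mul, map_mul, map_mul, hp, MvPolynomial.map_X, MvPolynomial.aeval_X,
          MvPolynomial.aeval_X]
  -- flatten the iterated power series ring
  obtain ⟨m, ⟨e⟩⟩ := exists_mvPowerSeries_equiv Λ' r n
  refine ⟨Λ, Λ', inferInstance, inferInstance, inferInstance, n, m, ρ,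
    (σT : MvPowerSeries (Fin n) (MvPowerSeries (Fin r) Λ') →+* B).comp (e.symm : _ →+* _),
    (e : _ →+* _).comp (MvPowerSeries.map (σ := Fin n) φ₀), ?_, hρsurj, ?_, ?_, ?_, ?_⟩
  · by_cases h0 : q = 0
    · subst h0
      exact Or.inl ⟨CharP.charP_to_charZero _, hq0 rfl, hq0' rfl⟩
    · refine Or.inr ⟨fun hcz => h0 ?_, hq1 h0, hq1' h0⟩
      exact CharP.eq (ResidueField A) hq (CharP.ofCharZero _)
  · exact hσTsurj.comp e.symm.surjective
  · rw [← hcomm]
    ext f
    simp
  · exact RingHom.Flat.comp hτ₀flat (RingHom.Flat.of_bijective e.bijective)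
  · -- the closed fibre
    have hI : (maximalIdeal (MvPowerSeries (Fin n) Λ)).map
        ((e : _ →+* _).comp (MvPowerSeries.map (σ := Fin n) φ₀)) =
        ((maximalIdeal (MvPowerSeries (Fin n) Λ)).map (MvPowerSeries.map (σ := Fin n) φ₀)).map
          (e : MvPowerSeries (Fin n) (MvPowerSeries (Fin r) Λ') →+* MvPowerSeries (Fin m) Λ') := by
      rw [Ideal.map_map]
    have hspan : (maximalIdeal Λ).map φ₀ = Ideal.span {(q : MvPowerSeries (Fin r) Λ')} := by
      rw [hmΛ, Ideal.map_span, Set.image_singleton, map_natCast]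
    let e1 := Ideal.quotientEquiv _ _ e hI
    let e2 := fibreEquiv φ₀ n
    let e3 := Ideal.quotEquivOfEq hspan
    haveI := isRegularRing_quotient_natCast q hmΛ' r
    exact IsRegularRing.of_ringEquiv ((e1.symm.trans e2).trans e3).symm

end Groth.Agent.Lib.Helper47.CohenFactor
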