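import Mathlib
import Groth.Agent.Lib.Helper47.GrFinite
import Groth.Agent.S16455
import Groth.Agent.Lib.Helper91.GenericFreenessReduced
import Groth.Agent.H76.AdicFlat

/-!
# Generic flatness of all truncations `N / JᵏN` over a reduced base (helper47)

`R` reduced, `B` a Noetherian finite type `R`-algebra, `J` an ideal of `B`, `N` a finite `B`-module:
inside any nonempty basic open `D(h)` of `Spec R` there is a nonempty `D(f)` over which every
truncation `N / JᵏN` becomes flat.
-/

namespace Groth.Agent.Lib.Helper47.GrStrat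

open AssocGr

universe u

section Pieces

variable {B : Type u} [CommRing B] (J : Ideal B) (N : Type u) [AddCommGroup N] [Module B N]

/-- the truncation `N / JᵏN`. -/
abbrev Trunc (k : ℕ) : Type u := N ⧸ (J ^ k • (⊤ : Submodule B N))

/-- the piece `JᵏN / J·JᵏN`. -/
abbrev Piece (k : ℕ) : Type u :=
  ↥(J ^ k • (⊤ : Submodule B N)) ⧸ (J • (⊤ : Submodule B ↥(J ^ k • (⊤ : Submodule B N))))

/-- `JᵏN / Jᵏ⁺¹N → N / Jᵏ⁺¹N`. -/
noncomputable def pieceIncl (k : ℕ) : Piece J N k →ₗ[B] Trunc J N (k + 1) :=
  Submodule.liftQ _ ((J ^ (k + 1) • (⊤ : Submodule B N)).mkQ ∘ₗ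
    (J ^ k • (⊤ : Submodule B N)).subtype) (by
    intro x hx
    rw [LinearMap.mem_ker, LinearMap.comp_apply, Submodule.mkQ_apply,
      Submodule.Quotient.mk_eq_zero, pow_succ', mul_smul]
    exact (Groth.Agent.S16455.mem_smul_top_iff _ x).mp hx)

theorem pieceIncl_mk (k : ℕ) (x : ↥(J ^ k • (⊤ : Submodule B N))) :
    pieceIncl J N k (Submodule.Quotient.mk x) = Submodule.Quotient.mk (x : N) := rfl

theorem pieceIncl_injective (k : ℕ) : Function.Injective (pieceIncl J N k) := by
  rw [injective_iff_map_eq_zero]
  intro z hz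
  obtain ⟨x, rfl⟩ := Submodule.Quotient.mk_surjective _ z
  rw [pieceIncl_mk, Submodule.Quotient.mk_eq_zero, pow_succ', mul_smul] at hz
  rw [Submodule.Quotient.mk_eq_zero]
  exact (Groth.Agent.S16455.mem_smul_top_iff _ x).mpr hz

/-- `N / Jᵏ⁺¹N → N / JᵏN`. -/
noncomputable def truncProj (k : ℕ) : Trunc J N (k + 1) →ₗ[B] Trunc J N k :=
  Submodule.factor (Submodule.smul_mono_left (Ideal.pow_le_pow_right (Nat.le_succ k)))

theorem truncProj_mk (k : ℕ) (x : N) :
    truncProj J N k (Submodule.Quotient.mk x) = Submodule.Quotient.mk x := rfl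

theorem truncProj_surjective (k : ℕ) : Function.Surjective (truncProj J N k) := by
  intro z
  obtain ⟨x, rfl⟩ := Submodule.Quotient.mk_surjective _ z
  exact ⟨Submodule.Quotient.mk x, rfl⟩

theorem exact_pieceIncl_truncProj (k : ℕ) :
    Function.Exact (pieceIncl J N k) (truncProj J N k) := by
  intro z
  constructor
  · intro hz
    obtain ⟨x, rfl⟩ := Submodule.Quotient.mk_surjective _ z
    rw [truncProj_mk, Submodule.Quotient.mk_eq_zero] at hz
    exact ⟨Submodule.Quotient.mk ⟨x, hz⟩, rfl⟩
  · rintro ⟨y, rfl⟩
    obtain ⟨x, rfl⟩ := Submodule.Quotient.mk_surjective _ y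
    rw [pieceIncl_mk, truncProj_mk, Submodule.Quotient.mk_eq_zero]
    exact x.2

end Pieces


section Core

variable {R B : Type u} [CommRing R] [IsReduced R] [CommRing B] [IsNoetherianRing B] [Algebra R B]
  [Algebra.FiniteType R B] (J : Ideal B) (N : Type u) [AddCommGroup N] [Module B N]
  [Module.Finite B N] [Module R N] [IsScalarTower R B N]

open Groth.Agent.Lib.Helper47.GrFinite in
/-- Generic freeness of `gr_J(N)` over the reduced ring `R`, giving flatness of the localised
pieces. -/
theorem exists_flat_localized_piece (h : R) (hh : h ≠ 0) :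
    ∃ f : R, h ∣ f ∧ f ≠ 0 ∧ ∀ k : ℕ,
      Module.Flat R (LocalizedModule (Submonoid.powers f) (Piece J N k)) := by
  classical
  let F := Rees.powFilt J N
  have hN : ∀ i, (F.N i).FG := fun i => IsNoetherian.noetherian _
  have hF : F.Stable := Ideal.stableFiltration_stable J ⊤
  let 𝒢 := GrRing (FiltBl.IdealFiltration.adic J)
  let G := GrMod F
  letI : Algebra R 𝒢 := ((algebraMap B 𝒢).comp (algebraMap R B)).toAlgebra
  haveI : IsScalarTower R B 𝒢 := IsScalarTower.of_algebraMap_eq (fun _ => rfl)
  haveI hft1 : Algebra.FiniteType B 𝒢 := finiteType_grRing_base J (IsNoetherian.noetherian J)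
  haveI : Algebra.FiniteType R 𝒢 := Algebra.FiniteType.trans ‹Algebra.FiniteType R B› hft1
  letI : Module R G := Module.compHom G (algebraMap R B)
  haveI : IsScalarTower R B G := IsScalarTower.of_compHom R B G
  haveI : IsScalarTower R 𝒢 G := by
    refine ⟨fun r g x => ?_⟩
    have h1 : r • g = algebraMap B 𝒢 (algebraMap R B r) * g := by
      rw [Algebra.smul_def]; rfl
    have h2 : ∀ y : G, r • y = (algebraMap R B r) • y := fun y => rfl
    rw [h1, mul_smul, algebraMap_smul, h2]
  haveI : Module.Finite 𝒢 G := finite_grMod F hN hF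
  obtain ⟨f, hhf, hf0, hfree, -⟩ := Groth.Agent.Lib.Helper91.generic_freeness_reduced_aux
    (R := R) (S := 𝒢) (M := G) h hh
  refine ⟨f, hhf, hf0, fun k => ?_⟩
  -- flatness of the localised graded module over `R`
  haveI : Module.Flat (Localization.Away f) (LocalizedModule (Submonoid.powers f) G) :=
    inferInstance
  haveI hflatG : Module.Flat R (LocalizedModule (Submonoid.powers f) G) :=
    Module.Flat.trans R (Localization.Away f) _
  -- the retract
  let e := Groth.Agent.S16455.PhiEquiv F (Groth.Agent.S16455.powFilt_succ J N)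
  let i0 : Piece J N k →ₗ[B ⧸ J] G :=
    e.toLinearMap ∘ₗ DirectSum.lof (B ⧸ J) ℕ (fun n => Groth.Agent.S16455.P F n) k
  let r0 : G →ₗ[B ⧸ J] Piece J N k :=
    DirectSum.component (B ⧸ J) ℕ (fun n => Groth.Agent.S16455.P F n) k ∘ₗ e.symm.toLinearMap
  have hri0 : ∀ x, r0 (i0 x) = x := by
    intro x
    simp only [i0, r0, LinearMap.comp_apply, LinearEquiv.coe_coe, LinearEquiv.symm_apply_apply]
    exact DirectSum.component.lof_self (B ⧸ J) (M := fun n => Groth.Agent.S16455.P F n) k x
  let i1 : Piece J N k →ₗ[R] G := (i0.restrictScalars B).restrictScalars R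
  let r1 : G →ₗ[R] Piece J N k := (r0.restrictScalars B).restrictScalars R
  have hri1 : r1.comp i1 = LinearMap.id := LinearMap.ext hri0
  let iL := IsLocalizedModule.map (Submonoid.powers f)
    (LocalizedModule.mkLinearMap (Submonoid.powers f) (Piece J N k))
    (LocalizedModule.mkLinearMap (Submonoid.powers f) G) i1
  let rL := IsLocalizedModule.map (Submonoid.powers f)
    (LocalizedModule.mkLinearMap (Submonoid.powers f) G)
    (LocalizedModule.mkLinearMap (Submonoid.powers f) (Piece J N k)) r1
  have hL : rL.comp iL = LinearMap.id := by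
    rw [← IsLocalizedModule.map_comp', hri1, IsLocalizedModule.map_id]
  exact Module.Flat.of_retract iL rL hL

/-- Inside any nonempty `D(h)` there is a nonempty `D(f)` over which all truncations `N / JᵏN`
become flat. -/
theorem exists_flat_localized_trunc (h : R) (hh : h ≠ 0) :
    ∃ f : R, h ∣ f ∧ f ≠ 0 ∧ ∀ k : ℕ,
      Module.Flat R (LocalizedModule (Submonoid.powers f) (Trunc J N k)) := by
  obtain ⟨f, hhf, hf0, hflat⟩ := exists_flat_localized_piece J N h hh
  refine ⟨f, hhf, hf0, fun k => ?_⟩
  induction k with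
  | zero =>
    haveI : Subsingleton (Trunc J N 0) := by
      have : (J ^ 0 • (⊤ : Submodule B N)) = ⊤ := by
        rw [pow_zero, Ideal.one_eq_top, Submodule.top_smul]
      exact Submodule.Quotient.subsingleton_iff.mpr this
    haveI : Subsingleton (LocalizedModule (Submonoid.powers f) (Trunc J N 0)) := by
      refine ⟨fun x y => ?_⟩
      induction x using LocalizedModule.induction_on with
      | h m s =>
        induction y using LocalizedModule.induction_on with
        | h m' s' =>
          rw [Subsingleton.elim m 0, Subsingleton.elim m' 0, LocalizedModule.zero_mk,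
            LocalizedModule.zero_mk]
    infer_instance
  | succ k ih =>
    haveI := ih
    haveI := hflat k
    let S := Submonoid.powers f
    let i1 : Piece J N k →ₗ[R] Trunc J N (k + 1) := (pieceIncl J N k).restrictScalars R
    let p1 : Trunc J N (k + 1) →ₗ[R] Trunc J N k := (truncProj J N k).restrictScalars R
    have hex : Function.Exact i1 p1 := exact_pieceIncl_truncProj J N k
    exact Groth.Agent.H76.AdicFlat.flat_of_exact
      (IsLocalizedModule.map S (LocalizedModule.mkLinearMap S _) (LocalizedModule.mkLinearMap S _) i1)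
      (IsLocalizedModule.map S (LocalizedModule.mkLinearMap S _) (LocalizedModule.mkLinearMap S _) p1)
      (IsLocalizedModule.map_injective S _ _ i1 (pieceIncl_injective J N k))
      (IsLocalizedModule.map_surjective S _ _ p1 (truncProj_surjective J N k))
      (IsLocalizedModule.map_exact S _ _ _ i1 p1 hex)

end Core

end Groth.Agent.Lib.Helper47.GrStrat
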