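import Mathlib
import Groth.Agent.Lib.Helper25.CliffDickson

/-!
# The Berezin (supertrace) functional on a Clifford algebra, and determinants of isometries
induced by conjugation

For a quadratic form `Q` on a module with a basis of `n` elements, an `n`-fold contraction
`ctrL L` of the Clifford algebra takes scalar values; the resulting functional `tau Q L` satisfies
`tau (v * y) = tau (α(y) * v)`, is scaled by the determinant under isometries and is normalised
to `1` on a product of basis vectors.  Consequences: conjugation by an even (odd) unit induces an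
isometry of determinant `1` (`-1`, in even rank), and in odd rank conjugation by any unit induces an
isometry of determinant `1`.
-/

set_option autoImplicit false
set_option linter.unusedSectionVars false
set_option linter.unusedVariables false
set_option linter.deprecated false

namespace Groth.Agent.Lib.Helper47.CliffTau

section Part1


open CliffordAlgebra

variable {R : Type*} [CommRing R] {M : Type*} [AddCommGroup M] [Module R M]
variable {Q : QuadraticForm R M}

/-- The twisted commutator with a vector is the contraction by the polar form. -/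
theorem ι_mul_sub_involute_mul_ι (v : M) (y : CliffordAlgebra Q) :
    ι Q v * y - involute y * ι Q v = contractLeft (QuadraticMap.polarBilin Q v) y := by
  induction y using CliffordAlgebra.left_induction with
  | algebraMap r =>
    rw [contractLeft_algebraMap, AlgHom.commutes, Algebra.commutes, sub_self]
  | add x y hx hy =>
    rw [mul_add, map_add, add_mul, map_add, ← hx, ← hy]; abel
  | ι_mul x w hx =>
    rw [contractLeft_ι_mul, ← hx, map_mul, involute_ι, QuadraticMap.polarBilin_apply_apply,
      mul_sub, ← mul_assoc, ← mul_assoc, ← mul_assoc, neg_mul, neg_mul, sub_neg_eq_add]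
    have h := ι_mul_ι_add_swap (Q := Q) v w
    have h2 : ι Q v * ι Q w = algebraMap R _ (QuadraticMap.polar Q v w) - ι Q w * ι Q v := by
      rw [← h]; abel
    rw [h2, sub_mul, ← Algebra.smul_def]
    abel

/-- Contraction shifts the parity. -/
theorem contractLeft_mem_evenOdd (d : Module.Dual R M) (i : ZMod 2) (x : CliffordAlgebra Q)
    (hx : x ∈ evenOdd Q i) : contractLeft d x ∈ evenOdd Q (i + 1) := by
  induction x, hx using evenOdd_induction with
  | range_ι_pow v h =>
    fin_cases i
    · have h' : v ∈ (1 : Submodule R (CliffordAlgebra Q)) := by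
        have : (LinearMap.range (ι Q)) ^ (ZMod.val (0 : ZMod 2)) = 1 := by
          rw [ZMod.val_zero, pow_zero]
        rw [← this]; exact h
      obtain ⟨r, rfl⟩ := Submodule.mem_one.mp h'
      rw [contractLeft_algebraMap]; exact Submodule.zero_mem _
    · have h' : v ∈ LinearMap.range (ι Q) := by
        have : (LinearMap.range (ι Q)) ^ (ZMod.val (1 : ZMod 2)) = LinearMap.range (ι Q) := by
          rw [ZMod.val_one, pow_one]
        rw [← this]; exact h
      obtain ⟨w, rfl⟩ := h'
      rw [contractLeft_ι]
      have : algebraMap R (CliffordAlgebra Q) (d w) ∈ evenOdd Q 0 :=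
        SetLike.algebraMap_mem_graded _ _
      exact this
  | add x y hx hy ihx ihy => rw [map_add]; exact Submodule.add_mem _ ihx ihy
  | ι_mul_ι_mul m₁ m₂ x hx ih =>
    rw [mul_assoc, contractLeft_ι_mul, contractLeft_ι_mul]
    have h2 : ι Q m₂ * x ∈ evenOdd Q (i + 1) := by
      have := SetLike.mul_mem_graded (ι_mem_evenOdd_one Q m₂) hx
      rwa [add_comm] at this
    have h1 : ι Q m₁ * x ∈ evenOdd Q (i + 1) := by
      have := SetLike.mul_mem_graded (ι_mem_evenOdd_one Q m₁) hx
      rwa [add_comm] at this
    refine Submodule.sub_mem _ (Submodule.smul_mem _ _ h2) ?_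
    rw [mul_sub, mul_smul_comm]
    refine Submodule.sub_mem _ (Submodule.smul_mem _ _ h1) ?_
    have := SetLike.mul_mem_graded (ι_mul_ι_mem_evenOdd_zero Q m₁ m₂) ih
    rw [← mul_assoc]
    rwa [zero_add] at this

/-- Naturality of contraction under maps of Clifford algebras. -/
theorem map_contractLeft {M' : Type*} [AddCommGroup M'] [Module R M'] {Q' : QuadraticForm R M'}
    (f : Q →qᵢ Q') (d : Module.Dual R M') (x : CliffordAlgebra Q) :
    CliffordAlgebra.map f (contractLeft (d.comp f.toLinearMap) x) =
      contractLeft d (CliffordAlgebra.map f x) := by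
  induction x using CliffordAlgebra.left_induction with
  | algebraMap r => rw [contractLeft_algebraMap, AlgHom.commutes, contractLeft_algebraMap, map_zero]
  | add x y hx hy => simp only [map_add, hx, hy]
  | ι_mul x w hx =>
    rw [contractLeft_ι_mul, map_sub, map_smul, map_mul, map_mul, map_apply_ι, hx,
      contractLeft_ι_mul]
    rfl


end Part1

section Part2


open CliffordAlgebra

variable {R : Type*} [CommRing R] {M : Type*} [AddCommGroup M] [Module R M]

section Lists
variable {Q : QuadraticForm R M}

/-- Iterated contraction by a list of functionals: `d₁⌋(d₂⌋(⋯ dₖ⌋x))`. -/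
noncomputable def ctrL (L : List (Module.Dual R M)) : Module.End R (CliffordAlgebra Q) :=
  (L.map fun d => (contractLeft d : Module.End R (CliffordAlgebra Q))).prod

@[simp] theorem ctrL_nil : ctrL (Q := Q) [] = 1 := rfl

theorem ctrL_cons (d : Module.Dual R M) (L : List (Module.Dual R M)) (x : CliffordAlgebra Q) :
    ctrL (d :: L) x = contractLeft d (ctrL L x) := by
  simp [ctrL, List.prod_cons]

theorem ctrL_append (L L' : List (Module.Dual R M)) (x : CliffordAlgebra Q) :
    ctrL (L ++ L') x = ctrL L (ctrL L' x) := by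
  simp [ctrL, List.prod_append]

theorem ctrL_contractLeft (θ : Module.Dual R M) (L : List (Module.Dual R M))
    (x : CliffordAlgebra Q) :
    ctrL L (contractLeft θ x) = (-1 : R) ^ L.length • contractLeft θ (ctrL L x) := by
  induction L with
  | nil => simp
  | cons d L ih =>
    rw [ctrL_cons, ih, map_smul, contractLeft_comm, ctrL_cons, List.length_cons, pow_succ,
      mul_smul, neg_one_smul]

theorem ctrL_mem_evenOdd (L : List (Module.Dual R M)) (i : ZMod 2) (x : CliffordAlgebra Q)
    (hx : x ∈ evenOdd Q i) : ctrL L x ∈ evenOdd Q (i + L.length) := by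
  induction L with
  | nil => simpa using hx
  | cons d L ih =>
    rw [ctrL_cons]
    have := contractLeft_mem_evenOdd d _ _ ih
    rwa [List.length_cons, Nat.cast_succ, ← add_assoc]

end Lists

section Ext

/-- In the exterior algebra, contraction lowers the degree. -/
theorem contractLeft_mem_exteriorPower (d : Module.Dual R M) :
    (∀ x ∈ ⋀[R]^0 M, contractLeft d (x : ExteriorAlgebra R M) = 0) ∧
    ∀ k : ℕ, ∀ x ∈ ⋀[R]^(k + 1) M, contractLeft d (x : ExteriorAlgebra R M) ∈ ⋀[R]^k M := by
  have h0 : ∀ x ∈ ⋀[R]^0 M, contractLeft d (x : ExteriorAlgebra R M) = 0 := by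
    intro x hx
    have hx' : x ∈ (1 : Submodule R (ExteriorAlgebra R M)) := by
      have : ⋀[R]^0 M = 1 := pow_zero _
      rw [← this]; exact hx
    obtain ⟨r, rfl⟩ := Submodule.mem_one.mp hx'
    exact contractLeft_algebraMap (Q := (0 : QuadraticForm R M)) d r
  refine ⟨h0, ?_⟩
  intro k
  induction k with
  | zero =>
    intro x hx
    have hx' : x ∈ LinearMap.range (ExteriorAlgebra.ι R (M := M)) * ⋀[R]^0 M := by
      have : ⋀[R]^(0 + 1) M = LinearMap.range (ExteriorAlgebra.ι R (M := M)) * ⋀[R]^0 M :=
        pow_succ' _ _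
      rw [← this]; exact hx
    refine Submodule.mul_induction_on hx' ?_ ?_
    · rintro _ ⟨v, rfl⟩ y hy
      erw [contractLeft_ι_mul]
      rw [h0 y hy, mul_zero, sub_zero]
      exact Submodule.smul_mem _ _ hy
    · intro x y hx hy
      rw [map_add]; exact Submodule.add_mem _ hx hy
  | succ k ih =>
    intro x hx
    have hx' : x ∈ LinearMap.range (ExteriorAlgebra.ι R (M := M)) * ⋀[R]^(k + 1) M := by
      have : ⋀[R]^(k + 1 + 1) M = LinearMap.range (ExteriorAlgebra.ι R (M := M)) * ⋀[R]^(k + 1) M :=
        pow_succ' _ _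
      rw [← this]; exact hx
    refine Submodule.mul_induction_on hx' ?_ ?_
    · rintro _ ⟨v, rfl⟩ y hy
      erw [contractLeft_ι_mul]
      refine Submodule.sub_mem _ (Submodule.smul_mem _ _ hy) ?_
      have : ⋀[R]^(k + 1) M = LinearMap.range (ExteriorAlgebra.ι R (M := M)) * ⋀[R]^k M :=
        pow_succ' _ _
      rw [this]
      exact Submodule.mul_mem_mul ⟨v, rfl⟩ (ih y hy)
    · intro x y hx hy
      rw [map_add]; exact Submodule.add_mem _ hx hy

theorem ctrL_mem_exteriorPower (L : List (Module.Dual R M)) (k : ℕ) (x : ExteriorAlgebra R M)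
    (hx : x ∈ ⋀[R]^k M) :
    ctrL (Q := (0 : QuadraticForm R M)) L x ∈ ⋀[R]^(k - L.length) M ∧
      (k < L.length → ctrL (Q := (0 : QuadraticForm R M)) L x = 0) := by
  induction L with
  | nil => exact ⟨by simpa using hx, fun h => absurd h (by simp)⟩
  | cons d L ih =>
    obtain ⟨ih1, ih2⟩ := ih
    rw [ctrL_cons, List.length_cons]
    by_cases hk : k < L.length
    · rw [ih2 hk, map_zero]
      exact ⟨Submodule.zero_mem _, fun _ => rfl⟩
    · push Not at hk
      rcases Nat.eq_or_lt_of_le hk with heq | hlt
      · -- k = L.length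
        have h0 : ctrL (Q := (0 : QuadraticForm R M)) L x ∈ ⋀[R]^0 M := by
          have : k - L.length = 0 := by omega
          rwa [this] at ih1
        rw [(contractLeft_mem_exteriorPower d).1 _ h0]
        exact ⟨Submodule.zero_mem _, fun _ => rfl⟩
      · have h1 : ctrL (Q := (0 : QuadraticForm R M)) L x ∈ ⋀[R]^((k - (L.length + 1)) + 1) M := by
          have : k - L.length = (k - (L.length + 1)) + 1 := by omega
          rwa [this] at ih1
        exact ⟨(contractLeft_mem_exteriorPower d).2 _ _ h1, fun h => absurd h (by omega)⟩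

end Ext


end Part2

section Part3


open CliffordAlgebra Helper25.Cliff

variable {R : Type*} [CommRing R] {M : Type*} [AddCommGroup M] [Module R M]

section Scalar

/-- In the exterior algebra of a module with a basis of `n` elements, an `n`-fold contraction
takes scalar values. -/
theorem ctrL_ext_mem_range {n : ℕ} (b : Module.Basis (Fin n) R M) (L : List (Module.Dual R M))
    (hL : L.length = n) (x : ExteriorAlgebra R M) :
    ctrL (Q := (0 : QuadraticForm R M)) L x ∈ (algebraMap R (ExteriorAlgebra R M)).range := by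
  classical
  have hbasis : ∀ s : Finset (Fin n), ctrL (Q := (0 : QuadraticForm R M)) L (b.ExteriorAlgebra s)
      ∈ (algebraMap R (ExteriorAlgebra R M)).range := by
    intro s
    have hmem : b.ExteriorAlgebra s ∈ ⋀[R]^(s.card) M := by
      rw [ExteriorAlgebra.basis_apply_ofCard b (rfl : s.card = s.card)]
      have : ExteriorAlgebra.ιMulti_family R s.card b (Set.powersetCard.ofCard rfl)
          = ((exteriorPower.ιMulti_family R s.card b (Set.powersetCard.ofCard rfl) :
              ⋀[R]^(s.card) M) : ExteriorAlgebra R M) := rfl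
      rw [this]
      exact Subtype.property _
    obtain ⟨h1, h2⟩ := ctrL_mem_exteriorPower L s.card _ hmem
    have hcard : s.card ≤ n := by
      have := Finset.card_le_univ s
      simpa using this
    rcases Nat.eq_or_lt_of_le hcard with heq | hlt
    · have : s.card - L.length = 0 := by omega
      rw [this] at h1
      have h1' : ctrL (Q := (0 : QuadraticForm R M)) L (b.ExteriorAlgebra s)
          ∈ (1 : Submodule R (ExteriorAlgebra R M)) := by
        have e : ⋀[R]^0 M = 1 := pow_zero _
        rw [← e]; exact h1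
      obtain ⟨r, hr⟩ := Submodule.mem_one.mp h1'
      exact ⟨r, hr⟩
    · rw [h2 (by omega)]
      exact Subring.zero_mem _
  rw [← b.ExteriorAlgebra.sum_repr x, map_sum]
  refine Subring.sum_mem _ fun s _ => ?_
  rw [map_smul]
  obtain ⟨r, hr⟩ := hbasis s
  rw [← hr]
  exact ⟨(b.ExteriorAlgebra.repr x) s * r, by rw [map_mul, Algebra.smul_def]⟩

/-- Transport of iterated contractions along `toExterior`. -/
theorem toExterior_ctrL [Module.Free R M] (Q : QuadraticForm R M) (L : List (Module.Dual R M))
    (x : CliffordAlgebra Q) :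
    toExterior Q (ctrL L x) = ctrL (Q := (0 : QuadraticForm R M)) L (toExterior Q x) := by
  induction L with
  | nil => simp
  | cons d L ih =>
    rw [ctrL_cons, ctrL_cons, ← ih]
    unfold toExterior
    rw [changeFormEquiv_apply, changeFormEquiv_apply, changeForm_contractLeft]

/-- In the Clifford algebra of a form on a module with a basis of `n` elements, an `n`-fold
contraction takes scalar values. -/
theorem ctrL_mem_range {n : ℕ} (b : Module.Basis (Fin n) R M) (Q : QuadraticForm R M)
    (L : List (Module.Dual R M)) (hL : L.length = n) (x : CliffordAlgebra Q) :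
    ctrL L x ∈ (algebraMap R (CliffordAlgebra Q)).range := by
  haveI : Module.Free R M := Module.Free.of_basis b
  obtain ⟨r, hr⟩ := ctrL_ext_mem_range b L hL (toExterior Q x)
  refine ⟨r, ?_⟩
  apply (toExterior Q).injective
  rw [toExterior_algebraMap, toExterior_ctrL]
  exact hr

end Scalar


end Part3

section Part4


open CliffordAlgebra Helper25.Cliff

variable {R : Type*} [CommRing R] {M : Type*} [AddCommGroup M] [Module R M]

section Tau

variable [Module.Free R M] (Q : QuadraticForm R M)

/-- The constant-term functional on the Clifford algebra (depends on choices; only used on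
scalars). -/
noncomputable def eps : CliffordAlgebra Q →ₗ[R] R :=
  (ExteriorAlgebra.algebraMapInv (R := R) (M := M)).toLinearMap ∘ₗ (toExterior Q).toLinearMap

theorem eps_algebraMap (r : R) : eps Q (algebraMap R _ r) = r := by
  simp [eps, ExteriorAlgebra.algebraMapInv]

/-- The Berezin functional attached to a list of functionals. -/
noncomputable def tau (L : List (Module.Dual R M)) : CliffordAlgebra Q →ₗ[R] R :=
  eps Q ∘ₗ ctrL L

theorem tau_apply (L : List (Module.Dual R M)) (x : CliffordAlgebra Q) :
    tau Q L x = eps Q (ctrL L x) := rfl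

variable {Q}
variable {n : ℕ} (b : Module.Basis (Fin n) R M)
include b

theorem algebraMap_tau (L : List (Module.Dual R M)) (hL : L.length = n) (x : CliffordAlgebra Q) :
    algebraMap R (CliffordAlgebra Q) (tau Q L x) = ctrL L x := by
  obtain ⟨r, hr⟩ := ctrL_mem_range b Q L hL x
  rw [tau_apply, ← hr, eps_algebraMap]

theorem tau_contractLeft (L : List (Module.Dual R M)) (hL : L.length = n) (θ : Module.Dual R M)
    (y : CliffordAlgebra Q) : tau Q L (contractLeft θ y) = 0 := by
  rw [tau_apply, ctrL_contractLeft, ← algebraMap_tau b L hL, contractLeft_algebraMap, smul_zero,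
    map_zero]

theorem tau_ι_mul (L : List (Module.Dual R M)) (hL : L.length = n) (v : M)
    (y : CliffordAlgebra Q) : tau Q L (ι Q v * y) = tau Q L (involute y * ι Q v) := by
  have h := ι_mul_sub_involute_mul_ι (Q := Q) v y
  have h2 := tau_contractLeft b L hL (QuadraticMap.polarBilin Q v) y
  rw [← h, map_sub, sub_eq_zero] at h2
  exact h2

theorem tau_even_mul (L : List (Module.Dual R M)) (hL : L.length = n) (a : CliffordAlgebra Q)
    (ha : a ∈ evenOdd Q 0) : ∀ y, tau Q L (a * y) = tau Q L (y * a) := by
  induction a, ha using even_induction with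
  | algebraMap r => intro y; rw [Algebra.commutes]
  | add x y hx hy ihx ihy => intro z; rw [add_mul, mul_add, map_add, map_add, ihx, ihy]
  | ι_mul_ι_mul m₁ m₂ x hx ih =>
    intro y
    have hx' : involute x = x := involute_eq_of_mem_even hx
    calc tau Q L (ι Q m₁ * ι Q m₂ * x * y)
        = tau Q L (ι Q m₁ * (ι Q m₂ * x * y)) := by simp only [mul_assoc]
      _ = tau Q L (involute (ι Q m₂ * x * y) * ι Q m₁) := tau_ι_mul b L hL _ _
      _ = tau Q L (ι Q m₂ * (-(x * involute y * ι Q m₁))) := by
          refine congrArg (tau Q L) ?_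
          rw [map_mul, map_mul, involute_ι, hx']; simp only [mul_assoc, neg_mul, mul_neg]
      _ = tau Q L (involute (-(x * involute y * ι Q m₁)) * ι Q m₂) := tau_ι_mul b L hL _ _
      _ = tau Q L (x * (y * ι Q m₁ * ι Q m₂)) := by
          refine congrArg (tau Q L) ?_
          rw [map_neg, map_mul, map_mul, involute_involute, involute_ι, hx']
          simp only [mul_assoc, neg_mul, mul_neg, neg_neg]
      _ = tau Q L (y * ι Q m₁ * ι Q m₂ * x) := ih _
      _ = tau Q L (y * (ι Q m₁ * ι Q m₂ * x)) := by simp only [mul_assoc]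

theorem tau_odd_mul (L : List (Module.Dual R M)) (hL : L.length = n) (a : CliffordAlgebra Q)
    (ha : a ∈ evenOdd Q 1) : ∀ y, tau Q L (a * y) = tau Q L (involute y * a) := by
  induction a, ha using odd_induction with
  | ι v => intro y; exact tau_ι_mul b L hL v y
  | add x y hx hy ihx ihy => intro z; rw [add_mul, mul_add, map_add, map_add, ihx, ihy]
  | ι_mul_ι_mul m₁ m₂ x hx ih =>
    intro y
    have hx' : involute x = -x := involute_eq_of_mem_odd hx
    calc tau Q L (ι Q m₁ * ι Q m₂ * x * y)
        = tau Q L (ι Q m₁ * (ι Q m₂ * x * y)) := by simp only [mul_assoc]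
      _ = tau Q L (involute (ι Q m₂ * x * y) * ι Q m₁) := tau_ι_mul b L hL _ _
      _ = tau Q L (ι Q m₂ * (x * involute y * ι Q m₁)) := by
          refine congrArg (tau Q L) ?_
          rw [map_mul, map_mul, involute_ι, hx']; simp only [mul_assoc, neg_mul, mul_neg, neg_neg]
      _ = tau Q L (involute (x * involute y * ι Q m₁) * ι Q m₂) := tau_ι_mul b L hL _ _
      _ = tau Q L (x * (y * ι Q m₁ * ι Q m₂)) := by
          refine congrArg (tau Q L) ?_
          rw [map_mul, map_mul, involute_involute, involute_ι, hx']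
          simp only [mul_assoc, neg_mul, mul_neg, neg_neg]
      _ = tau Q L (involute (y * ι Q m₁ * ι Q m₂) * x) := ih _
      _ = tau Q L (involute y * (ι Q m₁ * ι Q m₂ * x)) := by
          refine congrArg (tau Q L) ?_
          rw [map_mul, map_mul, involute_ι, involute_ι]
          simp only [mul_assoc, neg_mul, mul_neg, neg_neg]

/-- The Berezin functional vanishes on elements of the wrong parity. -/
theorem tau_eq_zero_of_parity (L : List (Module.Dual R M)) (hL : L.length = n) (i : ZMod 2)
    (hi : i + (n : ZMod 2) = 1) (x : CliffordAlgebra Q) (hx : x ∈ evenOdd Q i) :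
    tau Q L x = 0 := by
  have h1 := ctrL_mem_evenOdd L i x hx
  rw [hL, hi, ← algebraMap_tau b L hL] at h1
  have h0 : algebraMap R (CliffordAlgebra Q) (tau Q L x) ∈ evenOdd Q 0 :=
    SetLike.algebraMap_mem_graded _ _
  have hz : algebraMap R (CliffordAlgebra Q) (tau Q L x) = 0 := by
    have hdisj := (evenOdd_isCompl Q).disjoint
    exact (Submodule.disjoint_def.mp hdisj) _ h0 h1
  exact algebraMap_injective Q (by rw [hz, map_zero])

end Tau


end Part4

section Part5


open CliffordAlgebra Helper25.Cliff

variable {R : Type*} [CommRing R] {M : Type*} [AddCommGroup M] [Module R M]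

section Det

theorem map_ctrL {M' : Type*} [AddCommGroup M'] [Module R M'] {Q : QuadraticForm R M}
    {Q' : QuadraticForm R M'} (f : Q →qᵢ Q') (L : List (Module.Dual R M'))
    (x : CliffordAlgebra Q) :
    CliffordAlgebra.map f (ctrL (L.map fun d => d.comp f.toLinearMap) x) =
      ctrL L (CliffordAlgebra.map f x) := by
  induction L with
  | nil => simp
  | cons d L ih =>
    rw [List.map_cons, ctrL_cons, ctrL_cons, map_contractLeft, ih]

variable [Module.Free R M] (Q : QuadraticForm R M)

/-- The algebra map from the exterior algebra of the dual to endomorphisms of the Clifford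
algebra given by contractions. -/
noncomputable def Phi : ExteriorAlgebra R (Module.Dual R M) →ₐ[R]
    Module.End R (CliffordAlgebra Q) :=
  ExteriorAlgebra.lift R ⟨contractLeft, fun d => by
    ext x
    simp [contractLeft_contractLeft]⟩

/-- The Berezin functional as an alternating map of the functionals. -/
noncomputable def tauAlt (n : ℕ) (x : CliffordAlgebra Q) :
    (Module.Dual R M) [⋀^Fin n]→ₗ[R] R :=
  ((eps Q) ∘ₗ (LinearMap.applyₗ x : Module.End R (CliffordAlgebra Q) →ₗ[R] CliffordAlgebra Q)
    ∘ₗ (Phi Q).toLinearMap).compAlternatingMap (ExteriorAlgebra.ιMulti R n)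

theorem tauAlt_apply (n : ℕ) (x : CliffordAlgebra Q) (d : Fin n → Module.Dual R M) :
    tauAlt Q n x d = tau Q (List.ofFn d) x := by
  simp only [tauAlt, LinearMap.compAlternatingMap_apply, LinearMap.coe_comp, Function.comp_apply,
    AlgHom.toLinearMap_apply, ExteriorAlgebra.ιMulti_apply, map_list_prod, List.map_ofFn,
    LinearMap.applyₗ_apply_apply, tau_apply, ctrL]
  congr 3
  ext i y
  simp [Phi]

variable {Q}
variable {n : ℕ} (b : Module.Basis (Fin n) R M)
include b

theorem tauAlt_comp (x : CliffordAlgebra Q) (f : Module.Dual R M →ₗ[R] Module.Dual R M)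
    (d : Fin n → Module.Dual R M) :
    tauAlt Q n x (fun i => f (d i)) = LinearMap.det f * tauAlt Q n x d := by
  classical
  have h := AlternatingMap.eq_smul_basis_det b.dualBasis (tauAlt Q n x)
  rw [h, AlternatingMap.smul_apply, AlternatingMap.smul_apply]
  have : (fun i => f (d i)) = f ∘ d := rfl
  rw [this, Module.Basis.det_comp]
  simp only [smul_eq_mul]
  ring

/-- The Berezin functional is scaled by the determinant under isometries. -/
theorem tau_map (f : Q →qᵢ Q) (d : Fin n → Module.Dual R M) (x : CliffordAlgebra Q) :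
    tau Q (List.ofFn d) (CliffordAlgebra.map f x) =
      LinearMap.det f.toLinearMap * tau Q (List.ofFn d) x := by
  haveI : Module.Finite R M := Module.Finite.of_basis b
  have h1 : tau Q (List.ofFn d) (CliffordAlgebra.map f x)
      = tau Q (List.ofFn fun i => f.toLinearMap.dualMap (d i)) x := by
    apply algebraMap_injective Q
    rw [algebraMap_tau b _ (by simp), algebraMap_tau b _ (by simp), ← map_ctrL,
      ← algebraMap_tau b _ (by simp), AlgHom.commutes, algebraMap_tau b _ (by simp),
      List.map_ofFn]
    rfl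
  rw [h1, ← tauAlt_apply, tauAlt_comp b, LinearMap.det_dualMap, tauAlt_apply]

end Det


end Part5

section Part6


open CliffordAlgebra Helper25.Cliff

variable {R : Type*} [CommRing R] {M : Type*} [AddCommGroup M] [Module R M]

section Norm

variable {Q : QuadraticForm R M}

theorem contractLeft_list_prod_eq_zero (θ : Module.Dual R M) (V : List M)
    (h : ∀ v ∈ V, θ v = 0) : contractLeft θ ((V.map (ι Q)).prod) = 0 := by
  induction V with
  | nil => simp [contractLeft_one]
  | cons v V ih =>
    rw [List.map_cons, List.prod_cons, contractLeft_ι_mul, h v (List.mem_cons_self),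
      zero_smul, ih (fun w hw => h w (List.mem_cons_of_mem _ hw)), mul_zero, sub_zero]

theorem list_prod_mem_evenOdd (V : List M) :
    (V.map (ι Q)).prod ∈ evenOdd Q (V.length : ZMod 2) := by
  induction V with
  | nil =>
    simp only [List.map_nil, List.prod_nil, List.length_nil, Nat.cast_zero]
    exact SetLike.one_mem_graded _
  | cons v V ih =>
    rw [List.map_cons, List.prod_cons, List.length_cons, Nat.cast_succ, add_comm]
    exact SetLike.mul_mem_graded (ι_mem_evenOdd_one Q v) ih

variable {n : ℕ} (b : Module.Basis (Fin n) R M)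

theorem ctrL_reverse_prod (K : List (Fin n)) (hK : K.Nodup) :
    ctrL (Q := Q) (K.reverse.map fun i => b.coord i) ((K.map fun i => ι Q (b i)).prod) = 1 := by
  induction K with
  | nil => simp
  | cons i K ih =>
    rw [List.reverse_cons, List.map_append, ctrL_append, List.map_cons, List.map_nil, ctrL_cons,
      ctrL_nil, Module.End.one_apply, List.map_cons, List.prod_cons, contractLeft_ι_mul]
    have h1 : b.coord i (b i) = 1 := by simp
    have h2 : contractLeft (b.coord i) ((K.map fun j => ι Q (b j)).prod) = 0 := by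
      have := contractLeft_list_prod_eq_zero (Q := Q) (b.coord i) (K.map b) (by
        intro v hv
        obtain ⟨j, hj, rfl⟩ := List.mem_map.mp hv
        have hne : j ≠ i := by
          rintro rfl
          exact (List.nodup_cons.mp hK).1 hj
        simp [hne])
      rwa [List.map_map] at this
    rw [h1, h2, one_smul, mul_zero, sub_zero]
    exact ih (List.nodup_cons.mp hK).2

variable [Module.Free R M]

include b in
/-- Normalisation: the Berezin functional of a suitable list of functionals takes the value `1`
on an element of parity `n`. -/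
theorem exists_tau_eq_one (Q : QuadraticForm R M) :
    ∃ (L : List (Module.Dual R M)) (x₀ : CliffordAlgebra Q), L.length = n ∧
      x₀ ∈ evenOdd Q (n : ZMod 2) ∧ tau Q L x₀ = 1 := by
  refine ⟨(List.finRange n).reverse.map fun i => b.coord i,
    ((List.finRange n).map fun i => ι Q (b i)).prod, by simp, ?_, ?_⟩
  · have := list_prod_mem_evenOdd (Q := Q) ((List.finRange n).map b)
    rwa [List.map_map, List.length_map, List.length_finRange] at this
  · rw [tau_apply, ctrL_reverse_prod b _ (List.nodup_finRange n)]
    have : (1 : CliffordAlgebra Q) = algebraMap R _ 1 := (map_one _).symm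
    rw [this, eps_algebraMap]

include b in
theorem tau_map' (L : List (Module.Dual R M)) (hL : L.length = n) (f : Q →qᵢ Q)
    (x : CliffordAlgebra Q) :
    tau Q L (CliffordAlgebra.map f x) = LinearMap.det f.toLinearMap * tau Q L x := by
  subst hL
  have := tau_map b f L.get x
  rwa [List.ofFn_get] at this

end Norm


end Part6

section Part7


open CliffordAlgebra Helper25.Cliff

variable {R : Type*} [CommRing R] {M : Type*} [AddCommGroup M] [Module R M]

section Main

variable {Q : QuadraticForm R M} {n : ℕ} (b : Module.Basis (Fin n) R M)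
include b

theorem linearEquiv_det_eq_of_coe {g : M ≃ₗ[R] M} {c : Rˣ}
    (h : LinearMap.det (g : M →ₗ[R] M) = c) : LinearEquiv.det g = c := by
  apply Units.ext
  rw [LinearEquiv.coe_det]; exact h

/-- Conjugation by an even unit induces an isometry of determinant one. -/
theorem det_eq_one_of_conj_even (g : M ≃ₗ[R] M) (hg : g ∈ QuadGrp.O Q) (u : (CliffordAlgebra Q)ˣ)
    (hu : (u : CliffordAlgebra Q) ∈ evenOdd Q 0)
    (h : ∀ x, CliffordAlgebra.map (QuadGrp.isometryOfMem Q g hg) x
      = (u : CliffordAlgebra Q) * x * ↑u⁻¹) : LinearEquiv.det g = 1 := by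
  haveI : Module.Free R M := Module.Free.of_basis b
  obtain ⟨L, x₀, hL, hx₀, hτ⟩ := exists_tau_eq_one b Q
  have h1 := tau_map' b L hL (QuadGrp.isometryOfMem Q g hg) x₀
  rw [h, mul_assoc, tau_even_mul b L hL _ hu, mul_assoc, Units.inv_mul, mul_one, hτ, mul_one] at h1
  refine linearEquiv_det_eq_of_coe b (c := 1) ?_
  rw [Units.val_one]
  exact h1.symm

/-- In even rank, conjugation by an odd unit induces an isometry of determinant `-1`. -/
theorem det_eq_neg_one_of_conj_odd (hn : (n : ZMod 2) = 0) (g : M ≃ₗ[R] M) (hg : g ∈ QuadGrp.O Q)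
    (u : (CliffordAlgebra Q)ˣ) (hu : (u : CliffordAlgebra Q) ∈ evenOdd Q 1)
    (h : ∀ x, CliffordAlgebra.map (QuadGrp.isometryOfMem Q g hg) x
      = (u : CliffordAlgebra Q) * x * ↑u⁻¹) : LinearEquiv.det g = -1 := by
  haveI : Module.Free R M := Module.Free.of_basis b
  obtain ⟨L, x₀, hL, hx₀, hτ⟩ := exists_tau_eq_one b Q
  rw [hn] at hx₀
  have hinv : (↑u⁻¹ : CliffordAlgebra Q) ∈ evenOdd Q 1 := by
    have := (QuadGrp.isLocHomog_inv_aux Q u 0 (by rw [zero_smul]; exact Submodule.zero_mem _)
      (by rwa [sub_zero, one_smul])).2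
    rwa [sub_zero, one_smul] at this
  have hodd : x₀ * ↑u⁻¹ ∈ evenOdd Q 1 := by
    have := SetLike.mul_mem_graded hx₀ hinv
    rwa [zero_add] at this
  have h1 := tau_map' b L hL (QuadGrp.isometryOfMem Q g hg) x₀
  rw [h, mul_assoc, tau_odd_mul b L hL _ hu, involute_eq_of_mem_odd hodd, neg_mul, mul_assoc,
    Units.inv_mul, mul_one, map_neg, hτ, mul_one] at h1
  refine linearEquiv_det_eq_of_coe b (c := -1) ?_
  rw [Units.val_neg, Units.val_one]
  exact h1.symm

/-- In odd rank the Berezin functional on odd elements is invariant under conjugation by any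
invertible element. -/
theorem tau_conj_of_odd_rank [Module.Free R M] (hn : (n : ZMod 2) = 1) (L : List (Module.Dual R M))
    (hL : L.length = n) (U W : CliffordAlgebra Q) (hWU : W * U = 1) (x₀ : CliffordAlgebra Q)
    (hx₀ : x₀ ∈ evenOdd Q 1) : tau Q L (U * x₀ * W) = tau Q L x₀ := by
  obtain ⟨u₀, u₁, hu₀, hu₁, husum⟩ :=
    Submodule.codisjoint_iff_exists_add_eq.mp (evenOdd_isCompl Q).codisjoint U
  obtain ⟨w₀, w₁, hw₀, hw₁, hwsum⟩ :=
    Submodule.codisjoint_iff_exists_add_eq.mp (evenOdd_isCompl Q).codisjoint W
  have h00 : w₀ * u₀ ∈ evenOdd Q 0 := by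
    have := SetLike.mul_mem_graded hw₀ hu₀; rwa [zero_add] at this
  have h11 : w₁ * u₁ ∈ evenOdd Q 0 := by
    have := SetLike.mul_mem_graded hw₁ hu₁; rwa [show (1 : ZMod 2) + 1 = 0 from rfl] at this
  have h01 : w₀ * u₁ ∈ evenOdd Q 1 := by
    have := SetLike.mul_mem_graded hw₀ hu₁; rwa [zero_add] at this
  have h10 : w₁ * u₀ ∈ evenOdd Q 1 := by
    have := SetLike.mul_mem_graded hw₁ hu₀; rwa [add_zero] at this
  have hwu : (w₀ * u₀ + w₁ * u₁) + (w₀ * u₁ + w₁ * u₀) = 1 + 0 := by
    rw [← husum, ← hwsum] at hWU
    rw [add_zero, ← hWU]; noncomm_ring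
  obtain ⟨he, ho⟩ := even_odd_unique Q (Submodule.add_mem _ h00 h11)
    (SetLike.one_mem_graded _) (Submodule.add_mem _ h01 h10) (Submodule.zero_mem _) hwu
  have hx₀w : involute (x₀ * W) = -(x₀ * (w₀ - w₁)) := by
    rw [map_mul, involute_eq_of_mem_odd hx₀, ← hwsum, map_add, involute_eq_of_mem_even hw₀,
      involute_eq_of_mem_odd hw₁, neg_mul, sub_eq_add_neg]
  have hsplit : tau Q L (U * x₀ * W)
      = tau Q L (x₀ * W * u₀) + tau Q L (involute (x₀ * W) * u₁) := by
    rw [← tau_even_mul b L hL _ hu₀, ← tau_odd_mul b L hL _ hu₁, ← map_add, ← add_mul, husum,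
      mul_assoc]
  have hcomb : x₀ * W * u₀ + involute (x₀ * W) * u₁
      = x₀ + x₀ * (w₁ * u₀ - w₀ * u₁) := by
    rw [hx₀w, ← hwsum]
    have e1 : x₀ * (w₀ + w₁) * u₀ + -(x₀ * (w₀ - w₁)) * u₁
        = x₀ * ((w₀ * u₀ + w₁ * u₁) + (w₁ * u₀ - w₀ * u₁)) := by noncomm_ring
    rw [e1, he]; noncomm_ring
  have hzero : tau Q L (x₀ * (w₁ * u₀ - w₀ * u₁)) = 0 := by
    refine tau_eq_zero_of_parity b L hL 0 (by rw [zero_add, hn]) _ ?_
    have := SetLike.mul_mem_graded hx₀ (Submodule.sub_mem _ h10 h01)
    rwa [show (1 : ZMod 2) + 1 = 0 from rfl] at this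
  rw [hsplit, ← map_add, hcomb, map_add, hzero, add_zero]

/-- In odd rank, conjugation by any unit of the Clifford algebra inducing an isometry induces one
of determinant one. -/
theorem det_eq_one_of_conj_of_odd_rank (hn : (n : ZMod 2) = 1) (g : M ≃ₗ[R] M)
    (hg : g ∈ QuadGrp.O Q) (u : (CliffordAlgebra Q)ˣ)
    (h : ∀ x, CliffordAlgebra.map (QuadGrp.isometryOfMem Q g hg) x
      = (u : CliffordAlgebra Q) * x * ↑u⁻¹) : LinearEquiv.det g = 1 := by
  haveI : Module.Free R M := Module.Free.of_basis b
  obtain ⟨L, x₀, hL, hx₀, hτ⟩ := exists_tau_eq_one b Q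
  rw [hn] at hx₀
  have h1 := tau_map' b L hL (QuadGrp.isometryOfMem Q g hg) x₀
  rw [h, tau_conj_of_odd_rank b hn L hL _ _ (Units.inv_mul u) x₀ hx₀, hτ, mul_one] at h1
  refine linearEquiv_det_eq_of_coe b (c := 1) ?_
  rw [Units.val_one]
  exact h1.symm

end Main


end Part7

section Part8


open CliffordAlgebra Helper25.Cliff

variable {R : Type*} [CommRing R] {M : Type*} [AddCommGroup M] [Module R M]

section GPin

variable [Module.Free R M] (Q : QuadraticForm R M)

/-- The linear endomorphism of `M` induced by conjugation by a point of the naive Clifford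
group. -/
noncomputable def conjLin (u : (CliffordAlgebra Q)ˣ) : M →ₗ[R] M :=
  ιRetract Q ∘ₗ LinearMap.mulRight R (↑u⁻¹ : CliffordAlgebra Q) ∘ₗ
    LinearMap.mulLeft R (u : CliffordAlgebra Q) ∘ₗ ι Q

theorem ι_conjLin (u : (CliffordAlgebra Q)ˣ) (hu : u ∈ QuadGrp.GPin' Q) (v : M) :
    ι Q (conjLin Q u v) = (u : CliffordAlgebra Q) * ι Q v * ↑u⁻¹ := by
  obtain ⟨w, hw⟩ := conj_mem_range_of_mem_GPin' Q u hu v
  simp only [conjLin, LinearMap.coe_comp, Function.comp_apply, LinearMap.mulLeft_apply,
    LinearMap.mulRight_apply]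
  rw [hw, ιRetract_ι]

/-- Conjugation by a point of the naive Clifford group induces an isometry of `M`. -/
theorem exists_isometry_of_mem_GPin' (u : (CliffordAlgebra Q)ˣ) (hu : u ∈ QuadGrp.GPin' Q) :
    ∃ g : M ≃ₗ[R] M, g ∈ QuadGrp.O Q ∧
      ∀ v, (u : CliffordAlgebra Q) * ι Q v * ↑u⁻¹ = ι Q (g v) := by
  have hu' : u⁻¹ ∈ QuadGrp.GPin' Q := (QuadGrp.GPin' Q).inv_mem hu
  have h1 : ∀ v, conjLin Q u⁻¹ (conjLin Q u v) = v := by
    intro v
    apply ι_injective Q
    rw [ι_conjLin Q _ hu', ι_conjLin Q _ hu, inv_inv]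
    simp only [mul_assoc, Units.inv_mul, mul_one]
    rw [← mul_assoc, Units.inv_mul, one_mul]
  have h2 : ∀ v, conjLin Q u (conjLin Q u⁻¹ v) = v := by
    intro v
    apply ι_injective Q
    rw [ι_conjLin Q _ hu, ι_conjLin Q _ hu', inv_inv]
    simp only [mul_assoc, Units.mul_inv, mul_one]
    rw [← mul_assoc, Units.mul_inv, one_mul]
  refine ⟨LinearEquiv.ofLinear (conjLin Q u) (conjLin Q u⁻¹) (LinearMap.ext h2)
    (LinearMap.ext h1), ?_, fun v => (ι_conjLin Q u hu v).symm⟩
  intro v
  apply algebraMap_injective Q
  show algebraMap R _ (Q (conjLin Q u v)) = _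
  rw [← ι_sq_scalar, ι_conjLin Q u hu]
  calc (u : CliffordAlgebra Q) * ι Q v * ↑u⁻¹ * (↑u * ι Q v * ↑u⁻¹)
      = (u : CliffordAlgebra Q) * (ι Q v * ((↑u⁻¹ : CliffordAlgebra Q) * ↑u) * ι Q v) * ↑u⁻¹ := by
        simp only [mul_assoc]
    _ = algebraMap R _ (Q v) := by
        rw [Units.inv_mul, mul_one, ι_sq_scalar, ← Algebra.commutes, mul_assoc, Units.mul_inv,
          mul_one]

end GPin


end Part8

end Groth.Agent.Lib.Helper47.CliffTau
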