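import Mathlib
import Groth.Prelude.Def_EGA41
import Groth.Agent.Lib.Helper47.AdicSmoothCompletion

/-!
# EGA-style adic formal smoothness and adic completion
-/

set_option autoImplicit false
universe u

namespace Groth.Agent.Lib.Helper47

open AdicCompletion

variable {A B : Type u} [CommRing A] [CommRing B] [Algebra A B] (𝔞 : Ideal A) (𝔟 : Ideal B)

theorem isFormallySmoothAdic_completion_of (fg : 𝔟.FG)
    (h : EGA41.IsFormallySmoothAdic A 𝔞 B 𝔟) :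
    EGA41.IsFormallySmoothAdic A 𝔞 (AdicCompletion 𝔟 B)
      (𝔟.map (algebraMap B (AdicCompletion 𝔟 B))) := by
  intro C _ _ J ⟨N, hJ⟩ hA ψ' ⟨k, hk⟩
  set ι := toCompletionₐ (R := A) 𝔟 with hι
  obtain ⟨χ, hχ⟩ := h C J ⟨N, hJ⟩ hA (ψ'.comp ι) ⟨k, fun x hx => by
    rw [AlgHom.comp_apply]
    refine hk _ ?_
    rw [← Ideal.map_pow]
    exact Ideal.mem_map_of_mem _ hx⟩
  have hχ' : ∀ s, Ideal.Quotient.mk J (χ s) = ψ' (ι s) := fun s => by
    have := DFunLike.congr_fun hχ s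
    simpa using this
  -- `χ` kills `𝔟^(k(N+1))`
  have hkill : ∀ x ∈ 𝔟 ^ (k * (N + 1)), χ x = 0 := by
    have h1 : (𝔟 ^ k).map χ.toRingHom ≤ J := by
      rw [Ideal.map_le_iff_le_comap]
      intro x hx
      rw [Ideal.mem_comap, ← Ideal.Quotient.eq_zero_iff_mem]
      change Ideal.Quotient.mk J (χ x) = 0
      rw [hχ']
      refine hk _ ?_
      rw [← Ideal.map_pow]
      exact Ideal.mem_map_of_mem _ hx
    have h2 : (𝔟 ^ (k * (N + 1))).map χ.toRingHom ≤ ⊥ := by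
      rw [pow_mul, Ideal.map_pow]
      refine (Ideal.pow_right_mono h1 (N + 1)).trans ?_
      rw [pow_succ, hJ, Ideal.zero_eq_bot, Ideal.bot_mul]
    intro x hx
    have := h2 (Ideal.mem_map_of_mem _ hx)
    simpa using this
  let χ₁ : B ⧸ 𝔟 ^ (k * (N + 1)) →ₐ[A] C := Ideal.Quotient.liftₐ (𝔟 ^ (k * (N + 1))) χ hkill
  refine ⟨χ₁.comp (evalR 𝔟 (k * (N + 1))), ?_⟩
  ext x
  obtain ⟨s, hs⟩ := Ideal.Quotient.mk_surjective (evalR (R := A) 𝔟 (k * (N + 1)) x)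
  have h3 : χ₁ (evalR (R := A) 𝔟 (k * (N + 1)) x) = χ s := by
    rw [← hs]; rfl
  have h4 : evalR (R := A) 𝔟 (k * (N + 1)) (x - ι s) = 0 := by
    rw [map_sub, hι, evalR_toCompletionₐ, hs, sub_self]
  rw [evalR_eq_zero_iff 𝔟 fg] at h4
  have h5 : ψ' (x - ι s) = 0 := by
    refine hk _ ?_
    rw [← Ideal.map_pow]
    exact Ideal.map_mono (Ideal.pow_le_pow_right (Nat.le_mul_of_pos_right k (Nat.succ_pos N))) h4
  rw [map_sub, sub_eq_zero] at h5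
  simp only [AlgHom.coe_comp, Function.comp_apply, Ideal.Quotient.mkₐ_eq_mk]
  rw [h3, hχ', h5]

theorem isFormallySmoothAdic_of_completion
    (h : EGA41.IsFormallySmoothAdic A 𝔞 (AdicCompletion 𝔟 B)
      (𝔟.map (algebraMap B (AdicCompletion 𝔟 B)))) :
    EGA41.IsFormallySmoothAdic A 𝔞 B 𝔟 := by
  intro C _ _ J hJ hA ψ ⟨k, hk⟩
  let ψ₁ : B ⧸ 𝔟 ^ k →ₐ[A] C ⧸ J := Ideal.Quotient.liftₐ (𝔟 ^ k) ψ hk
  obtain ⟨χ, hχ⟩ := h C J hJ hA (ψ₁.comp (evalR 𝔟 k)) ⟨k, fun x hx => by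
    rw [← Ideal.map_pow] at hx
    have : evalR (R := A) 𝔟 k x = 0 := by
      change x ∈ RingHom.ker (AdicCompletion.evalₐ 𝔟 k).toRingHom
      refine (Ideal.map_le_iff_le_comap.mpr ?_) hx
      intro s hs
      rw [Ideal.mem_comap, RingHom.mem_ker]
      change (AdicCompletion.evalₐ 𝔟 k) (AdicCompletion.of 𝔟 B s) = 0
      rw [AdicCompletion.evalₐ_of]
      exact Ideal.Quotient.eq_zero_iff_mem.mpr hs
    rw [AlgHom.comp_apply, this, _root_.map_zero]⟩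
  refine ⟨χ.comp (toCompletionₐ 𝔟), ?_⟩
  ext s
  have := DFunLike.congr_fun hχ (toCompletionₐ (R := A) 𝔟 s)
  simp only [AlgHom.coe_comp, Function.comp_apply, Ideal.Quotient.mkₐ_eq_mk] at this ⊢
  rw [this, evalR_toCompletionₐ]
  rfl

theorem isFormallySmoothAdic_iff_completion (fg : 𝔟.FG) :
    EGA41.IsFormallySmoothAdic A 𝔞 B 𝔟 ↔
      EGA41.IsFormallySmoothAdic A 𝔞 (AdicCompletion 𝔟 B)
        (𝔟.map (algebraMap B (AdicCompletion 𝔟 B))) :=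
  ⟨isFormallySmoothAdic_completion_of 𝔞 𝔟 fg, isFormallySmoothAdic_of_completion 𝔞 𝔟⟩

end Groth.Agent.Lib.Helper47
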