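import Groth.Agent.Lib.Helper47.BasicEltFibre

/-!
# General position and the Eisenbud–Evans basic element theorem (helper47)
-/

set_option autoImplicit false
universe u v
open TensorProduct

namespace Groth.Agent.Lib.Helper47.BasicElt

section Part4x0


variable {A : Type u} [CommRing A] {M : Type v} [AddCommGroup M] [Module A M]

/-- the modified family `v_j + a_j v_last`. -/
def modify {t : ℕ} (v : Fin (t + 1) → M) (a : Fin t → A) : Fin t → M :=
  fun j => v j.castSucc + a j • v (Fin.last t)

lemma toFib_modify (p : PrimeSpectrum A) {t : ℕ} (v : Fin (t + 1) → M) (a : Fin t → A) (j : Fin t) :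
    toFib p (modify v a j) =
      toFib p (v j.castSucc) + algebraMap A (kap p) (a j) • toFib p (v (Fin.last t)) := by
  unfold modify
  rw [map_add, toFib_smul]

/-- `a` is good at `p`: the last vector lies in the span of the modified family. -/
def GoodAt (p : PrimeSpectrum A) {t : ℕ} (v : Fin (t + 1) → M) (a : Fin t → A) : Prop :=
  toFib p (v (Fin.last t)) ∈ fspan p (modify v a)

lemma fspan_modify_le (p : PrimeSpectrum A) {t : ℕ} (v : Fin (t + 1) → M) (a : Fin t → A) :
    fspan p (modify v a) ≤ fspan p v := by
  unfold fspan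
  rw [Submodule.span_le]
  rintro _ ⟨j, rfl⟩
  show toFib p (modify v a j) ∈ _
  rw [toFib_modify]
  exact Submodule.add_mem _ (Submodule.subset_span ⟨_, rfl⟩)
    (Submodule.smul_mem _ _ (Submodule.subset_span ⟨_, rfl⟩))

lemma fspan_le_sup (p : PrimeSpectrum A) {t : ℕ} (v : Fin (t + 1) → M) (a : Fin t → A) :
    fspan p v ≤ fspan p (modify v a) ⊔ Submodule.span (kap p) {toFib p (v (Fin.last t))} := by
  unfold fspan
  rw [Submodule.span_le]
  rintro _ ⟨i, rfl⟩
  have hlast : toFib p (v (Fin.last t)) ∈
      Submodule.span (kap p) (Set.range fun i => toFib p (modify v a i)) ⊔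
        Submodule.span (kap p) {toFib p (v (Fin.last t))} :=
    Submodule.mem_sup_right (Submodule.subset_span rfl)
  refine Fin.lastCases hlast (fun j => ?_) i
  have h1 : toFib p (v j.castSucc) = toFib p (modify v a j) -
      algebraMap A (kap p) (a j) • toFib p (v (Fin.last t)) := by
    rw [toFib_modify]; abel
  show toFib p (v j.castSucc) ∈ _
  rw [h1]
  exact Submodule.sub_mem _ (Submodule.mem_sup_left (Submodule.subset_span ⟨j, rfl⟩))
    (Submodule.smul_mem _ _ hlast)

lemma fspan_eq_of_goodAt (p : PrimeSpectrum A) {t : ℕ} (v : Fin (t + 1) → M) (a : Fin t → A)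
    (h : GoodAt p v a) : fspan p (modify v a) = fspan p v := by
  refine le_antisymm (fspan_modify_le p v a) ((fspan_le_sup p v a).trans ?_)
  rw [sup_le_iff]
  refine ⟨le_rfl, ?_⟩
  rw [Submodule.span_le, Set.singleton_subset_iff]
  exact h

lemma beta_eq_of_goodAt (p : PrimeSpectrum A) {t : ℕ} (v : Fin (t + 1) → M) (a : Fin t → A)
    (h : GoodAt p v a) : beta p (modify v a) = beta p v := by
  unfold beta
  rw [fspan_eq_of_goodAt p v a h]

lemma beta_le_beta_modify_succ [Module.Finite A M] (p : PrimeSpectrum A) {t : ℕ}
    (v : Fin (t + 1) → M) (a : Fin t → A) : beta p v ≤ beta p (modify v a) + 1 := by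
  unfold beta
  have h1 := Submodule.finrank_mono (fspan_le_sup p v a)
  have h2 := Submodule.finrank_add_le_finrank_add_finrank (fspan p (modify v a))
    (Submodule.span (kap p) {toFib p (v (Fin.last t))})
  have h3 : Module.finrank (kap p) (Submodule.span (kap p) {toFib p (v (Fin.last t))}) ≤ 1 := by
    have := finrank_span_le_card (R := kap p) ({toFib p (v (Fin.last t))} : Set (fib p M))
    simpa using this
  omega

lemma goodAt_congr (p : PrimeSpectrum A) {t : ℕ} (v : Fin (t + 1) → M) (a a' : Fin t → A)
    (h : ∀ j, a' j - a j ∈ p.asIdeal) (ha : GoodAt p v a) : GoodAt p v a' := by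
  unfold GoodAt fspan at *
  have : (fun i => toFib p (modify v a' i)) = fun i => toFib p (modify v a i) := by
    funext j
    rw [toFib_modify, toFib_modify]
    have : algebraMap A (kap p) (a' j) = algebraMap A (kap p) (a j) := by
      rw [← sub_eq_zero, ← map_sub, algebraMap_kap_eq_zero_iff]
      exact h j
    rw [this]
  rw [this]
  exact ha

end Part4x0

section Part5x0


variable {A : Type u} [CommRing A] {M : Type v} [AddCommGroup M] [Module A M]

/-- one step of general position: fix `p` by a modification divisible by `b ∉ p`. -/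
lemma gp_step (p : PrimeSpectrum A) {t : ℕ} (v : Fin (t + 1) → M) (hdep : beta p v < t + 1)
    (a : Fin t → A) (b : A) (hb : b ∉ p.asIdeal) :
    ∃ a' : Fin t → A, (∀ j, a' j - a j ∈ Ideal.span {b}) ∧ GoodAt p v a' := by
  classical
  -- a nontrivial linear relation in the fibre
  have hnli : ¬ LinearIndependent (kap p) (fun i => toFib p (v i)) := by
    intro hli
    have := finrank_span_eq_card hli
    rw [Fintype.card_fin] at this
    unfold beta fspan at hdep
    omega
  obtain ⟨c, hc, hc0⟩ := Fintype.not_linearIndependent_iff.mp hnli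
  rw [Fin.sum_univ_castSucc] at hc
  set x := toFib p (v (Fin.last t)) with hx
  -- the key identity
  have key : ∀ a' : Fin t → A, ∑ j, c j.castSucc • toFib p (modify v a' j) =
      (∑ j, c j.castSucc * algebraMap A (kap p) (a' j) - c (Fin.last t)) • x := by
    intro a'
    have h1 : ∀ j, c j.castSucc • toFib p (modify v a' j) =
        c j.castSucc • toFib p (v j.castSucc) +
          (c j.castSucc * algebraMap A (kap p) (a' j)) • x := by
      intro j
      rw [toFib_modify, smul_add, smul_smul]
    rw [Finset.sum_congr rfl (fun j _ => h1 j), Finset.sum_add_distrib, ← Finset.sum_smul,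
      eq_neg_of_add_eq_zero_left hc,
      sub_smul (∑ j, c j.castSucc * algebraMap A (kap p) (a' j)) (c (Fin.last t)) x]
    abel
  have good_of_ne : ∀ a' : Fin t → A,
      ∑ j, c j.castSucc * algebraMap A (kap p) (a' j) - c (Fin.last t) ≠ 0 → GoodAt p v a' := by
    intro a' hne
    unfold GoodAt
    have h2 : x = (∑ j, c j.castSucc * algebraMap A (kap p) (a' j) - c (Fin.last t))⁻¹ •
        ∑ j, c j.castSucc • toFib p (modify v a' j) := by
      rw [key a', smul_smul, inv_mul_cancel₀ hne, one_smul]
    rw [← hx, h2]
    refine Submodule.smul_mem _ _ (Submodule.sum_mem _ fun j _ => Submodule.smul_mem _ _ ?_)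
    exact Submodule.subset_span ⟨j, rfl⟩
  by_cases hδ : ∑ j, c j.castSucc * algebraMap A (kap p) (a j) - c (Fin.last t) = 0
  · -- need to modify
    have hj0 : ∃ j0 : Fin t, c j0.castSucc ≠ 0 := by
      by_contra hall
      push Not at hall
      have h0 : c (Fin.last t) = 0 := by
        have : ∑ j, c j.castSucc * algebraMap A (kap p) (a j) = 0 :=
          Finset.sum_eq_zero fun j _ => by rw [hall j, zero_mul]
        rw [this, zero_sub, neg_eq_zero] at hδ
        exact hδ
      obtain ⟨i, hi⟩ := hc0
      exact hi (Fin.lastCases h0 (fun j => hall j) i)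
    obtain ⟨j0, hj0⟩ := hj0
    refine ⟨Function.update a j0 (a j0 + b), ?_, good_of_ne _ ?_⟩
    · intro j
      by_cases hj : j = j0
      · subst hj
        rw [Function.update_self, add_sub_cancel_left]
        exact Ideal.subset_span rfl
      · rw [Function.update_of_ne hj, sub_self]
        exact zero_mem _
    · have h3 : ∑ j, c j.castSucc * algebraMap A (kap p) (Function.update a j0 (a j0 + b) j) =
          ∑ j, c j.castSucc * algebraMap A (kap p) (a j) +
            c j0.castSucc * algebraMap A (kap p) b := by
        have h4 : ∀ j, c j.castSucc * algebraMap A (kap p) (Function.update a j0 (a j0 + b) j) =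
            c j.castSucc * algebraMap A (kap p) (a j) +
              (if j = j0 then c j0.castSucc * algebraMap A (kap p) b else 0) := by
          intro j
          by_cases hj : j = j0
          · subst hj
            rw [Function.update_self, map_add, mul_add, if_pos rfl]
          · rw [Function.update_of_ne hj, if_neg hj, add_zero]
        rw [Finset.sum_congr rfl (fun j _ => h4 j), Finset.sum_add_distrib,
          Finset.sum_ite_eq' Finset.univ j0, if_pos (Finset.mem_univ _)]
      rw [h3, add_sub_right_comm, hδ, zero_add]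
      refine mul_ne_zero hj0 ?_
      rw [Ne, algebraMap_kap_eq_zero_iff]
      exact hb
  · exact ⟨a, fun j => by rw [sub_self]; exact zero_mem _, good_of_ne a hδ⟩

end Part5x0

section Part5x1

variable {A : Type u} [CommRing A] {M : Type v} [AddCommGroup M] [Module A M]

/-- general position at finitely many primes. -/
lemma gp (S : Finset (PrimeSpectrum A)) {t : ℕ} (v : Fin (t + 1) → M)
    (hdep : ∀ p ∈ S, beta p v < t + 1) : ∃ a : Fin t → A, ∀ p ∈ S, GoodAt p v a := by
  classical
  induction hn : S.card generalizing S with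
  | zero =>
    rw [Finset.card_eq_zero] at hn
    subst hn
    exact ⟨fun _ => 0, fun p hp => absurd hp (Finset.notMem_empty p)⟩
  | succ n ih =>
    have hne : S.Nonempty := Finset.card_pos.mp (by omega)
    obtain ⟨p, hpS, hpmin⟩ := S.exists_minimal hne
    obtain ⟨a, ha⟩ := ih (S.erase p) (fun q hq => hdep q (Finset.mem_of_mem_erase hq))
      (by rw [Finset.card_erase_of_mem hpS, hn]; rfl)
    -- an element of all the other primes, not in `p`
    have hnle : ¬ (S.erase p).inf (fun q => q.asIdeal) ≤ p.asIdeal := by
      rw [Ideal.IsPrime.inf_le' p.isPrime]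
      rintro ⟨q, hq, hqp⟩
      have hqS := Finset.mem_of_mem_erase hq
      have hpq : p ≤ q := hpmin hqS hqp
      exact (Finset.ne_of_mem_erase hq) (le_antisymm hqp hpq)
    obtain ⟨b, hb, hbp⟩ := SetLike.not_le_iff_exists.mp hnle
    obtain ⟨a', ha', hgood⟩ := gp_step p v (hdep p hpS) a b hbp
    refine ⟨a', fun q hq => ?_⟩
    by_cases hqp : q = p
    · subst hqp; exact hgood
    · have hq' : q ∈ S.erase p := Finset.mem_erase.mpr ⟨hqp, hq⟩
      refine goodAt_congr q v a a' (fun j => ?_) (ha q hq')
      have hbq : b ∈ q.asIdeal := (Finset.inf_le hq' : _ ≤ q.asIdeal) hb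
      exact (Ideal.span_singleton_le_iff_mem (I := q.asIdeal)).mpr hbq (ha' j)

end Part5x1

section Part6x0


variable {A : Type u} [CommRing A] {M : Type v} [AddCommGroup M] [Module A M]

/-- the Eisenbud–Evans step: drop one generator keeping fold-basicness. -/
lemma ee_step [IsNoetherianRing A] [Module.Finite A M] (k r : ℕ)
    (hr : ∀ p : PrimeSpectrum A, inX k p → mu p M = r) {t : ℕ} (v : Fin (t + 1 + 1) → M)
    (hv : Good A k v) : ∃ a : Fin (t + 1) → A, Good A k (modify v a) := by
  classical
  have hfin := crit_finite k r hr v hv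
  obtain ⟨a, ha⟩ := gp hfin.toFinset v (fun p hp => by
    have hc := (hfin.mem_toFinset.mp hp).2
    omega)
  refine ⟨a, fun p hpX => ?_⟩
  by_cases hc : p ∈ Crit A k v
  · have hg := ha p (hfin.mem_toFinset.mpr hc)
    rw [beta_eq_of_goodAt p v a hg]
    have h1 := hv p hpX
    omega
  · have h1 : min (t + 1 + 1) (dd k p + 2) ≤ beta p v := by
      by_contra h
      exact hc ⟨hpX, by omega⟩
    have h2 := beta_le_beta_modify_succ p v a
    omega

theorem exists_basic_of_good [IsNoetherianRing A] [Module.Finite A M] (k r : ℕ)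
    (hr : ∀ p : PrimeSpectrum A, inX k p → mu p M = r) :
    ∀ (t : ℕ) (v : Fin (t + 1) → M), Good A k v →
      ∃ m : M, ∀ p : PrimeSpectrum A, inX k p → toFib p m ≠ 0
  | 0, v, hv => by
    refine ⟨v 0, fun p hp h0 => ?_⟩
    have h1 := hv p hp
    have h2 : beta p v = 0 := by
      unfold beta fspan
      have : (Set.range fun i => toFib p (v i)) = {0} := by
        ext y
        constructor
        · rintro ⟨i, rfl⟩
          have hi : i = 0 := Fin.ext (by omega)
          rw [hi]
          exact h0
        · rintro rfl
          exact ⟨0, h0⟩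
      rw [this, Submodule.span_zero_singleton, finrank_bot]
    omega
  | t + 1, v, hv => by
    obtain ⟨a, ha⟩ := ee_step k r hr v hv
    exact exists_basic_of_good k r hr t (modify v a) ha

/-- **Eisenbud–Evans**: a module which is free of rank `r > k` in the fibres over all primes of
height `≤ k` has an element which is basic at all these primes. -/
theorem exists_basic [IsNoetherianRing A] [Module.Finite A M] (k r : ℕ)
    (hr : ∀ p : PrimeSpectrum A, inX k p → mu p M = r) (hkr : k + 1 ≤ r) :
    ∃ m : M, ∀ p : PrimeSpectrum A, inX k p → toFib p m ≠ 0 := by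
  obtain ⟨n, g, hg⟩ := Module.Finite.exists_fin (R := A) (M := M)
  have hspan : Submodule.span A (Set.range (Fin.cons 0 g : Fin (n + 1) → M)) = ⊤ := by
    rw [eq_top_iff, ← hg, Submodule.span_le]
    rintro _ ⟨i, rfl⟩
    exact Submodule.subset_span ⟨i.succ, by rw [Fin.cons_succ]⟩
  refine exists_basic_of_good k r hr n (Fin.cons 0 g) (fun p hp => ?_)
  rw [beta_eq_mu_of_span_eq_top p _ hspan, hr p hp]
  have := dd_le (k := k) p
  omega

end Part6x0

end Groth.Agent.Lib.Helper47.BasicElt
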