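import Mathlib

/-!
# Fibres of a module at primes, semicontinuity, critical primes (helper47)
-/

set_option autoImplicit false
universe u v
open TensorProduct

namespace Groth.Agent.Lib.Helper47.BasicElt

section Part1x0


variable {A : Type u} [CommRing A] {M : Type v} [AddCommGroup M] [Module A M]

/-- the residue field at a prime. -/
abbrev kap (p : PrimeSpectrum A) : Type u := p.asIdeal.ResidueField

/-- the fibre `κ(p) ⊗ M`. -/
abbrev fib (p : PrimeSpectrum A) (M : Type v) [AddCommGroup M] [Module A M] : Type (max u v) :=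
  kap p ⊗[A] M

/-- `m ↦ 1 ⊗ m`. -/
noncomputable def toFib (p : PrimeSpectrum A) : M →ₗ[A] fib p M := TensorProduct.mk A (kap p) M 1

lemma toFib_apply (p : PrimeSpectrum A) (m : M) : toFib p m = (1 : kap p) ⊗ₜ[A] m := rfl

lemma toFib_smul (p : PrimeSpectrum A) (a : A) (m : M) :
    toFib p (a • m) = (algebraMap A (kap p) a) • toFib p m := by
  rw [toFib_apply, toFib_apply, TensorProduct.smul_tmul', TensorProduct.tmul_smul,
    TensorProduct.smul_tmul', Algebra.smul_def, mul_one, smul_eq_mul, mul_one]

lemma algebraMap_kap_eq_zero_iff (p : PrimeSpectrum A) (a : A) :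
    algebraMap A (kap p) a = 0 ↔ a ∈ p.asIdeal :=
  Ideal.algebraMap_residueField_eq_zero

/-- the span in the fibre of a family of elements. -/
noncomputable def fspan (p : PrimeSpectrum A) {ι : Type*} (v : ι → M) : Submodule (kap p) (fib p M) :=
  Submodule.span (kap p) (Set.range fun i => toFib p (v i))

lemma fspan_eq_baseChange (p : PrimeSpectrum A) {ι : Type*} (v : ι → M) :
    fspan p v = (Submodule.span A (Set.range v)).baseChange (kap p) := by
  rw [Submodule.baseChange_span, fspan, ← Set.range_comp]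
  rfl

/-- the dimension of the span in the fibre. -/
noncomputable def beta (p : PrimeSpectrum A) {ι : Type*} (v : ι → M) : ℕ :=
  Module.finrank (kap p) (fspan p v)

/-- the fibre dimension. -/
noncomputable def mu (p : PrimeSpectrum A) (M : Type v) [AddCommGroup M] [Module A M] : ℕ :=
  Module.finrank (kap p) (fib p M)

/-- rank formula: `μ_p(M) = μ_p(M/N) + dim (N.baseChange)`. -/
lemma mu_eq_add [Module.Finite A M] (p : PrimeSpectrum A) (N : Submodule A M) :
    mu p M = mu p (M ⧸ N) + Module.finrank (kap p) (N.baseChange (kap p)) := by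
  have hex : Function.Exact (N.subtype.baseChange (kap p)) (N.mkQ.baseChange (kap p)) := by
    have := lTensor_exact (kap p) (LinearMap.exact_subtype_mkQ N) (Submodule.mkQ_surjective N)
    intro y
    exact this y
  have hsurj : Function.Surjective (N.mkQ.baseChange (kap p)) :=
    LinearMap.lTensor_surjective (kap p) (Submodule.mkQ_surjective N)
  have h1 := LinearMap.finrank_range_add_finrank_ker (N.mkQ.baseChange (kap p))
  have h2 : LinearMap.range (N.mkQ.baseChange (kap p)) = ⊤ := LinearMap.range_eq_top.mpr hsurj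
  have h3 : LinearMap.ker (N.mkQ.baseChange (kap p)) = N.baseChange (kap p) :=
    (LinearMap.exact_iff.mp hex)
  rw [h2, h3, finrank_top] at h1
  exact h1.symm

lemma mu_eq_add_beta [Module.Finite A M] (p : PrimeSpectrum A) {ι : Type*} (v : ι → M) :
    mu p M = mu p (M ⧸ Submodule.span A (Set.range v)) + beta p v := by
  rw [mu_eq_add p (Submodule.span A (Set.range v)), beta, fspan_eq_baseChange]

lemma beta_eq_mu_of_span_eq_top (p : PrimeSpectrum A) {ι : Type*} (v : ι → M)
    (hv : Submodule.span A (Set.range v) = ⊤) : beta p v = mu p M := by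
  rw [beta, fspan_eq_baseChange, hv, Submodule.baseChange_top, finrank_top]
  rfl

lemma beta_le_card (p : PrimeSpectrum A) {t : ℕ} (v : Fin t → M) : beta p v ≤ t := by
  have := finrank_range_le_card (R := kap p) (fun i => toFib p (v i))
  rw [Fintype.card_fin] at this
  exact this

end Part1x0

section Part2x0


variable {A : Type u} [CommRing A]

lemma toFib_range_span_eq_top (p : PrimeSpectrum A) (Q : Type v) [AddCommGroup Q] [Module A Q] :
    Submodule.span (kap p) (Set.range (toFib p : Q → fib p Q)) = ⊤ := by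
  have := Submodule.baseChange_top (R := A) (M := Q) (A := kap p)
  rw [← Submodule.span_univ (R := A), Submodule.baseChange_span, Set.image_univ] at this
  exact this

/-- a family of `s'` elements spanning the fibre when its dimension is at most `s'`. -/
lemma exists_fspan_eq_top (p : PrimeSpectrum A) (Q : Type v) [AddCommGroup Q] [Module A Q]
    [Module.Finite A Q] (s' : ℕ) (h : mu p Q ≤ s') : ∃ q : Fin s' → Q, fspan p q = ⊤ := by
  classical
  have hs := toFib_range_span_eq_top p Q
  let b := Module.Basis.ofSpan (K := kap p) hs.ge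
  have hsub := Module.Basis.ofSpan_subset (K := kap p) hs.ge
  haveI : Fintype ((linearIndepOn_empty (kap p) id).extend (Set.empty_subset
      (Set.range (toFib p : Q → fib p Q)))) := FiniteDimensional.fintypeBasisIndex b
  have hcard := Module.finrank_eq_card_basis b
  -- choose preimages
  have hch : ∀ i, ∃ x : Q, toFib p x = b i := fun i => hsub ⟨i, rfl⟩
  choose x hx using hch
  let e := Fintype.equivFin ((linearIndepOn_empty (kap p) id).extend (Set.empty_subset
      (Set.range (toFib p : Q → fib p Q))))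
  have hn : Fintype.card ((linearIndepOn_empty (kap p) id).extend (Set.empty_subset
      (Set.range (toFib p : Q → fib p Q)))) ≤ s' := by
    rw [← hcard]; exact h
  refine ⟨fun j => if hj : (j : ℕ) < Fintype.card _ then x (e.symm ⟨j, hj⟩) else 0, ?_⟩
  rw [eq_top_iff, ← b.span_eq, Submodule.span_le]
  rintro _ ⟨i, rfl⟩
  apply Submodule.subset_span
  refine ⟨⟨(e i : ℕ), lt_of_lt_of_le (e i).2 hn⟩, ?_⟩
  simp only [Fin.is_lt, dite_true, Fin.eta, Equiv.symm_apply_apply]
  exact hx i

end Part2x0

section Part2x1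

variable {A : Type u} [CommRing A]

lemma nontrivial_fib_quot_iff (p : PrimeSpectrum A) (Q : Type v) [AddCommGroup Q] [Module A Q]
    [Module.Finite A Q] (s' : ℕ) :
    (∀ q : Fin s' → Q, Nontrivial (fib p (Q ⧸ Submodule.span A (Set.range q)))) ↔
      s' + 1 ≤ mu p Q := by
  constructor
  · intro h
    by_contra hlt
    push_neg at hlt
    obtain ⟨q, hq⟩ := exists_fspan_eq_top p Q s' (by omega)
    have h1 := mu_eq_add_beta p q
    have h2 : beta p q = mu p Q := by
      rw [beta, hq, finrank_top]; rfl
    have h3 : mu p (Q ⧸ Submodule.span A (Set.range q)) = 0 := by omega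
    have := h q
    have h4 : Subsingleton (fib p (Q ⧸ Submodule.span A (Set.range q))) :=
      Module.finrank_zero_iff.mp h3
    exact not_subsingleton _ h4
  · intro h q
    have h1 := mu_eq_add_beta p q
    have h2 := beta_le_card p q
    have h3 : 0 < mu p (Q ⧸ Submodule.span A (Set.range q)) := by omega
    exact Module.nontrivial_of_finrank_pos (R := kap p) h3

/-- upper semicontinuity of the fibre dimension, in the form of an ideal. -/
lemma exists_ideal_le_iff_le_mu (Q : Type v) [AddCommGroup Q] [Module A Q] [Module.Finite A Q]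
    (s : ℕ) : ∃ J : Ideal A, ∀ p : PrimeSpectrum A, J ≤ p.asIdeal ↔ s ≤ mu p Q := by
  rcases s with _ | s'
  · exact ⟨⊥, fun p => ⟨fun _ => Nat.zero_le _, fun _ => bot_le⟩⟩
  refine ⟨⨆ q : Fin s' → Q, Module.annihilator A (Q ⧸ Submodule.span A (Set.range q)), fun p => ?_⟩
  rw [iSup_le_iff, ← nontrivial_fib_quot_iff]
  refine forall_congr' fun q => ?_
  rw [← Module.mem_support_iff_nontrivial_residueField_tensorProduct, Module.support_eq_zeroLocus,
    PrimeSpectrum.mem_zeroLocus]
  rfl

end Part2x1

section Part3x0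


variable {A : Type u} [CommRing A] {M : Type v} [AddCommGroup M] [Module A M] (k : ℕ)

/-- the set `X_k` of primes of height at most `k`. -/
def inX (p : PrimeSpectrum A) : Prop := p.asIdeal.height ≤ (k : ℕ∞)

/-- the "dimension function" `k - ht p` on `X_k`. -/
noncomputable def dd (p : PrimeSpectrum A) : ℕ := k - p.asIdeal.height.toNat

variable {k}

lemma inX_of_le {p q : PrimeSpectrum A} (h : q ≤ p) (hp : inX k p) : inX k q :=
  (Ideal.height_mono h).trans hp

lemma dd_succ_le_of_lt {p q : PrimeSpectrum A} (h : q < p) (hp : inX k p) :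
    dd k p + 1 ≤ dd k q := by
  have h1 : q.asIdeal.height + 1 ≤ p.asIdeal.height :=
    Ideal.height_add_one_le_of_lt_of_isPrime h
  have hp' : p.asIdeal.height ≤ (k : ℕ∞) := hp
  obtain ⟨n, hn⟩ := ENat.ne_top_iff_exists.mp (ne_top_of_le_ne_top (ENat.natCast_ne_top k) hp')
  have hq' : q.asIdeal.height ≤ (k : ℕ∞) := inX_of_le h.le hp
  obtain ⟨m, hm⟩ := ENat.ne_top_iff_exists.mp (ne_top_of_le_ne_top (ENat.natCast_ne_top k) hq')
  unfold dd
  rw [← hn, ← hm] at h1
  rw [← hn] at hp'
  rw [← hn, ← hm, ENat.toNat_natCast, ENat.toNat_natCast]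
  have h2 : m + 1 ≤ n := by exact_mod_cast h1
  have h3 : n ≤ k := by exact_mod_cast hp'
  omega

lemma dd_le (p : PrimeSpectrum A) : dd k p ≤ k := Nat.sub_le _ _

variable (k)

/-- `v` is `min(t, d(p)+1)`-fold basic on `X_k`. -/
def Good (A : Type u) [CommRing A] {M : Type v} [AddCommGroup M] [Module A M] (k : ℕ) {t : ℕ}
    (v : Fin t → M) : Prop :=
  ∀ p : PrimeSpectrum A, inX k p → min t (dd k p + 1) ≤ beta p v

/-- closedness of `β < w` on `X_k`. -/
lemma exists_ideal_le_iff_beta_lt [Module.Finite A M] (r : ℕ)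
    (hr : ∀ p : PrimeSpectrum A, inX k p → mu p M = r) {t : ℕ} (v : Fin t → M) (w : ℕ) :
    ∃ J : Ideal A, ∀ p : PrimeSpectrum A, inX k p → (J ≤ p.asIdeal ↔ beta p v < w) := by
  obtain ⟨J, hJ⟩ := exists_ideal_le_iff_le_mu (A := A) (M ⧸ Submodule.span A (Set.range v)) (r + 1 - w)
  refine ⟨J, fun p hp => ?_⟩
  rw [hJ p]
  have h1 := mu_eq_add_beta p v
  rw [hr p hp] at h1
  omega

/-- the critical primes: where `v` is not `min(t, d(p)+2)`-fold basic. -/
def Crit (A : Type u) [CommRing A] {M : Type v} [AddCommGroup M] [Module A M] (k : ℕ) {t : ℕ}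
    (v : Fin t → M) : Set (PrimeSpectrum A) :=
  {p | inX k p ∧ beta p v < min t (dd k p + 2)}

lemma crit_finite [IsNoetherianRing A] [Module.Finite A M] (r : ℕ)
    (hr : ∀ p : PrimeSpectrum A, inX k p → mu p M = r) {t : ℕ} (v : Fin t → M)
    (hv : Good A k v) : (Crit A k v).Finite := by
  choose J hJ using fun w => exists_ideal_le_iff_beta_lt k r hr v w
  have hfin : (⋃ w ∈ Finset.range (k + 3),
      {p : PrimeSpectrum A | p.asIdeal ∈ (J w).minimalPrimes}).Finite := by
    refine Set.Finite.biUnion (Finset.finite_toSet _) (fun w _ => ?_)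
    refine Set.Finite.preimage ?_ ((J w).finite_minimalPrimes_of_isNoetherianRing A)
    intro p _ q _ hpq
    exact PrimeSpectrum.ext hpq
  refine hfin.subset ?_
  rintro p ⟨hpX, hpc⟩
  have hgood := hv p hpX
  have hw : dd k p + 2 ≤ t := by
    by_contra hlt
    have h1 : min t (dd k p + 1) = t := by omega
    have h2 : min t (dd k p + 2) = t := by omega
    omega
  simp only [Set.mem_iUnion, Finset.mem_range, Set.mem_setOf_eq, exists_prop]
  refine ⟨dd k p + 2, by have := dd_le (k := k) p; omega, ?_⟩
  refine ⟨⟨p.isPrime, (hJ _ p hpX).mpr (by omega)⟩, ?_⟩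
  rintro q ⟨hq, hJq⟩ hqp
  by_contra hne
  have hlt : (⟨q, hq⟩ : PrimeSpectrum A) < p := lt_of_le_not_ge hqp hne
  have hqX : inX k (⟨q, hq⟩ : PrimeSpectrum A) := inX_of_le hlt.le hpX
  have h1 := (hJ (dd k p + 2) ⟨q, hq⟩ hqX).mp hJq
  have h2 := hv ⟨q, hq⟩ hqX
  have h3 := dd_succ_le_of_lt hlt hpX
  omega

end Part3x0

end Groth.Agent.Lib.Helper47.BasicElt
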