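import Groth.Agent.Lib.Helper47.BasicEltEE

/-!
# Splitting off free submodules via basic elements (helper47)
-/

set_option autoImplicit false
universe u v
open TensorProduct

namespace Groth.Agent.Lib.Helper47.BasicElt

section Part7x0


variable {A : Type u} [CommRing A] {M : Type v} [AddCommGroup M] [Module A M]

/-- the fibre of a module which is free of rank `r` at `p`. -/
noncomputable def fibEquiv (p : PrimeSpectrum A) {r : ℕ}
    (e : LocalizedModule p.asIdeal.primeCompl M ≃ₗ[Localization.AtPrime p.asIdeal]
      (Fin r → Localization.AtPrime p.asIdeal)) : fib p M ≃ₗ[kap p] (Fin r → kap p) :=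
  (AlgebraTensorModule.cancelBaseChange A (Localization.AtPrime p.asIdeal) (kap p) (kap p) M).symm
    ≪≫ₗ (AlgebraTensorModule.congr (LinearEquiv.refl (kap p) (kap p))
      ((LocalizedModule.equivTensorProduct p.asIdeal.primeCompl M).symm ≪≫ₗ e)) ≪≫ₗ
    TensorProduct.piScalarRight (Localization.AtPrime p.asIdeal) (kap p) (kap p) (Fin r)

lemma fibEquiv_toFib (p : PrimeSpectrum A) {r : ℕ}
    (e : LocalizedModule p.asIdeal.primeCompl M ≃ₗ[Localization.AtPrime p.asIdeal]
      (Fin r → Localization.AtPrime p.asIdeal)) (m : M) (i : Fin r) :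
    fibEquiv p e (toFib p m) i =
      algebraMap (Localization.AtPrime p.asIdeal) (kap p) (e (LocalizedModule.mk m 1) i) := by
  unfold fibEquiv
  rw [toFib_apply]
  simp only [LinearEquiv.trans_apply, AlgebraTensorModule.cancelBaseChange_symm_tmul,
    AlgebraTensorModule.congr_tmul, LinearEquiv.refl_apply,
    LocalizedModule.equivTensorProduct_symm_apply_tmul_one, piScalarRight_apply,
    piScalarRightHom_tmul]
  rw [Algebra.smul_def, mul_one]

lemma mu_eq_of_free (p : PrimeSpectrum A) {r : ℕ}
    (e : LocalizedModule p.asIdeal.primeCompl M ≃ₗ[Localization.AtPrime p.asIdeal]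
      (Fin r → Localization.AtPrime p.asIdeal)) : mu p M = r := by
  unfold mu
  rw [(fibEquiv p e).finrank_eq, Module.finrank_fin_fun]

/-- a basic element has a unit coordinate. -/
lemma exists_isUnit_coord (p : PrimeSpectrum A) {r : ℕ}
    (e : LocalizedModule p.asIdeal.primeCompl M ≃ₗ[Localization.AtPrime p.asIdeal]
      (Fin r → Localization.AtPrime p.asIdeal)) (m : M) (hm : toFib p m ≠ 0) :
    ∃ i, IsUnit (e (LocalizedModule.mk m 1) i) := by
  have h1 : fibEquiv p e (toFib p m) ≠ 0 := fun h => hm ((fibEquiv p e).map_eq_zero_iff.mp h)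
  obtain ⟨i, hi⟩ := Function.ne_iff.mp h1
  refine ⟨i, ?_⟩
  rw [fibEquiv_toFib] at hi
  by_contra hnu
  apply hi
  have : e (LocalizedModule.mk m 1) i ∈ IsLocalRing.maximalIdeal (Localization.AtPrime p.asIdeal) :=
    (IsLocalRing.mem_maximalIdeal _).mpr hnu
  exact (IsLocalRing.residue_eq_zero_iff _).mpr this

end Part7x0

section Part8x0


section coord

variable {B : Type*} [CommRing B] {n : ℕ}

/-- eliminating the `i`-th coordinate along a vector `x` with `x i` a unit. -/
noncomputable def elim (x : Fin (n + 1) → B) (i : Fin (n + 1)) (u : B) :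
    (Fin (n + 1) → B) →ₗ[B] (Fin n → B) :=
  LinearMap.pi fun j => LinearMap.proj (i.succAbove j) - (x (i.succAbove j) * u) • LinearMap.proj i

lemma elim_apply (x : Fin (n + 1) → B) (i : Fin (n + 1)) (u : B) (y : Fin (n + 1) → B) (j : Fin n) :
    elim x i u y j = y (i.succAbove j) - x (i.succAbove j) * u * y i := by
  simp [elim]

lemma elim_surjective (x : Fin (n + 1) → B) (i : Fin (n + 1)) (u : B) :
    Function.Surjective (elim x i u) := by
  intro z
  refine ⟨i.insertNth 0 z, ?_⟩
  funext j
  rw [elim_apply, Fin.insertNth_apply_succAbove, Fin.insertNth_apply_same, mul_zero, sub_zero]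

lemma ker_elim (x : Fin (n + 1) → B) (i : Fin (n + 1)) (u : B) (hu : x i * u = 1) :
    LinearMap.ker (elim x i u) = Submodule.span B {x} := by
  apply le_antisymm
  · intro y hy
    rw [LinearMap.mem_ker] at hy
    rw [Submodule.mem_span_singleton]
    refine ⟨y i * u, ?_⟩
    funext l
    refine Fin.succAboveCases i ?_ (fun j => ?_) l
    · rw [Pi.smul_apply, smul_eq_mul, mul_assoc, mul_comm u, hu, mul_one]
    · have := congrFun hy j
      rw [elim_apply, Pi.zero_apply, sub_eq_zero] at this
      rw [Pi.smul_apply, smul_eq_mul, this]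
      ring
  · rw [Submodule.span_le, Set.singleton_subset_iff, SetLike.mem_coe, LinearMap.mem_ker]
    funext j
    rw [elim_apply, Pi.zero_apply, mul_assoc, mul_comm u, hu, mul_one, sub_self]

/-- the quotient of a free module by a vector with a unit coordinate is free. -/
noncomputable def quotSpanEquiv (x : Fin (n + 1) → B) (i : Fin (n + 1)) (hi : IsUnit (x i)) :
    ((Fin (n + 1) → B) ⧸ Submodule.span B {x}) ≃ₗ[B] (Fin n → B) :=
  (Submodule.quotEquivOfEq _ _ (ker_elim x i (↑hi.unit⁻¹ : B) hi.mul_val_inv).symm).trans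
    ((elim x i (↑hi.unit⁻¹ : B)).quotKerEquivOfSurjective (elim_surjective x i _))

end coord

end Part8x0

section Part9x0


variable {A : Type u} [CommRing A] {M : Type v} [AddCommGroup M] [Module A M]

/-- splitting off a basic element at `p`: the quotient is free of rank one less. -/
lemma nonempty_localized_quot_equiv (p : PrimeSpectrum A) {r' : ℕ}
    (e : LocalizedModule p.asIdeal.primeCompl M ≃ₗ[Localization.AtPrime p.asIdeal]
      (Fin (r' + 1) → Localization.AtPrime p.asIdeal)) (m : M) (hm : toFib p m ≠ 0) :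
    Nonempty (LocalizedModule p.asIdeal.primeCompl (M ⧸ Submodule.span A {m}) ≃ₗ[
      Localization.AtPrime p.asIdeal] (Fin r' → Localization.AtPrime p.asIdeal)) := by
  obtain ⟨i, hi⟩ := exists_isUnit_coord p e m hm
  let S := p.asIdeal.primeCompl
  let N := Submodule.span A {m}
  let e1 : LocalizedModule S (M ⧸ N) ≃ₗ[A] (LocalizedModule S M ⧸ N.localized S) :=
    IsLocalizedModule.iso S (N.toLocalizedQuotient S)
  let e1' : LocalizedModule S (M ⧸ N) ≃ₗ[Localization S] (LocalizedModule S M ⧸ N.localized S) :=
    e1.extendScalarsOfIsLocalization S (Localization S)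
  have hloc : N.localized S = Submodule.span (Localization S) {LocalizedModule.mk m 1} := by
    show (Submodule.span A {m}).localized' (Localization S) S (LocalizedModule.mkLinearMap S M) = _
    rw [Submodule.localized'_span, Set.image_singleton, LocalizedModule.mkLinearMap_apply]
  let e2 : (LocalizedModule S M ⧸ N.localized S) ≃ₗ[Localization S]
      ((Fin (r' + 1) → Localization S) ⧸
        Submodule.span (Localization S) {e (LocalizedModule.mk m 1)}) :=
    Submodule.Quotient.equiv _ _ e (by
      rw [hloc, Submodule.map_span, Set.image_singleton]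
      rfl)
  exact ⟨e1'.trans (e2.trans (quotSpanEquiv (e (LocalizedModule.mk m 1)) i hi))⟩

/-- a basic element at all associated primes of the ring is torsion-free. -/
lemma eq_zero_of_smul_basic [IsNoetherianRing A] {r : ℕ} (m : M)
    (h : ∀ P ∈ associatedPrimes A A, ∃ (hP : P.IsPrime),
      toFib (⟨P, hP⟩ : PrimeSpectrum A) m ≠ 0 ∧
      Nonempty (LocalizedModule P.primeCompl M ≃ₗ[Localization.AtPrime P]
        (Fin r → Localization.AtPrime P)))
    (a : A) (ha : a • m = 0) : a = 0 := by
  by_contra hne
  obtain ⟨P, hP, hle⟩ := exists_le_isAssociatedPrime_of_isNoetherianRing A a hne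
  obtain ⟨hPp, hm, ⟨e⟩⟩ := h P hP
  obtain ⟨i, hi⟩ := exists_isUnit_coord (⟨P, hPp⟩ : PrimeSpectrum A) e m hm
  have h1 : (algebraMap A (Localization.AtPrime P) a) • (LocalizedModule.mk m (1 : P.primeCompl)) =
      0 := by
    rw [algebraMap_smul, LocalizedModule.smul'_mk, ha, LocalizedModule.zero_mk]
  have h2 := congrArg (fun y => e y i) h1
  simp only [map_smul, map_zero, Pi.smul_apply, Pi.zero_apply, smul_eq_mul] at h2
  have h3 : algebraMap A (Localization.AtPrime P) a = 0 := by
    have := hi.mul_left_eq_zero.mp h2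
    exact this
  obtain ⟨s, hs⟩ := (IsLocalization.map_eq_zero_iff P.primeCompl (Localization.AtPrime P) a).mp h3
  have hsP : (s : A) ∈ P := hle (by
    rw [Submodule.mem_colon_singleton, smul_eq_mul, Submodule.mem_bot]
    exact hs)
  exact s.2 hsP

end Part9x0

section Part10x0


variable {A : Type u} [CommRing A] {M : Type v} [AddCommGroup M] [Module A M]

/-- localization of modules respects linear equivalences. -/
noncomputable def localizedCongr (S : Submonoid A) {M' : Type*} [AddCommGroup M'] [Module A M']
    (f : M ≃ₗ[A] M') : LocalizedModule S M ≃ₗ[Localization S] LocalizedModule S M' :=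
  IsLocalizedModule.mapEquiv S (LocalizedModule.mkLinearMap S M) (LocalizedModule.mkLinearMap S M')
    (Localization S) f

/-- extension of a free submodule of `M ⧸ A m` by a torsion-free element `m`. -/
lemma nonempty_comap_equiv (m : M) (hm : ∀ a : A, a • m = 0 → a = 0) {j : ℕ}
    (Q : Submodule A M) (hQ : Q = Submodule.span A {m})
    (N' : Submodule A (M ⧸ Q)) (e' : N' ≃ₗ[A] (Fin j → A)) :
    Nonempty ((N'.comap Q.mkQ) ≃ₗ[A] (Fin (j + 1) → A)) := by
  classical
  let b' : Fin j → (M ⧸ Q) := fun i => (e'.symm (Pi.single i 1) : N')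
  have hb'li : LinearIndependent A b' := by
    have h0 := (Pi.basisFun A (Fin j)).linearIndependent
    have h1 : LinearIndependent A (fun i => e'.symm (Pi.single i (1:A))) := by
      have h2 := h0.map' (e'.symm : (Fin j → A) →ₗ[A] N') (LinearEquiv.ker _)
      have h3 : (fun i => e'.symm (Pi.single i (1:A))) =
          ((e'.symm : (Fin j → A) →ₗ[A] N') ∘ (Pi.basisFun A (Fin j))) := by
        funext i
        simp [Pi.basisFun_apply]
      rw [h3]
      exact h2
    exact h1.map' N'.subtype (Submodule.ker_subtype _)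
  choose n hn using fun i => Submodule.mkQ_surjective Q (b' i)
  have hm0 : Q.mkQ m = 0 :=
    (Submodule.Quotient.mk_eq_zero _).mpr (hQ ▸ Submodule.mem_span_singleton_self m)
  let w : Fin (j + 1) → M := Fin.cons m n
  have hli : LinearIndependent A w := by
    rw [Fintype.linearIndependent_iff]
    intro g hg
    rw [Fin.sum_univ_succ] at hg
    simp only [w, Fin.cons_zero, Fin.cons_succ] at hg
    have h1 := congrArg Q.mkQ hg
    rw [map_add, map_smul, map_zero, map_sum, hm0, smul_zero, zero_add] at h1
    simp only [map_smul, hn] at h1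
    have h2 := Fintype.linearIndependent_iff.mp hb'li (fun i => g i.succ) h1
    have h3 : g 0 • m = 0 := by simpa [h2] using hg
    intro i
    refine Fin.cases ?_ ?_ i
    · exact hm _ h3
    · exact h2
  have hspan : Submodule.span A (Set.range w) = N'.comap Q.mkQ := by
    apply le_antisymm
    · rw [Submodule.span_le]
      rintro _ ⟨i, rfl⟩
      refine Fin.cases ?_ ?_ i
      · show Q.mkQ (w 0) ∈ N'
        simp only [w, Fin.cons_zero, hm0, zero_mem]
      · intro i
        show Q.mkQ (w i.succ) ∈ N'
        simp only [w, Fin.cons_succ, hn, b', SetLike.coe_mem]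
    · intro x hx
      rw [Submodule.mem_comap] at hx
      let c := e' ⟨Q.mkQ x, hx⟩
      have h1 : Q.mkQ x = ∑ i, c i • b' i := by
        have h2 : (⟨Q.mkQ x, hx⟩ : N') = e'.symm c := (e'.symm_apply_apply _).symm
        have h3 : c = ∑ i, c i • (Pi.single i (1:A) : Fin j → A) := by
          funext l
          simp [Finset.sum_apply, Pi.single_apply]
        rw [h3, map_sum] at h2
        have h4 := congrArg N'.subtype h2
        simp only [Submodule.subtype_apply, map_sum, map_smul] at h4
        rw [h4]
      have h2 : x - ∑ i, c i • n i ∈ Q := by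
        rw [← Submodule.Quotient.mk_eq_zero]
        show Q.mkQ (x - ∑ i, c i • n i) = 0
        rw [map_sub, map_sum, h1]
        simp only [map_smul, hn, sub_self]
      have h3 : Q ≤ Submodule.span A (Set.range w) := by
        rw [hQ, Submodule.span_singleton_le_iff_mem]
        exact Submodule.subset_span ⟨0, rfl⟩
      have h4 : ∑ i, c i • n i ∈ Submodule.span A (Set.range w) :=
        Submodule.sum_mem _ fun i _ => Submodule.smul_mem _ _
          (Submodule.subset_span ⟨i.succ, by simp [w]⟩)
      have := Submodule.add_mem _ (h3 h2) h4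
      simpa using this
  exact ⟨(LinearEquiv.ofEq _ _ hspan.symm).trans ((Module.Basis.span hli).equivFun)⟩

/-- quotient by a comap along a quotient map. -/
noncomputable def quotComapEquiv (Q : Submodule A M) (N' : Submodule A (M ⧸ Q)) :
    (M ⧸ N'.comap Q.mkQ) ≃ₗ[A] ((M ⧸ Q) ⧸ N') :=
  (Submodule.quotientQuotientEquivQuotient Q (N'.comap Q.mkQ) (by
    intro x hx
    rw [Submodule.mem_comap]
    have : Q.mkQ x = 0 := (Submodule.Quotient.mk_eq_zero _).mpr hx
    rw [this]; exact zero_mem _)).symm.trans
  (Submodule.quotEquivOfEq _ _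
    (Submodule.map_comap_eq_of_surjective (Submodule.mkQ_surjective Q) N'))

/-- **Splitting off a free submodule** using basic elements. -/
theorem exists_free_submodule [IsNoetherianRing A] (k : ℕ)
    (hAss : ∀ p ∈ associatedPrimes A A, p.height ≤ k) :
    ∀ (j : ℕ) (M : Type v) [AddCommGroup M] [Module A M] [Module.Finite A M],
      (∀ p : PrimeSpectrum A, p.asIdeal.height ≤ k →
        Nonempty (LocalizedModule p.asIdeal.primeCompl M ≃ₗ[Localization.AtPrime p.asIdeal]
          (Fin (k + j) → Localization.AtPrime p.asIdeal))) →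
      ∃ N : Submodule A M, Nonempty (N ≃ₗ[A] (Fin j → A)) ∧
        ∀ p : PrimeSpectrum A, p.asIdeal.height ≤ k →
          Nonempty (LocalizedModule p.asIdeal.primeCompl (M ⧸ N) ≃ₗ[
            Localization.AtPrime p.asIdeal] (Fin k → Localization.AtPrime p.asIdeal)) := by
  intro j
  induction j with
  | zero =>
    intro M _ _ _ hM
    refine ⟨⊥, ⟨LinearEquiv.ofSubsingleton _ _⟩, fun p hp => ?_⟩
    obtain ⟨e⟩ := hM p hp
    exact ⟨(localizedCongr p.asIdeal.primeCompl
      (Submodule.quotEquivOfEqBot (⊥ : Submodule A M) rfl)).trans e⟩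
  | succ j ih =>
    intro M _ _ _ hM
    have hr : ∀ p : PrimeSpectrum A, inX k p → mu p M = k + j + 1 := fun p hp => by
      obtain ⟨e⟩ := hM p hp
      exact mu_eq_of_free p e
    obtain ⟨m, hm⟩ := exists_basic (M := M) k (k + j + 1) hr (by omega)
    have hM' : ∀ p : PrimeSpectrum A, p.asIdeal.height ≤ k →
        Nonempty (LocalizedModule p.asIdeal.primeCompl (M ⧸ Submodule.span A {m}) ≃ₗ[
          Localization.AtPrime p.asIdeal] (Fin (k + j) → Localization.AtPrime p.asIdeal)) :=
      fun p hp => by
        obtain ⟨e⟩ := hM p hp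
        exact nonempty_localized_quot_equiv p e m (hm p hp)
    obtain ⟨N', ⟨e'⟩, hN'⟩ := ih (M ⧸ Submodule.span A {m}) hM'
    have htf : ∀ a : A, a • m = 0 → a = 0 := by
      apply eq_zero_of_smul_basic (r := k + (j + 1)) m
      intro P hP
      have hPp : P.IsPrime := hP.isPrime
      exact ⟨hPp, hm ⟨P, hPp⟩ (hAss P hP), hM ⟨P, hPp⟩ (hAss P hP)⟩
    refine ⟨N'.comap (Submodule.span A {m}).mkQ, nonempty_comap_equiv m htf _ rfl N' e',
      fun p hp => ?_⟩
    obtain ⟨e⟩ := hN' p hp
    exact ⟨(localizedCongr p.asIdeal.primeCompl (quotComapEquiv _ N')).trans e⟩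

end Part10x0

end Groth.Agent.Lib.Helper47.BasicElt
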