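import Groth.Prelude.Def_DerCA

/-!
# Basic facts on the extended alternating Cech complex `DerCA.extCech`
-/

set_option autoImplicit false
universe u

open CategoryTheory CategoryTheory.Limits

namespace Groth.Agent.Lib.Helper47

variable {R : Type u} [CommRing R]

/-- The terms of the extended Cech complex vanish outside `[0, r]`. -/
theorem isZero_extCech_X (M : ModuleCat.{u} R) (fs : List R) (n : ℤ)
    (hn : n < 0 ∨ (fs.length : ℤ) < n) : IsZero ((DerCA.extCech M fs).X n) := by
  induction fs generalizing n with
  | nil =>
    apply HomologicalComplex.isZero_single_obj_X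
    rcases hn with hn | hn
    · omega
    · simp at hn; omega
  | cons f fs ih =>
    have h1 : IsZero ((DerCA.extCech M fs).X n) := by
      apply ih
      rcases hn with hn | hn
      · exact Or.inl hn
      · right; simp at hn; omega
    have h2 : IsZero ((DerCA.extCech M fs).X (n - 1)) := by
      apply ih
      rcases hn with hn | hn
      · left; omega
      · right; simp at hn; omega
    have h3 : IsZero (((DerCA.locCx (Submonoid.powers f)).obj (DerCA.extCech M fs)).X (n - 1)) :=
      (DerCA.locFunctor (Submonoid.powers f)).map_isZero h2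
    refine IsZero.of_iso ?_ (DerCA.mappingCoconeXIso
      (DerCA.locCxUnit (Submonoid.powers f) (DerCA.extCech M fs)) n)
    rw [biprod_isZero_iff]
    exact ⟨h1, h3⟩

/-- The cohomology of the extended Cech complex vanishes outside `[0, r]`. -/
theorem isZero_extCechH (M : ModuleCat.{u} R) (fs : List R) (q : ℤ)
    (hq : q < 0 ∨ (fs.length : ℤ) < q) : IsZero (DerCA.extCechH fs M q) :=
  (HomologicalComplex.ExactAt.of_isZero (isZero_extCech_X M fs q hq)).isZero_homology

section Contractible

open HomotopyCategory Pretriangulated

variable {C : Type*} [Category C] [Preadditive C] [HasZeroObject C] [HasBinaryBiproducts C]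

omit [HasZeroObject C] [HasBinaryBiproducts C] in
/-- A complex is contractible iff it is zero in the homotopy category; shifting preserves this. -/
theorem nonempty_homotopy_id_zero_shift (X : CochainComplex C ℤ) (n : ℤ)
    (h : Nonempty (Homotopy (𝟙 X) 0)) : Nonempty (Homotopy (𝟙 (X⟦n⟧)) 0) := by
  rw [← HomotopyCategory.isZero_quotient_obj_iff] at h ⊢
  have h1 : IsZero (((HomotopyCategory.quotient C (ComplexShape.up ℤ)).obj X)⟦n⟧) :=
    (shiftFunctor (HomotopyCategory C (ComplexShape.up ℤ)) n).map_isZero h
  exact IsZero.of_iso h1
    (((HomotopyCategory.quotient C (ComplexShape.up ℤ)).commShiftIso n).app X)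

/-- The mapping cocone of a morphism which is invertible up to homotopy is contractible. -/
theorem nonempty_homotopy_id_zero_mappingCocone_of_isIso {K L : CochainComplex C ℤ} (φ : K ⟶ L)
    (h : IsIso ((HomotopyCategory.quotient C (ComplexShape.up ℤ)).map φ)) :
    Nonempty (Homotopy (𝟙 (CochainComplex.mappingCocone φ)) 0) := by
  apply nonempty_homotopy_id_zero_shift
  rw [← HomotopyCategory.isZero_quotient_obj_iff]
  exact Triangle.isZero₃_of_isIso₁ _ (HomotopyCategory.mappingCone_triangleh_distinguished φ) h

/-- The mapping cocone of a morphism between contractible complexes is contractible. -/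
theorem nonempty_homotopy_id_zero_mappingCocone_of_contractible {K L : CochainComplex C ℤ}
    (φ : K ⟶ L) (hK : Nonempty (Homotopy (𝟙 K) 0)) (hL : Nonempty (Homotopy (𝟙 L) 0)) :
    Nonempty (Homotopy (𝟙 (CochainComplex.mappingCocone φ)) 0) := by
  apply nonempty_homotopy_id_zero_shift
  rw [← HomotopyCategory.isZero_quotient_obj_iff] at hK hL ⊢
  exact Triangle.isZero₃_of_isZero₁₂ _ (HomotopyCategory.mappingCone_triangleh_distinguished φ)
    hK hL

end Contractible

section Unit

/-- Localising a module at a submonoid of units changes nothing. -/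
theorem bijective_mkLinearMap_of_isUnit (S : Submonoid R) (hS : ∀ s ∈ S, IsUnit s)
    (M : Type*) [AddCommGroup M] [Module R M] :
    Function.Bijective (LocalizedModule.mkLinearMap S M) := by
  have inst : IsLocalizedModule S (LinearMap.id : M →ₗ[R] M) :=
    { map_units := fun s => (hS s.1 s.2).map (algebraMap R (Module.End R M))
      surj := fun m => ⟨(m, 1), one_smul _ _⟩
      exists_of_eq := fun h => ⟨1, congrArg _ h⟩ }
  have h := IsLocalizedModule.iso_symm_comp S (LinearMap.id : M →ₗ[R] M)
  rw [LinearMap.comp_id] at h
  rw [← h]
  exact (IsLocalizedModule.iso S (LinearMap.id : M →ₗ[R] M)).symm.bijective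

/-- The localisation map of complexes at a submonoid of units is an isomorphism. -/
theorem isIso_locCxUnit_of_isUnit (S : Submonoid R) (hS : ∀ s ∈ S, IsUnit s)
    (K : DRing.Cx R) : IsIso (DerCA.locCxUnit S K) := by
  have : ∀ n : ℤ, IsIso ((DerCA.locCxUnit S K).f n) := by
    intro n
    rw [ConcreteCategory.isIso_iff_bijective]
    exact bijective_mkLinearMap_of_isUnit S hS (K.X n)
  exact HomologicalComplex.Hom.isIso_of_components _

/-- If some `f_i` is a unit, the extended alternating Cech complex is contractible. -/
theorem nonempty_homotopy_extCech (M : ModuleCat.{u} R) (fs : List R)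
    (hf : ∃ f ∈ fs, IsUnit f) : Nonempty (Homotopy (𝟙 (DerCA.extCech M fs)) 0) := by
  induction fs with
  | nil =>
    obtain ⟨f, hf, -⟩ := hf
    simp at hf
  | cons f fs ih =>
    change Nonempty (Homotopy (𝟙 (CochainComplex.mappingCocone
      (DerCA.locCxUnit (Submonoid.powers f) (DerCA.extCech M fs)))) 0)
    by_cases hfu : IsUnit f
    · apply nonempty_homotopy_id_zero_mappingCocone_of_isIso
      have : IsIso (DerCA.locCxUnit (Submonoid.powers f) (DerCA.extCech M fs)) := by
        apply isIso_locCxUnit_of_isUnit
        rintro _ ⟨n, rfl⟩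
        exact hfu.pow n
      infer_instance
    · have hfs : ∃ g ∈ fs, IsUnit g := by
        obtain ⟨g, hg, hgu⟩ := hf
        rcases List.mem_cons.mp hg with rfl | hg
        · exact (hfu hgu).elim
        · exact ⟨g, hg, hgu⟩
      obtain ⟨h⟩ := ih hfs
      apply nonempty_homotopy_id_zero_mappingCocone_of_contractible _ ⟨h⟩
      have h' := (DerCA.locFunctor (Submonoid.powers f)).mapHomotopy h
      rw [Functor.map_zero,
        ((DerCA.locFunctor (Submonoid.powers f)).mapHomologicalComplex
          (ComplexShape.up ℤ)).map_id] at h'
      exact ⟨h'⟩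

end Unit

end Groth.Agent.Lib.Helper47
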