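import Groth.Agent.Lib.Helper47.ExtCech
import Mathlib.Algebra.Homology.ShortComplex.ExactFunctor
import Mathlib.Algebra.Homology.HomotopyCategory.Acyclic
import Mathlib.Algebra.Category.ModuleCat.Localization

/-!
# Exactness of `DerCA.locFunctor`, and the cohomology of the extended alternating Cech complex
is power torsion
-/

set_option autoImplicit false
universe u

open CategoryTheory CategoryTheory.Limits

namespace Groth.Agent.Lib.Helper47

section General

open HomotopyCategory Pretriangulated

variable {C : Type*} [Category C] [Abelian C]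

/-- The mapping cone of a quasi-isomorphism is acyclic. -/
theorem acyclic_mappingCone_of_quasiIso {K L : CochainComplex C ℤ} (ψ : K ⟶ L) [QuasiIso ψ] :
    (CochainComplex.mappingCone ψ).Acyclic := by
  rw [← HomotopyCategory.quotient_obj_mem_subcategoryAcyclic_iff_acyclic]
  have h1 : HomotopyCategory.quasiIso C (ComplexShape.up ℤ)
      ((HomotopyCategory.quotient C (ComplexShape.up ℤ)).map ψ) := by
    rw [HomotopyCategory.quotient_map_mem_quasiIso_iff]
    exact ‹QuasiIso ψ›
  rw [HomotopyCategory.quasiIso_eq_trW_subcategoryAcyclic] at h1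
  exact ((HomotopyCategory.subcategoryAcyclic C).trW_iff_of_distinguished _
    (HomotopyCategory.mappingCone_triangleh_distinguished ψ)).mp h1

/-- Shifting preserves acyclicity. -/
theorem acyclic_shift {K : CochainComplex C ℤ} (hK : K.Acyclic) (n : ℤ) :
    (K⟦n⟧).Acyclic := by
  rw [← HomotopyCategory.quotient_obj_mem_subcategoryAcyclic_iff_acyclic] at hK ⊢
  have h1 : HomotopyCategory.subcategoryAcyclic C
      (((HomotopyCategory.quotient C (ComplexShape.up ℤ)).obj K)⟦n⟧) :=
    (HomotopyCategory.subcategoryAcyclic C).le_shift n _ hK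
  exact (HomotopyCategory.subcategoryAcyclic C).prop_of_iso
    (((HomotopyCategory.quotient C (ComplexShape.up ℤ)).commShiftIso n).app K).symm h1

/-- The mapping cocone of a quasi-isomorphism is acyclic. -/
theorem acyclic_mappingCocone_of_quasiIso {K L : CochainComplex C ℤ} (ψ : K ⟶ L) [QuasiIso ψ] :
    (CochainComplex.mappingCocone ψ).Acyclic :=
  acyclic_shift (acyclic_mappingCone_of_quasiIso ψ) (-1)

/-- A morphism between acyclic complexes is a quasi-isomorphism. -/
theorem quasiIso_of_acyclic {K L : CochainComplex C ℤ} (ψ : K ⟶ L) (hK : K.Acyclic)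
    (hL : L.Acyclic) : QuasiIso ψ :=
  ⟨fun i => (quasiIsoAt_iff_exactAt ψ i (hK i)).mpr (hL i)⟩

end General

section General'

variable {C D : Type*} [Category C] [Category D] [Preadditive C] [Preadditive D]
  [HasBinaryBiproducts C] [HasBinaryBiproducts D]

/-- An additive functor commutes with mapping cocones. -/
noncomputable def mapHomologicalComplexMappingCoconeIso {K L : CochainComplex C ℤ} (φ : K ⟶ L)
    (H : C ⥤ D) [H.Additive] :
    (H.mapHomologicalComplex (ComplexShape.up ℤ)).obj (CochainComplex.mappingCocone φ) ≅
      CochainComplex.mappingCocone ((H.mapHomologicalComplex (ComplexShape.up ℤ)).map φ) :=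
  ((H.mapHomologicalComplex (ComplexShape.up ℤ)).commShiftIso (-1 : ℤ)).app
      (CochainComplex.mappingCone φ) ≪≫
    (shiftFunctor (CochainComplex D ℤ) (-1 : ℤ)).mapIso
      (CochainComplex.mappingCone.mapHomologicalComplexIso φ H)

end General'

variable {R : Type u} [CommRing R]

theorem locFunctor_map_exact (S : Submonoid R) (T : ShortComplex (ModuleCat.{u} R))
    (h : T.Exact) : (T.map (DerCA.locFunctor S)).Exact := by
  rw [CategoryTheory.ShortComplex.ShortExact.moduleCat_exact_iff_function_exact] at h ⊢
  exact IsLocalizedModule.map_exact S (LocalizedModule.mkLinearMap S T.X₁)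
    (LocalizedModule.mkLinearMap S T.X₂) (LocalizedModule.mkLinearMap S T.X₃) _ _ h

instance preservesHomology_locFunctor (S : Submonoid R) :
    (DerCA.locFunctor S).PreservesHomology :=
  ((Functor.exact_tfae _).out 1 2).mp (locFunctor_map_exact S)

/-- Homology commutes with localisation. -/
noncomputable def locCxHomologyIso (S : Submonoid R) (K : DRing.Cx R) (q : ℤ) :
    ((DerCA.locCx S).obj K).homology q ≅ (DerCA.locFunctor S).obj (K.homology q) :=
  (K.sc q).mapHomologyIso (DerCA.locFunctor S)

/-- Localising a module on which `S` acts invertibly changes nothing. -/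
theorem bijective_mkLinearMap_of_isUnit_end (S : Submonoid R)
    (M : Type*) [AddCommGroup M] [Module R M]
    (hS : ∀ s : S, IsUnit (algebraMap R (Module.End R M) s)) :
    Function.Bijective (LocalizedModule.mkLinearMap S M) := by
  have inst : IsLocalizedModule S (LinearMap.id : M →ₗ[R] M) :=
    { map_units := hS
      surj := fun m => ⟨(m, 1), one_smul _ _⟩
      exists_of_eq := fun h => ⟨1, congrArg _ h⟩ }
  have h := IsLocalizedModule.iso_symm_comp S (LinearMap.id : M →ₗ[R] M)
  rw [LinearMap.comp_id] at h
  rw [← h]
  exact (IsLocalizedModule.iso S (LinearMap.id : M →ₗ[R] M)).symm.bijective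

/-- `L_S(η_M) : M_S ⟶ (M_S)_S` is an isomorphism. -/
theorem isIso_locFunctor_map_locUnit (S : Submonoid R) (M : ModuleCat.{u} R) :
    IsIso ((DerCA.locFunctor S).map ((DerCA.locUnit S).app M)) := by
  rw [ConcreteCategory.isIso_iff_bijective]
  have h1 : IsLocalizedModule.map S (LocalizedModule.mkLinearMap S M)
      (LocalizedModule.mkLinearMap S (LocalizedModule S M)) (LocalizedModule.mkLinearMap S M) =
      LocalizedModule.mkLinearMap S (LocalizedModule S M) := by
    apply IsLocalizedModule.ext S (LocalizedModule.mkLinearMap S M)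
      (IsLocalizedModule.map_units (LocalizedModule.mkLinearMap S (LocalizedModule S M)))
    ext m
    exact IsLocalizedModule.map_apply S (LocalizedModule.mkLinearMap S M)
      (LocalizedModule.mkLinearMap S (LocalizedModule S M)) (LocalizedModule.mkLinearMap S M) m
  change Function.Bijective (IsLocalizedModule.map S (LocalizedModule.mkLinearMap S M)
      (LocalizedModule.mkLinearMap S (LocalizedModule S M)) (LocalizedModule.mkLinearMap S M))
  rw [h1]
  exact bijective_mkLinearMap_of_isUnit_end S _
    (IsLocalizedModule.map_units (LocalizedModule.mkLinearMap S M))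

/-- `M_f = 0` iff `M` is `f`-power torsion. -/
theorem isZero_locFunctor_powers_iff (f : R) (M : ModuleCat.{u} R) :
    IsZero ((DerCA.locFunctor (Submonoid.powers f)).obj M) ↔ ∀ x : M, ∃ n : ℕ, f ^ n • x = 0 := by
  rw [ModuleCat.isZero_iff_subsingleton]
  change Subsingleton (LocalizedModule (Submonoid.powers f) M) ↔ _
  rw [LocalizedModule.subsingleton_iff]
  constructor
  · intro h x
    obtain ⟨r, ⟨n, rfl⟩, hr⟩ := h x
    exact ⟨n, hr⟩
  · intro h x
    obtain ⟨n, hn⟩ := h x
    exact ⟨f ^ n, ⟨n, rfl⟩, hn⟩

/-- A localisation of an `f`-power torsion module is `f`-power torsion. -/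
theorem pow_smul_eq_zero_localizedModule (f : R) (S : Submonoid R) (M : Type*) [AddCommGroup M]
    [Module R M] (h : ∀ x : M, ∃ n : ℕ, f ^ n • x = 0) (y : LocalizedModule S M) :
    ∃ n : ℕ, f ^ n • y = 0 := by
  induction y using LocalizedModule.induction_on with
  | h m s =>
    obtain ⟨n, hn⟩ := h m
    refine ⟨n, ?_⟩
    rw [LocalizedModule.smul'_mk, hn, LocalizedModule.zero_mk]

/-- The localisation `K_f` is acyclic iff all the cohomology modules of `K` are `f`-power torsion. -/
theorem acyclic_locCx_powers_iff (f : R) (K : DRing.Cx R) :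
    ((DerCA.locCx (Submonoid.powers f)).obj K).Acyclic ↔
      ∀ (q : ℤ) (x : K.homology q), ∃ n : ℕ, f ^ n • x = 0 := by
  refine forall_congr' fun q => ?_
  rw [HomologicalComplex.exactAt_iff_isZero_homology,
    (locCxHomologyIso (Submonoid.powers f) K q).isZero_iff, isZero_locFunctor_powers_iff]

/-- If `K_f` is acyclic, so is `(K_S)_f`. -/
theorem acyclic_locCx_locCx (f : R) (S : Submonoid R) (K : DRing.Cx R)
    (h : ((DerCA.locCx (Submonoid.powers f)).obj K).Acyclic) :
    ((DerCA.locCx (Submonoid.powers f)).obj ((DerCA.locCx S).obj K)).Acyclic := by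
  rw [acyclic_locCx_powers_iff] at h ⊢
  intro q x
  obtain ⟨y, rfl⟩ : ∃ y, (locCxHomologyIso S K q).inv.hom y = x :=
    ⟨(locCxHomologyIso S K q).hom.hom x, by
      rw [← ModuleCat.comp_apply, Iso.hom_inv_id, ModuleCat.id_apply]⟩
  obtain ⟨n, hn⟩ := pow_smul_eq_zero_localizedModule f S (K.homology q) (h q) y
  refine ⟨n, ?_⟩
  have hn' : f ^ n • (show ((DerCA.locFunctor S).obj (K.homology q) : Type u) from y) = 0 := hn
  rw [← map_smul, hn', map_zero]

/-- The localisation at `f ∈ fs` of the extended alternating Cech complex is acyclic. -/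
theorem acyclic_locCx_extCech (M : ModuleCat.{u} R) (fs : List R) (f : R) (hf : f ∈ fs) :
    ((DerCA.locCx (Submonoid.powers f)).obj (DerCA.extCech M fs)).Acyclic := by
  induction fs with
  | nil => simp at hf
  | cons g fs ih =>
    change ((DerCA.locCx (Submonoid.powers f)).obj (CochainComplex.mappingCocone
      (DerCA.locCxUnit (Submonoid.powers g) (DerCA.extCech M fs)))).Acyclic
    have key : QuasiIso ((DerCA.locCx (Submonoid.powers f)).map
        (DerCA.locCxUnit (Submonoid.powers g) (DerCA.extCech M fs))) := by
      by_cases hfg : f = g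
      · subst hfg
        have : ∀ n : ℤ, IsIso (((DerCA.locCx (Submonoid.powers f)).map
            (DerCA.locCxUnit (Submonoid.powers f) (DerCA.extCech M fs))).f n) := fun n =>
          isIso_locFunctor_map_locUnit (Submonoid.powers f) ((DerCA.extCech M fs).X n)
        have : IsIso ((DerCA.locCx (Submonoid.powers f)).map
            (DerCA.locCxUnit (Submonoid.powers f) (DerCA.extCech M fs))) :=
          HomologicalComplex.Hom.isIso_of_components _
        infer_instance
      · have hf' : f ∈ fs := by
          rcases List.mem_cons.mp hf with h | h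
          · exact (hfg h).elim
          · exact h
        exact quasiIso_of_acyclic _ (ih hf') (acyclic_locCx_locCx f _ _ (ih hf'))
    intro i
    exact (acyclic_mappingCocone_of_quasiIso _ i).of_iso
      (mapHomologicalComplexMappingCoconeIso
        (DerCA.locCxUnit (Submonoid.powers g) (DerCA.extCech M fs))
        (DerCA.locFunctor (Submonoid.powers f))).symm

/-- The cohomology of the extended alternating Cech complex is `f`-power torsion for `f ∈ fs`. -/
theorem exists_pow_smul_extCechH_eq_zero (M : ModuleCat.{u} R) (fs : List R) (f : R)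
    (hf : f ∈ fs) (q : ℤ) (x : DerCA.extCechH fs M q) : ∃ n : ℕ, f ^ n • x = 0 :=
  (acyclic_locCx_powers_iff f _).mp (acyclic_locCx_extCech M fs f hf) q x

end Groth.Agent.Lib.Helper47
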