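import Mathlib
import Groth.Prelude.Def_DerCA
import Groth.Prelude.Def_LCI2
import Groth.Agent.Lib.Helper10.KoszulComp
import Groth.Agent.Lib.Helper12.Koszul
import Groth.Agent.Lib.Helper12.KoszulLES
import Groth.Agent.Lib.Helper12.KoszulDepth
import Groth.Agent.Lib.Helper47.ExtCech
import Groth.Agent.Lib.Helper47.ExtCechSmul
import Groth.Agent.Lib.Helper47.LocExact

/-!
# Koszul-regular sequences and the extended Čech complex (helper47)

For a Koszul-regular sequence `fs` of length `r`, the extended alternating Čech complex of the ring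
has cohomology only in degree `r`.  The proof compares two computations of the cohomology of
the iterated Koszul cone `CC fs (extCech R fs)`.
-/

set_option autoImplicit false
universe u

open CategoryTheory CategoryTheory.Limits CochainComplex HomComplex

namespace Groth.Agent.Lib.Helper47.CechKoszul

open Groth.Agent.Lib.Helper10.KoszulComp Groth.Agent.Lib.Helper12.Koszul
  Groth.Agent.Lib.Helper12.KoszulLES

variable {A : Type u} [CommRing A]

section CCFunctor

variable {K L N : CochainComplex (ModuleCat.{u} A) ℤ}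

theorem CCmap_id : ∀ l : List A, CCmap (𝟙 K) l = 𝟙 _
  | [] => rfl
  | g :: l => by
    change coneMap g (CCmap (𝟙 K) l) = 𝟙 _
    rw [CCmap_id l, coneMap_id]

theorem CCmap_comp (φ : K ⟶ L) (ψ : L ⟶ N) : ∀ l : List A,
    CCmap (φ ≫ ψ) l = CCmap φ l ≫ CCmap ψ l
  | [] => rfl
  | g :: l => by
    change coneMap g (CCmap (φ ≫ ψ) l) = coneMap g (CCmap φ l) ≫ coneMap g (CCmap ψ l)
    rw [CCmap_comp φ ψ l, coneMap_comp]

theorem CCmap_smul (a : A) (φ : K ⟶ L) : ∀ l : List A, CCmap (a • φ) l = a • CCmap φ l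
  | [] => rfl
  | g :: l => by
    change coneMap g (CCmap (a • φ) l) = a • coneMap g (CCmap φ l)
    rw [CCmap_smul a φ l, coneMap_smul]

theorem CCmap_zero : ∀ l : List A, CCmap (0 : K ⟶ L) l = 0
  | [] => rfl
  | g :: l => by
    change coneMap g (CCmap (0 : K ⟶ L) l) = 0
    rw [CCmap_zero l, coneMap_zero]

/-- `CC l` maps isomorphisms to isomorphisms. -/
noncomputable def CCiso (e : K ≅ L) (l : List A) : CC l K ≅ CC l L where
  hom := CCmap e.hom l
  inv := CCmap e.inv l
  hom_inv_id := by rw [← CCmap_comp, e.hom_inv_id, CCmap_id]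
  inv_hom_id := by rw [← CCmap_comp, e.inv_hom_id, CCmap_id]

theorem CCmap_smul_id (a : A) (l : List A) : CCmap (a • 𝟙 K) l = a • 𝟙 (CC l K) := by
  rw [CCmap_smul, CCmap_id]

theorem isIso_smul_id_CC (a : A) (l : List A) (h : IsIso (a • 𝟙 K)) :
    IsIso (a • 𝟙 (CC l K)) := by
  rw [← CCmap_smul_id]
  exact (CCiso (asIso (a • 𝟙 K)) l).isIso_hom

/-- `CC l` is exact. -/
theorem CC_shortExact (S : ShortComplex (CochainComplex (ModuleCat.{u} A) ℤ))
    (hS : S.ShortExact) (l : List A) :
    (ShortComplex.mk (CCmap S.f l) (CCmap S.g l)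
      (by rw [← CCmap_comp, S.zero, CCmap_zero])).ShortExact := by
  induction l with
  | nil => exact hS
  | cons g l ih => exact coneMap_shortExact g (ShortComplex.mk (CCmap S.f l) (CCmap S.g l) _) ih

end CCFunctor

section Nil

/-- `a` acts locally nilpotently on the cohomology of `W`. -/
def Nil (a : A) (W : CochainComplex (ModuleCat.{u} A) ℤ) : Prop :=
  ∀ (q : ℤ) (x : W.homology q), ∃ n : ℕ, a ^ n • x = 0

variable (W : CochainComplex (ModuleCat.{u} A) ℤ)

theorem exists_of_delta_eq_zero (b : A) (q : ℤ) :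
    ∃ δ : (mappingCone (b • 𝟙 W)).homology q →ₗ[A] W.homology (q + 1),
      (∀ x, δ x = 0 → ∃ z : W.homology q,
        (HomologicalComplex.homologyMap (mappingCone.inr (b • 𝟙 W)) q).hom z = x) ∧
      (∀ x, b • δ x = 0) := by
  obtain ⟨δ, w₃, w₁, h3, h1⟩ := cone_exact₃₁ (b • 𝟙 W) q
  refine ⟨δ.hom, ?_, ?_⟩
  · intro x hx
    exact (ShortComplex.moduleCat_exact_iff _).mp h3 x hx
  · intro x
    have h := congrArg (fun φ => φ.hom x) w₁
    change (HomologicalComplex.homologyMap (b • 𝟙 W) (q + 1)).hom (δ.hom x) = 0 at h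
    rw [Groth.Agent.Lib.Helper47.homologyMap_smul_id] at h
    exact h

theorem inr_smul_eq_zero (b : A) (q : ℤ) (z : W.homology q) :
    (HomologicalComplex.homologyMap (mappingCone.inr (b • 𝟙 W)) q).hom (b • z) = 0 := by
  have h := congrArg (fun φ => φ.hom z) (homologyMap_comp_inr (b • 𝟙 W) q)
  change (HomologicalComplex.homologyMap (mappingCone.inr (b • 𝟙 W)) q).hom
    ((HomologicalComplex.homologyMap (b • 𝟙 W) q).hom z) = 0 at h
  rw [Groth.Agent.Lib.Helper47.homologyMap_smul_id] at h
  exact h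

theorem nil_cone (a b : A) (h : Nil a W) : Nil a (mappingCone (b • 𝟙 W)) := by
  intro q x
  obtain ⟨δ, hδ, -⟩ := exists_of_delta_eq_zero W b q
  obtain ⟨n, hn⟩ := h (q + 1) (δ x)
  obtain ⟨z, hz⟩ := hδ (a ^ n • x) (by rw [map_smul, hn])
  obtain ⟨n', hn'⟩ := h q z
  refine ⟨n' + n, ?_⟩
  rw [pow_add, mul_smul, ← hz, ← map_smul, hn', map_zero]

theorem nil_cone_self (a : A) : Nil a (mappingCone (a • 𝟙 W)) := by
  intro q x
  obtain ⟨δ, hδ, hδ'⟩ := exists_of_delta_eq_zero W a q
  obtain ⟨z, hz⟩ := hδ (a • x) (by rw [map_smul, hδ'])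
  refine ⟨2, ?_⟩
  rw [pow_two, mul_smul, ← hz, ← map_smul, inr_smul_eq_zero]

theorem nil_CC (a : A) (V : CochainComplex (ModuleCat.{u} A) ℤ) (h : Nil a V) (l : List A) :
    Nil a (CC l V) := by
  induction l with
  | nil => exact h
  | cons b l ih => exact nil_cone _ a b ih

theorem nil_CC_of_mem (a : A) (V : CochainComplex (ModuleCat.{u} A) ℤ) (l : List A) (ha : a ∈ l) :
    Nil a (CC l V) := by
  induction l with
  | nil => simp at ha
  | cons b l ih =>
    rcases List.mem_cons.mp ha with rfl | ha'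
    · exact nil_cone_self _ a
    · exact nil_cone _ a b (ih ha')

/-- If `g ∈ l` acts invertibly on `V`, then `CC l V` is acyclic. -/
theorem isZero_homology_CC_of_isIso (g : A) (V : CochainComplex (ModuleCat.{u} A) ℤ) (l : List A)
    (hg : g ∈ l) (h : IsIso (g • 𝟙 V)) (q : ℤ) : IsZero ((CC l V).homology q) := by
  have h1 : IsIso (g • 𝟙 (CC l V)) := isIso_smul_id_CC g l h
  have h2 : IsIso (HomologicalComplex.homologyMap (g • 𝟙 (CC l V)) q) :=
    (HomologicalComplex.homologyFunctor _ _ q).map_isIso _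
  rw [Groth.Agent.Lib.Helper47.homologyMap_smul_id, ConcreteCategory.isIso_iff_bijective] at h2
  have hinj : ∀ n : ℕ, ∀ x : (CC l V).homology q, g ^ n • x = 0 → x = 0 := by
    intro n
    induction n with
    | zero => intro x hx; simpa using hx
    | succ n ih =>
      intro x hx
      apply ih
      apply h2.1
      change g • (g ^ n • x) = g • 0
      rw [smul_zero, ← mul_smul, ← pow_succ']
      exact hx
  haveI : Subsingleton ((CC l V).homology q) := by
    refine ⟨fun x y => ?_⟩
    obtain ⟨n, hn⟩ := nil_CC_of_mem g V l hg q x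
    obtain ⟨m, hm⟩ := nil_CC_of_mem g V l hg q y
    rw [hinj n x hn, hinj m y hm]
  exact ModuleCat.isZero_of_subsingleton _

end Nil

section Shift

open Groth.Agent.Lib.Helper10.KoszulFlat

theorem smul_id_shift (a : A) (W : CochainComplex (ModuleCat.{u} A) ℤ) (n : ℤ) :
    (a • 𝟙 W)⟦n⟧' = a • 𝟙 (W⟦n⟧) := by
  ext i
  rfl

/-- `CC l` commutes with shifts. -/
noncomputable def CCshiftIso (V : CochainComplex (ModuleCat.{u} A) ℤ) (n : ℤ) :
    ∀ l : List A, CC l (V⟦n⟧) ≅ (CC l V)⟦n⟧
  | [] => Iso.refl _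
  | a :: l =>
    coneIso a (CCshiftIso V n l) ≪≫ coneCongr (smul_id_shift a (CC l V) n).symm ≪≫
      (mappingCone.shiftIso (a • 𝟙 (CC l V)) n).symm

theorem isZero_homology_CC_shift_iff (V : CochainComplex (ModuleCat.{u} A) ℤ) (n q q' : ℤ)
    (h : n + q = q') (l : List A) :
    IsZero ((CC l (V⟦n⟧)).homology q) ↔ IsZero ((CC l V).homology q') := by
  have e1 : (CC l (V⟦n⟧)).homology q ≅ ((CC l V)⟦n⟧).homology q :=
    (HomologicalComplex.homologyFunctor _ _ q).mapIso (CCshiftIso V n l)
  have e2 : ((CC l V)⟦n⟧).homology q ≅ (CC l V).homology q' :=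
    (CochainComplex.ShiftSequence.shiftIso (ModuleCat.{u} A) n q q' h).app (CC l V)
  exact (e1 ≪≫ e2).isZero_iff

theorem isZero_homology_shift_CC_iff (W : CochainComplex (ModuleCat.{u} A) ℤ) (n q q' : ℤ)
    (h : n + q = q') :
    IsZero ((W⟦n⟧).homology q) ↔ IsZero (W.homology q') :=
  ((CochainComplex.ShiftSequence.shiftIso (ModuleCat.{u} A) n q q' h).app W).isZero_iff

end Shift

section Core

theorem isIso_smul_id_locFunctor_of_mem (S : Submonoid A) (g : A) (hg : g ∈ S)
    (M : ModuleCat.{u} A) : IsIso (g • 𝟙 ((DerCA.locFunctor S).obj M)) := by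
  rw [ConcreteCategory.isIso_iff_bijective]
  have h := IsLocalizedModule.map_units (LocalizedModule.mkLinearMap S M) ⟨g, hg⟩
  exact (Module.End.isUnit_iff _).mp h

theorem isIso_smul_id_locCx_of_mem (S : Submonoid A) (g : A) (hg : g ∈ S)
    (V : CochainComplex (ModuleCat.{u} A) ℤ) : IsIso (g • 𝟙 ((DerCA.locCx S).obj V)) := by
  have : ∀ n : ℤ, IsIso ((g • 𝟙 ((DerCA.locCx S).obj V)).f n) := fun n => by
    rw [HomologicalComplex.smul_f_apply, HomologicalComplex.id_f]
    exact isIso_smul_id_locFunctor_of_mem S g hg (V.X n)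
  exact HomologicalComplex.Hom.isIso_of_components _

/-- The key step: `CC l` does not see the passage from `V` to the cocone of `V → V_g`,
for `g ∈ l`. -/
theorem isZero_homology_CC_mappingCocone (g : A) (l : List A) (hg : g ∈ l)
    (V : CochainComplex (ModuleCat.{u} A) ℤ) (q : ℤ) (h : IsZero ((CC l V).homology q)) :
    IsZero ((CC l (mappingCocone (DerCA.locCxUnit (Submonoid.powers g) V))).homology q) := by
  set u := DerCA.locCxUnit (Submonoid.powers g) V with hu
  -- the degreewise split short exact sequence `L → cone u → V⟦1⟧`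
  let S := mappingCone.triangleRotateShortComplex u
  have hS : S.ShortExact := HomologicalComplex.shortExact_of_degreewise_shortExact S
    (fun n => (mappingCone.triangleRotateShortComplexSplitting u n).shortExact)
  have hS' := CC_shortExact S hS l
  have hex := hS'.homology_exact₂ (q + -1)
  -- the two ends vanish
  have h1 : IsZero ((CC l S.X₁).homology (q + -1)) :=
    isZero_homology_CC_of_isIso g _ l hg
      (isIso_smul_id_locCx_of_mem _ g (Submonoid.mem_powers g) V) _
  have h3 : IsZero ((CC l S.X₃).homology (q + -1)) :=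
    (isZero_homology_CC_shift_iff V 1 (q + -1) q (by ring) l).mpr h
  have h2 : IsZero ((CC l (mappingCone u)).homology (q + -1)) :=
    hex.isZero_of_both_zeros (h1.eq_of_src _ _) (h3.eq_of_tgt _ _)
  exact (isZero_homology_CC_shift_iff (mappingCone u) (-1) q (q + -1) (by ring) l).mpr h2

/-- `CC l` does not see the extended Čech complex along elements of `l`. -/
theorem isZero_homology_CC_extCech (l : List A) (M : ModuleCat.{u} A) (q : ℤ)
    (h : IsZero ((CC l ((HomologicalComplex.single (ModuleCat.{u} A) (ComplexShape.up ℤ) 0).obj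
      M)).homology q)) :
    ∀ gs : List A, (∀ g ∈ gs, g ∈ l) → IsZero ((CC l (DerCA.extCech M gs)).homology q)
  | [], _ => h
  | g :: gs, hgs =>
    isZero_homology_CC_mappingCocone g l (hgs g List.mem_cons_self) (DerCA.extCech M gs) q
      (isZero_homology_CC_extCech l M q h gs (fun g' hg' => hgs g' (List.mem_cons_of_mem _ hg')))

end Core

section Main

/-- First computation: for a Koszul-regular sequence, `CC fs (extCech A fs)` has cohomology only in
degree `0`. -/
theorem isZero_homology_CC_extCech_of_koszulRegular (fs : List A)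
    (hfs : LCI.IsKoszulRegularSeq A fs) (q : ℤ) (hq : q ≠ 0) :
    IsZero ((CC fs (DerCA.extCech (ModuleCat.of A A) fs)).homology q) := by
  refine isZero_homology_CC_extCech fs (ModuleCat.of A A) q ?_ fs (fun g hg => hg)
  have h := hfs q hq
  have heq : CC fs ((HomologicalComplex.single (ModuleCat.{u} A) (ComplexShape.up ℤ) 0).obj
      (ModuleCat.of A A)) = Koszul.koszul A fs := by
    rw [Groth.Agent.Lib.Helper94.koszul_eq, koszulCx_eq_CC]
  exact isZero_homology_of_eq heq q h

theorem exists_ne_zero_of_not_isZero (M : ModuleCat.{u} A) (h : ¬ IsZero M) : ∃ x : M, x ≠ 0 := by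
  by_contra hcon
  push Not at hcon
  apply h
  haveI : Subsingleton M := ⟨fun x y => by rw [hcon x, hcon y]⟩
  exact ModuleCat.isZero_of_subsingleton _

theorem eq_zero_of_isZero (M : ModuleCat.{u} A) (h : IsZero M) (x : M) : x = 0 := by
  haveI := ModuleCat.subsingleton_of_isZero h
  exact Subsingleton.elim _ _

/-- a locally nilpotent endomorphism of a nonzero module has a nonzero kernel element. -/
theorem exists_ne_zero_smul_eq_zero (a : A) (M : Type*) [AddCommGroup M] [Module A M]
    (x : M) (hx : x ≠ 0) (n : ℕ) (hn : a ^ n • x = 0) : ∃ y : M, y ≠ 0 ∧ a • y = 0 := by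
  induction n generalizing x with
  | zero => exact absurd (by simpa using hn) hx
  | succ n ih =>
    by_cases h : a ^ n • x = 0
    · exact ih x hx h
    · exact ⟨a ^ n • x, h, by rw [← mul_smul, ← pow_succ']; exact hn⟩

/-- Second computation: the lowest nonvanishing degree drops by one with each Koszul cone. -/
theorem not_isZero_homology_CC (Y : CochainComplex (ModuleCat.{u} A) ℤ) (fs : List A)
    (hN : ∀ a ∈ fs, Nil a Y) (q : ℤ) (hlt : ∀ q' : ℤ, q' < q → IsZero (Y.homology q'))
    (hq : ¬ IsZero (Y.homology q)) (l : List A) (hl : ∀ a ∈ l, a ∈ fs) :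
    (∀ q' : ℤ, q' < q - l.length → IsZero ((CC l Y).homology q')) ∧
      ¬ IsZero ((CC l Y).homology (q - l.length)) := by
  induction l with
  | nil =>
    simp only [List.length_nil, Nat.cast_zero, sub_zero]
    exact ⟨hlt, hq⟩
  | cons a l ih =>
    obtain ⟨hz, hnz⟩ := ih (fun b hb => hl b (List.mem_cons_of_mem _ hb))
    set W := CC l Y with hW
    set m : ℤ := q - l.length with hm
    have hm' : q - ((a :: l).length : ℕ) = m - 1 := by
      simp only [List.length_cons, Nat.cast_add, Nat.cast_one]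
      ring
    rw [hm']
    have hNW : Nil a W := nil_CC a Y (hN a (hl a List.mem_cons_self)) l
    constructor
    · intro q' hq'
      obtain ⟨δ, w₃, w₁, h3, h1⟩ := cone_exact₃₁ (a • 𝟙 W) q'
      exact h3.isZero_of_both_zeros ((hz q' (by lia)).eq_of_src _ _)
        ((hz (q' + 1) (by lia)).eq_of_tgt _ _)
    · intro hcon
      obtain ⟨δ, hδ, hrδ⟩ := Groth.Agent.Lib.Helper12.KoszulDepth.exists_delta (a • 𝟙 W)
        (m - 1) m (by ring) (hz (m - 1) (by lia))
      obtain ⟨x, hx⟩ := exists_ne_zero_of_not_isZero _ hnz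
      obtain ⟨n, hn⟩ := hNW m x
      obtain ⟨y, hy, hay⟩ := exists_ne_zero_smul_eq_zero a _ x hx n hn
      have hy' : (HomologicalComplex.homologyMap (a • 𝟙 W) m).hom y = 0 := by
        rw [Groth.Agent.Lib.Helper47.homologyMap_smul_id]
        exact hay
      obtain ⟨c, hc⟩ := (hrδ y).mpr hy'
      apply hy
      have hc0 : c = 0 :=
        eq_zero_of_isZero ((CochainComplex.mappingCone (a • 𝟙 W)).homology (m - 1)) hcon c
      rw [← hc, hc0, map_zero]

end Main

end Groth.Agent.Lib.Helper47.CechKoszul
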