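import Groth.Agent.Lib.Helper47.ExtCechH0
import Mathlib.Algebra.Module.Injective
import Mathlib.RingTheory.Noetherian.Basic

/-!
# The extended alternating Cech complex of an injective module over a Noetherian ring
-/

set_option autoImplicit false
universe u

open CategoryTheory CategoryTheory.Limits

namespace Groth.Agent.Lib.Helper47

section Algebra

variable {R : Type u} [CommRing R]

/-- Extension of a map to an injective module along a map with smaller kernel. -/
theorem exists_extension_of_ker_le {E A B : Type u} [AddCommGroup E] [Module R E]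
    [Module.Injective R E] [AddCommGroup A] [Module R A] [AddCommGroup B] [Module R B]
    (u : A →ₗ[R] B) (v : A →ₗ[R] E) (h : LinearMap.ker u ≤ LinearMap.ker v) :
    ∃ ψ : B →ₗ[R] E, ∀ a, ψ (u a) = v a := by
  have hf : Function.Injective ((LinearMap.ker u).liftQ u le_rfl) :=
    LinearMap.ker_eq_bot.mp (Submodule.ker_liftQ_eq_bot _ _ _ le_rfl)
  obtain ⟨ψ, hψ⟩ := Module.Injective.out ((LinearMap.ker u).liftQ u le_rfl) hf
    ((LinearMap.ker u).liftQ v h)
  refine ⟨ψ, fun a => ?_⟩
  have := hψ (Submodule.Quotient.mk a)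
  simpa using this

/-- In a Noetherian ring the colon ideals `(J : g^k)` stabilise. -/
theorem exists_pow_mul_mem_stable [IsNoetherianRing R] (J : Ideal R) (g : R) :
    ∃ m : ℕ, ∀ k : ℕ, m ≤ k → ∀ r : R, g ^ k * r ∈ J → g ^ m * r ∈ J := by
  let f : ℕ →o Ideal R :=
    { toFun := fun k => Submodule.comap (LinearMap.mulLeft R (g ^ k)) J
      monotone' := by
        intro k k' hkk' r hr
        rw [Submodule.mem_comap, LinearMap.mulLeft_apply] at hr ⊢
        obtain ⟨d, rfl⟩ := Nat.exists_eq_add_of_le hkk'
        rw [pow_add, mul_comm (g ^ k), mul_assoc]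
        exact J.mul_mem_left _ hr }
  obtain ⟨m, hm⟩ := monotone_stabilizes_iff_noetherian.mpr (inferInstance : IsNoetherian R R) f
  refine ⟨m, fun k hk r hr => ?_⟩
  have h1 : r ∈ f k := by
    change r ∈ Submodule.comap (LinearMap.mulLeft R (g ^ k)) J
    rw [Submodule.mem_comap, LinearMap.mulLeft_apply]
    exact hr
  rw [← hm k hk] at h1
  exact h1

/-- Division by powers of `g` up to `g`-torsion inside the `J`-torsion of an injective module. -/
theorem exists_pow_smul_eq_of_injective [IsNoetherianRing R] {E : Type u} [AddCommGroup E]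
    [Module R E] [Module.Injective R E] (J : Ideal R) (x : E) (hx : ∀ a ∈ J, a • x = 0) (g : R)
    (n : ℕ) :
    ∃ (m : ℕ) (y : E), (∀ a ∈ J, a • y = 0) ∧ g ^ (n + m) • y = g ^ m • x := by
  obtain ⟨m, hm⟩ := exists_pow_mul_mem_stable J g
  refine ⟨m, ?_⟩
  let u : (R ⧸ J) →ₗ[R] (R ⧸ J) := g ^ (n + m) • LinearMap.id
  have hJ : J ≤ LinearMap.ker (LinearMap.toSpanSingleton R E (g ^ m • x)) := by
    intro a ha
    rw [LinearMap.mem_ker, LinearMap.toSpanSingleton_apply, smul_comm, hx a ha, smul_zero]
  let v : (R ⧸ J) →ₗ[R] E := Submodule.liftQ J (LinearMap.toSpanSingleton R E (g ^ m • x)) hJ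
  have hker : LinearMap.ker u ≤ LinearMap.ker v := by
    intro r hr
    obtain ⟨r, rfl⟩ := Submodule.Quotient.mk_surjective _ r
    rw [LinearMap.mem_ker] at hr ⊢
    have h1 : g ^ (n + m) * r ∈ J := by
      have : (Submodule.Quotient.mk (g ^ (n + m) * r) : R ⧸ J) = 0 := by
        rw [← hr]
        rfl
      exact (Submodule.Quotient.mk_eq_zero _).mp this
    have h2 : g ^ m * r ∈ J := hm (n + m) (Nat.le_add_left m n) r h1
    change (LinearMap.toSpanSingleton R E (g ^ m • x)) r = 0
    rw [LinearMap.toSpanSingleton_apply, smul_smul, mul_comm, hx _ h2]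
  obtain ⟨ψ, hψ⟩ := exists_extension_of_ker_le u v hker
  refine ⟨ψ (Submodule.Quotient.mk 1), ?_, ?_⟩
  · intro a ha
    rw [← map_smul]
    have : a • (Submodule.Quotient.mk 1 : R ⧸ J) = 0 := by
      rw [← Submodule.Quotient.mk_smul, smul_eq_mul, mul_one]
      exact (Submodule.Quotient.mk_eq_zero _).mpr ha
    rw [this, map_zero]
  · rw [← map_smul]
    have h1 := hψ (Submodule.Quotient.mk 1)
    have h2 : v (Submodule.Quotient.mk 1) = g ^ m • x := by
      change (LinearMap.toSpanSingleton R E (g ^ m • x)) 1 = _
      rw [LinearMap.toSpanSingleton_apply, one_smul]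
    rw [h2] at h1
    exact h1

end Algebra

section Homology

variable {R : Type u} [CommRing R]

/-- Powers of `g` act injectively on the cohomology of `K_g`. -/
theorem pow_smul_injective_homology_locCx (g : R) (K : DRing.Cx R) (q : ℤ) (k : ℕ)
    (w : ((DerCA.locCx (Submonoid.powers g)).obj K).homology q) (hw : g ^ k • w = 0) : w = 0 := by
  have hinj : Function.Injective (locCxHomologyIso (Submonoid.powers g) K q).hom.hom :=
    ((ConcreteCategory.isIso_iff_bijective _).mp inferInstance).1
  apply hinj
  rw [map_zero]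
  have h1 : g ^ k • (locCxHomologyIso (Submonoid.powers g) K q).hom.hom w = 0 := by
    rw [← map_smul, hw, map_zero]
  have hu := IsLocalizedModule.map_units
    (LocalizedModule.mkLinearMap (Submonoid.powers g) (K.homology q))
    (⟨g ^ k, ⟨k, rfl⟩⟩ : Submonoid.powers g)
  rw [Module.End.isUnit_iff] at hu
  exact hu.1 (h1.trans (map_zero _).symm)

section

attribute [local instance] HasDerivedCategory.standard

open CochainComplex HomologicalComplex

theorem mappingCocone_comp_δ {K L : DRing.Cx R} (φ : K ⟶ L) (n₀ n₁ : ℤ) (h01 : n₀ + 1 = n₁)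
    (x : K.homology n₀) :
    (homologyδOfTriangle (mappingCocone.triangle φ) n₀ n₁ h01).hom
      ((homologyMap φ n₀).hom x) = 0 := by
  have h := homologyMap_homologyδOfTriangle (mappingCocone.triangle φ)
    (DerivedCategory.mappingCocone_triangle_distinguished φ) n₀ n₁ h01
  exact congrArg (fun g => g.hom x) h

variable [IsNoetherianRing R]

/-- For an injective module over a Noetherian ring, `H^0(C) ⟶ H^0(C_g)` is surjective. -/
theorem surjective_homologyMap_locCxUnit_extCech_zero (E : ModuleCat.{u} R)
    [Module.Injective R E] (fs : List R) (g : R) :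
    Function.Surjective (homologyMap
      (DerCA.locCxUnit (Submonoid.powers g) (DerCA.extCech E fs)) 0).hom := by
  obtain ⟨ι, hι, hr⟩ := exists_injective_extCechH_zero E fs
  rw [powTorsionList_eq_torsionSub] at hr
  intro z
  obtain ⟨⟨_, n, rfl⟩, x, hx⟩ := exists_smul_eq_homologyMap_locCxUnit _ _ 0 z
  have hxm : ι x ∈ DRing.torsionSub (Ideal.span {a | a ∈ fs}) E := by
    rw [← hr]; exact ⟨x, rfl⟩
  obtain ⟨t, ht⟩ := hxm
  obtain ⟨m, y, hy1, hy2⟩ := exists_pow_smul_eq_of_injective
    ((Ideal.span {a | a ∈ fs}) ^ t) (ι x) ht g n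
  have hym : y ∈ LinearMap.range ι := by
    rw [hr]; exact ⟨t, hy1⟩
  obtain ⟨z', rfl⟩ := hym
  have hz' : g ^ (n + m) • z' = g ^ m • x := by
    apply hι
    rw [map_smul, map_smul]
    exact hy2
  refine ⟨z', ?_⟩
  have h1 : g ^ (n + m) • ((homologyMap
      (DerCA.locCxUnit (Submonoid.powers g) (DerCA.extCech E fs)) 0).hom z' - z) = 0 := by
    rw [smul_sub, ← map_smul, hz', map_smul, ← hx]
    change g ^ m • g ^ n • z - g ^ (n + m) • z = 0
    rw [smul_smul, ← pow_add, add_comm m n, sub_self]
  exact sub_eq_zero.mp (pow_smul_injective_homology_locCx g _ 0 (n + m) _ h1)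

/-- The extended alternating Cech complex of an injective module over a Noetherian ring has no
cohomology in positive degrees. -/
theorem isZero_extCechH_of_injective (E : ModuleCat.{u} R) [Module.Injective R E]
    (fs : List R) (q : ℤ) (hq : 1 ≤ q) : IsZero (DerCA.extCechH fs E q) := by
  induction fs generalizing q with
  | nil =>
    apply HomologicalComplex.ExactAt.isZero_homology
    apply HomologicalComplex.ExactAt.of_isZero
    exact HomologicalComplex.isZero_single_obj_X _ _ _ _ (by omega)
  | cons g fs ih =>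
    have hK : IsZero ((DerCA.extCech E fs).homology q) := ih q hq
    have hsurj := mappingCocone_δ_surjective
      (DerCA.locCxUnit (Submonoid.powers g) (DerCA.extCech E fs)) (q - 1) q (by omega) hK
    rw [ModuleCat.isZero_iff_subsingleton]
    have key : ∀ w : (mappingCocone
        (DerCA.locCxUnit (Submonoid.powers g) (DerCA.extCech E fs))).homology q, w = 0 := by
      intro w
      obtain ⟨z, rfl⟩ := hsurj w
      by_cases hq1 : q = 1
      · subst hq1
        obtain ⟨z', rfl⟩ := surjective_homologyMap_locCxUnit_extCech_zero E fs g z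
        exact mappingCocone_comp_δ _ (1 - 1) 1 (by omega) z'
      · have hz : IsZero (((DerCA.locCx (Submonoid.powers g)).obj
            (DerCA.extCech E fs)).homology (q - 1)) := by
          rw [(locCxHomologyIso (Submonoid.powers g) _ (q - 1)).isZero_iff]
          exact (DerCA.locFunctor (Submonoid.powers g)).map_isZero (ih (q - 1) (by omega))
        have : Subsingleton (((DerCA.locCx (Submonoid.powers g)).obj
            (DerCA.extCech E fs)).homology (q - 1)) :=
          (ModuleCat.isZero_iff_subsingleton).mp hz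
        have hz0 : z = 0 := @Subsingleton.elim _ this z 0
        rw [hz0]
        exact map_zero _
    exact ⟨fun a b => (key a).trans (key b).symm⟩

end

end Homology

end Groth.Agent.Lib.Helper47
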