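import Groth.Agent.Lib.Helper47.LocHomology
import Groth.Agent.Lib.Helper47.ExtCechInjective
import Mathlib

/-!
# Top cohomology of the extended Cech complex

`H^d` of the extended alternating Cech complex of `R` on `d` elements `fs` is the quotient of the
localisation `R_t`, `t = fs.prod`, by the span of the fractions `φ^n / t^n`, `φ ∈ fs`.
-/

set_option autoImplicit false
universe u

open CategoryTheory CategoryTheory.Limits

namespace Groth.Agent.Lib.Helper47.CechTop

section Part1

open Groth.Agent.Lib.Helper47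

variable {R : Type u} [CommRing R]

section LES

attribute [local instance] HasDerivedCategory.standard

open CochainComplex HomologicalComplex

/-- Exactness of `H^{n₀}(K) ⟶ H^{n₀}(L) ⟶ H^{n₁}(cocone φ)`. -/
theorem mappingCocone_exact₃ {K L : DRing.Cx R} (φ : K ⟶ L) (n₀ n₁ : ℤ) (h01 : n₀ + 1 = n₁)
    (y : L.homology n₀)
    (hy : (homologyδOfTriangle (mappingCocone.triangle φ) n₀ n₁ h01).hom y = 0) :
    ∃ x : K.homology n₀, (homologyMap φ n₀).hom x = y := by
  have h := homologyMap_exact₃_of_distTriang (mappingCocone.triangle φ)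
    (DerivedCategory.mappingCocone_triangle_distinguished φ) n₀ n₁ h01
  rw [ShortComplex.ShortExact.moduleCat_exact_iff_function_exact] at h
  exact (h y).mp hy

/-- The top-degree step: if `H^{n₁}(K) = 0` then `H^{n₁}` of the cocone of `K ⟶ K_f` is the
cokernel of `H^{n₀}(K) ⟶ H^{n₀}(K)_f`. -/
theorem exists_surjective_ker_eq (f : R) (K : DRing.Cx R) (n₀ n₁ : ℤ) (h01 : n₀ + 1 = n₁)
    (hK : IsZero (K.homology n₁)) :
    ∃ ρ : LocalizedModule (Submonoid.powers f) (K.homology n₀) →ₗ[R]
        (mappingCocone (DerCA.locCxUnit (Submonoid.powers f) K)).homology n₁,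
      Function.Surjective ρ ∧ LinearMap.ker ρ =
        LinearMap.range (LocalizedModule.mkLinearMap (Submonoid.powers f) (K.homology n₀)) := by
  set S := Submonoid.powers f
  set φ := DerCA.locCxUnit S K
  set δ := homologyδOfTriangle (mappingCocone.triangle φ) n₀ n₁ h01
  set e := locCxHomologyIso S K n₀
  have hbij : Function.Bijective e.inv.hom :=
    (ConcreteCategory.isIso_iff_bijective e.inv).mp inferInstance
  have hcomp : ∀ x : K.homology n₀, e.hom.hom ((homologyMap φ n₀).hom x) =
      LocalizedModule.mkLinearMap S (K.homology n₀) x := by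
    intro x
    have h := homologyMap_locCxUnit_comp S K n₀
    rw [← ModuleCat.comp_apply, h]
    rfl
  have hinv : ∀ z, e.hom.hom (e.inv.hom z) = z := fun z => by
    rw [← ModuleCat.comp_apply, e.inv_hom_id]; rfl
  have hinv' : ∀ z, e.inv.hom (e.hom.hom z) = z := fun z => by
    rw [← ModuleCat.comp_apply, e.hom_inv_id]; rfl
  refine ⟨δ.hom ∘ₗ e.inv.hom, ?_, ?_⟩
  · exact (mappingCocone_δ_surjective φ n₀ n₁ h01 hK).comp hbij.2
  · ext z
    rw [LinearMap.mem_ker, LinearMap.mem_range, LinearMap.comp_apply]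
    constructor
    · intro hz
      obtain ⟨x, hx⟩ := mappingCocone_exact₃ φ n₀ n₁ h01 _ hz
      refine ⟨x, ?_⟩
      rw [← hcomp, hx]
      exact hinv z
    · rintro ⟨x, rfl⟩
      rw [← hcomp]
      have h1 := hinv' ((homologyMap φ n₀).hom x)
      refine (congrArg δ.hom h1).trans ?_
      exact mappingCocone_comp_δ φ n₀ n₁ h01 x

end LES

end Part1

section Part2

variable {R : Type u} [CommRing R]

section Basic

variable {M M' : Type*} [AddCommGroup M] [Module R M] [AddCommGroup M'] [Module R M']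

theorem pow_smul_injective (a : R) (f : M →ₗ[R] M') [IsLocalizedModule (Submonoid.powers a) f]
    (n : ℕ) (y z : M') (h : a ^ n • y = a ^ n • z) : y = z :=
  IsLocalizedModule.smul_injective f (⟨a ^ n, n, rfl⟩ : Submonoid.powers a) h

theorem exists_pow_smul_eq (a : R) (f : M →ₗ[R] M') [IsLocalizedModule (Submonoid.powers a) f]
    (n : ℕ) (y : M') : ∃ y', a ^ n • y' = y := by
  have hu := IsLocalizedModule.map_units f (⟨a ^ n, n, rfl⟩ : Submonoid.powers a)
  rw [Module.End.isUnit_iff] at hu
  obtain ⟨y', hy'⟩ := hu.2 y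
  exact ⟨y', hy'⟩

theorem exists_pow_smul_eq_map (a : R) (f : M →ₗ[R] M') [IsLocalizedModule (Submonoid.powers a) f]
    (y : M') : ∃ (n : ℕ) (m : M), a ^ n • y = f m := by
  obtain ⟨⟨m, ⟨_, n, rfl⟩⟩, h⟩ := IsLocalizedModule.surj (Submonoid.powers a) f y
  exact ⟨n, m, h⟩

theorem exists_pow_smul_eq_of_map_eq (a : R) (f : M →ₗ[R] M')
    [IsLocalizedModule (Submonoid.powers a) f] (m₁ m₂ : M) (h : f m₁ = f m₂) :
    ∃ n : ℕ, a ^ n • m₁ = a ^ n • m₂ := by
  obtain ⟨⟨_, n, rfl⟩, hc⟩ := IsLocalizedModule.exists_of_eq (S := Submonoid.powers a) h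
  exact ⟨n, hc⟩

end Basic

section Comp

variable {B C : Type*} [AddCommGroup B] [Module R B] [AddCommGroup C] [Module R C]

/-- Localising at `t'` and then at `f` is localising at `f * t'`. -/
theorem isLocalizedModule_comp (f t' : R) (gB : R →ₗ[R] B)
    [IsLocalizedModule (Submonoid.powers t') gB] (h : B →ₗ[R] C)
    [IsLocalizedModule (Submonoid.powers f) h] :
    IsLocalizedModule (Submonoid.powers (f * t')) (h ∘ₗ gB) := by
  -- `t'^n` acts bijectively on `C`
  have hinj : ∀ (n : ℕ) (c : C), t' ^ n • c = 0 → c = 0 := by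
    intro n c hc
    obtain ⟨a, b, hb⟩ := exists_pow_smul_eq_map f h c
    have h1 : h (t' ^ n • b) = h 0 := by
      rw [map_smul, ← hb, smul_comm, hc, smul_zero, map_zero]
    obtain ⟨k, hk⟩ := exists_pow_smul_eq_of_map_eq f h _ _ h1
    rw [smul_zero, smul_comm] at hk
    have h2 : f ^ k • b = 0 :=
      pow_smul_injective t' gB n _ _ (hk.trans (smul_zero _).symm)
    have h3 : f ^ k • h b = 0 := by rw [← map_smul, h2, map_zero]
    have h4 : h b = 0 := pow_smul_injective f h k _ _ (h3.trans (smul_zero _).symm)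
    rw [h4] at hb
    exact pow_smul_injective f h a _ _ (hb.trans (smul_zero _).symm)
  have hsurj : ∀ (n : ℕ) (c : C), ∃ c', t' ^ n • c' = c := by
    intro n c
    obtain ⟨a, b, hb⟩ := exists_pow_smul_eq_map f h c
    obtain ⟨b', rfl⟩ := exists_pow_smul_eq t' gB n b
    obtain ⟨c', hc'⟩ := exists_pow_smul_eq f h a (h b')
    refine ⟨c', ?_⟩
    apply pow_smul_injective f h a
    rw [hb, map_smul, ← hc', smul_comm]
  refine ⟨?_, ?_, ?_⟩
  · rintro ⟨_, n, rfl⟩
    rw [Module.End.isUnit_iff]
    constructor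
    · rw [injective_iff_map_eq_zero]
      intro c hc
      change (f * t') ^ n • c = 0 at hc
      rw [mul_pow, mul_smul] at hc
      have := pow_smul_injective f h n _ _ (hc.trans (smul_zero _).symm)
      exact hinj n c this
    · intro c
      obtain ⟨c1, rfl⟩ := exists_pow_smul_eq f h n c
      obtain ⟨c2, rfl⟩ := hsurj n c1
      refine ⟨c2, ?_⟩
      change (f * t') ^ n • c2 = _
      rw [mul_pow, mul_smul]
  · intro c
    obtain ⟨a, b, hb⟩ := exists_pow_smul_eq_map f h c
    obtain ⟨k, r, hr⟩ := exists_pow_smul_eq_map t' gB b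
    refine ⟨⟨f ^ k * t' ^ a * r, ⟨(f * t') ^ (a + k), a + k, rfl⟩⟩, ?_⟩
    change (f * t') ^ (a + k) • c = h (gB (f ^ k * t' ^ a * r))
    have : (f * t') ^ (a + k) = (f ^ k * t' ^ a) * (t' ^ k * f ^ a) := by ring
    rw [this, mul_smul, mul_smul (t' ^ k), hb, ← map_smul, hr, ← map_smul, ← map_smul, smul_eq_mul]
  · intro r1 r2 hr
    obtain ⟨a, ha⟩ := exists_pow_smul_eq_of_map_eq f h _ _ hr
    rw [← map_smul, ← map_smul] at ha
    obtain ⟨k, hk⟩ := exists_pow_smul_eq_of_map_eq t' gB _ _ ha
    refine ⟨⟨(f * t') ^ (a + k), a + k, rfl⟩, ?_⟩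
    change (f * t') ^ (a + k) • r1 = (f * t') ^ (a + k) • r2
    have : (f * t') ^ (a + k) = (f ^ k * t' ^ a) * (t' ^ k * f ^ a) := by ring
    rw [this, mul_smul _ _ r1, mul_smul _ _ r2, mul_smul (t' ^ k) _ r1, mul_smul (t' ^ k) _ r2, hk]

end Comp

end Part2

section Part3

variable {R : Type u} [CommRing R]

/-- The submodule of a localisation `A` of `R` at `t = fs.prod` spanned by the fractions
`φ^n / t^n`, `φ ∈ fs`. -/
def fracSpan (fs : List R) {A : Type*} [AddCommGroup A] [Module R A] (g : R →ₗ[R] A) :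
    Submodule R A :=
  Submodule.span R {y | ∃ φ ∈ fs, ∃ n : ℕ, fs.prod ^ n • y = g (φ ^ n)}

theorem fracSpan_comap (fs : List R) {A A' : Type*} [AddCommGroup A] [Module R A]
    [AddCommGroup A'] [Module R A'] (g : R →ₗ[R] A) (g' : R →ₗ[R] A') (e : A ≃ₗ[R] A')
    (he : ∀ r, e (g r) = g' r) :
    fracSpan fs g = (fracSpan fs g').comap e.toLinearMap := by
  have h1 : fracSpan fs g' = (fracSpan fs g).map e.toLinearMap := by
    unfold fracSpan
    rw [Submodule.map_span]
    congr 1
    ext y'
    simp only [Set.mem_ofPred_eq, Set.mem_image, LinearEquiv.coe_coe]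
    constructor
    · rintro ⟨φ, hφ, n, hn⟩
      refine ⟨e.symm y', ⟨φ, hφ, n, ?_⟩, e.apply_symm_apply y'⟩
      apply e.injective
      rw [map_smul, e.apply_symm_apply, hn, he]
    · rintro ⟨y, ⟨φ, hφ, n, hn⟩, rfl⟩
      exact ⟨φ, hφ, n, by rw [← map_smul, hn, he]⟩
  rw [h1, Submodule.comap_map_eq_of_injective e.injective]

section Key

variable {B C : Type*} [AddCommGroup B] [Module R B] [AddCommGroup C] [Module R C]

theorem fracSpan_cons (f : R) (fs' : List R) (gB : R →ₗ[R] B)
    [IsLocalizedModule (Submonoid.powers fs'.prod) gB] (h : B →ₗ[R] C)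
    [IsLocalizedModule (Submonoid.powers f) h] :
    (fracSpan fs' gB).localized₀ (Submonoid.powers f) h ⊔ LinearMap.range h =
      fracSpan (f :: fs') (h ∘ₗ gB) := by
  set t' := fs'.prod with ht'
  haveI hloc : IsLocalizedModule (Submonoid.powers (f * t')) (h ∘ₗ gB) :=
    isLocalizedModule_comp f t' gB h
  have hprod : (f :: fs').prod = f * t' := List.prod_cons
  have tinj : ∀ (n : ℕ) (y z : C), (f * t') ^ n • y = (f * t') ^ n • z → y = z :=
    fun n y z => pow_smul_injective (f * t') (h ∘ₗ gB) n y z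
  have t'inj : ∀ (n : ℕ) (y z : C), t' ^ n • y = t' ^ n • z → y = z := by
    intro n y z hyz
    apply tinj n
    rw [mul_pow, mul_smul, mul_smul, hyz]
  apply le_antisymm
  · apply sup_le
    · -- the localised part
      have hA : ∀ m : ℕ, fracSpan fs' gB ≤
          ((fracSpan (f :: fs') (h ∘ₗ gB)).map
            ((f ^ m) • (LinearMap.id : C →ₗ[R] C))).comap h := by
        intro m
        unfold fracSpan
        rw [Submodule.span_le]
        rintro b ⟨φ, hφ, k, hk⟩
        rw [SetLike.mem_coe, Submodule.mem_comap, Submodule.mem_map]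
        obtain ⟨z, hz⟩ := exists_pow_smul_eq f h m (h b)
        refine ⟨z, ?_, hz⟩
        -- `z = φ^k / (f^m t'^k)`
        obtain ⟨c, hc⟩ := List.dvd_prod hφ
        obtain ⟨y, hy⟩ := exists_pow_smul_eq (f * t') (h ∘ₗ gB) (k + m)
          ((h ∘ₗ gB) (φ ^ (k + m)))
        have hzy : z = (f ^ k * c ^ m) • y := by
          apply tinj (k + m)
          have e1 : (f * t') ^ (k + m) • z = (f ^ k * t' ^ m) • (h ∘ₗ gB) (φ ^ k) := by
            have : (f * t') ^ (k + m) = (f ^ k * t' ^ m) * (t' ^ k * f ^ m) := by ring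
            rw [this, mul_smul, mul_smul (t' ^ k), hz, ← map_smul, hk]
            rfl
          have e2 : (f * t') ^ (k + m) • (f ^ k * c ^ m) • y =
              (f ^ k * t' ^ m) • (h ∘ₗ gB) (φ ^ k) := by
            rw [smul_comm, hy, ← map_smul, ← map_smul, smul_eq_mul, smul_eq_mul]
            congr 1
            rw [ht', hc]
            ring
          rw [e1, e2]
        rw [hzy]
        refine Submodule.smul_mem _ _ (Submodule.subset_span ?_)
        exact ⟨φ, List.mem_cons_of_mem _ hφ, k + m, by rw [hprod]; exact hy⟩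
      intro x hx
      rw [Submodule.mem_localized₀] at hx
      obtain ⟨b, hb, ⟨_, m, rfl⟩, hx⟩ := hx
      rw [IsLocalizedModule.mk'_eq_iff] at hx
      have := hA m hb
      rw [Submodule.mem_comap, Submodule.mem_map] at this
      obtain ⟨x', hx', hxx'⟩ := this
      have : x = x' := by
        apply pow_smul_injective f h m
        exact hx.symm.trans hxx'.symm
      rw [this]
      exact hx'
    · rintro _ ⟨b, rfl⟩
      obtain ⟨n, r, hr⟩ := exists_pow_smul_eq_map t' gB b
      obtain ⟨y0, hy0⟩ := exists_pow_smul_eq (f * t') (h ∘ₗ gB) n ((h ∘ₗ gB) (f ^ n))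
      have : h b = r • y0 := by
        apply tinj n
        rw [smul_comm, hy0, mul_pow, mul_smul, ← map_smul, hr, ← map_smul, ← map_smul, ← map_smul]
        rw [smul_eq_mul, smul_eq_mul, mul_comm]
        rfl
      rw [this]
      refine Submodule.smul_mem _ _ (Submodule.subset_span ?_)
      exact ⟨f, List.mem_cons_self, n, by rw [hprod]; exact hy0⟩
  · unfold fracSpan
    rw [Submodule.span_le]
    rintro y ⟨φ, hφ, n, hn⟩
    rw [hprod] at hn
    rw [List.mem_cons] at hφ
    rcases hφ with rfl | hφ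
    · apply Submodule.mem_sup_right
      obtain ⟨b, hb⟩ := exists_pow_smul_eq t' gB n (gB 1)
      refine ⟨b, ?_⟩
      apply tinj n
      rw [hn, mul_pow, mul_smul, ← map_smul, hb, ← map_smul, LinearMap.comp_apply, ← map_smul,
        smul_eq_mul, mul_one]
    · apply Submodule.mem_sup_left
      obtain ⟨b, hb⟩ := exists_pow_smul_eq t' gB n (gB (φ ^ n))
      rw [Submodule.mem_localized₀]
      refine ⟨b, Submodule.subset_span ⟨φ, hφ, n, hb⟩, ⟨f ^ n, n, rfl⟩, ?_⟩
      rw [IsLocalizedModule.mk'_eq_iff]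
      apply t'inj n
      change t' ^ n • h b = t' ^ n • f ^ n • y
      rw [← map_smul, hb, smul_smul, ← mul_pow, mul_comm t' f, hn]
      rfl

end Key

end Part3

section Part4

open Groth.Agent.Lib.Helper47

variable {R : Type u} [CommRing R]

theorem comap_range_comp {A B C D : Type*} [AddCommGroup A] [Module R A] [AddCommGroup B]
    [Module R B] [AddCommGroup C] [Module R C] [AddCommGroup D] [Module R D]
    (ψf : C →ₗ[R] D) (h : B →ₗ[R] C) (mkT : A →ₗ[R] D) (ψB : B →ₗ[R] A)
    (hψB : Function.Surjective ψB) (hcomm : ∀ b, ψf (h b) = mkT (ψB b)) :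
    (LinearMap.range mkT).comap ψf = LinearMap.ker ψf ⊔ LinearMap.range h := by
  have h1 : LinearMap.range mkT = (LinearMap.range h).map ψf := by
    ext d
    simp only [LinearMap.mem_range, Submodule.mem_map]
    constructor
    · rintro ⟨a, rfl⟩
      obtain ⟨b, rfl⟩ := hψB a
      exact ⟨h b, ⟨b, rfl⟩, hcomm b⟩
    · rintro ⟨_, ⟨b, rfl⟩, rfl⟩
      exact ⟨ψB b, (hcomm b).symm⟩
  rw [h1, Submodule.comap_map_eq, sup_comm]

/-- The top cohomology of the extended Cech complex of `R` is the quotient of `R_t`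
by the span of the fractions `φ^n/t^n`. -/
theorem exists_surjective_top (fs : List R) : ∀ (A : Type u) [AddCommGroup A] [Module R A]
    (g : R →ₗ[R] A) [IsLocalizedModule (Submonoid.powers fs.prod) g],
    ∃ ψ : A →ₗ[R] (DerCA.extCech (ModuleCat.of R R) fs).homology (fs.length : ℤ),
      Function.Surjective ψ ∧ LinearMap.ker ψ = fracSpan fs g := by
  induction fs with
  | nil =>
    intro A _ _ g _
    have hg : Function.Bijective g := by
      constructor
      · intro r1 r2 h
        obtain ⟨n, hn⟩ := exists_pow_smul_eq_of_map_eq (([] : List R).prod) g r1 r2 h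
        simpa using hn
      · intro y
        obtain ⟨n, r, hr⟩ := exists_pow_smul_eq_map (([] : List R).prod) g y
        exact ⟨r, by simpa using hr.symm⟩
    let e : A ≃ₗ[R] R := (LinearEquiv.ofBijective g hg).symm
    let i : ModuleCat.of R R ≅ (DerCA.extCech (ModuleCat.of R R) []).homology 0 :=
      (HomologicalComplex.singleObjHomologySelfIso (ComplexShape.up ℤ) 0 (ModuleCat.of R R)).symm
    refine ⟨i.hom.hom ∘ₗ e.toLinearMap, ?_, ?_⟩
    · have hb : Function.Bijective i.hom.hom :=
        (ConcreteCategory.isIso_iff_bijective i.hom).mp inferInstance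
      exact hb.2.comp e.surjective
    · have hb : Function.Bijective i.hom.hom :=
        (ConcreteCategory.isIso_iff_bijective i.hom).mp inferInstance
      have h2 : fracSpan ([] : List R) g = ⊥ := by
        unfold fracSpan
        rw [Submodule.span_eq_bot]
        rintro y ⟨φ, hφ, _⟩
        simp at hφ
      rw [h2, LinearMap.ker_eq_bot]
      exact hb.1.comp e.injective
  | cons f fs' ih =>
    intro A _ _ g _
    set t' := fs'.prod with ht'
    have hprod : (f :: fs').prod = f * t' := List.prod_cons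
    let B := LocalizedModule (Submonoid.powers t') R
    let gB : R →ₗ[R] B := LocalizedModule.mkLinearMap (Submonoid.powers t') R
    obtain ⟨ψB, hψBs, hψBk⟩ := ih B gB
    let K := DerCA.extCech (ModuleCat.of R R) fs'
    let T := K.homology (fs'.length : ℤ)
    let C := LocalizedModule (Submonoid.powers f) B
    let h : B →ₗ[R] C := LocalizedModule.mkLinearMap (Submonoid.powers f) B
    let Tf := LocalizedModule (Submonoid.powers f) T
    let mkT : T →ₗ[R] Tf := LocalizedModule.mkLinearMap (Submonoid.powers f) T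
    let ψf : C →ₗ[R] Tf := IsLocalizedModule.map (Submonoid.powers f) h mkT ψB
    have hψfs : Function.Surjective ψf :=
      IsLocalizedModule.map_surjective (Submonoid.powers f) h mkT ψB hψBs
    have hψfk : LinearMap.ker ψf = (LinearMap.ker ψB).localized₀ (Submonoid.powers f) h :=
      LinearMap.ker_localizedMap_eq_localized₀_ker (Submonoid.powers f) h mkT ψB
    have hcomm : ∀ b, ψf (h b) = mkT (ψB b) := fun b =>
      IsLocalizedModule.map_apply (Submonoid.powers f) h mkT ψB b
    have h01 : (fs'.length : ℤ) + 1 = ((f :: fs').length : ℤ) := by simp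
    obtain ⟨ρ, hρs, hρk⟩ : ∃ ρ : Tf →ₗ[R]
        (DerCA.extCech (ModuleCat.of R R) (f :: fs')).homology ((f :: fs').length : ℤ),
        Function.Surjective ρ ∧ LinearMap.ker ρ = LinearMap.range mkT :=
      exists_surjective_ker_eq f K (fs'.length : ℤ)
        ((f :: fs').length : ℤ) h01 (isZero_extCechH _ fs' _ (Or.inr (by simp)))
    haveI hlocC : IsLocalizedModule (Submonoid.powers (f * t')) (h ∘ₗ gB) :=
      isLocalizedModule_comp f t' gB h
    haveI hlocA : IsLocalizedModule (Submonoid.powers (f * t')) g := by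
      rw [← hprod]; infer_instance
    let e : A ≃ₗ[R] C := IsLocalizedModule.linearEquiv (Submonoid.powers (f * t')) g (h ∘ₗ gB)
    have he : ∀ r, e (g r) = (h ∘ₗ gB) r := fun r =>
      IsLocalizedModule.linearEquiv_apply (Submonoid.powers (f * t')) g (h ∘ₗ gB) r
    refine ⟨ρ ∘ₗ ψf ∘ₗ e.toLinearMap, ?_, ?_⟩
    · exact hρs.comp (hψfs.comp e.surjective)
    · rw [LinearMap.ker_comp, hρk]
      have h1 := comap_range_comp ψf h mkT ψB hψBs hcomm
      have h2 : (LinearMap.range mkT).comap ψf = fracSpan (f :: fs') (h ∘ₗ gB) := by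
        rw [h1, hψfk, hψBk]
        exact fracSpan_cons f fs' gB h
      rw [Submodule.comap_comp, h2]
      exact (fracSpan_comap (f :: fs') g (h ∘ₗ gB) e he).symm

end Part4

end Groth.Agent.Lib.Helper47.CechTop
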