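import Mathlib
import Groth.Agent.Lib.Helper25.CliffOddBC
import Groth.Agent.Lib.Helper25.CliffBC
import Groth.Agent.Lib.Helper25.CenterFlat
import Groth.Agent.Lib.Helper25.CliffDickson
import Groth.Agent.Lib.Helper47.CliffTau

/-!
# Base change of isometries and of the Dickson condition; determinant of Dickson-trivial isometries

For a quadratic form `Q` on a module with a finite basis and an `R`-algebra `S`: a coordinate base
change `QS` on `S^n`, the comparison `Psi : S ⊗ C(Q) ≃ C(QS)`, the base change `gS` of a linear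
automorphism, which is an isometry of `QS` when `g` is one of `Q`, with `C(gS) ∘ Psi = Psi ∘ (1 ⊗ C(g))`
and `det gS = det g`; the Dickson condition is stable under flat base change; over a local ring the
determinant of an isometry of a regular form of even rank is `±1` according to the Dickson condition;
globally a Dickson-trivial isometry has determinant one.
-/

set_option autoImplicit false
set_option linter.unusedSectionVars false
set_option linter.unusedVariables false
set_option linter.deprecated false

namespace Groth.Agent.Lib.Helper47.CliffLoc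

section Part1


open CliffordAlgebra Helper25.Cliff Helper25.QuadMat
open scoped TensorProduct

variable {R : Type*} [CommRing R] {M : Type*} [AddCommGroup M] [Module R M]
  {n : Type*} [Fintype n] [DecidableEq n]

section Setup

variable (b : Module.Basis n R M) (S : Type*) [CommRing S] [Algebra R S]

/-- Coordinates of a vector, pushed to the `R`-algebra `S`. -/
noncomputable def cvec : M →ₗ[R] (n → S) :=
  ((Algebra.linearMap R S).compLeft n) ∘ₗ b.equivFun.toLinearMap

theorem cvec_apply (v : M) (i : n) : cvec b S v i = algebraMap R S (b.equivFun v i) := rfl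

theorem cvec_basis (i : n) : cvec b S (b i) = Pi.single i 1 := by
  ext j
  rw [cvec_apply, Module.Basis.equivFun_self]
  by_cases hij : i = j
  · subst hij; simp
  · simp [hij]

variable (Q : QuadraticForm R M)

/-- A base change of the quadratic form to `S^n`. -/
noncomputable def QS : QuadraticForm S (n → S) :=
  haveI : Module.Free R M := Module.Free.of_basis b
  qfForm ((Classical.choose (exists_matrix_of_basis Q b)).map (algebraMap R S))

theorem QS_cvec (v : M) : QS b S Q (cvec b S v) = algebraMap R S (Q v) := by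
  haveI : Module.Free R M := Module.Free.of_basis b
  have hN := Classical.choose_spec (exists_matrix_of_basis Q b)
  unfold QS
  have : cvec b S v = fun i => algebraMap R S (b.equivFun v i) := rfl
  rw [this, qfForm_apply, qf_map, ← qfForm_apply, hN]

theorem exists_Psi :
    ∃ Ψ : (S ⊗[R] CliffordAlgebra Q) ≃ₐ[S] CliffordAlgebra (QS b S Q),
      ∀ v, Ψ ((1 : S) ⊗ₜ[R] ι Q v) = ι (QS b S Q) (cvec b S v) := by
  haveI : Module.Free R M := Module.Free.of_basis b
  haveI : Module.Finite R M := Module.Finite.of_basis b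
  exact exists_baseChange_algEquiv Q b (QS b S Q) (QS_cvec b S Q)

/-- The comparison isomorphism `S ⊗ C(Q) ≃ C(Q_S)`. -/
noncomputable def Psi : (S ⊗[R] CliffordAlgebra Q) ≃ₐ[S] CliffordAlgebra (QS b S Q) :=
  Classical.choose (exists_Psi b S Q)

theorem Psi_ι (v : M) : Psi b S Q ((1 : S) ⊗ₜ[R] ι Q v) = ι (QS b S Q) (cvec b S v) :=
  Classical.choose_spec (exists_Psi b S Q) v

theorem Psi_vec (v : M) : Psi b S Q ((1 : S) ⊗ₜ[R] ι Q v) ∈ LinearMap.range (ι (QS b S Q)) :=
  ⟨_, (Psi_ι b S Q v).symm⟩

/-- The coordinate isomorphism `S ⊗ M ≃ S^n`. -/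
noncomputable def coordEquiv : (S ⊗[R] M) ≃ₗ[S] (n → S) := (b.baseChange S).equivFun

theorem coordEquiv_tmul (v : M) : coordEquiv b S ((1 : S) ⊗ₜ[R] v) = cvec b S v := by
  ext i
  simp [coordEquiv, cvec_apply, Algebra.smul_def]

/-- The base change of a linear automorphism, in coordinates. -/
noncomputable def gS (g : M ≃ₗ[R] M) : (n → S) ≃ₗ[S] (n → S) :=
  (coordEquiv b S).symm.trans ((LinearEquiv.baseChange R S M M g).trans (coordEquiv b S))

theorem gS_cvec (g : M ≃ₗ[R] M) (v : M) : gS b S g (cvec b S v) = cvec b S (g v) := by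
  simp only [gS, LinearEquiv.trans_apply]
  rw [← coordEquiv_tmul, LinearEquiv.symm_apply_apply, LinearEquiv.baseChange_tmul,
    coordEquiv_tmul]

theorem det_gS (g : M ≃ₗ[R] M) :
    ((LinearEquiv.det (gS b S g) : Sˣ) : S) = algebraMap R S ((LinearEquiv.det g : Rˣ) : R) := by
  haveI : Module.Free R M := Module.Free.of_basis b
  haveI : Module.Finite R M := Module.Finite.of_basis b
  rw [LinearEquiv.coe_det, LinearEquiv.coe_det]
  have h1 : ((gS b S g : (n → S) ≃ₗ[S] (n → S)) : (n → S) →ₗ[S] (n → S))
      = ((coordEquiv b S : (S ⊗[R] M) ≃ₗ[S] (n → S)) : (S ⊗[R] M) →ₗ[S] (n → S)) ∘ₗ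
        (LinearMap.baseChange S (g : M →ₗ[R] M)) ∘ₗ
        (((coordEquiv b S).symm : (n → S) ≃ₗ[S] (S ⊗[R] M)) : (n → S) →ₗ[S] (S ⊗[R] M)) := by
    ext y i
    rfl
  rw [h1, LinearMap.det_conj, LinearMap.det_baseChange]

end Setup


end Part1

section Part2


open CliffordAlgebra Helper25.Cliff Helper25.QuadMat
open scoped TensorProduct

variable {R : Type*} [CommRing R] {M : Type*} [AddCommGroup M] [Module R M]
  {n : Type*} [Fintype n] [DecidableEq n]

section Isom

variable (b : Module.Basis n R M) (S : Type*) [CommRing S] [Algebra R S]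
  (Q : QuadraticForm R M) (g : M ≃ₗ[R] M) (hg : g ∈ QuadGrp.O Q)

/-- The `S`-algebra endomorphism of `C(Q_S)` induced by `C(g)`. -/
noncomputable def AS : CliffordAlgebra (QS b S Q) →ₐ[S] CliffordAlgebra (QS b S Q) :=
  (Psi b S Q).toAlgHom.comp
    ((Algebra.TensorProduct.map (AlgHom.id S S)
      (CliffordAlgebra.map (QuadGrp.isometryOfMem Q g hg))).comp (Psi b S Q).symm.toAlgHom)

theorem AS_Psi_tmul (x : CliffordAlgebra Q) :
    AS b S Q g hg (Psi b S Q ((1 : S) ⊗ₜ[R] x))
      = Psi b S Q ((1 : S) ⊗ₜ[R] CliffordAlgebra.map (QuadGrp.isometryOfMem Q g hg) x) := by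
  simp [AS]

theorem AS_ι (y : n → S) :
    AS b S Q g hg (ι (QS b S Q) y) = ι (QS b S Q) (gS b S g y) := by
  have h : (AS b S Q g hg).toLinearMap ∘ₗ ι (QS b S Q)
      = ι (QS b S Q) ∘ₗ (gS b S g : (n → S) →ₗ[S] (n → S)) := by
    refine (Pi.basisFun S n).ext fun i => ?_
    simp only [LinearMap.coe_comp, Function.comp_apply, AlgHom.toLinearMap_apply,
      Pi.basisFun_apply, LinearEquiv.coe_coe]
    rw [← cvec_basis b S i, ← Psi_ι, AS_Psi_tmul, CliffordAlgebra.map_apply_ι, gS_cvec, Psi_ι]
    rfl
  exact LinearMap.congr_fun h y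

include hg in
theorem gS_mem_O : gS b S g ∈ QuadGrp.O (QS b S Q) := by
  intro y
  apply algebraMap_injective (QS b S Q)
  rw [← ι_sq_scalar, ← AS_ι b S Q g hg, ← map_mul, ι_sq_scalar, AlgHom.commutes]

theorem map_gS (x : CliffordAlgebra Q) :
    CliffordAlgebra.map (QuadGrp.isometryOfMem (QS b S Q) (gS b S g) (gS_mem_O b S Q g hg))
        (Psi b S Q ((1 : S) ⊗ₜ[R] x))
      = Psi b S Q ((1 : S) ⊗ₜ[R] CliffordAlgebra.map (QuadGrp.isometryOfMem Q g hg) x) := by
  rw [← AS_Psi_tmul]
  have : CliffordAlgebra.map (QuadGrp.isometryOfMem (QS b S Q) (gS b S g)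
      (gS_mem_O b S Q g hg)) = AS b S Q g hg := by
    apply CliffordAlgebra.hom_ext
    ext y
    simp only [LinearMap.coe_comp, Function.comp_apply, AlgHom.toLinearMap_apply,
      CliffordAlgebra.map_apply_ι, AS_ι]
    rfl
  rw [this]

end Isom


end Part2

section Part3


open CliffordAlgebra Helper25.Cliff Helper25.QuadMat
open scoped TensorProduct

variable {R : Type*} [CommRing R] {M : Type*} [AddCommGroup M] [Module R M]
  {n : Type*} [Fintype n] [DecidableEq n]

section Reg

variable (b : Module.Basis n R M) (S : Type*) [CommRing S] [Algebra R S]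
  (Q : QuadraticForm R M)

theorem polar_QS_cvec (v w : M) :
    QuadraticMap.polar (QS b S Q) (cvec b S v) (cvec b S w)
      = algebraMap R S (QuadraticMap.polar Q v w) := by
  simp only [QuadraticMap.polar, ← map_add, QS_cvec, map_sub]

theorem polarBilin_QS_surjective (hQ : Function.Surjective (QuadraticMap.polarBilin Q)) :
    Function.Surjective (QuadraticMap.polarBilin (QS b S Q)) := by
  choose x hx using fun i => hQ (b.coord i)
  intro f
  refine ⟨∑ i, f (Pi.single i 1) • cvec b S (x i), ?_⟩
  refine (Pi.basisFun S n).ext fun j => ?_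
  rw [Pi.basisFun_apply, map_sum, LinearMap.sum_apply]
  rw [Finset.sum_eq_single j]
  · rw [map_smul, LinearMap.smul_apply, QuadraticMap.polarBilin_apply_apply, ← cvec_basis b S j,
      polar_QS_cvec]
    have := congrArg (fun φ => φ (b j)) (hx j)
    simp only [QuadraticMap.polarBilin_apply_apply, Module.Basis.coord_apply,
      Module.Basis.repr_self, Finsupp.single_eq_same] at this
    rw [this, map_one, smul_eq_mul, mul_one, cvec_basis]
  · intro i _ hij
    rw [map_smul, LinearMap.smul_apply, QuadraticMap.polarBilin_apply_apply, ← cvec_basis b S j,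
      polar_QS_cvec]
    have := congrArg (fun φ => φ (b j)) (hx i)
    simp only [QuadraticMap.polarBilin_apply_apply, Module.Basis.coord_apply,
      Module.Basis.repr_self] at this
    rw [this, Finsupp.single_eq_of_ne hij, map_zero, smul_zero]
  · intro h; exact absurd (Finset.mem_univ j) h

end Reg


end Part3

section Part4


open CliffordAlgebra Helper25.Cliff Helper25.QuadMat
open scoped TensorProduct

variable {R : Type*} [CommRing R] {M : Type*} [AddCommGroup M] [Module R M]
  {n : Type*} [Fintype n] [DecidableEq n]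

section Dickson

variable (b : Module.Basis n R M) (S : Type*) [CommRing S] [Algebra R S]
  (Q : QuadraticForm R M) (g : M ≃ₗ[R] M) (hg : g ∈ QuadGrp.O Q)

/-- The Dickson condition is stable under flat base change. -/
theorem isDicksonTrivial_gS [Module.Flat R S] (hD : QuadGrp.IsDicksonTrivial Q g hg) :
    QuadGrp.IsDicksonTrivial (QS b S Q) (gS b S g) (gS_mem_O b S Q g hg) := by
  haveI : Module.Free R M := Module.Free.of_basis b
  haveI : Module.Finite R M := Module.Finite.of_basis b
  intro zS hzS
  obtain ⟨e, he⟩ := exists_even_algEquiv (Psi b S Q) (Psi_vec b S Q)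
  set ζ := e.symm zS with hζ
  have hzS' : ((zS : ↥(even (QS b S Q))) : CliffordAlgebra (QS b S Q))
      = Psi b S Q (evenIncl Q S ζ) := by
    rw [← he, hζ, AlgEquiv.apply_symm_apply]
  haveI : Module.Finite R ↥(even Q) := by
    have hsurj := Submodule.projectionOnto_surjective (evenOdd_isCompl Q)
    have : Module.Finite R ↥(evenOdd Q 0) := Module.Finite.of_surjective _ hsurj
    exact this
  have hcentral : ∀ c : ↥(even Q), ζ * ((1 : S) ⊗ₜ[R] c) = ((1 : S) ⊗ₜ[R] c) * ζ := by
    intro c
    apply e.injective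
    rw [map_mul, map_mul, hζ, AlgEquiv.apply_symm_apply]
    exact ((Subalgebra.mem_center_iff.mp hzS) _).symm
  obtain ⟨w, hw⟩ := Helper25.CenterFlat.mem_range_center_of_commute S ζ hcentral
  rw [hzS', ← hw]
  clear hw hzS' hcentral
  induction w using TensorProduct.induction_on with
  | zero => simp
  | tmul s z =>
    rw [LinearMap.lTensor_tmul]
    have h1 : evenIncl Q S (s ⊗ₜ[R] ((Subalgebra.toSubmodule
        (Subalgebra.center R ↥(even Q))).subtype z))
        = s • ((1 : S) ⊗ₜ[R] (((z : ↥(even Q))) : CliffordAlgebra Q)) := by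
      rw [TensorProduct.smul_tmul', smul_eq_mul, mul_one]
      rfl
    rw [h1, map_smul, map_smul, map_gS b S Q g hg, hD _ z.2]
  | add u w hu hw =>
    rw [map_add, map_add, map_add, map_add, hu, hw]

end Dickson


end Part4

section Part5


open CliffordAlgebra Helper25.Cliff Helper25.QuadMat
open scoped TensorProduct

universe u v

section Local

variable {R : Type u} [CommRing R] {M : Type v} [AddCommGroup M] [Module R M]

/-- Over a local ring, the conjugating unit of an isometry of a regular form of even rank. -/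
theorem exists_homog_unit_of_local [IsLocalRing R] [Module.Free R M] [Module.Finite R M] (m : ℕ)
    (hm : 1 ≤ m) (hM : Module.finrank R M = 2 * m) (Q : QuadraticForm R M)
    (hQ : Function.Surjective (QuadraticMap.polarBilin Q)) (g : M ≃ₗ[R] M)
    (hg : g ∈ QuadGrp.O Q) :
    ∃ u : (CliffordAlgebra Q)ˣ,
      (∀ x, CliffordAlgebra.map (QuadGrp.isometryOfMem Q g hg) x
        = (u : CliffordAlgebra Q) * x * ↑u⁻¹) ∧
      (∀ w, (u : CliffordAlgebra Q) * ι Q w * ↑u⁻¹ = ι Q (g w)) ∧
      (((u : CliffordAlgebra Q) ∈ evenOdd Q 0 ∧ QuadGrp.IsDicksonTrivial Q g hg) ∨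
        ((u : CliffordAlgebra Q) ∈ evenOdd Q 1 ∧ ¬ QuadGrp.IsDicksonTrivial Q g hg)) := by
  obtain ⟨-, hcen, hcz⟩ := clifford_even_rank_structure R M m hm hM Q hQ
  have hinj := algebraMap_injective Q
  haveI : Nontrivial (CliffordAlgebra Q) := hinj.nontrivial
  obtain ⟨u, hmap, hconj⟩ := exists_conj_unit_of_mem_O Q m hM hQ g hg
  have hG : u ∈ QuadGrp.GPin' Q := mem_GPin'_of_conj Q u g hconj
  have hhom := even_or_odd_of_isLocHomog Q _ (isLocHomog_of_mem_GPin' Q hcen hinj u hG)
  refine ⟨u, hmap, hconj, ?_⟩
  rcases hhom with he | ho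
  · exact Or.inl ⟨he, isDicksonTrivial_of_even Q u g hg hmap he⟩
  · refine Or.inr ⟨ho, fun hD => ?_⟩
    have he := even_of_isDicksonTrivial Q hcz u g hg hmap hD
    exact u.ne_zero (eq_zero_of_mem_even_of_mem_odd Q he ho)

/-- Over a local ring: the determinant of an isometry of a regular form of even rank is `1` or `-1`
according to the Dickson condition. -/
theorem det_of_local [IsLocalRing R] [Module.Free R M] [Module.Finite R M] (m : ℕ)
    (hm : 1 ≤ m) (hM : Module.finrank R M = 2 * m) (Q : QuadraticForm R M)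
    (hQ : Function.Surjective (QuadraticMap.polarBilin Q)) (g : M ≃ₗ[R] M)
    (hg : g ∈ QuadGrp.O Q) :
    (QuadGrp.IsDicksonTrivial Q g hg → LinearEquiv.det g = 1) ∧
      (¬ QuadGrp.IsDicksonTrivial Q g hg → LinearEquiv.det g = -1) := by
  obtain ⟨u, hmap, hconj, h⟩ := exists_homog_unit_of_local m hm hM Q hQ g hg
  haveI : Nontrivial R := nontrivial_of_finrank_eq_two_mul m hM
  let b : Module.Basis (Fin (2 * m)) R M := Module.finBasisOfFinrankEq R M hM
  have hn : ((2 * m : ℕ) : ZMod 2) = 0 := by
    rw [Nat.cast_mul]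
    have : ((2 : ℕ) : ZMod 2) = 0 := rfl
    rw [this, zero_mul]
  rcases h with ⟨he, hD⟩ | ⟨ho, hD⟩
  · exact ⟨fun _ => CliffTau.det_eq_one_of_conj_even b g hg u he hmap, fun h => absurd hD h⟩
  · exact ⟨fun h => absurd h hD, fun _ => CliffTau.det_eq_neg_one_of_conj_odd b hn g hg u ho hmap⟩

end Local

section Global

variable {R : Type u} [CommRing R] {M : Type v} [AddCommGroup M] [Module R M]

/-- The local data at a prime: the localisation is local, the base-changed form is regular of the
same even rank. -/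
theorem finrank_pi (S : Type u) [CommRing S] [Nontrivial S] (m : ℕ) :
    Module.finrank S (Fin (2 * m) → S) = 2 * m := by
  rw [Module.finrank_fintype_fun_eq_card, Fintype.card_fin]

/-- A Dickson-trivial isometry of a regular form of even rank has determinant one. -/
theorem det_eq_one_of_isDicksonTrivial [Module.Free R M] [Module.Finite R M] (m : ℕ)
    (hm : 1 ≤ m) (hM : Module.finrank R M = 2 * m) (Q : QuadraticForm R M)
    (hQ : Function.Surjective (QuadraticMap.polarBilin Q)) (g : M ≃ₗ[R] M)
    (hg : g ∈ QuadGrp.O Q) (hD : QuadGrp.IsDicksonTrivial Q g hg) : LinearEquiv.det g = 1 := by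
  haveI : Nontrivial R := nontrivial_of_finrank_eq_two_mul m hM
  let b : Module.Basis (Fin (2 * m)) R M := Module.finBasisOfFinrankEq R M hM
  apply Units.ext
  rw [Units.val_one, ← sub_eq_zero]
  refine eq_zero_of_localization _ fun J hJ => ?_
  set S := Localization.AtPrime J
  have h1 := (det_of_local (R := S) (M := Fin (2 * m) → S) m hm (finrank_pi S m) (QS b S Q)
    (polarBilin_QS_surjective b S Q hQ) (gS b S g) (gS_mem_O b S Q g hg)).1
    (isDicksonTrivial_gS b S Q g hg hD)
  have h2 := det_gS b S g
  rw [h1, Units.val_one] at h2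
  rw [map_sub, map_one, ← h2, sub_self]

end Global


end Part5

end Groth.Agent.Lib.Helper47.CliffLoc
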