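import Mathlib
import Groth.Agent.Lib.Helper47.CliffLoc

/-!
# Local-to-global principle for the Dickson condition
-/

set_option autoImplicit false
set_option linter.unusedSectionVars false
set_option linter.unusedVariables false
set_option linter.deprecated false

namespace Groth.Agent.Lib.Helper47.CliffGlob


open CliffordAlgebra Helper25.Cliff Helper25.QuadMat Groth.Agent.Lib.Helper47.CliffLoc
open scoped TensorProduct

universe u v

section LG

variable {R : Type u} [CommRing R]

/-- An element of a free module vanishing in all localisations at maximal ideals is zero. -/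
theorem eq_zero_of_tmul_eq_zero {N : Type*} [AddCommGroup N] [Module R N] [Module.Free R N]
    (x : N) (h : ∀ (J : Ideal R) (_ : J.IsMaximal),
      (1 : Localization.AtPrime J) ⊗ₜ[R] x = 0) : x = 0 := by
  let B := Module.Free.chooseBasis R N
  apply B.repr.injective
  rw [map_zero]
  ext i
  rw [Finsupp.zero_apply]
  refine eq_zero_of_localization _ fun J hJ => ?_
  have h1 := congrArg (fun t => TensorProduct.rid R (Localization.AtPrime J)
    (LinearMap.lTensor (Localization.AtPrime J) (B.coord i) t)) (h J hJ)
  simp only [LinearMap.lTensor_tmul, TensorProduct.rid_tmul, map_zero, Module.Basis.coord_apply]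
    at h1
  rw [Algebra.smul_def, mul_one] at h1
  exact h1

variable {M : Type v} [AddCommGroup M] [Module R M] {n : Type*} [Fintype n] [DecidableEq n]
  (b : Module.Basis n R M) (S : Type*) [CommRing S] [Algebra R S]
  (Q : QuadraticForm R M) (g : M ≃ₗ[R] M) (hg : g ∈ QuadGrp.O Q)

/-- The image of a central element of the even subalgebra is central in the even subalgebra of the
base change. -/
theorem Psi_center_mem [Module.Flat R S] (z : ↥(even Q))
    (hz : z ∈ Subalgebra.center R ↥(even Q)) :
    ∃ zS : ↥(even (QS b S Q)), zS ∈ Subalgebra.center S ↥(even (QS b S Q)) ∧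
      (zS : CliffordAlgebra (QS b S Q)) = Psi b S Q ((1 : S) ⊗ₜ[R] (z : CliffordAlgebra Q)) := by
  haveI : Module.Free R M := Module.Free.of_basis b
  haveI : Module.Finite R M := Module.Finite.of_basis b
  obtain ⟨e, he⟩ := exists_even_algEquiv (Psi b S Q) (Psi_vec b S Q)
  refine ⟨e ((1 : S) ⊗ₜ[R] z), ?_, ?_⟩
  · rw [Subalgebra.mem_center_iff]
    intro y
    obtain ⟨ξ, rfl⟩ := e.surjective y
    rw [← map_mul, ← map_mul]
    congr 1
    induction ξ using TensorProduct.induction_on with
    | zero => simp
    | tmul s c =>
      rw [Algebra.TensorProduct.tmul_mul_tmul, Algebra.TensorProduct.tmul_mul_tmul, mul_one,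
        one_mul, (Subalgebra.mem_center_iff.mp hz) c]
    | add u w hu hw => rw [add_mul, mul_add, hu, hw]
  · rw [he]; rfl

/-- The Dickson condition can be checked after localising at all maximal ideals. -/
theorem isDicksonTrivial_of_local
    (h : ∀ (J : Ideal R) (_ : J.IsMaximal),
      QuadGrp.IsDicksonTrivial (QS b (Localization.AtPrime J) Q) (gS b (Localization.AtPrime J) g)
        (gS_mem_O b (Localization.AtPrime J) Q g hg)) :
    QuadGrp.IsDicksonTrivial Q g hg := by
  haveI : Module.Free R M := Module.Free.of_basis b
  intro z hz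
  rw [← sub_eq_zero]
  refine eq_zero_of_tmul_eq_zero (R := R) (N := CliffordAlgebra Q) _ fun J hJ => ?_
  set S := Localization.AtPrime J
  obtain ⟨zS, hzS, hzS'⟩ := Psi_center_mem b S Q z hz
  have h1 := h J hJ zS hzS
  rw [hzS', map_gS b S Q g hg] at h1
  have h2 := (Psi b S Q).injective h1
  rw [TensorProduct.tmul_sub, h2, sub_self]

end LG


end Groth.Agent.Lib.Helper47.CliffGlob
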