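import Mathlib
import Groth.Agent.Lib.Helper25.CliffOddLocal
import Groth.Agent.Lib.Helper25.CliffAz
import Groth.Agent.Lib.Helper47.CliffTau

/-!
# Odd rank: isometries of determinant one are induced by even units (local rings)

The even Clifford algebra of a semiregular form of odd rank is Azumaya (by descent from the
fppf-local matrix model); over a local ring the automorphism induced by an isometry is inner on the
even part (Skolem--Noether), acts on the odd central unit by a scalar, and the Berezin functional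
identifies that scalar with the determinant.
-/

set_option autoImplicit false
set_option linter.unusedSectionVars false
set_option linter.unusedVariables false
set_option linter.deprecated false

namespace Groth.Agent.Lib.Helper47.CliffOddSN

section Part1


open CliffordAlgebra Helper25.Cliff
open scoped TensorProduct

universe u v

section Parity

variable {R : Type*} [CommRing R] {M : Type*} [AddCommGroup M] [Module R M]
  {M' : Type*} [AddCommGroup M'] [Module R M']
  {Q : QuadraticForm R M} {Q' : QuadraticForm R M'}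

/-- Maps of Clifford algebras induced by isometries preserve the parity. -/
theorem map_mem_evenOdd (f : Q →qᵢ Q') (ε : ZMod 2) (x : CliffordAlgebra Q)
    (hx : x ∈ evenOdd Q ε) : CliffordAlgebra.map f x ∈ evenOdd Q' ε := by
  induction x, hx using evenOdd_induction with
  | range_ι_pow v h =>
    fin_cases ε
    · have h' : v ∈ (1 : Submodule R (CliffordAlgebra Q)) := by
        have : (LinearMap.range (ι Q)) ^ (ZMod.val (0 : ZMod 2)) = 1 := by
          rw [ZMod.val_zero, pow_zero]
        rw [← this]; exact h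
      obtain ⟨r, rfl⟩ := Submodule.mem_one.mp h'
      rw [AlgHom.commutes]
      have : algebraMap R (CliffordAlgebra Q') r ∈ evenOdd Q' 0 :=
        SetLike.algebraMap_mem_graded _ _
      exact this
    · have h' : v ∈ LinearMap.range (ι Q) := by
        have : (LinearMap.range (ι Q)) ^ (ZMod.val (1 : ZMod 2)) = LinearMap.range (ι Q) := by
          rw [ZMod.val_one, pow_one]
        rw [← this]; exact h
      obtain ⟨w, rfl⟩ := h'
      rw [map_apply_ι]
      exact ι_mem_evenOdd_one Q' _
  | add x y hx hy ihx ihy => rw [map_add]; exact Submodule.add_mem _ ihx ihy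
  | ι_mul_ι_mul m₁ m₂ x hx ih =>
    rw [map_mul, map_mul, map_apply_ι, map_apply_ι]
    have := SetLike.mul_mem_graded (ι_mul_ι_mem_evenOdd_zero Q' (f m₁) (f m₂)) ih
    rwa [zero_add] at this

/-- The restriction of an induced map of Clifford algebras to the even subalgebras. -/
noncomputable def evenRestrict (f : Q →qᵢ Q') : ↥(even Q) →ₐ[R] ↥(even Q') :=
  ((CliffordAlgebra.map f).comp (even Q).val).codRestrict (even Q')
    (fun x => map_mem_evenOdd f 0 x.1 x.2)

theorem evenRestrict_coe (f : Q →qᵢ Q') (x : ↥(even Q)) :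
    ((evenRestrict f x : ↥(even Q')) : CliffordAlgebra Q') = CliffordAlgebra.map f x := rfl

end Parity

section Az

variable {R : Type u} [CommRing R] {M : Type v} [AddCommGroup M] [Module R M]

/-- The even Clifford algebra of a semiregular form of odd rank is Azumaya. -/
theorem isAzumaya_even (m : ℕ) (b : Module.Basis (Fin (2 * m + 1)) R M)
    (Q : QuadraticForm R M) (hQ : QuadGrp.IsSemiregular b (LinearEquiv.refl R R) Q) :
    IsAzumaya R ↥(even Q) := by
  obtain ⟨-, -, -, S, i1, i2, hff, hfp, ⟨e⟩⟩ := odd_core m b Q hQ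
  haveI : IsAzumaya S (Matrix (Fin (2 ^ m)) (Fin (2 ^ m)) S) := IsAzumaya.matrix S _
  haveI : IsAzumaya S (S ⊗[R] ↥(even Q)) := IsAzumaya.of_AlgEquiv S _ _ e.symm
  exact Groth.Agent.Lib.Helper85.isAzumaya_of_baseChange_faithfullyFlat R S ↥(even Q)

end Az


end Part1

section Part2


open CliffordAlgebra Helper25.Cliff
open scoped TensorProduct

universe u v

section Main

variable {R : Type u} [CommRing R] [IsLocalRing R] {M : Type v} [AddCommGroup M] [Module R M]

/-- Over a local ring, an isometry of determinant one of a semiregular form of odd rank is induced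
by conjugation by an even unit of the Clifford algebra. -/
theorem exists_even_unit_conj (m : ℕ) (b : Module.Basis (Fin (2 * m + 1)) R M)
    (Q : QuadraticForm R M) (hQ : QuadGrp.IsSemiregular b (LinearEquiv.refl R R) Q)
    (g : M ≃ₗ[R] M) (hg : g ∈ QuadGrp.O Q) (hdet : LinearEquiv.det g = 1) :
    ∃ u : (CliffordAlgebra Q)ˣ, (u : CliffordAlgebra Q) ∈ evenOdd Q 0 ∧
      ∀ v : M, (u : CliffordAlgebra Q) * ι Q v * ↑u⁻¹ = ι Q (g v) := by
  haveI : Module.Free R M := Module.Free.of_basis b
  haveI : Module.Finite R M := Module.Finite.of_basis b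
  obtain ⟨hF1, hF2, -, -⟩ := odd_core m b Q hQ
  obtain ⟨z, zi, hzc, hz1, hzic, hzi1, hzzi, hziz⟩ := exists_odd_central_unit Q hF1 hF2
  haveI := isAzumaya_even m b Q hQ
  set f := QuadGrp.isometryOfMem Q g hg with hf
  set C := CliffordAlgebra.map f with hC
  obtain ⟨a, ha⟩ := Groth.Agent.Lib.Helper85.exists_unit_conj_of_algHom R ↥(even Q)
    (evenRestrict f)
  -- the unit of the Clifford algebra
  let u₀ : (CliffordAlgebra Q)ˣ := Units.map (even Q).val.toMonoidHom a
  have hu₀ : (u₀ : CliffordAlgebra Q) = ((a : ↥(even Q)) : CliffordAlgebra Q) := rfl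
  have hu₀i : (↑u₀⁻¹ : CliffordAlgebra Q) = ((↑a⁻¹ : ↥(even Q)) : CliffordAlgebra Q) := rfl
  have hu₀e : (u₀ : CliffordAlgebra Q) ∈ evenOdd Q 0 := (a : ↥(even Q)).2
  -- on even elements, `C` is conjugation by `u₀`
  have heven : ∀ x ∈ evenOdd Q 0, C x = (u₀ : CliffordAlgebra Q) * x * ↑u₀⁻¹ := by
    intro x hx
    have := congrArg Subtype.val (ha ⟨x, hx⟩)
    rw [evenRestrict_coe] at this
    rw [hu₀, hu₀i]
    exact this
  -- `C` is surjective
  have hginv : g⁻¹ ∈ QuadGrp.O Q := (QuadGrp.O Q).inv_mem hg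
  have hcomp : C.comp (CliffordAlgebra.map (QuadGrp.isometryOfMem Q g⁻¹ hginv)) =
      AlgHom.id R _ := by
    apply CliffordAlgebra.hom_ext; ext w; simp [hC, hf, QuadGrp.isometryOfMem]
  have hsurj : Function.Surjective C := fun y =>
    ⟨CliffordAlgebra.map (QuadGrp.isometryOfMem Q g⁻¹ hginv) y, by
      rw [← AlgHom.comp_apply, hcomp]; rfl⟩
  -- `C z` is an odd central element, hence a multiple of `z`
  have hCz_c : C z ∈ Subalgebra.center R (CliffordAlgebra Q) := by
    rw [Subalgebra.mem_center_iff]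
    intro y
    obtain ⟨y', rfl⟩ := hsurj y
    rw [← map_mul, ← map_mul, (Subalgebra.mem_center_iff.mp hzc) y']
  have hCz_1 : C z ∈ evenOdd Q 1 := map_mem_evenOdd f 1 z hz1
  obtain ⟨lam, hlam⟩ := hF1 (C z * zi) (Subalgebra.mul_mem _ hCz_c hzic)
    (odd_mul_odd_mem_even Q hCz_1 hzi1)
  have hCz : C z = lam • z := by
    rw [Algebra.smul_def, hlam, mul_assoc, hziz, mul_one]
  -- on odd elements, `C` is `lam` times conjugation by `u₀`
  have hodd : ∀ x ∈ evenOdd Q 1, C x = lam • ((u₀ : CliffordAlgebra Q) * x * ↑u₀⁻¹) := by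
    intro x hx
    have hxe : x * zi ∈ evenOdd Q 0 := odd_mul_odd_mem_even Q hx hzi1
    have hx' : x = x * zi * z := by rw [mul_assoc, hziz, mul_one]
    conv_lhs => rw [hx']
    rw [map_mul, heven _ hxe, hCz, mul_smul_comm]
    congr 1
    have hzcomm : ∀ y : CliffordAlgebra Q, y * z = z * y :=
      fun y => (Subalgebra.mem_center_iff.mp hzc) y
    calc (u₀ : CliffordAlgebra Q) * (x * zi) * ↑u₀⁻¹ * z
        = (u₀ : CliffordAlgebra Q) * (x * zi) * (↑u₀⁻¹ * z) := by rw [mul_assoc]
      _ = (u₀ : CliffordAlgebra Q) * (x * zi) * (z * ↑u₀⁻¹) := by rw [hzcomm]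
      _ = (u₀ : CliffordAlgebra Q) * (x * (zi * z)) * ↑u₀⁻¹ := by simp only [mul_assoc]
      _ = (u₀ : CliffordAlgebra Q) * x * ↑u₀⁻¹ := by rw [hziz, mul_one]
  -- the Berezin functional gives `lam = det g = 1`
  have hn : ((2 * m + 1 : ℕ) : ZMod 2) = 1 := by
    rw [Nat.cast_add, Nat.cast_mul, Nat.cast_one]
    have : ((2 : ℕ) : ZMod 2) = 0 := rfl
    rw [this, zero_mul, zero_add]
  obtain ⟨L, x₀, hL, hx₀, hτ⟩ := CliffTau.exists_tau_eq_one b Q
  rw [hn] at hx₀
  have h1 := CliffTau.tau_map' b L hL f x₀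
  have hdet' : LinearMap.det f.toLinearMap = 1 := by
    have := congrArg Units.val hdet
    rw [LinearEquiv.coe_det, Units.val_one] at this
    exact this
  rw [hdet', one_mul, hτ] at h1
  have h1' : CliffTau.tau Q L (C x₀) = 1 := h1
  rw [hodd x₀ hx₀, map_smul, mul_assoc, CliffTau.tau_even_mul b L hL _ hu₀e, mul_assoc,
    Units.inv_mul, mul_one, hτ, smul_eq_mul, mul_one] at h1'
  refine ⟨u₀, hu₀e, fun v => ?_⟩
  have := hodd (ι Q v) (ι_mem_evenOdd_one Q v)
  rw [h1', one_smul, hC, map_apply_ι] at this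
  exact this.symm

end Main


end Part2

end Groth.Agent.Lib.Helper47.CliffOddSN
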