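import Mathlib
import Groth.Agent.Lib.Helper47.CliffGlob

/-!
# The Dickson condition is locally constant on the prime spectrum; determinant `-1` for isometries
which are not Dickson-trivial over a connected base

A homogeneous conjugating unit at a prime is spread out to a basic open neighbourhood
(`HasConj`, `exists_hasConj`, `exists_unit_of_hasConj`), so the locus where the Dickson condition
holds is open and closed.
-/

set_option autoImplicit false
set_option linter.unusedSectionVars false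
set_option linter.unusedVariables false
set_option linter.deprecated false

namespace Groth.Agent.Lib.Helper47.CliffOpen

section Part1


open CliffordAlgebra Helper25.Cliff Helper25.QuadMat Groth.Agent.Lib.Helper47.CliffLoc
open scoped TensorProduct

universe u v

section Loc

variable {R : Type u} [CommRing R] (P : Ideal R) [P.IsPrime]
  {N : Type*} [AddCommGroup N] [Module R N]

theorem isLocalizedModule_mk :
    IsLocalizedModule P.primeCompl (TensorProduct.mk R (Localization.AtPrime P) N 1) :=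
  (isLocalizedModule_iff_isBaseChange P.primeCompl (Localization.AtPrime P) _).mpr
    (TensorProduct.isBaseChange R N _)

/-- Clearing denominators in `R_P ⊗ N`. -/
theorem exists_smul_eq_one_tmul (t : Localization.AtPrime P ⊗[R] N) :
    ∃ s ∈ P.primeCompl, ∃ x : N, s • t = (1 : Localization.AtPrime P) ⊗ₜ[R] x := by
  haveI := isLocalizedModule_mk P (N := N)
  obtain ⟨⟨x, s⟩, h⟩ := IsLocalizedModule.surj P.primeCompl
    (TensorProduct.mk R (Localization.AtPrime P) N 1) t
  exact ⟨s.1, s.2, x, h⟩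

theorem exists_smul_eq_zero_of_tmul_eq_zero (x : N)
    (h : (1 : Localization.AtPrime P) ⊗ₜ[R] x = 0) : ∃ t ∈ P.primeCompl, t • x = 0 := by
  haveI := isLocalizedModule_mk P (N := N)
  obtain ⟨s, hs⟩ := (IsLocalizedModule.eq_zero_iff P.primeCompl
    (TensorProduct.mk R (Localization.AtPrime P) N 1)).mp h
  exact ⟨s.1, s.2, hs⟩

theorem exists_smul_eq_zero_of_tmul_eq_zero_family {ι : Type*} [Fintype ι] (x : ι → N)
    (h : ∀ i, (1 : Localization.AtPrime P) ⊗ₜ[R] x i = 0) :
    ∃ t ∈ P.primeCompl, ∀ i, t • x i = 0 := by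
  classical
  choose t ht htx using fun i => exists_smul_eq_zero_of_tmul_eq_zero P (x i) (h i)
  refine ⟨∏ i, t i, Submonoid.prod_mem _ fun i _ => ht i, fun i => ?_⟩
  rw [← Finset.prod_erase_mul _ _ (Finset.mem_univ i), mul_smul, htx, smul_zero]

theorem tmul_eq_zero_of_smul_eq_zero {S : Type*} [CommRing S] [Algebra R S] (t : R)
    (ht : IsUnit (algebraMap R S t)) (x : N) (h : t • x = 0) : (1 : S) ⊗ₜ[R] x = 0 := by
  obtain ⟨w, hw⟩ := ht.exists_left_inv
  have : (1 : S) ⊗ₜ[R] x = w • ((algebraMap R S t) ⊗ₜ[R] x) := by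
    rw [TensorProduct.smul_tmul', smul_eq_mul, hw]
  rw [this, Algebra.algebraMap_eq_smul_one, TensorProduct.smul_tmul, h, TensorProduct.tmul_zero,
    smul_zero]

end Loc


end Part1

section Part2


open CliffordAlgebra Helper25.Cliff Helper25.QuadMat Groth.Agent.Lib.Helper47.CliffLoc
open scoped TensorProduct

universe u v

section Par

variable {R : Type*} [CommRing R] {M : Type*} [AddCommGroup M] [Module R M]

theorem inv_mem_evenOdd (Q : QuadraticForm R M) (u : (CliffordAlgebra Q)ˣ) (ε : ZMod 2)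
    (hu : (u : CliffordAlgebra Q) ∈ evenOdd Q ε) : (↑u⁻¹ : CliffordAlgebra Q) ∈ evenOdd Q ε := by
  fin_cases ε
  · have := (QuadGrp.isLocHomog_inv_aux Q u 1 (by rwa [one_smul])
      (by rw [sub_self, zero_smul]; exact Submodule.zero_mem _)).1
    rwa [one_smul] at this
  · have := (QuadGrp.isLocHomog_inv_aux Q u 0 (by rw [zero_smul]; exact Submodule.zero_mem _)
      (by rw [sub_zero, one_smul]; exact hu)).2
    rwa [sub_zero, one_smul] at this

variable {S : Type*} [CommRing S] [Algebra R S] {Q : QuadraticForm R M}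
  {V' : Type*} [AddCommGroup V'] [Module S V'] {Q' : QuadraticForm S V'}
  (Ψ : (S ⊗[R] CliffordAlgebra Q) ≃ₐ[S] CliffordAlgebra Q')
  (hvec : ∀ v, Ψ ((1 : S) ⊗ₜ[R] ι Q v) ∈ LinearMap.range (ι Q'))

include hvec

theorem gr_tmul_of_mem (ε : ZMod 2) (s : S) (x : CliffordAlgebra Q) (hx : x ∈ evenOdd Q ε) :
    Ψ (s ⊗ₜ[R] x) ∈ evenOdd Q' ε := by
  fin_cases ε
  · exact gr_tmul_of_mem_even Ψ hvec s x hx
  · exact gr_tmul_of_mem_odd Ψ hvec s x hx

theorem gr_mem_range (ε : ZMod 2) (t : S ⊗[R] CliffordAlgebra Q) (ht : Ψ t ∈ evenOdd Q' ε) :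
    t ∈ LinearMap.range ((evenOdd Q ε).subtype.lTensor S) := by
  fin_cases ε
  · exact gr_mem_range_even Ψ hvec t ht
  · exact gr_mem_range_odd Ψ hvec t ht

end Par


end Part2

section Part3


open CliffordAlgebra Helper25.Cliff Helper25.QuadMat Groth.Agent.Lib.Helper47.CliffLoc
open scoped TensorProduct

universe u v

section Spread

variable {R : Type u} [CommRing R] {M : Type v} [AddCommGroup M] [Module R M]
  {n : Type*} [Fintype n] [DecidableEq n]
  (b : Module.Basis n R M) (Q : QuadraticForm R M) (g : M ≃ₗ[R] M)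

/-- Spread-out conjugation data over `R`: elements `c, c'` of parity `ε` which, after inverting `t`
and `d`, give a unit and (`d` times) its inverse conjugating `ι (b i)` to `ι (g (b i))`. -/
def HasConj (ε : ZMod 2) (t d : R) : Prop :=
  ∃ c c' : CliffordAlgebra Q, c ∈ evenOdd Q ε ∧ c' ∈ evenOdd Q ε ∧
    t • (c * c' - d • (1 : CliffordAlgebra Q)) = 0 ∧
    t • (c' * c - d • (1 : CliffordAlgebra Q)) = 0 ∧
    ∀ i, t • (c * ι Q (b i) * c' - d • ι Q (g (b i))) = 0

variable {S : Type*} [CommRing S] [Algebra R S]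

theorem one_tmul_smul (d : R) (y : CliffordAlgebra Q) :
    (1 : S) ⊗ₜ[R] (d • y) = (algebraMap R S d) • ((1 : S) ⊗ₜ[R] y) := by
  rw [TensorProduct.tmul_smul, algebra_compatible_smul S d]

theorem one_tmul_mul (x y : CliffordAlgebra Q) :
    (1 : S) ⊗ₜ[R] (x * y) = ((1 : S) ⊗ₜ[R] x) * ((1 : S) ⊗ₜ[R] y) := by
  rw [Algebra.TensorProduct.tmul_mul_tmul, one_mul]

theorem one_tmul_one : ((1 : S) ⊗ₜ[R] (1 : CliffordAlgebra Q)) = 1 := rfl

/-- Clearing denominators of an element of given parity. -/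
theorem exists_tmul_eq_smul (P : Ideal R) [P.IsPrime] (ε : ZMod 2)
    (y : CliffordAlgebra (QS b (Localization.AtPrime P) Q))
    (hy : y ∈ evenOdd (QS b (Localization.AtPrime P) Q) ε) :
    ∃ s ∈ P.primeCompl, ∃ x ∈ evenOdd Q ε,
      Psi b (Localization.AtPrime P) Q ((1 : Localization.AtPrime P) ⊗ₜ[R] x)
        = (algebraMap R (Localization.AtPrime P) s) • y := by
  set S := Localization.AtPrime P
  have hT : (Psi b S Q).symm y ∈ LinearMap.range ((evenOdd Q ε).subtype.lTensor S) :=
    gr_mem_range (Psi b S Q) (Psi_vec b S Q) ε _ (by rw [AlgEquiv.apply_symm_apply]; exact hy)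
  obtain ⟨w, hw⟩ := hT
  obtain ⟨s, hs, x, hx⟩ := exists_smul_eq_one_tmul P w
  refine ⟨s, hs, x.1, x.2, ?_⟩
  have h1 := congrArg ((evenOdd Q ε).subtype.lTensor S) hx
  rw [map_smul, hw, LinearMap.lTensor_tmul, Submodule.subtype_apply] at h1
  rw [← h1, algebra_compatible_smul S s, map_smul, AlgEquiv.apply_symm_apply]

end Spread


end Part3

section Part4


open CliffordAlgebra Helper25.Cliff Helper25.QuadMat Groth.Agent.Lib.Helper47.CliffLoc
open scoped TensorProduct

universe u v

section Spread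

variable {R : Type u} [CommRing R] {M : Type v} [AddCommGroup M] [Module R M]
  {n : Type*} [Fintype n] [DecidableEq n]
  (b : Module.Basis n R M) (Q : QuadraticForm R M) (g : M ≃ₗ[R] M)

/-- Spreading out a homogeneous conjugating unit at a prime. -/
theorem exists_hasConj (P : Ideal R) [P.IsPrime] (ε : ZMod 2)
    (u : (CliffordAlgebra (QS b (Localization.AtPrime P) Q))ˣ)
    (hu : (u : CliffordAlgebra (QS b (Localization.AtPrime P) Q))
      ∈ evenOdd (QS b (Localization.AtPrime P) Q) ε)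
    (hconj : ∀ y, (u : CliffordAlgebra (QS b (Localization.AtPrime P) Q))
      * ι (QS b (Localization.AtPrime P) Q) y * ↑u⁻¹
        = ι (QS b (Localization.AtPrime P) Q) (gS b (Localization.AtPrime P) g y)) :
    ∃ t ∈ P.primeCompl, ∃ d ∈ P.primeCompl, HasConj b Q g ε t d := by
  set S := Localization.AtPrime P with hS
  set Ψ := Psi b S Q with hΨ
  obtain ⟨s, hs, c, hc, hcΨ⟩ := exists_tmul_eq_smul b Q P ε _ hu
  obtain ⟨s', hs', c', hc', hcΨ'⟩ := exists_tmul_eq_smul b Q P ε _
    (inv_mem_evenOdd (QS b S Q) u ε hu)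
  have hd : s * s' ∈ P.primeCompl := P.primeCompl.mul_mem hs hs'
  have hφd : algebraMap R S (s * s') = algebraMap R S s * algebraMap R S s' := map_mul _ _ _
  -- the relations in `S ⊗ C(Q)`
  have r1 : (1 : S) ⊗ₜ[R] (c * c' - (s * s') • (1 : CliffordAlgebra Q)) = 0 := by
    apply Ψ.injective
    rw [map_zero, TensorProduct.tmul_sub, map_sub, one_tmul_mul, map_mul, one_tmul_smul, map_smul,
      one_tmul_one, map_one, hcΨ, hcΨ', smul_mul_smul_comm, Units.mul_inv, hφd, sub_self]
  have r2 : (1 : S) ⊗ₜ[R] (c' * c - (s * s') • (1 : CliffordAlgebra Q)) = 0 := by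
    apply Ψ.injective
    rw [map_zero, TensorProduct.tmul_sub, map_sub, one_tmul_mul, map_mul, one_tmul_smul, map_smul,
      one_tmul_one, map_one, hcΨ, hcΨ', smul_mul_smul_comm, Units.inv_mul, hφd, mul_comm,
      sub_self]
  have r3 : ∀ i, (1 : S) ⊗ₜ[R] (c * ι Q (b i) * c' - (s * s') • ι Q (g (b i))) = 0 := by
    intro i
    apply Ψ.injective
    rw [map_zero, TensorProduct.tmul_sub, map_sub, one_tmul_mul, one_tmul_mul, map_mul, map_mul,
      one_tmul_smul, map_smul, hcΨ, hcΨ', Psi_ι, Psi_ι, smul_mul_assoc, smul_mul_smul_comm,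
      hconj, gS_cvec, hφd, sub_self]
  obtain ⟨t1, ht1, h1⟩ := exists_smul_eq_zero_of_tmul_eq_zero P _ r1
  obtain ⟨t2, ht2, h2⟩ := exists_smul_eq_zero_of_tmul_eq_zero P _ r2
  obtain ⟨t3, ht3, h3⟩ := exists_smul_eq_zero_of_tmul_eq_zero_family P _ r3
  refine ⟨t1 * t2 * t3, P.primeCompl.mul_mem (P.primeCompl.mul_mem ht1 ht2) ht3, s * s', hd,
    c, c', hc, hc', ?_, ?_, fun i => ?_⟩
  · rw [mul_comm (t1 * t2), mul_comm t1, mul_smul, mul_smul, h1, smul_zero, smul_zero]
  · rw [mul_comm (t1 * t2), mul_smul, mul_smul, h2, smul_zero, smul_zero]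
  · rw [mul_smul, h3, smul_zero]

end Spread


end Part4

section Part5


open CliffordAlgebra Helper25.Cliff Helper25.QuadMat Groth.Agent.Lib.Helper47.CliffLoc
open scoped TensorProduct

universe u v

section Spread

variable {R : Type u} [CommRing R] {M : Type v} [AddCommGroup M] [Module R M]
  {n : Type*} [Fintype n] [DecidableEq n]
  (b : Module.Basis n R M) (Q : QuadraticForm R M) (g : M ≃ₗ[R] M)

/-- Spread-out conjugation data give a homogeneous conjugating unit wherever `t` and `d` become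
invertible. -/
theorem exists_unit_of_hasConj (S : Type*) [CommRing S] [Algebra R S] (ε : ZMod 2) (t d : R)
    (h : HasConj b Q g ε t d) (ht : IsUnit (algebraMap R S t)) (hd : IsUnit (algebraMap R S d)) :
    ∃ u : (CliffordAlgebra (QS b S Q))ˣ,
      (u : CliffordAlgebra (QS b S Q)) ∈ evenOdd (QS b S Q) ε ∧
      ∀ y, (u : CliffordAlgebra (QS b S Q)) * ι (QS b S Q) y * ↑u⁻¹
        = ι (QS b S Q) (gS b S g y) := by
  obtain ⟨c, c', hc, hc', h1, h2, h3⟩ := h
  set Ψ := Psi b S Q with hΨ
  obtain ⟨e, he⟩ := hd.exists_left_inv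
  have r1 := tmul_eq_zero_of_smul_eq_zero (S := S) t ht _ h1
  have r2 := tmul_eq_zero_of_smul_eq_zero (S := S) t ht _ h2
  have r3 := fun i => tmul_eq_zero_of_smul_eq_zero (S := S) t ht _ (h3 i)
  have q1 : Ψ ((1 : S) ⊗ₜ[R] c) * Ψ ((1 : S) ⊗ₜ[R] c') = algebraMap R S d • 1 := by
    have := congrArg Ψ r1
    rw [map_zero, TensorProduct.tmul_sub, map_sub, one_tmul_mul, map_mul, one_tmul_smul, map_smul,
      one_tmul_one, map_one, sub_eq_zero] at this
    exact this
  have q2 : Ψ ((1 : S) ⊗ₜ[R] c') * Ψ ((1 : S) ⊗ₜ[R] c) = algebraMap R S d • 1 := by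
    have := congrArg Ψ r2
    rw [map_zero, TensorProduct.tmul_sub, map_sub, one_tmul_mul, map_mul, one_tmul_smul, map_smul,
      one_tmul_one, map_one, sub_eq_zero] at this
    exact this
  have q3 : ∀ i, Ψ ((1 : S) ⊗ₜ[R] c) * ι (QS b S Q) (cvec b S (b i)) * Ψ ((1 : S) ⊗ₜ[R] c')
      = algebraMap R S d • ι (QS b S Q) (cvec b S (g (b i))) := by
    intro i
    have := congrArg Ψ (r3 i)
    rw [map_zero, TensorProduct.tmul_sub, map_sub, one_tmul_mul, one_tmul_mul, map_mul, map_mul,
      one_tmul_smul, map_smul, Psi_ι, Psi_ι, sub_eq_zero] at this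
    exact this
  let U : (CliffordAlgebra (QS b S Q))ˣ :=
    { val := Ψ ((1 : S) ⊗ₜ[R] c)
      inv := e • Ψ ((1 : S) ⊗ₜ[R] c')
      val_inv := by rw [mul_smul_comm, q1, smul_smul, he, one_smul]
      inv_val := by rw [smul_mul_assoc, q2, smul_smul, he, one_smul] }
  have hUval : (U : CliffordAlgebra (QS b S Q)) = Ψ ((1 : S) ⊗ₜ[R] c) := rfl
  have hUinv : (↑U⁻¹ : CliffordAlgebra (QS b S Q)) = e • Ψ ((1 : S) ⊗ₜ[R] c') := rfl
  refine ⟨U, gr_tmul_of_mem Ψ (Psi_vec b S Q) ε 1 c hc, fun y => ?_⟩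
  have hlin : (LinearMap.mulRight S (↑U⁻¹ : CliffordAlgebra (QS b S Q))) ∘ₗ
      (LinearMap.mulLeft S (U : CliffordAlgebra (QS b S Q))) ∘ₗ ι (QS b S Q)
      = ι (QS b S Q) ∘ₗ (gS b S g : (n → S) →ₗ[S] (n → S)) := by
    refine (Pi.basisFun S n).ext fun i => ?_
    simp only [LinearMap.coe_comp, Function.comp_apply, LinearMap.mulLeft_apply,
      LinearMap.mulRight_apply, Pi.basisFun_apply, LinearEquiv.coe_coe]
    rw [← cvec_basis b S i, hUval, hUinv, mul_smul_comm, q3, smul_smul, he, one_smul, gS_cvec]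
  have := LinearMap.congr_fun hlin y
  simpa only [LinearMap.coe_comp, Function.comp_apply, LinearMap.mulLeft_apply,
    LinearMap.mulRight_apply, LinearEquiv.coe_coe] using this

end Spread


end Part5

section Part6


open CliffordAlgebra Helper25.Cliff Helper25.QuadMat Groth.Agent.Lib.Helper47.CliffLoc
open scoped TensorProduct

universe u v

section Char

variable {R : Type u} [CommRing R] {M : Type v} [AddCommGroup M] [Module R M]

/-- The Dickson condition in terms of the parity of a homogeneous conjugating unit. -/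
theorem isDicksonTrivial_iff_of_conj [Module.Free R M] [Module.Finite R M] (m : ℕ)
    (hm : 1 ≤ m) (hM : Module.finrank R M = 2 * m) (Q : QuadraticForm R M)
    (hQ : Function.Surjective (QuadraticMap.polarBilin Q)) (g : M ≃ₗ[R] M)
    (hg : g ∈ QuadGrp.O Q) (u : (CliffordAlgebra Q)ˣ) (ε : ZMod 2)
    (hu : (u : CliffordAlgebra Q) ∈ evenOdd Q ε)
    (hconj : ∀ w, (u : CliffordAlgebra Q) * ι Q w * ↑u⁻¹ = ι Q (g w)) :
    QuadGrp.IsDicksonTrivial Q g hg ↔ ε = 0 := by
  obtain ⟨-, hcen, hcz⟩ := clifford_even_rank_structure R M m hm hM Q hQ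
  haveI : Nontrivial R := nontrivial_of_finrank_eq_two_mul m hM
  have hinj := algebraMap_injective Q
  haveI : Nontrivial (CliffordAlgebra Q) := hinj.nontrivial
  have hmap := map_eq_conj Q u g hg hconj
  constructor
  · intro hD
    have he := even_of_isDicksonTrivial Q hcz u g hg hmap hD
    by_contra hε
    have h1 : ε = 1 := by
      fin_cases ε
      · exact absurd rfl hε
      · rfl
    rw [h1] at hu
    exact u.ne_zero (eq_zero_of_mem_even_of_mem_odd Q he hu)
  · rintro rfl
    exact isDicksonTrivial_of_even Q u g hg hmap hu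

end Char

section Open

variable {R : Type u} [CommRing R] {M : Type v} [AddCommGroup M] [Module R M]
  [Module.Free R M] [Module.Finite R M] (m : ℕ) (hm : 1 ≤ m)
  (b : Module.Basis (Fin (2 * m)) R M) (Q : QuadraticForm R M)
  (hQ : Function.Surjective (QuadraticMap.polarBilin Q)) (g : M ≃ₗ[R] M) (hg : g ∈ QuadGrp.O Q)

/-- The Dickson condition at a prime. -/
def DTAt (p : PrimeSpectrum R) : Prop :=
  QuadGrp.IsDicksonTrivial (QS b (Localization.AtPrime p.asIdeal) Q)
    (gS b (Localization.AtPrime p.asIdeal) g) (gS_mem_O b (Localization.AtPrime p.asIdeal) Q g hg)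

include hm hQ in
/-- The Dickson condition at a prime is locally constant on the prime spectrum. -/
theorem exists_basicOpen_DTAt_iff (p : PrimeSpectrum R) :
    ∃ f : R, p ∈ PrimeSpectrum.basicOpen f ∧
      ∀ q ∈ PrimeSpectrum.basicOpen f, (DTAt m b Q g hg q ↔ DTAt m b Q g hg p) := by
  obtain ⟨u, hmap, hconj, h⟩ := exists_homog_unit_of_local
    (R := Localization.AtPrime p.asIdeal) (M := Fin (2 * m) → Localization.AtPrime p.asIdeal)
    m hm (finrank_pi _ m) (QS b _ Q) (polarBilin_QS_surjective b _ Q hQ) (gS b _ g)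
    (gS_mem_O b _ Q g hg)
  -- the parity at `p`
  obtain ⟨ε, hε, hεD⟩ : ∃ ε : ZMod 2,
      (u : CliffordAlgebra (QS b (Localization.AtPrime p.asIdeal) Q))
        ∈ evenOdd (QS b (Localization.AtPrime p.asIdeal) Q) ε ∧
      (DTAt m b Q g hg p ↔ ε = 0) := by
    rcases h with ⟨he, hD⟩ | ⟨ho, hD⟩
    · exact ⟨0, he, ⟨fun _ => rfl, fun _ => hD⟩⟩
    · exact ⟨1, ho, ⟨fun h => absurd h hD, fun h => absurd h (by decide)⟩⟩
  obtain ⟨t, ht, d, hd, hcd⟩ := exists_hasConj b Q g p.asIdeal ε u hε hconj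
  refine ⟨t * d, ?_, fun q hq => ?_⟩
  · rw [PrimeSpectrum.mem_basicOpen]
    exact p.asIdeal.primeCompl.mul_mem ht hd
  · rw [PrimeSpectrum.mem_basicOpen] at hq
    have htq : t ∈ q.asIdeal.primeCompl := fun h => hq (q.asIdeal.mul_mem_right _ h)
    have hdq : d ∈ q.asIdeal.primeCompl := fun h => hq (q.asIdeal.mul_mem_left _ h)
    obtain ⟨uq, huq, hconjq⟩ := exists_unit_of_hasConj b Q g (Localization.AtPrime q.asIdeal) ε t d
      hcd (IsLocalization.map_units _ (⟨t, htq⟩ : q.asIdeal.primeCompl))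
      (IsLocalization.map_units _ (⟨d, hdq⟩ : q.asIdeal.primeCompl))
    have := isDicksonTrivial_iff_of_conj (R := Localization.AtPrime q.asIdeal)
      (M := Fin (2 * m) → Localization.AtPrime q.asIdeal) m hm (finrank_pi _ m) (QS b _ Q)
      (polarBilin_QS_surjective b _ Q hQ) (gS b _ g) (gS_mem_O b _ Q g hg) uq ε huq hconjq
    exact this.trans hεD.symm

end Open


end Part6

section Part7


open CliffordAlgebra Helper25.Cliff Helper25.QuadMat Groth.Agent.Lib.Helper47.CliffLoc
open scoped TensorProduct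

universe u v

section Final

variable {R : Type u} [CommRing R] {M : Type v} [AddCommGroup M] [Module R M]
  [Module.Free R M] [Module.Finite R M]

/-- Over a ring with connected spectrum, an isometry of a regular form of even rank which is not
Dickson-trivial has determinant `-1`. -/
theorem det_eq_neg_one_of_not_isDicksonTrivial (hc : ConnectedSpace (PrimeSpectrum R)) (m : ℕ)
    (hm : 1 ≤ m) (hM : Module.finrank R M = 2 * m) (Q : QuadraticForm R M)
    (hQ : Function.Surjective (QuadraticMap.polarBilin Q)) (g : M ≃ₗ[R] M)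
    (hg : g ∈ QuadGrp.O Q) (hD : ¬ QuadGrp.IsDicksonTrivial Q g hg) :
    LinearEquiv.det g = -1 := by
  haveI : Nontrivial R := nontrivial_of_finrank_eq_two_mul m hM
  let b : Module.Basis (Fin (2 * m)) R M := Module.finBasisOfFinrankEq R M hM
  set U : Set (PrimeSpectrum R) := {p | DTAt m b Q g hg p} with hU
  have hopen : IsOpen U := by
    rw [isOpen_iff_forall_mem_open]
    intro p hp
    obtain ⟨f, hpf, hf⟩ := exists_basicOpen_DTAt_iff m hm b Q hQ g hg p
    exact ⟨PrimeSpectrum.basicOpen f, fun q hq => (hf q hq).mpr hp,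
      (PrimeSpectrum.basicOpen f).isOpen, hpf⟩
  have hopen' : IsOpen Uᶜ := by
    rw [isOpen_iff_forall_mem_open]
    intro p hp
    obtain ⟨f, hpf, hf⟩ := exists_basicOpen_DTAt_iff m hm b Q hQ g hg p
    exact ⟨PrimeSpectrum.basicOpen f, fun q hq hq' => hp ((hf q hq).mp hq'),
      (PrimeSpectrum.basicOpen f).isOpen, hpf⟩
  have hclopen : IsClopen U := ⟨isOpen_compl_iff.mp hopen', hopen⟩
  rcases isClopen_iff.mp hclopen with hempty | huniv
  · apply Units.ext
    rw [Units.val_neg, Units.val_one, ← sub_eq_zero, sub_neg_eq_add]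
    refine eq_zero_of_localization _ fun J hJ => ?_
    have hnot : ¬ DTAt m b Q g hg ⟨J, hJ.isPrime⟩ := by
      intro h
      have : (⟨J, hJ.isPrime⟩ : PrimeSpectrum R) ∈ U := h
      rw [hempty] at this
      exact this
    have h1 := (det_of_local (R := Localization.AtPrime J)
      (M := Fin (2 * m) → Localization.AtPrime J) m hm (finrank_pi _ m) (QS b _ Q)
      (polarBilin_QS_surjective b _ Q hQ) (gS b _ g) (gS_mem_O b _ Q g hg)).2 hnot
    have h2 := det_gS b (Localization.AtPrime J) g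
    rw [h1, Units.val_neg, Units.val_one] at h2
    rw [map_add, map_one, ← h2, neg_add_cancel]
  · exfalso
    apply hD
    refine CliffGlob.isDicksonTrivial_of_local b Q g hg fun J hJ => ?_
    have : (⟨J, hJ.isPrime⟩ : PrimeSpectrum R) ∈ U := by rw [huniv]; trivial
    exact this

end Final


end Part7

end Groth.Agent.Lib.Helper47.CliffOpen
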