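import Mathlib

/-!
# Identifying the completion of a local ring through its truncations
-/

set_option autoImplicit false
universe u

open IsLocalRing

namespace Groth.Agent.Lib.Helper47.ComplLocalIso

variable {k : Type*} [CommRing k] {O C : Type*} [CommRing O] [IsLocalRing O] [Algebra k O]
  [CommRing C] [IsLocalRing C] [Algebra k C]

theorem factor_evalₐ {R : Type*} [CommRing R] (I : Ideal R) {m n : ℕ} (hmn : m ≤ n)
    (z : AdicCompletion I R) :
    Ideal.Quotient.factor (Ideal.pow_le_pow_right hmn) (AdicCompletion.evalₐ I n z) =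
      AdicCompletion.evalₐ I m z := by
  obtain ⟨z, rfl⟩ := AdicCompletion.mk_surjective _ _ z
  rw [AdicCompletion.evalₐ_mk, AdicCompletion.evalₐ_mk, Ideal.Quotient.factor_mk,
    Ideal.Quotient.eq]
  have := z.property hmn
  rw [SModEq.sub_mem, smul_eq_mul, Ideal.mul_top] at this
  have h5 := neg_mem this
  rwa [neg_sub] at h5

theorem eq_of_forall_mk_eq [IsHausdorff (maximalIdeal C) C] (x y : C)
    (h : ∀ n, Ideal.Quotient.mk (maximalIdeal C ^ n) x = Ideal.Quotient.mk (maximalIdeal C ^ n) y) :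
    x = y := by
  rw [← sub_eq_zero]
  apply IsHausdorff.haus (inferInstance : IsHausdorff (maximalIdeal C) C)
  intro n
  rw [SModEq.sub_mem, sub_zero, smul_eq_mul, Ideal.mul_top]
  exact Ideal.Quotient.eq.mp (h n)

/-- A local map to a complete local ring inducing isomorphisms on all truncations identifies the
target with the completion of the source. -/
theorem nonempty_algEquiv [IsAdicComplete (maximalIdeal C) C] (φ : O →ₐ[k] C)
    (h1 : ∀ o ∈ maximalIdeal O, φ o ∈ maximalIdeal C)
    (h2 : ∀ (n : ℕ) (o : O), φ o ∈ maximalIdeal C ^ n → o ∈ maximalIdeal O ^ n)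
    (h3 : ∀ (n : ℕ) (c : C), ∃ o : O, c - φ o ∈ maximalIdeal C ^ n) :
    Nonempty (AdicCompletion (maximalIdeal O) O ≃ₐ[k] C) := by
  set m := maximalIdeal O with hm
  set 𝔐 := maximalIdeal C with h𝔐
  have hle : ∀ n : ℕ, m ^ n ≤ (𝔐 ^ n).comap (φ : O →+* C) := by
    intro n
    rw [← Ideal.map_le_iff_le_comap, Ideal.map_pow]
    apply Ideal.pow_right_mono
    rw [Ideal.map_le_iff_le_comap]
    exact fun o ho => h1 o ho
  let f : (n : ℕ) → AdicCompletion m O →+* C ⧸ 𝔐 ^ n := fun n =>
    (Ideal.quotientMap (𝔐 ^ n) (φ : O →+* C) (hle n)).comp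
      (AdicCompletion.evalₐ m n : AdicCompletion m O →+* O ⧸ m ^ n)
  have hfmk : ∀ (n : ℕ) (z : AdicCompletion m O) (a : O),
      AdicCompletion.evalₐ m n z = Ideal.Quotient.mk _ a → f n z = Ideal.Quotient.mk _ (φ a) := by
    intro n z a ha
    change Ideal.quotientMap (𝔐 ^ n) (φ : O →+* C) (hle n) (AdicCompletion.evalₐ m n z) = _
    rw [ha, Ideal.quotientMap_mk]
    rfl
  have hf : ∀ {a b : ℕ} (hab : a ≤ b),
      (Ideal.Quotient.factorPow 𝔐 hab).comp (f b) = f a := by
    intro a b hab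
    ext z
    obtain ⟨o, ho⟩ := Ideal.Quotient.mk_surjective (AdicCompletion.evalₐ m b z)
    have ho' : AdicCompletion.evalₐ m a z = Ideal.Quotient.mk _ o := by
      rw [← factor_evalₐ m hab z, ← ho, Ideal.Quotient.factor_mk]
    rw [RingHom.comp_apply, hfmk b z o ho.symm, hfmk a z o ho']
    rfl
  let Ψ : AdicCompletion m O →+* C := IsAdicComplete.liftRingHom 𝔐 f hf
  have hΨ : ∀ n z, Ideal.Quotient.mk (𝔐 ^ n) (Ψ z) = f n z :=
    fun n z => IsAdicComplete.mk_liftRingHom 𝔐 f hf n z
  have hinj : Function.Injective Ψ := by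
    rw [injective_iff_map_eq_zero]
    intro z hz
    refine AdicCompletion.ext_evalₐ fun n => ?_
    obtain ⟨o, ho⟩ := Ideal.Quotient.mk_surjective (AdicCompletion.evalₐ m n z)
    have h4 := hΨ n z
    rw [hz, map_zero, hfmk n z o ho.symm] at h4
    have h5 : o ∈ m ^ n := h2 n o (Ideal.Quotient.eq_zero_iff_mem.mp h4.symm)
    rw [← ho, map_zero]
    exact Ideal.Quotient.eq_zero_iff_mem.mpr h5
  have hsurj : Function.Surjective Ψ := by
    intro c
    choose a ha using fun n => h3 n c
    have hcauchy : ∀ n, a n ≡ a (n + 1) [SMOD (m ^ n • ⊤ : Submodule O O)] := by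
      intro n
      rw [SModEq.sub_mem, smul_eq_mul, Ideal.mul_top]
      apply h2 n
      have h6 : φ (a n - a (n + 1)) = (c - φ (a (n + 1))) - (c - φ (a n)) := by
        rw [map_sub]; ring
      rw [h6]
      exact Ideal.sub_mem _ (Ideal.pow_le_pow_right (Nat.le_succ n) (ha (n + 1))) (ha n)
    let z : AdicCompletion m O :=
      AdicCompletion.mk _ O (AdicCompletion.AdicCauchySequence.mk _ O a hcauchy)
    refine ⟨z, eq_of_forall_mk_eq _ _ fun n => ?_⟩
    have h6 : AdicCompletion.evalₐ m n z = Ideal.Quotient.mk _ (a n) := by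
      rw [AdicCompletion.evalₐ_mk]; rfl
    rw [hΨ n z, hfmk n z (a n) h6, Ideal.Quotient.eq]
    have := ha n
    rw [← neg_sub] 
    exact neg_mem this
  have hof : ∀ o : O, Ψ (AdicCompletion.of m O o) = φ o := by
    intro o
    refine eq_of_forall_mk_eq _ _ fun n => ?_
    rw [hΨ n, hfmk n _ o (AdicCompletion.evalₐ_of m n o)]
  refine ⟨AlgEquiv.ofRingEquiv (f := RingEquiv.ofBijective Ψ ⟨hinj, hsurj⟩) ?_⟩
  intro c
  change Ψ (algebraMap k (AdicCompletion m O) c) = _
  rw [AdicCompletion.algebraMap_apply, hof, AlgHom.commutes]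

end Groth.Agent.Lib.Helper47.ComplLocalIso
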