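import Groth.Agent.S0300
import Groth.Agent.Lib.Helper2.InjHullLocal
import Mathlib.RingTheory.MvPowerSeries.Equiv
import Mathlib.RingTheory.MvPowerSeries.Inverse
import Mathlib.LinearAlgebra.Basis.VectorSpace
import Mathlib.RingTheory.Derivation.Basic

/-!
# Power-torsion modules with derivation operators over `k[[x_1,…,x_d]]` (helper47)

Support library for S1732: an `𝔪`-power torsion module over `k[[x_1,…,x_d]]` (char. 0) equipped with
additive operators `D_i` satisfying the Leibniz rule w.r.t. `∂/∂x_i` is a direct sum of copies of the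
injective hull `E` of the residue field.
-/

set_option autoImplicit false
universe u

namespace Groth.Agent.Lib.Helper47.DModE
open InjHull

section Abstract

variable {A : Type u} [CommRing A] [IsLocalRing A]
  {E : Type u} [AddCommGroup E] [Module A E]
  {e : IsLocalRing.ResidueField A →ₗ[A] E}

/-- The socle of an essential extension of the residue field is the residue field. -/
lemma mem_range_of_socle (he : IsEssentialInj e) (x : E)
    (hx : ∀ a ∈ IsLocalRing.maximalIdeal A, a • x = 0) : x ∈ LinearMap.range e := by
  by_cases h0 : x = 0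
  · rw [h0]; exact zero_mem _
  · obtain ⟨r, hr0, c, hc⟩ := ((Groth.Agent.Lib.Helper2.isEssentialInj_iff e).mp he).2 x h0
    have hr : IsUnit r := by
      by_contra hr
      exact hr0 (hx r ((IsLocalRing.mem_maximalIdeal r).mpr hr))
    obtain ⟨u, rfl⟩ := hr
    refine ⟨(↑u⁻¹ : A) • c, ?_⟩
    rw [map_smul, hc, ← mul_smul, Units.inv_mul, one_smul]

/-- Finitely supported families in `E` killed by `𝔪` come from families in the residue field. -/
lemma exists_mapRange_eq (he : IsEssentialInj e) {J : Type u} (v : J →₀ E)
    (hv : ∀ a ∈ IsLocalRing.maximalIdeal A, a • v = 0) :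
    ∃ c : J →₀ IsLocalRing.ResidueField A, Finsupp.mapRange.linearMap e c = v := by
  classical
  have hmem : ∀ j, v j ∈ LinearMap.range e := fun j =>
    mem_range_of_socle he (v j) fun a ha => by
      have := DFunLike.congr_fun (hv a ha) j
      simpa using this
  let g : E → IsLocalRing.ResidueField A := fun x =>
    if h : ∃ c, e c = x then h.choose else 0
  have hg : ∀ x, x ∈ LinearMap.range e → e (g x) = x := by
    rintro x ⟨c, hc⟩
    have h : ∃ c, e c = x := ⟨c, hc⟩
    simp only [g, dif_pos h]
    exact h.choose_spec
  have hg0 : g 0 = 0 := by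
    apply he.injective
    rw [hg 0 (zero_mem _), map_zero]
  refine ⟨v.mapRange g hg0, ?_⟩
  ext j
  simp only [Finsupp.mapRange.linearMap_apply, Finsupp.mapRange_apply]
  exact hg _ (hmem j)

/-- Over a Noetherian ring, `J →₀ E` is injective when `E` is. -/
lemma injective_finsupp {R : Type u} [CommRing R] [IsNoetherianRing R] {E' : Type u} [AddCommGroup E']
    [Module R E'] (hE : Module.Injective R E') (J : Type u) : Module.Injective R (J →₀ E') := by
  classical
  have h1 : Module.Injective R (DirectSum J (fun _ => E')) :=
    Groth.Agent.S0300.result R (fun _ : J => E') (fun _ => hE)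
  have h2 : Module.Baer R (DirectSum J fun _ => E') := Module.Baer.of_injective h1
  exact (Module.Baer.of_equiv (finsuppLEquivDirectSum R E' J).symm h2).injective

/-- The socle of a module over a local ring as a vector space over the residue field. -/
@[instance_reducible] noncomputable def socleModule (M : Type u) [AddCommGroup M] [Module A M] :
    Module (IsLocalRing.ResidueField A)
      (Submodule.torsionBySet A M (IsLocalRing.maximalIdeal A : Set A)) :=
  inferInstanceAs (Module (A ⧸ IsLocalRing.maximalIdeal A)
      (Submodule.torsionBySet A M (IsLocalRing.maximalIdeal A : Set A)))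

/-- A power-torsion module over a Noetherian local ring embeds in a direct sum of copies of the injective
hull of the residue field, inducing a bijection on socles. -/
theorem exists_embedding [IsNoetherianRing A] (he : IsInjectiveHull e) (M : Type u) [AddCommGroup M]
    [Module A M] (hM : LocCoh.IsPowerTorsion (IsLocalRing.maximalIdeal A) M) :
    ∃ (J : Type u) (φ : M →ₗ[A] (J →₀ E)), Function.Injective φ ∧
      ∀ v : J →₀ E, (∀ a ∈ IsLocalRing.maximalIdeal A, a • v = 0) → v ∈ LinearMap.range φ := by
  classical
  let V : Submodule A M := Submodule.torsionBySet A M (IsLocalRing.maximalIdeal A : Set A)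
  letI : Module (IsLocalRing.ResidueField A) V := socleModule M
  let J : Type u := ↥(Module.Basis.ofVectorSpaceIndex (IsLocalRing.ResidueField A) V)
  let b : Module.Basis J (IsLocalRing.ResidueField A) V :=
    Module.Basis.ofVectorSpace (IsLocalRing.ResidueField A) V
  let ψ₁ : V →ₗ[A] (J →₀ IsLocalRing.ResidueField A) :=
    { toFun := fun z => b.repr z
      map_add' := fun x y => map_add _ x y
      map_smul' := fun a z => by
        have h1 : a • z = (IsLocalRing.residue A a) • z := rfl
        rw [h1, map_smul]
        ext j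
        simp only [Finsupp.smul_apply, RingHom.id_apply]
        rw [smul_eq_mul, Algebra.smul_def (R := A), IsLocalRing.ResidueField.algebraMap_eq] }
  have hψ₁ : Function.Injective ψ₁ := fun x y h => b.repr.injective h
  let ψ : V →ₗ[A] (J →₀ E) := (Finsupp.mapRange.linearMap e) ∘ₗ ψ₁
  have hψ : Function.Injective ψ := by
    intro x y h
    apply hψ₁
    exact Finsupp.mapRange_injective e (map_zero e) he.injective h
  have hN : Module.Injective A (J →₀ E) := injective_finsupp he.isInjective J
  obtain ⟨φ, hφ⟩ := Module.Injective.extension_property A (J →₀ E) V M V.subtype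
    V.subtype_injective ψ
  have hφ' : ∀ z : V, φ z = ψ z := fun z => LinearMap.congr_fun hφ z
  refine ⟨J, φ, ?_, ?_⟩
  · rw [injective_iff_map_eq_zero]
    intro z hz
    by_contra hz0
    obtain ⟨r, hr0, hr⟩ := Groth.Agent.Lib.Helper2.exists_smul_mem_torsionBy_of_isPowerTorsion
      (IsLocalRing.maximalIdeal A) hM z hz0
    have h1 : φ (r • z) = 0 := by rw [map_smul, hz, smul_zero]
    have h2 : ψ ⟨r • z, hr⟩ = 0 := by rw [← hφ' ⟨r • z, hr⟩]; exact h1
    have h3 : (⟨r • z, hr⟩ : V) = 0 := hψ (h2.trans (map_zero ψ).symm)
    exact hr0 (congrArg Subtype.val h3)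
  · intro v hv
    obtain ⟨c, hc⟩ := exists_mapRange_eq he.toIsEssentialInj v hv
    refine ⟨(b.repr.symm c : V), ?_⟩
    rw [hφ']
    show Finsupp.mapRange.linearMap e (b.repr (b.repr.symm c)) = v
    rw [LinearEquiv.apply_symm_apply, hc]

end Abstract

section PowerSeries

variable {σ : Type*} {k : Type*} [Field k]

/-- A power series all of whose monomials involve a variable from `S` lies in the ideal generated by
those variables. -/
lemma mem_span_X_of_coeff [DecidableEq σ] (S : Finset σ) :
    ∀ f : MvPowerSeries σ k, (∀ m : σ →₀ ℕ, (∀ s ∈ S, m s = 0) → MvPowerSeries.coeff m f = 0) →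
      f ∈ Ideal.span ((fun s => (MvPowerSeries.X s : MvPowerSeries σ k)) '' (S : Set σ)) := by
  classical
  induction S using Finset.induction_on with
  | empty =>
    intro f hf
    have : f = 0 := by
      ext m
      rw [hf m (fun s hs => absurd hs (Finset.notMem_empty s)), map_zero]
    rw [this]; exact zero_mem _
  | insert s S hs ih =>
    intro f hf
    let g : MvPowerSeries σ k := fun m => if m s = 0 then 0 else MvPowerSeries.coeff m f
    have hg : ∀ m, MvPowerSeries.coeff m g = if m s = 0 then 0 else MvPowerSeries.coeff m f :=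
      fun m => MvPowerSeries.coeff_apply g m
    have hdvd : (MvPowerSeries.X s : MvPowerSeries σ k) ∣ g := by
      rw [MvPowerSeries.X_dvd_iff]
      intro m hm
      rw [hg, if_pos hm]
    have h1 : g ∈ Ideal.span ((fun s => (MvPowerSeries.X s : MvPowerSeries σ k)) ''
        ((insert s S : Finset σ) : Set σ)) := by
      obtain ⟨c, hc⟩ := hdvd
      rw [hc, mul_comm]
      refine Ideal.mul_mem_left _ _ (Ideal.subset_span ⟨s, ?_, rfl⟩)
      simp
    have h2 : f - g ∈ Ideal.span ((fun s => (MvPowerSeries.X s : MvPowerSeries σ k)) ''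
        ((insert s S : Finset σ) : Set σ)) := by
      refine Ideal.span_mono (Set.image_mono ?_) (ih (f - g) ?_)
      · intro t ht
        simp only [Finset.coe_insert]
        exact Set.mem_insert_of_mem _ ht
      · intro m hm
        rw [map_sub, hg]
        by_cases hms : m s = 0
        · rw [if_pos hms, sub_zero]
          apply hf
          intro t ht
          rcases Finset.mem_insert.mp ht with rfl | ht
          · exact hms
          · exact hm t ht
        · rw [if_neg hms, sub_self]
    have : f = g + (f - g) := by ring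
    rw [this]
    exact add_mem h1 h2

/-- The maximal ideal of `k[[x_1,…,x_d]]` is generated by the variables. -/
lemma maximalIdeal_le_span_X [Fintype σ] :
    IsLocalRing.maximalIdeal (MvPowerSeries σ k) ≤
      Ideal.span (Set.range fun s => (MvPowerSeries.X s : MvPowerSeries σ k)) := by
  classical
  intro f hf
  have h0 : MvPowerSeries.constantCoeff f = 0 := by
    by_contra h
    exact (IsLocalRing.mem_maximalIdeal f).mp hf
      (MvPowerSeries.isUnit_iff_constantCoeff.mpr (IsUnit.mk0 _ h))
  have := mem_span_X_of_coeff (Finset.univ : Finset σ) f (fun m hm => by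
    have hm0 : m = 0 := by
      ext s; exact hm s (Finset.mem_univ s)
    rw [hm0, MvPowerSeries.coeff_zero_eq_constantCoeff_apply, h0])
  refine Ideal.span_mono ?_ this
  rintro _ ⟨s, _, rfl⟩
  exact ⟨s, rfl⟩

lemma X_mem_maximalIdeal (s : σ) :
    (MvPowerSeries.X s : MvPowerSeries σ k) ∈ IsLocalRing.maximalIdeal (MvPowerSeries σ k) := by
  classical
  rw [IsLocalRing.mem_maximalIdeal]
  intro h
  have := MvPowerSeries.isUnit_iff_constantCoeff.mp h
  rw [MvPowerSeries.constantCoeff_X] at this
  exact not_isUnit_zero this

/-- The submodule of elements killed by the variables in `T`. -/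
def killedBy (M : Type*) [AddCommGroup M] [Module (MvPowerSeries σ k) M] (T : Set σ) :
    Submodule (MvPowerSeries σ k) M where
  carrier := {z | ∀ j ∈ T, (MvPowerSeries.X j : MvPowerSeries σ k) • z = 0}
  add_mem' := fun {a b} ha hb j hj => by rw [smul_add, ha j hj, hb j hj, add_zero]
  zero_mem' := fun j _ => smul_zero _
  smul_mem' := fun c z hz j hj => by rw [smul_comm, hz j hj, smul_zero]

end PowerSeries

section Divisible

variable {A : Type*} [CommRing A] {M : Type*} [AddCommGroup M] [Module A M]

/-- Divisibility by `x` of `x`-power torsion elements in the presence of an operator `D` with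
`D (f z) = θ(f) z + f D(z)`, `θ(x^{n+1}) = (n+1) x^n`, when positive integers are invertible. -/
lemma exists_eq_smul_of_pow_smul_eq_zero (x : A) (θ : A → A)
    (hθ : ∀ n : ℕ, θ (x ^ (n + 1)) = ((n : A) + 1) * x ^ n)
    (D : M →+ M) (hD : ∀ (f : A) (z : M), D (f • z) = θ f • z + f • D z)
    (hinv : ∀ n : ℕ, ∃ c : A, c * ((n : A) + 1) = 1)
    (M' : Submodule A M) (hM' : ∀ z ∈ M', D z ∈ M') :
    ∀ (n : ℕ) (z : M), z ∈ M' → x ^ n • z = 0 → ∃ w ∈ M', z = x • w := by
  intro n
  induction n with
  | zero =>
    intro z _ hz
    refine ⟨0, zero_mem _, ?_⟩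
    rw [pow_zero, one_smul] at hz
    rw [hz, smul_zero]
  | succ n ih =>
    intro z hzM hz
    have h : D (x ^ (n + 1) • z) = 0 := by rw [hz, map_zero]
    rw [hD, hθ] at h
    have h' : x ^ n • (((n : A) + 1) • z + x • D z) = 0 := by
      rw [smul_add, ← mul_smul, ← mul_smul, ← pow_succ, mul_comm (x ^ n)]
      exact h
    obtain ⟨w, hwM, hw⟩ := ih _ (add_mem (M'.smul_mem _ hzM) (M'.smul_mem _ (hM' z hzM))) h'
    obtain ⟨c, hc⟩ := hinv n
    refine ⟨c • (w - D z), M'.smul_mem _ (sub_mem hwM (hM' z hzM)), ?_⟩
    have h2 : ((n : A) + 1) • z = x • (w - D z) := by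
      rw [smul_sub, ← hw]; abel
    calc z = (c * ((n : A) + 1)) • z := by rw [hc, one_smul]
      _ = c • (((n : A) + 1) • z) := mul_smul _ _ _
      _ = c • (x • (w - D z)) := by rw [h2]
      _ = x • (c • (w - D z)) := smul_comm _ _ _

end Divisible

section Main

open MvPowerSeries in
theorem main (k : Type u) [Field k] [CharZero k] (d : ℕ) (E : Type u) [AddCommGroup E]
    [Module (MvPowerSeries (Fin d) k) E]
    (e : IsLocalRing.ResidueField (MvPowerSeries (Fin d) k) →ₗ[MvPowerSeries (Fin d) k] E)
    (he : InjHull.IsInjectiveHull e)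
    (θ : Fin d → Derivation k (MvPowerSeries (Fin d) k) (MvPowerSeries (Fin d) k))
    (hθ : ∀ i j : Fin d, θ i (MvPowerSeries.X j) = if i = j then 1 else 0)
    (M : Type u) [AddCommGroup M] [Module (MvPowerSeries (Fin d) k) M]
    (hM : LocCoh.IsPowerTorsion (IsLocalRing.maximalIdeal (MvPowerSeries (Fin d) k)) M)
    (D : Fin d → M →+ M)
    (hD : ∀ (i : Fin d) (f : MvPowerSeries (Fin d) k) (z : M),
      D i (f • z) = θ i f • z + f • D i z) :
    ∃ J : Type u, Nonempty (M ≃ₗ[MvPowerSeries (Fin d) k] (J →₀ E)) := by
  classical
  obtain ⟨J, φ, hφi, hφs⟩ := exists_embedding he M hM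
  have hE : LocCoh.IsPowerTorsion (IsLocalRing.maximalIdeal (MvPowerSeries (Fin d) k)) E :=
    Groth.Agent.Lib.Helper2.isPowerTorsion_of_isInjectiveHull_residueField he
  have hNtors : ∀ (v : J →₀ E) (i : Fin d),
      ∃ n : ℕ, (X i : MvPowerSeries (Fin d) k) ^ n • v = 0 := by
    intro v i
    induction v using Finsupp.induction_linear with
    | zero => exact ⟨0, smul_zero _⟩
    | add f g hf hg =>
      obtain ⟨n1, h1⟩ := hf
      obtain ⟨n2, h2⟩ := hg
      refine ⟨n1 + n2, ?_⟩
      rw [smul_add, pow_add, mul_smul (_ ^ n1) (_ ^ n2) g, h2, smul_zero, add_zero, mul_comm,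
        mul_smul, h1, smul_zero]
    | single j x =>
      obtain ⟨n, hn⟩ := hE x
      refine ⟨n, ?_⟩
      rw [Finsupp.smul_single, hn _ (Ideal.pow_mem_pow (X_mem_maximalIdeal i) n),
        Finsupp.single_zero]
  have hinv : ∀ n : ℕ, ∃ c : MvPowerSeries (Fin d) k, c * ((n : MvPowerSeries (Fin d) k) + 1) = 1 := by
    intro n
    refine ⟨algebraMap k _ ((n + 1 : k)⁻¹), ?_⟩
    have : ((n : MvPowerSeries (Fin d) k) + 1) = algebraMap k _ ((n : k) + 1) := by
      rw [map_add, map_natCast, map_one]
    rw [this, ← map_mul, inv_mul_cancel₀ (Nat.cast_add_one_ne_zero n), map_one]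
  have hθpow : ∀ (i : Fin d) (n : ℕ), θ i ((X i : MvPowerSeries (Fin d) k) ^ (n + 1)) =
      ((n : MvPowerSeries (Fin d) k) + 1) * (X i) ^ n := by
    intro i n
    rw [Derivation.leibniz_pow, hθ i i, if_pos rfl, Nat.add_sub_cancel, smul_eq_mul, mul_one,
      nsmul_eq_mul, Nat.cast_succ]
  have key : ∀ S : Finset (Fin d), ∀ v : J →₀ E,
      (∀ j, j ∉ S → (X j : MvPowerSeries (Fin d) k) • v = 0) → v ∈ LinearMap.range φ := by
    intro S
    induction S using Finset.induction_on with
    | empty =>
      intro v hv
      apply hφs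
      intro a ha
      have hle : Ideal.span (Set.range fun s => (X s : MvPowerSeries (Fin d) k)) ≤
          LinearMap.ker (LinearMap.toSpanSingleton (MvPowerSeries (Fin d) k) (J →₀ E) v) := by
        rw [Ideal.span_le]
        rintro _ ⟨s, rfl⟩
        show LinearMap.toSpanSingleton (MvPowerSeries (Fin d) k) (J →₀ E) v (X s) = 0
        rw [LinearMap.toSpanSingleton_apply]
        exact hv s (Finset.notMem_empty s)
      have := hle (maximalIdeal_le_span_X ha)
      rwa [LinearMap.mem_ker, LinearMap.toSpanSingleton_apply] at this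
    | insert i S hi ih =>
      intro v hv
      obtain ⟨n, hn⟩ := hNtors v i
      induction n generalizing v with
      | zero =>
        rw [pow_zero, one_smul] at hn
        rw [hn]; exact zero_mem _
      | succ n ihn =>
        have h1 : (X i : MvPowerSeries (Fin d) k) • v ∈ LinearMap.range φ :=
          ihn ((X i : MvPowerSeries (Fin d) k) • v)
            (fun j hj => by rw [smul_comm, hv j hj, smul_zero])
            (by rw [← mul_smul, ← pow_succ]; exact hn)
        obtain ⟨z, hz⟩ := h1
        let M' : Submodule (MvPowerSeries (Fin d) k) M := killedBy M {j | j ∉ insert i S}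
        have hzM' : z ∈ M' := by
          intro j hj
          apply hφi
          rw [map_smul, hz, map_zero, smul_comm, hv j hj, smul_zero]
        have hzn : (X i : MvPowerSeries (Fin d) k) ^ n • z = 0 := by
          apply hφi
          rw [map_smul, hz, map_zero, ← mul_smul, ← pow_succ]
          exact hn
        have hDM' : ∀ z ∈ M', D i z ∈ M' := by
          intro z hz j hj
          have hji : i ≠ j := by
            rintro rfl
            exact hj (Finset.mem_insert_self _ _)
          have h := hD i (X j) z
          rw [hz j hj, map_zero, hθ i j, if_neg hji, zero_smul, zero_add] at h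
          exact h.symm
        obtain ⟨w, hwM', hw⟩ := exists_eq_smul_of_pow_smul_eq_zero (X i) (θ i) (hθpow i) (D i)
          (hD i) hinv M' hDM' n z hzM' hzn
        have h2 : v - φ w ∈ LinearMap.range φ := by
          apply ih
          intro j hj
          by_cases hji : j = i
          · subst hji
            rw [smul_sub, ← map_smul, ← hw, hz, sub_self]
          · have hj' : j ∉ insert i S := by
              intro h
              rcases Finset.mem_insert.mp h with h | h
              · exact hji h
              · exact hj h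
            rw [smul_sub, ← map_smul, hwM' j hj', map_zero, hv j hj', sub_zero]
        have : v = (v - φ w) + φ w := by abel
        rw [this]
        exact add_mem h2 ⟨w, rfl⟩
  refine ⟨J, ⟨LinearEquiv.ofBijective φ ⟨hφi, fun v => ?_⟩⟩⟩
  exact key Finset.univ v (fun j hj => absurd (Finset.mem_univ j) hj)

end Main

end Groth.Agent.Lib.Helper47.DModE
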