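import Groth.Agent.Lib.Helper47.DOpLoc
import Groth.Prelude.Def_DerCA

/-!
# Localisation as an endofunctor of `DiffRing θ`-modules (helper47)
-/

set_option autoImplicit false
universe u

open CategoryTheory

namespace Groth.Agent.Lib.Helper47.DOp

variable {A : Type u} [CommRing A] (θ : Derivation ℤ A A)

/-- Restriction of scalars from `DiffRing θ` to `A`. -/
noncomputable abbrev UU : ModuleCat.{u} (DiffRing θ) ⥤ ModuleCat.{u} A :=
  ModuleCat.restrictScalars (ιA θ)

noncomputable instance instModuleUU (N : ModuleCat.{u} (DiffRing θ)) : Module (DiffRing θ) ((UU θ).obj N) :=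
  inferInstanceAs (Module (DiffRing θ) N)

lemma hcU (N : ModuleCat.{u} (DiffRing θ)) (a : A) (x : (UU θ).obj N) : ιA θ a • x = a • x := rfl

variable (S : Submonoid A)

/-- The carrier of the localisation of a `DiffRing θ`-module. -/
abbrev LocCarrier (N : ModuleCat.{u} (DiffRing θ)) : Type u := LocalizedModule S ((UU θ).obj N)

noncomputable instance instModuleLocCarrier (N : ModuleCat.{u} (DiffRing θ)) :
    Module (DiffRing θ) (LocCarrier θ S N) :=
  moduleOfLeibniz θ (DLoc θ (hcU θ N) S) (DLoc_leibniz θ (hcU θ N) S)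

lemma ιA_smul_loc (N : ModuleCat.{u} (DiffRing θ)) (a : A) (x : LocCarrier θ S N) :
    ιA θ a • x = a • x :=
  ιA_smul_of θ (DLoc θ (hcU θ N) S) (DLoc_leibniz θ (hcU θ N) S) a x

lemma T_smul_loc (N : ModuleCat.{u} (DiffRing θ)) (x : LocCarrier θ S N) :
    T θ • x = DLoc θ (hcU θ N) S x :=
  T_smul_of θ (DLoc θ (hcU θ N) S) (DLoc_leibniz θ (hcU θ N) S) x

/-- The localised map, as a `DiffRing θ`-linear map. -/
noncomputable def locDMap {N N' : ModuleCat.{u} (DiffRing θ)} (g : N ⟶ N') :
    LocCarrier θ S N →ₗ[DiffRing θ] LocCarrier θ S N' where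
  toFun := IsLocalizedModule.map S (LocalizedModule.mkLinearMap S ((UU θ).obj N))
    (LocalizedModule.mkLinearMap S ((UU θ).obj N')) ((UU θ).map g).hom
  map_add' := map_add _
  map_smul' d x := by
    refine map_smul_of_gen θ (IsLocalizedModule.map S (LocalizedModule.mkLinearMap S ((UU θ).obj N))
      (LocalizedModule.mkLinearMap S ((UU θ).obj N')) ((UU θ).map g).hom).toAddMonoidHom ?_ ?_ d x
    · intro a y
      show IsLocalizedModule.map S _ _ _ (ιA θ a • y) = ιA θ a • IsLocalizedModule.map S _ _ _ y
      rw [ιA_smul_loc, ιA_smul_loc, LinearMap.map_smul]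
    · intro y
      show IsLocalizedModule.map S _ _ _ (T θ • y) = T θ • IsLocalizedModule.map S _ _ _ y
      rw [T_smul_loc, T_smul_loc]
      exact map_DLoc θ (hcU θ N) (hcU θ N') S ((UU θ).map g).hom
        (fun x => map_smul g.hom (T θ) x) y

lemma locDMap_apply {N N' : ModuleCat.{u} (DiffRing θ)} (g : N ⟶ N') (x : LocCarrier θ S N) :
    locDMap θ S g x = ((DerCA.locFunctor S).map ((UU θ).map g)).hom x := rfl

/-- Localisation of `DiffRing θ`-modules at a multiplicative subset of `A`. -/
noncomputable def locD : ModuleCat.{u} (DiffRing θ) ⥤ ModuleCat.{u} (DiffRing θ) where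
  obj N := ModuleCat.of (DiffRing θ) (LocCarrier θ S N)
  map g := ModuleCat.ofHom (locDMap θ S g)
  map_id N := by
    ext x
    show locDMap θ S (𝟙 N) x = x
    rw [locDMap_apply, (UU θ).map_id, (DerCA.locFunctor S).map_id]
    rfl
  map_comp g g' := by
    ext x
    show locDMap θ S (g ≫ g') x = locDMap θ S g' (locDMap θ S g x)
    rw [locDMap_apply, locDMap_apply, locDMap_apply, (UU θ).map_comp, (DerCA.locFunctor S).map_comp]
    rfl

instance : (locD θ S).Additive where
  map_add {N N' g g'} := by
    ext x
    show locDMap θ S (g + g') x = locDMap θ S g x + locDMap θ S g' x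
    rw [locDMap_apply, locDMap_apply, locDMap_apply, (UU θ).map_add, (DerCA.locFunctor S).map_add]
    rfl

/-- The localisation map `N ⟶ S⁻¹N` of `DiffRing θ`-modules. -/
noncomputable def locDUnit : 𝟭 (ModuleCat.{u} (DiffRing θ)) ⟶ locD θ S where
  app N := ModuleCat.ofHom
    { toFun := fun n => LocalizedModule.mkLinearMap S ((UU θ).obj N) n
      map_add' := map_add _
      map_smul' := fun d x => by
        refine map_smul_of_gen θ
          (LocalizedModule.mkLinearMap S ((UU θ).obj N)).toAddMonoidHom ?_ ?_ d x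
        · intro a y
          show LocalizedModule.mkLinearMap S ((UU θ).obj N) (ιA θ a • y) =
            ιA θ a • (LocalizedModule.mkLinearMap S ((UU θ).obj N) y : LocCarrier θ S N)
          rw [ιA_smul_loc, ← LinearMap.map_smul]
          rfl
        · intro y
          show LocalizedModule.mkLinearMap S ((UU θ).obj N) (T θ • y) =
            T θ • (LocalizedModule.mkLinearMap S ((UU θ).obj N) y : LocCarrier θ S N)
          rw [T_smul_loc, DLoc_mk] }
  naturality N N' g := by
    ext x
    show LocalizedModule.mkLinearMap S ((UU θ).obj N') (g.hom x) =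
      locDMap θ S g (LocalizedModule.mkLinearMap S ((UU θ).obj N) x)
    rw [locDMap_apply]
    exact (IsLocalizedModule.map_apply S (LocalizedModule.mkLinearMap S ((UU θ).obj N))
      (LocalizedModule.mkLinearMap S ((UU θ).obj N')) ((UU θ).map g).hom x).symm

/-- The identity, as an `A`-linear equivalence between the two `A`-module structures. -/
noncomputable def locDEquiv (N : ModuleCat.{u} (DiffRing θ)) :
    ((UU θ).obj ((locD θ S).obj N)) ≃ₗ[A] ((DerCA.locFunctor S).obj ((UU θ).obj N)) where
  toFun := fun x => x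
  invFun := fun x => x
  left_inv := fun _ => rfl
  right_inv := fun _ => rfl
  map_add' := fun _ _ => rfl
  map_smul' := fun a x => ιA_smul_loc θ S N a x

/-- Restriction of scalars commutes with localisation. -/
noncomputable def locDIso : locD θ S ⋙ UU θ ≅ UU θ ⋙ DerCA.locFunctor S :=
  NatIso.ofComponents
    (fun N => (locDEquiv θ S N).toModuleIso)
    (fun {N N'} g => by
      ext x
      rfl)

lemma locDUnit_comp_locDIso (N : ModuleCat.{u} (DiffRing θ)) :
    (UU θ).map ((locDUnit θ S).app N) ≫ (locDIso θ S).hom.app N =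
      (DerCA.locUnit S).app ((UU θ).obj N) := by
  ext x
  rfl

end Groth.Agent.Lib.Helper47.DOp
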