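import Groth.Agent.Lib.Helper47.DOpCat
import Groth.Agent.Lib.Helper47.LocExact

/-!
# Lifting the extended Čech complex to `DiffRing θ`-modules (helper47)
-/

set_option autoImplicit false
universe u

open CategoryTheory CategoryTheory.Limits CochainComplex

namespace Groth.Agent.Lib.Helper47.DOp

section General

variable {C : Type*} [Category C] [Preadditive C] [HasBinaryBiproducts C]
  {K₁ L₁ K₂ L₂ : CochainComplex C ℤ} (φ₁ : K₁ ⟶ L₁) (φ₂ : K₂ ⟶ L₂)
  (a : K₁ ≅ K₂) (b : L₁ ≅ L₂) (comm : φ₁ ≫ b.hom = a.hom ≫ φ₂)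

include comm in
lemma comm_inv : φ₂ ≫ b.inv = a.inv ≫ φ₁ := by
  rw [← cancel_mono b.hom, Category.assoc, Category.assoc, Iso.inv_hom_id, Category.comp_id, comm,
    Iso.inv_hom_id_assoc]

/-- An isomorphism of arrows induces an isomorphism of mapping cones. -/
noncomputable def coneIsoOfIso : mappingCone φ₁ ≅ mappingCone φ₂ where
  hom := mappingCone.map φ₁ φ₂ a.hom b.hom comm
  inv := mappingCone.map φ₂ φ₁ a.inv b.inv (comm_inv φ₁ φ₂ a b comm)
  hom_inv_id := by
    rw [← mappingCone.map_comp]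
    simp only [Iso.hom_inv_id]
    exact mappingCone.map_id φ₁
  inv_hom_id := by
    rw [← mappingCone.map_comp]
    simp only [Iso.inv_hom_id]
    exact mappingCone.map_id φ₂

/-- An isomorphism of arrows induces an isomorphism of mapping cocones. -/
noncomputable def coconeIsoOfIso : mappingCocone φ₁ ≅ mappingCocone φ₂ :=
  (CategoryTheory.shiftFunctor (CochainComplex C ℤ) (-1 : ℤ)).mapIso (coneIsoOfIso φ₁ φ₂ a b comm)

end General

variable {A : Type u} [CommRing A] (θ : Derivation ℤ A A)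

instance preservesHomology_UU : (UU θ).PreservesHomology := by
  apply ((Functor.exact_tfae _).out 1 2).mp
  intro T hT
  rw [CategoryTheory.ShortComplex.ShortExact.moduleCat_exact_iff_function_exact] at hT ⊢
  exact hT

/-- A cochain complex of `A`-modules is liftable if it comes from a complex of `DiffRing θ`-modules. -/
def Liftable (K : CochainComplex (ModuleCat.{u} A) ℤ) : Prop :=
  ∃ K' : CochainComplex (ModuleCat.{u} (DiffRing θ)) ℤ,
    Nonempty (((UU θ).mapHomologicalComplex (ComplexShape.up ℤ)).obj K' ≅ K)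

variable {θ} in
lemma Liftable.of_iso {K K' : CochainComplex (ModuleCat.{u} A) ℤ} (e : K ≅ K')
    (h : Liftable θ K) : Liftable θ K' := by
  obtain ⟨K'', ⟨e'⟩⟩ := h
  exact ⟨K'', ⟨e' ≪≫ e⟩⟩

lemma liftable_single (N : ModuleCat.{u} (DiffRing θ)) :
    Liftable θ ((HomologicalComplex.single (ModuleCat.{u} A) (ComplexShape.up ℤ) 0).obj
      ((UU θ).obj N)) :=
  ⟨(HomologicalComplex.single _ (ComplexShape.up ℤ) 0).obj N,
    ⟨(HomologicalComplex.singleMapHomologicalComplex (UU θ) (ComplexShape.up ℤ) 0).app N⟩⟩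

variable (S : Submonoid A)

/-- The termwise localisation map of a complex of `DiffRing θ`-modules. -/
noncomputable def locDCxUnit (K' : CochainComplex (ModuleCat.{u} (DiffRing θ)) ℤ) :
    K' ⟶ ((locD θ S).mapHomologicalComplex (ComplexShape.up ℤ)).obj K' where
  f i := (locDUnit θ S).app (K'.X i)
  comm' i j _ := ((locDUnit θ S).naturality (K'.d i j)).symm

/-- The comparison of the two localised complexes. -/
noncomputable def locCxCompIso (K' : CochainComplex (ModuleCat.{u} (DiffRing θ)) ℤ)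
    {K : CochainComplex (ModuleCat.{u} A) ℤ}
    (e : ((UU θ).mapHomologicalComplex (ComplexShape.up ℤ)).obj K' ≅ K) :
    ((UU θ).mapHomologicalComplex (ComplexShape.up ℤ)).obj
      (((locD θ S).mapHomologicalComplex (ComplexShape.up ℤ)).obj K') ≅ (DerCA.locCx S).obj K :=
  HomologicalComplex.Hom.isoOfComponents
    (fun i => (locDIso θ S).app (K'.X i) ≪≫
      (DerCA.locFunctor S).mapIso ((HomologicalComplex.eval _ _ i).mapIso e))
    (fun i j _ => by
      obtain ⟨ei, hei⟩ : ∃ ei : (UU θ).obj (K'.X i) ⟶ K.X i, ei = e.hom.f i := ⟨_, rfl⟩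
      obtain ⟨ej, hej⟩ : ∃ ej : (UU θ).obj (K'.X j) ⟶ K.X j, ej = e.hom.f j := ⟨_, rfl⟩
      have h1 : (UU θ).map ((locD θ S).map (K'.d i j)) ≫ (locDIso θ S).hom.app (K'.X j) =
          (locDIso θ S).hom.app (K'.X i) ≫ (DerCA.locFunctor S).map ((UU θ).map (K'.d i j)) :=
        (locDIso θ S).hom.naturality (K'.d i j)
      have h2 : (UU θ).map (K'.d i j) ≫ ej = ei ≫ K.d i j := by
        rw [hei, hej]; exact (e.hom.comm i j).symm
      have goal : (locDIso θ S).hom.app (K'.X i) ≫ (DerCA.locFunctor S).map ei ≫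
          (DerCA.locFunctor S).map (K.d i j) =
        (UU θ).map ((locD θ S).map (K'.d i j)) ≫ (locDIso θ S).hom.app (K'.X j) ≫
          (DerCA.locFunctor S).map ej := by
        rw [← Functor.map_comp, ← h2, Functor.map_comp, reassoc_of% h1]
      rw [hei, hej] at goal
      exact goal)

theorem liftable_mappingCocone {K : CochainComplex (ModuleCat.{u} A) ℤ} (h : Liftable θ K) :
    Liftable θ (mappingCocone (DerCA.locCxUnit S K)) := by
  obtain ⟨K', ⟨e⟩⟩ := h
  refine ⟨mappingCocone (locDCxUnit θ S K'), ⟨mapHomologicalComplexMappingCoconeIso _ (UU θ) ≪≫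
    coconeIsoOfIso _ _ e (locCxCompIso θ S K' e) ?_⟩⟩
  ext i : 1
  obtain ⟨ei, hei⟩ : ∃ ei : (UU θ).obj (K'.X i) ⟶ K.X i, ei = e.hom.f i := ⟨_, rfl⟩
  have h1 := locDUnit_comp_locDIso θ S (K'.X i)
  have h2 : (DerCA.locUnit S).app ((UU θ).obj (K'.X i)) ≫ (DerCA.locFunctor S).map ei =
      ei ≫ (DerCA.locUnit S).app (K.X i) := ((DerCA.locUnit S).naturality ei).symm
  have goal : (UU θ).map ((locDUnit θ S).app (K'.X i)) ≫ (locDIso θ S).hom.app (K'.X i) ≫
      (DerCA.locFunctor S).map ei = ei ≫ (DerCA.locUnit S).app (K.X i) := by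
    rw [reassoc_of% h1, h2]
  rw [hei] at goal
  exact goal

theorem liftable_extCech (N : ModuleCat.{u} (DiffRing θ)) (fs : List A) :
    Liftable θ (DerCA.extCech ((UU θ).obj N) fs) := by
  induction fs with
  | nil => exact liftable_single θ N
  | cons f fs ih => exact liftable_mappingCocone θ (Submonoid.powers f) ih

/-- The homology of a liftable complex is the restriction of a `DiffRing θ`-module. -/
theorem Liftable.homology {K : CochainComplex (ModuleCat.{u} A) ℤ} (h : Liftable θ K) (q : ℤ) :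
    ∃ H' : ModuleCat.{u} (DiffRing θ), Nonempty ((UU θ).obj H' ≅ K.homology q) := by
  obtain ⟨K', ⟨e⟩⟩ := h
  exact ⟨K'.homology q, ⟨((K'.sc q).mapHomologyIso (UU θ)).symm ≪≫
    (HomologicalComplex.homologyFunctor _ _ q).mapIso e⟩⟩

end Groth.Agent.Lib.Helper47.DOp
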