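import Groth.Agent.Lib.Helper47.DOpRing

/-!
# Localising modules with a Leibniz operator (helper47)

The localisation `S⁻¹N` of a `DiffRing θ`-module at a multiplicative subset of `A` is again a `DiffRing θ`-module,
via the "dual numbers" trick: the operator is the second component of the unique `A`-linear extension of
`n ↦ (n/1, (T n)/1)` to the twisted pair module.
-/

set_option autoImplicit false
universe u v

namespace Groth.Agent.Lib.Helper47.DOp

variable {A : Type u} [CommRing A] (θ : Derivation ℤ A A)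

/-- The twisted pair module `P ⊕ Pε`, with `a (x, y) = (a x, a y + θ(a) x)`. -/
def Tw (_θ : Derivation ℤ A A) (P : Type v) : Type v := P × P

section Tw

variable {P : Type v} [AddCommGroup P] [Module A P] {P' : Type v} [AddCommGroup P'] [Module A P']

instance : AddCommGroup (Tw θ P) := inferInstanceAs (AddCommGroup (P × P))

/-- first component -/
def Tw.fst (x : Tw θ P) : P := Prod.fst x
/-- second component -/
def Tw.snd (x : Tw θ P) : P := Prod.snd x
/-- constructor -/
def Tw.mk (x y : P) : Tw θ P := (x, y)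

@[ext] lemma Tw.ext {x y : Tw θ P} (h1 : Tw.fst θ x = Tw.fst θ y) (h2 : Tw.snd θ x = Tw.snd θ y) :
    x = y := Prod.ext h1 h2

@[simp] lemma Tw.fst_mk (x y : P) : Tw.fst θ (Tw.mk θ x y) = x := rfl
@[simp] lemma Tw.snd_mk (x y : P) : Tw.snd θ (Tw.mk θ x y) = y := rfl
@[simp] lemma Tw.fst_add (x y : Tw θ P) : Tw.fst θ (x + y) = Tw.fst θ x + Tw.fst θ y := rfl
@[simp] lemma Tw.snd_add (x y : Tw θ P) : Tw.snd θ (x + y) = Tw.snd θ x + Tw.snd θ y := rfl
@[simp] lemma Tw.fst_zero : Tw.fst θ (0 : Tw θ P) = 0 := rfl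
@[simp] lemma Tw.snd_zero : Tw.snd θ (0 : Tw θ P) = 0 := rfl

instance : SMul A (Tw θ P) where
  smul a x := Tw.mk θ (a • Tw.fst θ x) (a • Tw.snd θ x + θ a • Tw.fst θ x)

@[simp] lemma Tw.fst_smul (a : A) (x : Tw θ P) : Tw.fst θ (a • x) = a • Tw.fst θ x := rfl
@[simp] lemma Tw.snd_smul (a : A) (x : Tw θ P) :
    Tw.snd θ (a • x) = a • Tw.snd θ x + θ a • Tw.fst θ x := rfl

instance : Module A (Tw θ P) where
  one_smul x := by
    ext
    · simp
    · simp [Derivation.map_one_eq_zero]
  mul_smul a b x := by
    ext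
    · simp [mul_smul]
    · simp only [Tw.snd_smul, Tw.fst_smul, Derivation.leibniz, smul_eq_mul, add_smul, mul_smul,
        smul_add]
      rw [smul_comm b (θ a)]
      abel
  smul_zero a := by
    ext <;> simp
  smul_add a x y := by
    ext
    · simp
    · simp only [Tw.snd_smul, Tw.snd_add, Tw.fst_add, smul_add]
      abel
  add_smul a b x := by
    ext
    · simp [add_smul]
    · simp only [Tw.snd_smul, Tw.snd_add, map_add, add_smul]
      abel
  zero_smul x := by
    ext <;> simp

/-- first projection, `A`-linear -/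
def Tw.fstL : Tw θ P →ₗ[A] P where
  toFun := Tw.fst θ
  map_add' _ _ := rfl
  map_smul' _ _ := rfl

/-- functoriality of the twisted pair module -/
def Tw.mapL (g : P →ₗ[A] P') : Tw θ P →ₗ[A] Tw θ P' where
  toFun x := Tw.mk θ (g (Tw.fst θ x)) (g (Tw.snd θ x))
  map_add' x y := by ext <;> simp
  map_smul' a x := by ext <;> simp

@[simp] lemma Tw.fst_mapL (g : P →ₗ[A] P') (x : Tw θ P) :
    Tw.fst θ (Tw.mapL θ g x) = g (Tw.fst θ x) := rfl
@[simp] lemma Tw.snd_mapL (g : P →ₗ[A] P') (x : Tw θ P) :
    Tw.snd θ (Tw.mapL θ g x) = g (Tw.snd θ x) := rfl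

lemma Tw.isUnit_algebraMap (s : A) (hs : Function.Bijective fun x : P => s • x) :
    IsUnit (algebraMap A (Module.End A (Tw θ P)) s) := by
  rw [Module.End.isUnit_iff]
  constructor
  · intro x y h
    have h1 : s • Tw.fst θ x = s • Tw.fst θ y := congrArg (Tw.fst θ) h
    have h2 : s • Tw.snd θ x + θ s • Tw.fst θ x = s • Tw.snd θ y + θ s • Tw.fst θ y :=
      congrArg (Tw.snd θ) h
    have e1 : Tw.fst θ x = Tw.fst θ y := hs.1 h1
    rw [e1] at h2
    exact Tw.ext θ e1 (hs.1 (add_right_cancel h2))
  · intro y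
    obtain ⟨x1, hx1⟩ := hs.2 (Tw.fst θ y)
    obtain ⟨x2, hx2⟩ := hs.2 (Tw.snd θ y - θ s • x1)
    refine ⟨Tw.mk θ x1 x2, ?_⟩
    ext
    · exact hx1
    · show s • x2 + θ s • x1 = _
      simp only at hx2
      rw [hx2]; abel

end Tw

section Loc

variable {N : Type u} [AddCommGroup N] [Module A N] [Module (DiffRing θ) N]
  (hc : ∀ (a : A) (x : N), ιA θ a • x = a • x) (S : Submonoid A)

include hc in
lemma T_smul_smul (a : A) (x : N) : T θ • (a • x) = a • (T θ • x) + θ a • x := by
  rw [← hc, T_smul_ιA_smul, hc, hc]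

/-- `n ↦ (n/1, (T n)/1)`. -/
noncomputable def jMap : N →ₗ[A] Tw θ (LocalizedModule S N) where
  toFun n := Tw.mk θ (LocalizedModule.mkLinearMap S N n) (LocalizedModule.mkLinearMap S N (T θ • n))
  map_add' x y := by
    ext
    · simp
    · simp [smul_add]
  map_smul' a x := by
    ext
    · simp
    · simp only [Tw.snd_mk, RingHom.id_apply, Tw.snd_smul, Tw.fst_mk]
      rw [T_smul_smul θ hc, map_add, LinearMap.map_smul, LinearMap.map_smul]

lemma isUnit_tw (s : S) :
    IsUnit (algebraMap A (Module.End A (Tw θ (LocalizedModule S N))) s) := by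
  apply Tw.isUnit_algebraMap
  have := IsLocalizedModule.map_units (LocalizedModule.mkLinearMap S N) s
  rw [Module.End.isUnit_iff] at this
  exact this

/-- The extension of `jMap` to the localisation. -/
noncomputable def liftTw : LocalizedModule S N →ₗ[A] Tw θ (LocalizedModule S N) :=
  IsLocalizedModule.lift S (LocalizedModule.mkLinearMap S N) (jMap θ hc S) (isUnit_tw θ S)

lemma liftTw_mk (n : N) :
    liftTw θ hc S (LocalizedModule.mkLinearMap S N n) = jMap θ hc S n :=
  IsLocalizedModule.lift_apply S _ _ _ n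

lemma liftTw_fst (x : LocalizedModule S N) : Tw.fst θ (liftTw θ hc S x) = x := by
  have : (Tw.fstL θ) ∘ₗ liftTw θ hc S = LinearMap.id := by
    apply IsLocalizedModule.linearMap_ext S (LocalizedModule.mkLinearMap S N)
      (LocalizedModule.mkLinearMap S N)
    ext n
    simp only [LinearMap.coe_comp, Function.comp_apply, LinearMap.id_coe, id_eq]
    rw [liftTw_mk]
    rfl
  exact LinearMap.congr_fun this x

/-- The induced operator on the localisation. -/
noncomputable def DLoc : LocalizedModule S N →+ LocalizedModule S N where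
  toFun x := Tw.snd θ (liftTw θ hc S x)
  map_zero' := by rw [map_zero]; rfl
  map_add' x y := by rw [map_add]; rfl

lemma DLoc_leibniz (a : A) (x : LocalizedModule S N) :
    DLoc θ hc S (a • x) = θ a • x + a • DLoc θ hc S x := by
  show Tw.snd θ (liftTw θ hc S (a • x)) = _
  rw [map_smul, Tw.snd_smul, liftTw_fst, add_comm]
  rfl

lemma DLoc_mk (n : N) :
    DLoc θ hc S (LocalizedModule.mkLinearMap S N n) = LocalizedModule.mkLinearMap S N (T θ • n) := by
  show Tw.snd θ (liftTw θ hc S _) = _
  rw [liftTw_mk]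
  rfl

end Loc

section Functoriality

variable {N : Type u} [AddCommGroup N] [Module A N] [Module (DiffRing θ) N]
  (hc : ∀ (a : A) (x : N), ιA θ a • x = a • x)
  {N' : Type u} [AddCommGroup N'] [Module A N'] [Module (DiffRing θ) N']
  (hc' : ∀ (a : A) (x : N'), ιA θ a • x = a • x) (S : Submonoid A)

lemma map_DLoc (g : N →ₗ[A] N') (hg : ∀ x, g (T θ • x) = T θ • g x) (x : LocalizedModule S N) :
    IsLocalizedModule.map S (LocalizedModule.mkLinearMap S N) (LocalizedModule.mkLinearMap S N') g
        (DLoc θ hc S x) =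
      DLoc θ hc' S (IsLocalizedModule.map S (LocalizedModule.mkLinearMap S N)
        (LocalizedModule.mkLinearMap S N') g x) := by
  set gS := IsLocalizedModule.map S (LocalizedModule.mkLinearMap S N)
    (LocalizedModule.mkLinearMap S N') g with hgS
  have key : (Tw.mapL θ gS) ∘ₗ liftTw θ hc S = liftTw θ hc' S ∘ₗ gS := by
    apply IsLocalizedModule.ext S (LocalizedModule.mkLinearMap S N) (isUnit_tw θ S)
    ext n
    · simp only [LinearMap.coe_comp, Function.comp_apply]
      rw [liftTw_mk, hgS, IsLocalizedModule.map_apply, liftTw_mk]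
      show IsLocalizedModule.map S (LocalizedModule.mkLinearMap S N)
        (LocalizedModule.mkLinearMap S N') g (LocalizedModule.mkLinearMap S N n) =
          LocalizedModule.mkLinearMap S N' (g n)
      rw [IsLocalizedModule.map_apply]
    · simp only [LinearMap.coe_comp, Function.comp_apply]
      rw [liftTw_mk, hgS, IsLocalizedModule.map_apply, liftTw_mk]
      show IsLocalizedModule.map S (LocalizedModule.mkLinearMap S N)
        (LocalizedModule.mkLinearMap S N') g (LocalizedModule.mkLinearMap S N (T θ • n)) =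
          LocalizedModule.mkLinearMap S N' (T θ • g n)
      rw [IsLocalizedModule.map_apply, hg]
  have := congrArg (Tw.snd θ) (LinearMap.congr_fun key x)
  exact this

end Functoriality

end Groth.Agent.Lib.Helper47.DOp
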