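import Groth.Agent.Lib.Helper47.DOpCech
import Groth.Agent.S11623

/-!
# A derivation acts on local cohomology (helper47)
-/

set_option autoImplicit false
universe u

open CategoryTheory CategoryTheory.Limits

namespace Groth.Agent.Lib.Helper47.DOp

variable {A : Type u} [CommRing A] (θ : Derivation ℤ A A)

/-- The module carries an additive operator satisfying the Leibniz rule with respect to `θ`. -/
def HasLeibniz (M : ModuleCat.{u} A) : Prop :=
  ∃ D : M →+ M, ∀ (a : A) (ξ : M), D (a • ξ) = θ a • ξ + a • D ξ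

variable {θ} in
lemma HasLeibniz.of_iso {M M' : ModuleCat.{u} A} (e : M ≅ M') (h : HasLeibniz θ M) :
    HasLeibniz θ M' := by
  obtain ⟨D, hD⟩ := h
  refine ⟨(e.hom.hom.toAddMonoidHom.comp D).comp e.inv.hom.toAddMonoidHom, fun a ξ => ?_⟩
  show e.hom.hom (D (e.inv.hom (a • ξ))) = θ a • ξ + a • e.hom.hom (D (e.inv.hom ξ))
  have hξ : e.hom.hom (e.inv.hom ξ) = ξ := by
    have := congrArg (fun f => f.hom ξ) e.inv_hom_id
    exact this
  rw [map_smul, hD, map_add, map_smul, map_smul, hξ]

lemma hasLeibniz_UU (H' : ModuleCat.{u} (DiffRing θ)) : HasLeibniz θ ((UU θ).obj H') :=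
  ⟨DistribSMul.toAddMonoidHom ((UU θ).obj H') (T θ), fun a ξ => by
    show T θ • (a • ξ) = θ a • ξ + a • (T θ • ξ)
    rw [T_smul_smul θ (hcU θ H'), add_comm]⟩

/-- The derivation `θ` as an additive map. -/
def thetaAdd : A →+ A := (θ : A →ₗ[ℤ] A).toAddMonoidHom

lemma thetaAdd_leibniz (a x : A) : thetaAdd θ (a • x) = θ a • x + a • thetaAdd θ x := by
  show θ (a * x) = θ a * x + a * θ x
  rw [Derivation.leibniz, smul_eq_mul, smul_eq_mul]
  ring

/-- The ring `A` as a `DiffRing θ`-module. -/
noncomputable def selfMod : ModuleCat.{u} (DiffRing θ) :=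
  @ModuleCat.of (DiffRing θ) _ A _ (moduleOfLeibniz θ (thetaAdd θ) (thetaAdd_leibniz θ))

/-- The identity, as an `A`-linear equivalence. -/
noncomputable def selfEquiv : ((UU θ).obj (selfMod θ)) ≃ₗ[A] (ModuleCat.of A A) where
  toFun := fun x => x
  invFun := fun x => x
  left_inv := fun _ => rfl
  right_inv := fun _ => rfl
  map_add' := fun _ _ => rfl
  map_smul' := fun a x => ιA_smul_of θ (thetaAdd θ) (thetaAdd_leibniz θ) a x

/-- Its restriction to `A` is `A`. -/
noncomputable def selfIso : (UU θ).obj (selfMod θ) ≅ ModuleCat.of A A :=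
  (selfEquiv θ).toModuleIso

theorem liftable_extCech' (M : ModuleCat.{u} A)
    (hM : Liftable θ ((HomologicalComplex.single (ModuleCat.{u} A) (ComplexShape.up ℤ) 0).obj M))
    (fs : List A) : Liftable θ (DerCA.extCech M fs) := by
  induction fs with
  | nil => exact hM
  | cons f fs ih => exact liftable_mappingCocone θ (Submonoid.powers f) ih

theorem liftable_extCech_self (fs : List A) :
    Liftable θ (DerCA.extCech (ModuleCat.of A A) fs) :=
  liftable_extCech' θ _ ((liftable_single θ (selfMod θ)).of_iso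
    ((HomologicalComplex.single (ModuleCat.{u} A) (ComplexShape.up ℤ) 0).mapIso (selfIso θ))) fs

theorem main [IsNoetherianRing A] (I : Ideal A) (i : ℕ) :
    ∃ D : LocCoh.H I i A →+ LocCoh.H I i A,
      ∀ (a : A) (ξ : LocCoh.H I i A), D (a • ξ) = θ a • ξ + a • D ξ := by
  classical
  obtain ⟨s, hs⟩ := (IsNoetherian.noetherian I : I.FG)
  have hfs : Ideal.span {x | x ∈ (0 :: s.toList : List A)} = I := by
    rw [← hs]
    apply le_antisymm
    · rw [Ideal.span_le]
      intro x hx
      rcases List.mem_cons.mp hx with rfl | hx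
      · exact zero_mem _
      · exact Ideal.subset_span (Finset.mem_toList.mp hx)
    · apply Ideal.span_mono
      intro x hx
      exact List.mem_cons_of_mem _ (Finset.mem_toList.mpr hx)
  subst hfs
  obtain ⟨H', ⟨e1⟩⟩ := (liftable_extCech_self θ (0 :: s.toList)).homology θ (i : ℤ)
  obtain ⟨e2⟩ := Groth.Agent.S11623.result A (0 :: s.toList) (List.cons_ne_nil _ _) A i
  exact ((hasLeibniz_UU θ H').of_iso e1).of_iso e2

end Groth.Agent.Lib.Helper47.DOp
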