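import Mathlib.Algebra.RingQuot
import Mathlib.Algebra.FreeAlgebra
import Mathlib.RingTheory.Derivation.Basic
import Mathlib.Algebra.Module.LocalizedModule.Basic

/-!
# The ring of differential operators generated by a derivation (helper47)

For a commutative ring `A` with a derivation `θ`, the ring `DiffRing θ` is generated by `A` and one symbol `T`
subject to `T a = a T + θ(a)`.  A module over it is an `A`-module with an additive operator satisfying the
Leibniz rule.
-/

set_option autoImplicit false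
universe u v

namespace Groth.Agent.Lib.Helper47.DOp

variable {A : Type u} [CommRing A] (θ : Derivation ℤ A A)

/-- The defining relations. -/
inductive Rel : FreeAlgebra ℤ (A ⊕ Unit) → FreeAlgebra ℤ (A ⊕ Unit) → Prop
  | add (a b : A) : Rel (FreeAlgebra.ι ℤ (Sum.inl (a + b)))
      (FreeAlgebra.ι ℤ (Sum.inl a) + FreeAlgebra.ι ℤ (Sum.inl b))
  | mul (a b : A) : Rel (FreeAlgebra.ι ℤ (Sum.inl (a * b)))
      (FreeAlgebra.ι ℤ (Sum.inl a) * FreeAlgebra.ι ℤ (Sum.inl b))
  | one : Rel (FreeAlgebra.ι ℤ (Sum.inl 1)) 1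
  | leib (a : A) : Rel (FreeAlgebra.ι ℤ (Sum.inr ()) * FreeAlgebra.ι ℤ (Sum.inl a))
      (FreeAlgebra.ι ℤ (Sum.inl a) * FreeAlgebra.ι ℤ (Sum.inr ()) + FreeAlgebra.ι ℤ (Sum.inl (θ a)))

/-- The ring generated by `A` and `T` with `T a = a T + θ a`. -/
def DiffRing : Type u := RingQuot (Rel θ)

instance : Ring (DiffRing θ) := inferInstanceAs (Ring (RingQuot (Rel θ)))

/-- The quotient map. -/
def mk : FreeAlgebra ℤ (A ⊕ Unit) →+* DiffRing θ := RingQuot.mkRingHom (Rel θ)

lemma mk_surjective : Function.Surjective (mk θ) := RingQuot.mkRingHom_surjective _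

/-- The structure map `A → DiffRing θ`. -/
def ιA : A →+* DiffRing θ where
  toFun a := mk θ (FreeAlgebra.ι ℤ (Sum.inl a))
  map_one' := by
    rw [← map_one (mk θ)]
    exact RingQuot.mkRingHom_rel Rel.one
  map_mul' a b := by
    rw [← map_mul (mk θ)]
    exact RingQuot.mkRingHom_rel (Rel.mul a b)
  map_zero' := by
    have h : mk θ (FreeAlgebra.ι ℤ (Sum.inl (0 + 0 : A))) = _ :=
      RingQuot.mkRingHom_rel (Rel.add (θ := θ) 0 0)
    rw [add_zero] at h
    have h' : mk θ (FreeAlgebra.ι ℤ (Sum.inl (0 : A))) =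
        mk θ (FreeAlgebra.ι ℤ (Sum.inl (0 : A))) + mk θ (FreeAlgebra.ι ℤ (Sum.inl (0 : A))) := by
      rw [← map_add]; exact h
    exact (left_eq_add.mp h')
  map_add' a b := by
    rw [← map_add (mk θ)]
    exact RingQuot.mkRingHom_rel (Rel.add a b)

/-- The operator symbol. -/
def T : DiffRing θ := mk θ (FreeAlgebra.ι ℤ (Sum.inr ()))

lemma T_mul_ιA (a : A) : T θ * ιA θ a = ιA θ a * T θ + ιA θ (θ a) := by
  show mk θ _ * mk θ _ = mk θ _ * mk θ _ + mk θ _
  rw [← map_mul, ← map_mul, ← map_add]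
  exact RingQuot.mkRingHom_rel (Rel.leib a)

section ModuleOf

variable {N : Type v} [AddCommGroup N] [Module A N] (D : N →+ N)
  (hD : ∀ (a : A) (x : N), D (a • x) = θ a • x + a • D x)

/-- The images of the generators in the endomorphism ring of a Leibniz module. -/
def genEnd : A ⊕ Unit → AddMonoid.End N
  | Sum.inl a => Module.toAddMonoidEnd A N a
  | Sum.inr _ => D

include hD in
lemma genEnd_rel ⦃x y : FreeAlgebra ℤ (A ⊕ Unit)⦄ (h : Rel θ x y) :
    (FreeAlgebra.lift ℤ (genEnd (A := A) D) : FreeAlgebra ℤ (A ⊕ Unit) →+* AddMonoid.End N) x =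
      (FreeAlgebra.lift ℤ (genEnd (A := A) D) : FreeAlgebra ℤ (A ⊕ Unit) →+* AddMonoid.End N) y := by
  induction h with
  | add a b =>
    simp only [AlgHom.coe_toRingHom, map_add, FreeAlgebra.lift_ι_apply, genEnd]
  | mul a b =>
    simp only [AlgHom.coe_toRingHom, map_mul, FreeAlgebra.lift_ι_apply, genEnd]
  | one =>
    simp only [AlgHom.coe_toRingHom, map_one, FreeAlgebra.lift_ι_apply, genEnd]
  | leib a =>
    simp only [AlgHom.coe_toRingHom, map_add, map_mul, FreeAlgebra.lift_ι_apply, genEnd]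
    refine AddMonoidHom.ext fun x => ?_
    show D (a • x) = a • D x + θ a • x
    rw [hD, add_comm]

/-- The action of `DiffRing θ` on a Leibniz module, as a ring map to the additive endomorphisms. -/
noncomputable def actHom : DiffRing θ →+* AddMonoid.End N :=
  RingQuot.lift ⟨(FreeAlgebra.lift ℤ (genEnd (A := A) D) : FreeAlgebra ℤ (A ⊕ Unit) →+* AddMonoid.End N),
    genEnd_rel θ D hD⟩

lemma actHom_ιA (a : A) (x : N) : actHom θ D hD (ιA θ a) x = a • x := by
  have h : actHom θ D hD (ιA θ a) = Module.toAddMonoidEnd A N a := by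
    show RingQuot.lift _ (RingQuot.mkRingHom _ _) = _
    rw [RingQuot.lift_mkRingHom_apply]
    simp [genEnd]
  rw [h]; rfl

lemma actHom_T (x : N) : actHom θ D hD (T θ) x = D x := by
  have h : actHom θ D hD (T θ) = D := by
    show RingQuot.lift _ (RingQuot.mkRingHom _ _) = _
    rw [RingQuot.lift_mkRingHom_apply]
    simp [genEnd]
  rw [h]; rfl

/-- A Leibniz module is a module over `DiffRing θ`. -/
@[instance_reducible] noncomputable def moduleOfLeibniz : Module (DiffRing θ) N :=
  Module.compHom N (actHom θ D hD)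

lemma ιA_smul_of (a : A) (x : N) :
    letI := moduleOfLeibniz θ D hD
    ιA θ a • x = a • x := actHom_ιA θ D hD a x

lemma T_smul_of (x : N) :
    letI := moduleOfLeibniz θ D hD
    T θ • x = D x := actHom_T θ D hD x

end ModuleOf

section Linear

variable {N N' : Type v} [AddCommGroup N] [Module (DiffRing θ) N] [AddCommGroup N'] [Module (DiffRing θ) N']

/-- The Leibniz rule in any `DiffRing θ`-module. -/
lemma T_smul_ιA_smul (a : A) (x : N) :
    T θ • (ιA θ a • x) = ιA θ a • (T θ • x) + ιA θ (θ a) • x := by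
  rw [← mul_smul, T_mul_ιA, add_smul, mul_smul]

/-- An additive map commuting with `A` and `T` is `DiffRing θ`-linear. -/
lemma map_smul_of_gen (g : N →+ N') (hA : ∀ (a : A) (x : N), g (ιA θ a • x) = ιA θ a • g x)
    (hT : ∀ x : N, g (T θ • x) = T θ • g x) (d : DiffRing θ) (x : N) : g (d • x) = d • g x := by
  obtain ⟨w, rfl⟩ := mk_surjective θ d
  induction w using FreeAlgebra.induction generalizing x with
  | grade0 r =>
    have : mk θ (algebraMap ℤ (FreeAlgebra ℤ (A ⊕ Unit)) r) = (r : DiffRing θ) := by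
      rw [eq_intCast, map_intCast]
    rw [this, Int.cast_smul_eq_zsmul, Int.cast_smul_eq_zsmul, map_zsmul]
  | grade1 s =>
    rcases s with a | u
    · exact hA a x
    · exact hT x
  | mul w₁ w₂ h₁ h₂ =>
    rw [map_mul, mul_smul, h₁, h₂, mul_smul]
  | add w₁ w₂ h₁ h₂ =>
    rw [map_add, add_smul, map_add, h₁, h₂, add_smul]

end Linear

end Groth.Agent.Lib.Helper47.DOp
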