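import Mathlib
import Groth.Prelude.Def_DeRham

/-!
# Rule-pinned de Rham differentials: Leibniz rules, contraction, Lie derivative, eigen-forms (helper47)
-/

set_option autoImplicit false
universe v u
open exteriorPower Polynomial

namespace Groth.Agent.Lib.Helper47.DRPoly

section Part1


variable {R : Type v} {A M : Type u} [CommRing R] [CommRing A] [Algebra R A]
  [AddCommGroup M] [Module A M] [Module R M] [IsScalarTower R A M]

omit [IsScalarTower R A M] in
theorem gen_induction (δ : Derivation R A M) (hδ : Submodule.span A (Set.range δ) = ⊤) (p : ℕ)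
    {P : ↥(⋀[A]^p M) → Prop}
    (h0 : P 0) (hadd : ∀ x y, P x → P y → P (x + y)) (hgen : ∀ b₀ b, P (DeRham.gen δ p b₀ b)) :
    ∀ x, P x := by
  intro x
  have hx : x ∈ Submodule.span A (ιMulti A p '' {a | Set.range a ⊆ Set.range δ}) := by
    rw [ιMulti_span_of_span A p M hδ]; trivial
  have key : ∀ c : A, P (c • x) := by
    induction hx using Submodule.span_induction with
    | mem y hy =>
      obtain ⟨a, ha, rfl⟩ := hy
      intro c
      choose b hb using fun i => ha ⟨i, rfl⟩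
      have : a = fun i => δ (b i) := funext fun i => (hb i).symm
      rw [this]; exact hgen c b
    | zero => intro c; rw [smul_zero]; exact h0
    | add y z _ _ hy hz => intro c; rw [smul_add]; exact hadd _ _ (hy c) (hz c)
    | smul r y _ hy => intro c; rw [smul_smul]; exact hy _
  simpa using key 1

/-- left multiplication by `ι m`, from `⋀^p` to `⋀^(p+1)`. -/
noncomputable def wedgeL (m : M) (p : ℕ) : ↥(⋀[A]^p M) →ₗ[A] ↥(⋀[A]^(p + 1) M) where
  toFun ω := ⟨ExteriorAlgebra.ι A m * (ω : ExteriorAlgebra A M), by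
    show _ ∈ (LinearMap.range (ExteriorAlgebra.ι A)) ^ (p + 1)
    rw [pow_succ']
    exact Submodule.mul_mem_mul (LinearMap.mem_range_self _ m) ω.2⟩
  map_add' := by intros; ext; simp [mul_add]
  map_smul' := by intros; ext; simp

@[simp] lemma wedgeL_coe (m : M) (p : ℕ) (ω : ↥(⋀[A]^p M)) :
    ((wedgeL m p ω : ↥(⋀[A]^(p + 1) M)) : ExteriorAlgebra A M) =
      ExteriorAlgebra.ι A m * (ω : ExteriorAlgebra A M) := rfl

lemma wedgeL_ιMulti (m : M) (p : ℕ) (v : Fin p → M) :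
    wedgeL m p (ιMulti A p v) = ιMulti A (p + 1) (Fin.cons m v) := by
  ext
  rw [wedgeL_coe, ιMulti_apply_coe, ιMulti_apply_coe, ExteriorAlgebra.ιMulti_succ_apply]
  simp [Matrix.vecTail]

lemma wedgeL_add (m m' : M) (p : ℕ) (ω : ↥(⋀[A]^p M)) :
    wedgeL (m + m') p ω = wedgeL m p ω + wedgeL m' p ω := by
  ext; simp [add_mul]

lemma wedgeL_smul (a : A) (m : M) (p : ℕ) (ω : ↥(⋀[A]^p M)) :
    wedgeL (a • m) p ω = a • wedgeL m p ω := by
  ext; simp

lemma wedgeL_nsmul (k : ℕ) (m : M) (p : ℕ) (ω : ↥(⋀[A]^p M)) :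
    wedgeL (k • m) p ω = k • wedgeL m p ω := by
  ext; simp [map_nsmul, mul_assoc]

lemma wedgeL_wedgeL (m m' : M) (p : ℕ) (ω : ↥(⋀[A]^p M)) :
    wedgeL m (p + 1) (wedgeL m' p ω) = - wedgeL m' (p + 1) (wedgeL m p ω) := by
  ext
  simp only [wedgeL_coe, NegMemClass.coe_neg, ← mul_assoc]
  rw [← neg_mul]
  congr 1
  exact eq_neg_of_add_eq_zero_left (ExteriorAlgebra.ι_add_mul_swap m m')

end Part1

section Part2


variable {R : Type v} {A M : Type u} [CommRing R] [CommRing A] [Algebra R A]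
  [AddCommGroup M] [Module A M] [Module R M] [IsScalarTower R A M]
  {δ : Derivation R A M} {d : ∀ p : ℕ, ↥(⋀[A]^p M) →ₗ[R] ↥(⋀[A]^(p + 1) M)}

lemma gen_eq (p : ℕ) (b₀ : A) (b : Fin p → A) :
    DeRham.gen δ p b₀ b = b₀ • ιMulti A p (fun i => δ (b i)) := rfl

lemma ιMulti_cons_add (p : ℕ) (x y : M) (v : Fin p → M) :
    ιMulti A (p + 1) (Fin.cons (x + y) v) =
      ιMulti A (p + 1) (Fin.cons x v) + ιMulti A (p + 1) (Fin.cons y v) :=
  (ιMulti A (p + 1) (M := M)).toMultilinearMap.cons_add v x y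

lemma ιMulti_cons_smul (p : ℕ) (a : A) (x : M) (v : Fin p → M) :
    ιMulti A (p + 1) (Fin.cons (a • x) v) = a • ιMulti A (p + 1) (Fin.cons x v) :=
  (ιMulti A (p + 1) (M := M)).toMultilinearMap.cons_smul v a x

/-- Leibniz rule for multiplication by a function. -/
theorem d_smul (hd : DeRham.IsRule δ d) (hδ : Submodule.span A (Set.range δ) = ⊤) (p : ℕ) (f : A)
    (ω : ↥(⋀[A]^p M)) : d p (f • ω) = wedgeL (δ f) p ω + f • d p ω := by
  induction ω using gen_induction δ hδ p with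
  | h0 => simp
  | hadd x y hx hy => rw [smul_add, map_add, hx, hy, map_add, map_add, smul_add]; abel
  | hgen b₀ b =>
    have h1 : f • DeRham.gen δ p b₀ b = DeRham.gen δ p (f * b₀) b := by
      rw [gen_eq, gen_eq, smul_smul]
    rw [h1, hd p, hd p, Derivation.leibniz, ιMulti_cons_add, ιMulti_cons_smul, ιMulti_cons_smul,
      gen_eq, map_smul, wedgeL_ιMulti]
    abel

/-- graded Leibniz rule for wedging with an exact one-form. -/
theorem d_wedgeL (hd : DeRham.IsRule δ d) (hδ : Submodule.span A (Set.range δ) = ⊤) (p : ℕ) (f : A)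
    (ω : ↥(⋀[A]^p M)) : d (p + 1) (wedgeL (δ f) p ω) = - wedgeL (δ f) (p + 1) (d p ω) := by
  induction ω using gen_induction δ hδ p with
  | h0 => simp
  | hadd x y hx hy => rw [map_add, map_add, hx, hy, map_add, map_add, neg_add]
  | hgen b₀ b =>
    have h1 : wedgeL (δ f) p (DeRham.gen δ p b₀ b) = DeRham.gen δ (p + 1) b₀ (Fin.cons f b) := by
      rw [gen_eq, gen_eq, map_smul, wedgeL_ιMulti]
      congr 2
      funext i
      refine Fin.cases ?_ (fun j => ?_) i <;> simp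
    rw [h1, hd (p + 1), hd p, wedgeL_ιMulti]
    have h2 : (fun i => δ ((Fin.cons f b : Fin (p + 1) → A) i)) =
        Fin.cons (δ f) (fun i => δ (b i)) := by
      funext i
      refine Fin.cases ?_ (fun j => ?_) i <;> simp
    rw [h2, ← wedgeL_ιMulti, ← wedgeL_ιMulti, ← wedgeL_ιMulti (δ f), ← wedgeL_ιMulti (δ b₀)]
    exact wedgeL_wedgeL _ _ _ _

end Part2

section Part3


variable {R : Type v} {A M : Type u} [CommRing R] [CommRing A] [Algebra R A]
  [AddCommGroup M] [Module A M] [Module R M] [IsScalarTower R A M]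

section Contract

variable (θ : M →ₗ[A] A)

lemma contract_eq_zero_of_mem_zero (x : ExteriorAlgebra A M) (hx : x ∈ ⋀[A]^0 M) :
    CliffordAlgebra.contractLeft (Q := (0 : QuadraticForm A M)) θ x = 0 := by
  have hx' : x ∈ (LinearMap.range (ExteriorAlgebra.ι A (M := M))) ^ 0 := hx
  rw [pow_zero, Submodule.mem_one] at hx'
  obtain ⟨r, rfl⟩ := hx'
  exact CliffordAlgebra.contractLeft_algebraMap (0 : QuadraticForm A M) θ r

lemma contract_mem (p : ℕ) : ∀ (x : ExteriorAlgebra A M), x ∈ ⋀[A]^(p + 1) M →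
    CliffordAlgebra.contractLeft (Q := (0 : QuadraticForm A M)) θ x ∈ ⋀[A]^p M := by
  induction p with
  | zero =>
    intro x hx
    have hx' : x ∈ (LinearMap.range (ExteriorAlgebra.ι A (M := M))) ^ (0 + 1) := hx
    rw [zero_add, pow_one] at hx'
    obtain ⟨m, rfl⟩ := hx'
    show _ ∈ (LinearMap.range (ExteriorAlgebra.ι A (M := M))) ^ 0
    rw [pow_zero, Submodule.mem_one]
    exact ⟨θ m, (CliffordAlgebra.contractLeft_ι (0 : QuadraticForm A M) θ m).symm⟩
  | succ p ih =>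
    intro x hx
    have hx' : x ∈ (LinearMap.range (ExteriorAlgebra.ι A (M := M))) ^ (p + 1 + 1) := hx
    rw [pow_succ'] at hx'
    refine Submodule.mul_induction_on hx' ?_ ?_
    · rintro _ ⟨m, rfl⟩ n hn
      rw [CliffordAlgebra.contractLeft_ι_mul]
      refine Submodule.sub_mem _ (Submodule.smul_mem _ _ hn) ?_
      show _ ∈ (LinearMap.range (ExteriorAlgebra.ι A (M := M))) ^ (p + 1)
      rw [pow_succ']
      exact Submodule.mul_mem_mul (LinearMap.mem_range_self _ m) (ih n hn)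
    · intro x y hx hy
      rw [map_add]
      exact Submodule.add_mem _ hx hy

/-- contraction with a linear form, on graded pieces. -/
noncomputable def ctr (p : ℕ) : ↥(⋀[A]^(p + 1) M) →ₗ[A] ↥(⋀[A]^p M) :=
  (CliffordAlgebra.contractLeft (Q := (0 : QuadraticForm A M)) θ).restrict (contract_mem θ p)

@[simp] lemma ctr_coe (p : ℕ) (ω : ↥(⋀[A]^(p + 1) M)) :
    ((ctr θ p ω : ↥(⋀[A]^p M)) : ExteriorAlgebra A M) =
      CliffordAlgebra.contractLeft (Q := (0 : QuadraticForm A M)) θ (ω : ExteriorAlgebra A M) := rfl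

lemma ctr_wedgeL_zero (m : M) (ω : ↥(⋀[A]^0 M)) : ctr θ 0 (wedgeL m 0 ω) = θ m • ω := by
  ext
  rw [ctr_coe, wedgeL_coe, CliffordAlgebra.contractLeft_ι_mul,
    contract_eq_zero_of_mem_zero θ _ ω.2, mul_zero, sub_zero]
  rfl

lemma ctr_wedgeL_succ (p : ℕ) (m : M) (ω : ↥(⋀[A]^(p + 1) M)) :
    ctr θ (p + 1) (wedgeL m (p + 1) ω) = θ m • ω - wedgeL m p (ctr θ p ω) := by
  ext
  rw [ctr_coe, wedgeL_coe, CliffordAlgebra.contractLeft_ι_mul]
  rfl

end Contract

end Part3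

section Part4


variable {R : Type v} {A M : Type u} [CommRing R] [CommRing A] [Algebra R A]
  [AddCommGroup M] [Module A M] [Module R M] [IsScalarTower R A M]

section Lie

variable (θ : M →ₗ[A] A) (d : ∀ p : ℕ, ↥(⋀[A]^p M) →ₗ[R] ↥(⋀[A]^(p + 1) M))

/-- the Lie derivative `d ι + ι d`. -/
noncomputable def Lie : (p : ℕ) → (↥(⋀[A]^p M) →ₗ[R] ↥(⋀[A]^p M))
  | 0 => ((ctr θ 0).restrictScalars R) ∘ₗ d 0
  | (p + 1) => d p ∘ₗ ((ctr θ p).restrictScalars R) + ((ctr θ (p + 1)).restrictScalars R) ∘ₗ d (p + 1)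

lemma Lie_zero (ω : ↥(⋀[A]^0 M)) : Lie θ d 0 ω = ctr θ 0 (d 0 ω) := rfl

lemma Lie_succ (p : ℕ) (ω : ↥(⋀[A]^(p + 1) M)) :
    Lie θ d (p + 1) ω = d p (ctr θ p ω) + ctr θ (p + 1) (d (p + 1) ω) := rfl

variable {θ d} {δ : Derivation R A M} (D : Derivation R A A)

theorem Lie_smul (hd : DeRham.IsRule δ d) (hδ : Submodule.span A (Set.range δ) = ⊤)
    (hθ : ∀ a, θ (δ a) = D a) (p : ℕ) (f : A) (ω : ↥(⋀[A]^p M)) :
    Lie θ d p (f • ω) = D f • ω + f • Lie θ d p ω := by
  cases p with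
  | zero =>
    rw [Lie_zero, Lie_zero, d_smul hd hδ, map_add, ctr_wedgeL_zero, hθ, map_smul]
  | succ p =>
    rw [Lie_succ, Lie_succ, d_smul hd hδ, map_smul, d_smul hd hδ, map_add, ctr_wedgeL_succ, hθ,
      map_smul, smul_add]
    abel

theorem Lie_wedgeL (hd : DeRham.IsRule δ d) (hδ : Submodule.span A (Set.range δ) = ⊤)
    (hθ : ∀ a, θ (δ a) = D a) (p : ℕ) (f : A) (ω : ↥(⋀[A]^p M)) :
    Lie θ d (p + 1) (wedgeL (δ f) p ω) = wedgeL (δ (D f)) p ω + wedgeL (δ f) p (Lie θ d p ω) := by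
  cases p with
  | zero =>
    rw [Lie_succ, Lie_zero, ctr_wedgeL_zero, hθ, d_smul hd hδ, d_wedgeL hd hδ, map_neg,
      ctr_wedgeL_succ, hθ]
    abel
  | succ p =>
    rw [Lie_succ, Lie_succ, ctr_wedgeL_succ, hθ, map_sub, d_smul hd hδ, d_wedgeL hd hδ,
      d_wedgeL hd hδ, map_neg, ctr_wedgeL_succ, hθ, map_add]
    abel

/-- eigen-forms: wedge of differentials of eigen-functions. -/
theorem Lie_ιMulti_eigen (hd : DeRham.IsRule δ d) (hδ : Submodule.span A (Set.range δ) = ⊤)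
    (hθ : ∀ a, θ (δ a) = D a) : ∀ (p : ℕ) (f : Fin p → A) (k : Fin p → ℕ),
    (∀ i, D (f i) = k i • f i) →
    Lie θ d p (ιMulti A p (fun i => δ (f i))) = (∑ i, k i) • ιMulti A p (fun i => δ (f i)) := by
  intro p
  induction p with
  | zero =>
    intro f k _
    have h1 : ιMulti A 0 (fun i => δ (f i)) = DeRham.gen δ 0 1 f := by
      rw [gen_eq, one_smul]
    rw [Lie_zero, h1, hd 0]
    have h2 : ιMulti A (0 + 1) (Fin.cons (δ 1) fun i => δ (f i)) = 0 := by
      apply (ιMulti A (0 + 1) (M := M)).map_coord_zero 0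
      simp
    rw [h2, map_zero]
    simp
  | succ p ih =>
    intro f k hk
    have h1 : (fun i => δ (f i)) = Fin.cons (δ (f 0)) (fun i : Fin p => δ (f i.succ)) := by
      funext i
      refine Fin.cases ?_ (fun j => ?_) i <;> simp
    rw [h1, ← wedgeL_ιMulti, Lie_wedgeL D hd hδ hθ, ih (fun i => f i.succ) (fun i => k i.succ)
      (fun i => hk i.succ), hk 0, map_nsmul, wedgeL_nsmul, map_nsmul, Fin.sum_univ_succ, add_smul]

theorem Lie_gen_eigen (hd : DeRham.IsRule δ d) (hδ : Submodule.span A (Set.range δ) = ⊤)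
    (hθ : ∀ a, θ (δ a) = D a) (p : ℕ) (f₀ : A) (k₀ : ℕ) (f : Fin p → A) (k : Fin p → ℕ)
    (h₀ : D f₀ = k₀ • f₀) (hk : ∀ i, D (f i) = k i • f i) :
    Lie θ d p (DeRham.gen δ p f₀ f) = (k₀ + ∑ i, k i) • DeRham.gen δ p f₀ f := by
  rw [gen_eq, Lie_smul D hd hδ hθ, Lie_ιMulti_eigen D hd hδ hθ p f k hk, h₀, add_smul,
    smul_comm f₀]
  congr 1
  rw [← Nat.cast_smul_eq_nsmul A, smul_assoc, Nat.cast_smul_eq_nsmul]

end Lie

end Part4

section Part5


variable {R : Type v} {A M : Type u} [CommRing R] [CommRing A] [Algebra R A]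
  [AddCommGroup M] [Module A M] [Module R M] [IsScalarTower R A M]

section LiePoly

variable {θ : M →ₗ[A] A} {d : ∀ p : ℕ, ↥(⋀[A]^p M) →ₗ[R] ↥(⋀[A]^(p + 1) M)}

lemma d_Lie (hd2 : ∀ p : ℕ, d (p + 1) ∘ₗ d p = 0) (p : ℕ) (ω : ↥(⋀[A]^p M)) :
    d p (Lie θ d p ω) = Lie θ d (p + 1) (d p ω) := by
  have h2 : ∀ (q : ℕ) (x : ↥(⋀[A]^q M)), d (q + 1) (d q x) = 0 := fun q x =>
    LinearMap.congr_fun (hd2 q) x
  cases p with
  | zero => rw [Lie_zero, Lie_succ, h2, map_zero, add_zero]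
  | succ p => rw [Lie_succ, Lie_succ, map_add, h2, h2, map_zero, zero_add, add_zero]

lemma d_Lie_pow (hd2 : ∀ p : ℕ, d (p + 1) ∘ₗ d p = 0) (p n : ℕ) (ω : ↥(⋀[A]^p M)) :
    d p ((Lie θ d p ^ n) ω) = (Lie θ d (p + 1) ^ n) (d p ω) := by
  induction n generalizing ω with
  | zero => simp
  | succ n ih => rw [pow_succ, Module.End.mul_apply, ih, d_Lie hd2, pow_succ, Module.End.mul_apply]

lemma d_aeval (hd2 : ∀ p : ℕ, d (p + 1) ∘ₗ d p = 0) (p : ℕ) (P : R[X]) (ω : ↥(⋀[A]^p M)) :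
    d p (aeval (Lie θ d p) P ω) = aeval (Lie θ d (p + 1)) P (d p ω) := by
  induction P using Polynomial.induction_on' with
  | add P Q hP hQ => simp only [map_add, LinearMap.add_apply, hP, hQ]
  | monomial n a =>
    simp only [aeval_monomial, Module.End.mul_apply, Module.algebraMap_end_apply, map_smul,
      d_Lie_pow hd2]

lemma aeval_eigen (p : ℕ) (P : R[X]) (m : ℕ) (ω : ↥(⋀[A]^p M)) (h : Lie θ d p ω = m • ω) :
    aeval (Lie θ d p) P ω = P.eval (m : R) • ω := by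
  have hpow : ∀ n : ℕ, (Lie θ d p ^ n) ω = ((m : R) ^ n) • ω := by
    intro n
    induction n with
    | zero => simp
    | succ n ih =>
      rw [pow_succ', Module.End.mul_apply, ih, map_smul, h, pow_succ', mul_smul,
        Nat.cast_smul_eq_nsmul R, smul_comm]
  induction P using Polynomial.induction_on' with
  | add P Q hP hQ => simp only [map_add, LinearMap.add_apply, hP, hQ, eval_add, add_smul]
  | monomial n a =>
    simp only [aeval_monomial, Module.End.mul_apply, Module.algebraMap_end_apply, hpow,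
      eval_monomial, mul_smul]

theorem sub_mem_coboundaries [Algebra ℚ R] (hd2 : ∀ p : ℕ, d (p + 1) ∘ₗ d p = 0) (p : ℕ)
    (y : ↥(⋀[A]^p M)) (hy : d p y = 0) (W : Finset ℕ) (hW : ∀ m ∈ W, 0 < m) (y₀ : ↥(⋀[A]^p M))
    (hP : ∀ P : R[X], (∀ m ∈ W, P.eval (m : R) = 0) →
      aeval (Lie θ d p) P y = P.eval 0 • y₀) :
    y - y₀ ∈ DeRham.coboundaries d p := by
  classical
  let P : R[X] := ∏ m ∈ W, (1 - C (algebraMap ℚ R (1 / (m : ℚ))) * X)
  have hP0 : P.eval 0 = 1 := by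
    simp only [P, eval_prod, eval_sub, eval_one, eval_mul, eval_C, eval_X, mul_zero, sub_zero,
      Finset.prod_const_one]
  have hPm : ∀ m ∈ W, P.eval (m : R) = 0 := by
    intro m hm
    simp only [P, eval_prod]
    apply Finset.prod_eq_zero hm
    have hm0 : (m : ℚ) ≠ 0 := Nat.cast_ne_zero.mpr (hW m hm).ne'
    have : algebraMap ℚ R (1 / (m : ℚ)) * (m : R) = 1 := by
      rw [← map_natCast (algebraMap ℚ R) m, ← map_mul, one_div, inv_mul_cancel₀ hm0, map_one]
    simp only [eval_sub, eval_one, eval_mul, eval_C, eval_X, this, sub_self]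
  have h1 := hP P hPm
  rw [hP0, one_smul] at h1
  have hX : X ∣ (1 - P) := by
    rw [Polynomial.X_dvd_iff, coeff_sub, coeff_zero_eq_eval_zero, coeff_zero_eq_eval_zero, hP0]
    simp
  obtain ⟨Q, hQ⟩ := hX
  have h2 : y - y₀ = Lie θ d p (aeval (Lie θ d p) Q y) := by
    have h3 : aeval (Lie θ d p) (1 - P) y = y - y₀ := by
      rw [map_sub, map_one, LinearMap.sub_apply, h1]
      rfl
    rw [← h3, hQ, map_mul, aeval_X, Module.End.mul_apply]
  set u := aeval (Lie θ d p) Q y with hu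
  have hdu : d p u = 0 := by
    rw [hu, d_aeval hd2, hy, map_zero]
  rw [h2]
  cases p with
  | zero =>
    rw [Lie_zero, hdu, map_zero]
    exact Submodule.zero_mem _
  | succ p =>
    rw [Lie_succ, hdu, map_zero, add_zero]
    exact ⟨_, rfl⟩

end LiePoly

end Part5

end Groth.Agent.Lib.Helper47.DRPoly
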