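import Groth.Agent.Lib.Helper47.DRPolyLie

/-!
# de Rham cohomology of A[X] over a Q-algebra: Euler derivation, evaluation at 0, homotopy invariance (helper47)
-/

set_option autoImplicit false
universe u
open exteriorPower Polynomial

namespace Groth.Agent.Lib.Helper47.DRPoly

section Part6


variable {R A : Type u} [CommRing R] [CommRing A] [Algebra R A]

section Euler

variable (R A)

/-- the Euler derivation `X d/dX` of `A[X]`, as an `R`-derivation. -/
noncomputable def euler : Derivation R A[X] A[X] :=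
  (X : A[X]) • (Polynomial.derivative' (R := A)).restrictScalars R

lemma euler_apply (f : A[X]) : euler R A f = X * derivative f := rfl

lemma euler_monomial (k : ℕ) (a : A) : euler R A (monomial k a) = k • monomial k a := by
  rw [euler_apply, derivative_monomial]
  cases k with
  | zero => simp
  | succ k =>
    rw [Nat.add_sub_cancel, X_mul_monomial, nsmul_eq_mul, ← C_eq_natCast, C_mul_monomial, mul_comm]

/-- the contraction form attached to the Euler derivation. -/
noncomputable def eulerForm : Ω[A[X]⁄R] →ₗ[A[X]] A[X] := (euler R A).liftKaehlerDifferential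

lemma eulerForm_D (f : A[X]) : eulerForm R A (KaehlerDifferential.D R A[X] f) = euler R A f :=
  Derivation.liftKaehlerDifferential_comp_D _ _

end Euler

section Monomial

/-- additive induction on monomial generators of forms on `A[X]`. -/
theorem monomial_gen_induction (p : ℕ) {P : ↥(⋀[A[X]]^p (Ω[A[X]⁄R])) → Prop}
    (h0 : P 0) (hadd : ∀ x y, P x → P y → P (x + y))
    (hmono : ∀ (k₀ : ℕ) (a₀ : A) (k : Fin p → ℕ) (a : Fin p → A),
      P (DeRham.gen (KaehlerDifferential.D R A[X]) p (monomial k₀ a₀)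
        (fun i => monomial (k i) (a i)))) :
    ∀ x, P x := by
  classical
  have hsum : ∀ {ι : Type} (s : Finset ι) (g : ι → ↥(⋀[A[X]]^p (Ω[A[X]⁄R]))),
      (∀ i ∈ s, P (g i)) → P (∑ i ∈ s, g i) := by
    intro ι s g hg
    induction s using Finset.induction_on with
    | empty => simpa using h0
    | insert i s hi ih =>
      rw [Finset.sum_insert hi]
      exact hadd _ _ (hg i (Finset.mem_insert_self _ _))
        (ih fun j hj => hg j (Finset.mem_insert_of_mem hj))
  apply gen_induction (KaehlerDifferential.D R A[X])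
    (KaehlerDifferential.span_range_derivation R A[X]) p h0 hadd
  intro f₀ f
  let G : MultilinearMap R (fun _ : Fin p => A[X]) ↥(⋀[A[X]]^p (Ω[A[X]⁄R])) :=
    ((ιMulti A[X] p (M := Ω[A[X]⁄R])).toMultilinearMap.restrictScalars R).compLinearMap
      (fun _ => (KaehlerDifferential.D R A[X]).toLinearMap)
  have hG : ∀ g : Fin p → A[X], G g = ιMulti A[X] p (fun i => KaehlerDifferential.D R A[X] (g i)) :=
    fun g => rfl
  have hf : f = fun i => ∑ n ∈ (f i).support, monomial n ((f i).coeff n) := by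
    funext i
    exact (f i).as_sum_support
  have h1 : DeRham.gen (KaehlerDifferential.D R A[X]) p f₀ f =
      ∑ n₀ ∈ f₀.support, ∑ r ∈ Fintype.piFinset (fun i => (f i).support),
        DeRham.gen (KaehlerDifferential.D R A[X]) p (monomial n₀ (f₀.coeff n₀))
          (fun i => monomial (r i) ((f i).coeff (r i))) := by
    rw [gen_eq, ← hG]
    conv_lhs => rw [hf, G.map_sum_finset, f₀.as_sum_support, Finset.sum_smul]
    refine Finset.sum_congr rfl fun n₀ _ => ?_
    rw [Finset.smul_sum]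
    refine Finset.sum_congr rfl fun r _ => ?_
    rw [hG, gen_eq]
  rw [h1]
  exact hsum _ _ fun n₀ _ => hsum _ _ fun r _ => hmono _ _ _ _

end Monomial

end Part6

section Part7


variable (R A : Type u) [CommRing R] [CommRing A] [Algebra R A]

section Ev0

/-- `Ω[A⁄R]` as an `A[X]`-module through `X ↦ 0`. -/
@[reducible] noncomputable def modB : Module A[X] (Ω[A⁄R]) := Module.compHom _ (Polynomial.evalRingHom (0 : A))

attribute [local instance] modB

lemma modB_smul (f : A[X]) (m : Ω[A⁄R]) : f • m = (f.eval 0) • m := rfl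

instance towerB : IsScalarTower R A[X] (Ω[A⁄R]) := ⟨fun r f m => by
  rw [modB_smul, modB_smul, Polynomial.eval_smul, smul_assoc]⟩

/-- the derivation `f ↦ d(f(0))`. -/
noncomputable def der0 : Derivation R A[X] (Ω[A⁄R]) :=
  Derivation.mk' ((KaehlerDifferential.D R A).toLinearMap ∘ₗ
    ((Polynomial.aeval (0 : A)).toLinearMap.restrictScalars R)) (fun f g => by
    simp only [LinearMap.coe_comp, Function.comp_apply, LinearMap.coe_restrictScalars,
      AlgHom.toLinearMap_apply, map_mul, Derivation.coeFn_coe, Derivation.leibniz]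
    rfl)

lemma der0_apply (f : A[X]) : der0 R A f = KaehlerDifferential.D R A (f.eval 0) := by
  simp [der0, Polynomial.coe_aeval_eq_eval]

/-- the induced map on differentials. -/
noncomputable def omega0 : Ω[A[X]⁄R] →ₗ[A[X]] Ω[A⁄R] := (der0 R A).liftKaehlerDifferential

lemma omega0_D (f : A[X]) :
    omega0 R A (KaehlerDifferential.D R A[X] f) = KaehlerDifferential.D R A (f.eval 0) := by
  rw [omega0, Derivation.liftKaehlerDifferential_comp_D, der0_apply]

/-- the exterior algebra of `Ω[A⁄R]` as an `A[X]`-algebra through `X ↦ 0`. -/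
@[reducible] noncomputable def algB : Algebra A[X] (ExteriorAlgebra A (Ω[A⁄R])) :=
  RingHom.toAlgebra' ((algebraMap A (ExteriorAlgebra A (Ω[A⁄R]))).comp
    (Polynomial.evalRingHom (0 : A))) (fun c x => by
      show algebraMap A (ExteriorAlgebra A (Ω[A⁄R])) (c.eval 0) * x =
        x * algebraMap A (ExteriorAlgebra A (Ω[A⁄R])) (c.eval 0)
      exact Algebra.commutes _ _)

attribute [local instance] algB

lemma algB_algebraMap (f : A[X]) : algebraMap A[X] (ExteriorAlgebra A (Ω[A⁄R])) f =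
    algebraMap A (ExteriorAlgebra A (Ω[A⁄R])) (f.eval 0) := rfl

lemma algB_smul (f : A[X]) (x : ExteriorAlgebra A (Ω[A⁄R])) : f • x = (f.eval 0) • x := by
  rw [Algebra.smul_def, algB_algebraMap, ← Algebra.smul_def]

/-- `ι` as an `A[X]`-linear map. -/
noncomputable def iotaB : Ω[A⁄R] →ₗ[A[X]] ExteriorAlgebra A (Ω[A⁄R]) where
  toFun := ExteriorAlgebra.ι A
  map_add' := map_add _
  map_smul' f m := by
    rw [modB_smul, map_smul, RingHom.id_apply, algB_smul]

/-- evaluation at `X = 0` on exterior algebras. -/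
noncomputable def rhoE : ExteriorAlgebra A[X] (Ω[A[X]⁄R]) →ₐ[A[X]] ExteriorAlgebra A (Ω[A⁄R]) :=
  ExteriorAlgebra.lift A[X] ⟨(iotaB R A) ∘ₗ (omega0 R A), fun m => by
    simp only [LinearMap.coe_comp, Function.comp_apply]
    exact ExteriorAlgebra.ι_sq_zero _⟩

lemma rhoE_ι (m : Ω[A[X]⁄R]) : rhoE R A (ExteriorAlgebra.ι A[X] m) = ExteriorAlgebra.ι A (omega0 R A m) := by
  rw [rhoE, ExteriorAlgebra.lift_ι_apply]
  rfl

lemma rhoE_ιMulti (p : ℕ) (v : Fin p → Ω[A[X]⁄R]) :
    rhoE R A (ExteriorAlgebra.ιMulti A[X] p v) =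
      ExteriorAlgebra.ιMulti A p (fun i => omega0 R A (v i)) := by
  rw [ExteriorAlgebra.ιMulti_apply, ExteriorAlgebra.ιMulti_apply, map_list_prod, List.map_ofFn]
  congr 2
  funext i
  exact rhoE_ι R A (v i)

lemma rhoE_mem (p : ℕ) (x : ExteriorAlgebra A[X] (Ω[A[X]⁄R])) (hx : x ∈ ⋀[A[X]]^p (Ω[A[X]⁄R])) :
    rhoE R A x ∈ ⋀[A]^p (Ω[A⁄R]) := by
  rw [← ExteriorAlgebra.ιMulti_span_fixedDegree A[X] p] at hx
  induction hx using Submodule.span_induction with
  | mem y hy =>
    obtain ⟨v, rfl⟩ := hy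
    rw [rhoE_ιMulti]
    exact ExteriorAlgebra.ιMulti_range A p ⟨_, rfl⟩
  | zero => rw [map_zero]; exact Submodule.zero_mem _
  | add y z _ _ hy hz => rw [map_add]; exact Submodule.add_mem _ hy hz
  | smul f y _ hy =>
    rw [map_smul, algB_smul]
    exact Submodule.smul_mem _ _ hy

/-- evaluation at `X = 0` on forms. -/
noncomputable def rho (p : ℕ) : ↥(⋀[A[X]]^p (Ω[A[X]⁄R])) →+ ↥(⋀[A]^p (Ω[A⁄R])) :=
  AddMonoidHom.mk' (fun ω => ⟨rhoE R A ω, rhoE_mem R A p _ ω.2⟩) (fun x y => by
    ext; simp)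

theorem rho_gen (p : ℕ) (f₀ : A[X]) (f : Fin p → A[X]) :
    rho R A p (DeRham.gen (KaehlerDifferential.D R A[X]) p f₀ f) =
      DeRham.gen (KaehlerDifferential.D R A) p (f₀.eval 0) (fun i => (f i).eval 0) := by
  ext
  rw [gen_eq, gen_eq]
  show rhoE R A ((f₀ • ιMulti A[X] p fun i => (KaehlerDifferential.D R A[X]) (f i) :
    ↥(⋀[A[X]]^p (Ω[A[X]⁄R]))) : ExteriorAlgebra A[X] (Ω[A[X]⁄R])) = _
  rw [Submodule.coe_smul, map_smul, ιMulti_apply_coe, rhoE_ιMulti, algB_smul, Submodule.coe_smul,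
    ιMulti_apply_coe]
  congr 2
  funext i
  exact omega0_D R A (f i)

end Ev0

end Part7

section Part8


variable {R A : Type u} [CommRing R] [CommRing A] [Algebra R A]
  {d : ∀ p : ℕ, ↥(⋀[A]^p (Ω[A⁄R])) →ₗ[R] ↥(⋀[A]^(p + 1) (Ω[A⁄R]))}
  {d' : ∀ p : ℕ, ↥(⋀[A[X]]^p (Ω[A[X]⁄R])) →ₗ[R] ↥(⋀[A[X]]^(p + 1) (Ω[A[X]⁄R]))}
  {ψ : ∀ p : ℕ, ↥(⋀[A]^p (Ω[A⁄R])) →+ ↥(⋀[A[X]]^p (Ω[A[X]⁄R]))}

lemma rho_psi
    (hψ : DeRham.IsCxMap (KaehlerDifferential.D R A) (KaehlerDifferential.D R A[X])
      (algebraMap A A[X]) ψ) (p : ℕ) (x : ↥(⋀[A]^p (Ω[A⁄R]))) : rho R A p (ψ p x) = x := by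
  induction x using gen_induction (KaehlerDifferential.D R A)
    (KaehlerDifferential.span_range_derivation R A) p with
  | h0 => simp
  | hadd x y hx hy => rw [map_add, map_add, hx, hy]
  | hgen b₀ b =>
    rw [hψ p b₀ b, rho_gen]
    simp only [Polynomial.algebraMap_apply, Algebra.algebraMap_self, RingHom.id_apply, eval_C]

lemma rho_d (hd : DeRham.IsRule (KaehlerDifferential.D R A) d)
    (hd' : DeRham.IsRule (KaehlerDifferential.D R A[X]) d') (p : ℕ)
    (y : ↥(⋀[A[X]]^p (Ω[A[X]⁄R]))) : rho R A (p + 1) (d' p y) = d p (rho R A p y) := by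
  induction y using gen_induction (KaehlerDifferential.D R A[X])
    (KaehlerDifferential.span_range_derivation R A[X]) p with
  | h0 => simp
  | hadd x y hx hy => rw [map_add, map_add, hx, hy, map_add, map_add]
  | hgen f₀ f =>
    have h1 : ιMulti A[X] (p + 1) (Fin.cons (KaehlerDifferential.D R A[X] f₀)
        fun i => KaehlerDifferential.D R A[X] (f i)) =
        DeRham.gen (KaehlerDifferential.D R A[X]) (p + 1) 1 (Fin.cons f₀ f) := by
      rw [gen_eq, one_smul]
      congr 1
      funext i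
      refine Fin.cases ?_ (fun j => ?_) i <;> simp
    rw [hd' p, h1, rho_gen, rho_gen, hd p, gen_eq, eval_one, one_smul]
    congr 1
    funext i
    refine Fin.cases ?_ (fun j => ?_) i <;> simp

lemma exists_weights [Algebra ℚ R] (hd' : DeRham.IsRule (KaehlerDifferential.D R A[X]) d')
    (hψ : DeRham.IsCxMap (KaehlerDifferential.D R A) (KaehlerDifferential.D R A[X])
      (algebraMap A A[X]) ψ) (p : ℕ) (y : ↥(⋀[A[X]]^p (Ω[A[X]⁄R]))) :
    ∃ (W : Finset ℕ) (x₀ : ↥(⋀[A]^p (Ω[A⁄R]))), (∀ m ∈ W, 0 < m) ∧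
      ∀ P : R[X], (∀ m ∈ W, P.eval (m : R) = 0) →
        aeval (Lie (eulerForm R A) d' p) P y = P.eval 0 • ψ p x₀ := by
  classical
  induction y using monomial_gen_induction p with
  | h0 => exact ⟨∅, 0, by simp, fun P _ => by simp⟩
  | hadd x y hx hy =>
    obtain ⟨W₁, x₁, hW₁, h₁⟩ := hx
    obtain ⟨W₂, x₂, hW₂, h₂⟩ := hy
    refine ⟨W₁ ∪ W₂, x₁ + x₂, ?_, fun P hP => ?_⟩
    · intro m hm
      rcases Finset.mem_union.mp hm with h | h
      · exact hW₁ m h
      · exact hW₂ m h
    · rw [map_add, h₁ P fun m hm => hP m (Finset.mem_union_left _ hm),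
        h₂ P fun m hm => hP m (Finset.mem_union_right _ hm), map_add, smul_add]
  | hmono k₀ a₀ k a =>
    have hT := Lie_gen_eigen (euler R A) hd' (KaehlerDifferential.span_range_derivation R A[X])
      (eulerForm_D R A) p (monomial k₀ a₀) k₀ (fun i => monomial (k i) (a i)) k
      (euler_monomial R A k₀ a₀) (fun i => euler_monomial R A (k i) (a i))
    by_cases hm : k₀ + ∑ i, k i = 0
    · have hk₀ : k₀ = 0 := by omega
      have hk : ∀ i, k i = 0 := by
        intro i
        have : k i ≤ ∑ j, k j := Finset.single_le_sum (f := k) (fun _ _ => Nat.zero_le _)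
          (Finset.mem_univ i)
        omega
      refine ⟨∅, DeRham.gen (KaehlerDifferential.D R A) p a₀ a, by simp, fun P _ => ?_⟩
      rw [aeval_eigen p P _ _ hT, hm, Nat.cast_zero, hψ p a₀ a]
      congr 2
      · rw [hk₀, monomial_zero_left, Polynomial.algebraMap_apply, Algebra.algebraMap_self,
          RingHom.id_apply]
      · funext i
        rw [hk i, monomial_zero_left, Polynomial.algebraMap_apply, Algebra.algebraMap_self,
          RingHom.id_apply]
    · refine ⟨{k₀ + ∑ i, k i}, 0, ?_, fun P hP => ?_⟩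
      · intro m hm'
        rw [Finset.mem_singleton] at hm'
        omega
      · rw [aeval_eigen p P _ _ hT, hP _ (Finset.mem_singleton_self _), zero_smul, map_zero,
          smul_zero]

theorem main [Algebra ℚ R] (hd : DeRham.IsDiff (KaehlerDifferential.D R A) d)
    (hd' : DeRham.IsDiff (KaehlerDifferential.D R A[X]) d')
    (hψ : DeRham.IsCxMap (KaehlerDifferential.D R A) (KaehlerDifferential.D R A[X])
      (algebraMap A A[X]) ψ)
    (hcomm : ∀ (p : ℕ) (x : ↥(⋀[A]^p (Ω[A⁄R]))), ψ (p + 1) (d p x) = d' p (ψ p x)) (i : ℕ) :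
    (∀ y ∈ DeRham.cocycles d' i, ∃ x ∈ DeRham.cocycles d i,
        y - ψ i x ∈ DeRham.coboundaries d' i) ∧
      (∀ x ∈ DeRham.cocycles d i, ψ i x ∈ DeRham.coboundaries d' i →
        x ∈ DeRham.coboundaries d i) := by
  have h2' : ∀ (q : ℕ) (x : ↥(⋀[A[X]]^q (Ω[A[X]⁄R]))), d' (q + 1) (d' q x) = 0 := fun q x =>
    LinearMap.congr_fun (hd'.2 q) x
  constructor
  · intro y hy
    have hy' : d' i y = 0 := hy
    obtain ⟨W, x₀, hW, hP⟩ := exists_weights hd'.1 hψ i y
    have hcob := sub_mem_coboundaries hd'.2 i y hy' W hW (ψ i x₀) hP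
    refine ⟨x₀, ?_, hcob⟩
    show d i x₀ = 0
    have h1 : d' i (ψ i x₀) = 0 := by
      have h3 : d' i (y - ψ i x₀) = 0 := by
        cases i with
        | zero =>
          have : y - ψ 0 x₀ = 0 := hcob
          rw [this, map_zero]
        | succ i =>
          obtain ⟨z, hz⟩ := hcob
          rw [← hz, h2']
      rw [map_sub, hy', zero_sub, neg_eq_zero] at h3
      exact h3
    rw [← rho_psi hψ (i + 1) (d i x₀), hcomm, h1, map_zero]
  · intro x _ hx
    cases i with
    | zero =>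
      have h1 : ψ 0 x = 0 := hx
      have h2 : x = 0 := by rw [← rho_psi hψ 0 x, h1, map_zero]
      rw [h2]
      exact Submodule.zero_mem _
    | succ i =>
      obtain ⟨z, hz⟩ := hx
      refine ⟨rho R A i z, ?_⟩
      rw [← rho_d hd.1 hd'.1, hz, rho_psi hψ]

end Part8

end Groth.Agent.Lib.Helper47.DRPoly
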