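import Mathlib

/-!
# Countability of the bounded derived category of a countable abelian category (helper47)
-/

set_option autoImplicit false
universe w v u
open CategoryTheory Limits
open scoped ZeroObject

namespace Groth.Agent.Lib.Helper47.DbCountable

variable {A : Type u} [Category.{v} A] [Abelian A]

section Param

variable (e : ℕ → A) (z : ℕ)

/-- parameter data for complexes supported in `[a, b]`. -/
def T (a b : ℤ) : Type v :=
  {p : Σ (n : ℤ → ℕ), (∀ i : ℤ, e (n i) ⟶ e (n (i + 1))) //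
    (∀ i, ¬ (a ≤ i ∧ i ≤ b) → p.1 i = z) ∧ ∀ i, p.2 i ≫ p.2 (i + 1) = 0}

variable {e z}

lemma T_countable (hz : IsZero (e z)) (hhom : ∀ X Y : A, Countable (X ⟶ Y)) (a b : ℤ) :
    Countable (T e z a b) := by
  let H := Σ (p q : ℕ), (e p ⟶ e q)
  let f : T e z a b → (Set.Icc a b → H) := fun t i => ⟨t.1.1 i, t.1.1 (i + 1), t.1.2 i⟩
  have hf : Function.Injective f := by
    rintro ⟨⟨n, d⟩, h1, h2⟩ ⟨⟨n', d'⟩, h1', h2'⟩ hff
    have hn : n = n' := by
      funext i
      by_cases hi : a ≤ i ∧ i ≤ b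
      · have := congrFun hff ⟨i, hi⟩
        exact congrArg Sigma.fst this
      · exact (h1 i hi).trans (h1' i hi).symm
    subst hn
    have hd : d = d' := by
      funext i
      by_cases hi : a ≤ i ∧ i ≤ b
      · have := congrFun hff ⟨i, hi⟩
        have h3 := eq_of_heq (Sigma.mk.inj this).2
        exact eq_of_heq (Sigma.mk.inj h3).2
      · have h0 : IsZero (e (n i)) := by
          have h4 : n i = z := h1 i hi
          rw [h4]; exact hz
        exact h0.eq_of_src _ _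
    subst hd
    rfl
  exact hf.countable

/-- the complex attached to a parameter. -/
noncomputable def K {a b : ℤ} (t : T e z a b) : CochainComplex A ℤ :=
  CochainComplex.of (fun i => e (t.1.1 i)) t.1.2 t.2.2

lemma K_X {a b : ℤ} (t : T e z a b) (i : ℤ) : (K t).X i = e (t.1.1 i) := rfl

lemma K_isStrictlyGE (hz : IsZero (e z)) {a b : ℤ} (t : T e z a b) : (K t).IsStrictlyGE a := by
  rw [CochainComplex.isStrictlyGE_iff]
  intro i hi
  rw [K_X, t.2.1 i (by omega)]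
  exact hz

lemma K_isStrictlyLE (hz : IsZero (e z)) {a b : ℤ} (t : T e z a b) : (K t).IsStrictlyLE b := by
  rw [CochainComplex.isStrictlyLE_iff]
  intro i hi
  rw [K_X, t.2.1 i (by omega)]
  exact hz

lemma exists_iso_K (hz : IsZero (e z)) (hiso : ∀ X : A, ∃ n : ℕ, Nonempty (X ≅ e n)) (a b : ℤ)
    (X : CochainComplex A ℤ) [X.IsStrictlyGE a] [X.IsStrictlyLE b] :
    ∃ t : T e z a b, Nonempty (X ≅ K t) := by
  classical
  choose idx hidx using hiso
  let n : ℤ → ℕ := fun i => if a ≤ i ∧ i ≤ b then idx (X.X i) else z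
  have hφ : ∀ i, Nonempty (X.X i ≅ e (n i)) := by
    intro i
    by_cases hi : a ≤ i ∧ i ≤ b
    · simp only [n, if_pos hi]
      exact hidx _
    · simp only [n, if_neg hi]
      have h0 : IsZero (X.X i) := by
        by_cases h1 : a ≤ i
        · exact X.isZero_of_isStrictlyLE b i (by omega)
        · exact X.isZero_of_isStrictlyGE a i (by omega)
      exact ⟨h0.iso hz⟩
  let φ : ∀ i, X.X i ≅ e (n i) := fun i => (hφ i).some
  let d : ∀ i : ℤ, e (n i) ⟶ e (n (i + 1)) := fun i => (φ i).inv ≫ X.d i (i + 1) ≫ (φ (i + 1)).hom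
  have sq : ∀ i, d i ≫ d (i + 1) = 0 := by
    intro i
    simp [d]
  have hn : ∀ i, ¬ (a ≤ i ∧ i ≤ b) → n i = z := fun i hi => by simp only [n, if_neg hi]
  refine ⟨⟨⟨n, d⟩, hn, sq⟩, ⟨HomologicalComplex.Hom.isoOfComponents (fun i => φ i) ?_⟩⟩
  rintro i j (rfl : i + 1 = j)
  simp [K, CochainComplex.of_d, d]

end Param

section Main


variable {A : Type u} [Category.{v} A] [Abelian A]

lemma hom_countable (hhom : ∀ X Y : A, Countable (X ⟶ Y)) (a b : ℤ)
    (X Y : CochainComplex A ℤ) [X.IsStrictlyGE a] [X.IsStrictlyLE b] : Countable (X ⟶ Y) := by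
  let f : (X ⟶ Y) → (∀ i : Set.Icc a b, X.X i ⟶ Y.X i) := fun g i => g.f i
  have hf : Function.Injective f := by
    intro g g' h
    ext i
    by_cases hi : a ≤ i ∧ i ≤ b
    · exact congrFun h ⟨i, hi⟩
    · have h0 : IsZero (X.X i) := by
        by_cases h1 : a ≤ i
        · exact X.isZero_of_isStrictlyLE b i (by omega)
        · exact X.isZero_of_isStrictlyGE a i (by omega)
      exact h0.eq_of_src _ _
  exact hf.countable

variable [HasDerivedCategory.{w} A]

open DerivedCategory in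
theorem hom_Q_countable {e : ℕ → A} {z : ℕ} (hz : IsZero (e z))
    (hhom : ∀ X Y : A, Countable (X ⟶ Y)) (hiso : ∀ X : A, ∃ n : ℕ, Nonempty (X ≅ e n))
    (a b : ℤ) (X Y : CochainComplex A ℤ) [X.IsStrictlyGE a] [X.IsStrictlyLE b]
    [Y.IsStrictlyGE a] : Countable (Q.obj X ⟶ Q.obj Y) := by
  classical
  haveI := T_countable hz hhom a b
  haveI : ∀ t : T e z a b, Countable ((K t ⟶ X) × (K t ⟶ Y)) := fun t => by
    haveI := K_isStrictlyGE hz t
    haveI := K_isStrictlyLE hz t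
    haveI := hom_countable hhom a b (K t) X
    haveI := hom_countable hhom a b (K t) Y
    infer_instance
  let g : (Σ t : T e z a b, (K t ⟶ X) × (K t ⟶ Y)) → (Q.obj X ⟶ Q.obj Y) := fun p =>
    if h : IsIso (Q.map p.2.1) then (@inv _ _ _ _ (Q.map p.2.1) h) ≫ Q.map p.2.2 else 0
  have hg : Function.Surjective g := by
    intro f
    obtain ⟨X', _, _, s, hs, u, rfl⟩ := right_fac_of_isStrictlyLE_of_isStrictlyGE a b f
    obtain ⟨t, ⟨φ⟩⟩ := exists_iso_K hz hiso a b X'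
    have h1 : IsIso (Q.map (φ.inv ≫ s)) := by
      rw [Q.map_comp]; infer_instance
    refine ⟨⟨t, φ.inv ≫ s, φ.inv ≫ u⟩, ?_⟩
    simp only [g, dif_pos h1]
    simp only [Functor.map_comp, IsIso.inv_comp, Category.assoc, IsIso.inv_hom_id_assoc]
  exact hg.countable

open DerivedCategory in
theorem main (hhom : ∀ X Y : A, Countable (X ⟶ Y))
    (hiso : ∃ e : ℕ → A, ∀ X : A, ∃ n : ℕ, Nonempty (X ≅ e n)) :
    (∀ K L : DerivedCategory.Bounded A, Countable (K ⟶ L)) ∧
      ∃ e : ℕ → DerivedCategory.Bounded A, ∀ K : DerivedCategory.Bounded A,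
        ∃ n : ℕ, Nonempty (K ≅ e n) := by
  obtain ⟨e, he⟩ := hiso
  obtain ⟨z, ⟨iz⟩⟩ := he (0 : A)
  have hz : IsZero (e z) := (isZero_zero A).of_iso iz.symm
  constructor
  · intro K L
    obtain ⟨⟨a₁, hK1⟩, ⟨b₁, hK2⟩⟩ := K.property
    obtain ⟨⟨a₂, hL1⟩, ⟨b₂, hL2⟩⟩ := L.property
    haveI : K.obj.IsGE (min a₁ a₂) := TStructure.t.isGE_of_ge K.obj _ a₁ (min_le_left _ _)
    haveI : L.obj.IsGE (min a₁ a₂) := TStructure.t.isGE_of_ge L.obj _ a₂ (min_le_right _ _)
    haveI : K.obj.IsLE (max b₁ b₂) := TStructure.t.isLE_of_le K.obj b₁ _ (le_max_left _ _)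
    haveI : L.obj.IsLE (max b₁ b₂) := TStructure.t.isLE_of_le L.obj b₂ _ (le_max_right _ _)
    obtain ⟨X, _, _, ⟨eX⟩⟩ := exists_iso_Q_obj_of_isGE_of_isLE K.obj (min a₁ a₂) (max b₁ b₂)
    obtain ⟨Y, _, _, ⟨eY⟩⟩ := exists_iso_Q_obj_of_isGE_of_isLE L.obj (min a₁ a₂) (max b₁ b₂)
    haveI := hom_Q_countable hz hhom he (min a₁ a₂) (max b₁ b₂) X Y
    let f : (K ⟶ L) → (Q.obj X ⟶ Q.obj Y) := fun u => eX.inv ≫ u.hom ≫ eY.hom
    have hf : Function.Injective f := by
      intro u u' h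
      apply ObjectProperty.hom_ext
      simpa [f] using h
    exact hf.countable
  · haveI : ∀ ab : ℤ × ℤ, Countable (T e z ab.1 ab.2) := fun ab => T_countable hz hhom _ _
    let J := Σ ab : ℤ × ℤ, T e z ab.1 ab.2
    haveI : Nonempty J :=
      ⟨⟨(0, 0), ⟨⟨fun _ => z, fun _ => 0⟩, fun _ _ => rfl, fun _ => by simp⟩⟩⟩
    let obj : J → DerivedCategory.Bounded A := fun j =>
      ⟨Q.obj (K j.2), ⟨⟨j.1.1, by
        haveI := K_isStrictlyGE hz j.2
        infer_instance⟩, ⟨j.1.2, by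
        haveI := K_isStrictlyLE hz j.2
        infer_instance⟩⟩⟩
    obtain ⟨f, hf⟩ := exists_surjective_nat J
    refine ⟨obj ∘ f, fun K' => ?_⟩
    obtain ⟨⟨a, hK1⟩, ⟨b, hK2⟩⟩ := K'.property
    haveI : K'.obj.IsGE a := hK1
    haveI : K'.obj.IsLE b := hK2
    obtain ⟨X, _, _, ⟨eX⟩⟩ := exists_iso_Q_obj_of_isGE_of_isLE K'.obj a b
    obtain ⟨t, ⟨φ⟩⟩ := exists_iso_K hz he a b X
    obtain ⟨n, hn⟩ := hf ⟨(a, b), t⟩
    refine ⟨n, ⟨ObjectProperty.isoMk _ ?_⟩⟩
    show K'.obj ≅ (obj (f n)).obj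
    rw [hn]
    exact eX ≪≫ Q.mapIso φ

end Main

end Groth.Agent.Lib.Helper47.DbCountable
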