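import Groth.Agent.Lib.Helper85.RegularSeq
import Mathlib.RingTheory.Ideal.Quotient.Operations

/-!
# Elements of a regular local ring that are independent in the cotangent space
-/

set_option autoImplicit false
universe u

open IsLocalRing RingTheory.Sequence

namespace Groth.Agent.Lib.Helper47

open Groth.Agent.Lib.Helper85

/-- Elements `f 0, …, f (m-1)` of the maximal ideal of a regular local ring whose classes in
`𝔪 / 𝔪²` are linearly independent form a regular sequence, and the quotient is regular. -/
theorem isRegularLocalRing_quotient_and_isRegular_of_indep : ∀ (m : ℕ) (R : Type u) [CommRing R]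
    [IsRegularLocalRing R] (f : Fin m → R), (∀ i, f i ∈ maximalIdeal R) →
    (∀ c : Fin m → R, ∑ i, c i * f i ∈ maximalIdeal R ^ 2 → ∀ i, c i ∈ maximalIdeal R) →
    IsRegularLocalRing (R ⧸ Ideal.span (Set.range f)) ∧ IsRegular R (List.ofFn f) := by
  intro m
  induction m with
  | zero =>
    intro R _ _ f _ _
    constructor
    · have hbot : Ideal.span (Set.range f) = ⊥ := by
        rw [Set.range_eq_empty f, Ideal.span_empty]
      exact IsRegularLocalRing.of_ringEquiv (R := R)
        ((Ideal.quotEquivOfEq hbot).trans (RingEquiv.quotientBot R)).symm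
    · rw [List.ofFn_zero]
      exact IsRegular.nil R R
  | succ m ih =>
    intro R _ _ f hf hind
    classical
    have hx : f 0 ∈ maximalIdeal R := hf 0
    have hx2 : f 0 ∉ maximalIdeal R ^ 2 := by
      intro h
      have h1 := hind (Pi.single 0 1) (by
        rw [Finset.sum_eq_single 0]
        · simpa using h
        · intro j _ hj
          rw [Pi.single_eq_of_ne hj, zero_mul]
        · intro h0; exact (h0 (Finset.mem_univ _)).elim) 0
      rw [Pi.single_eq_same] at h1
      exact (maximalIdeal.isMaximal R).ne_top ((Ideal.eq_top_iff_one _).mpr h1)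
    obtain ⟨hreg₁, -⟩ := isRegularLocalRing_quotient_span_singleton (f 0) hx hx2
    set I : Ideal R := Ideal.span ({f 0} : Set R) with hI
    have hsurj : Function.Surjective (Ideal.Quotient.mk I) := Ideal.Quotient.mk_surjective
    have hmaxmap : (maximalIdeal R).map (Ideal.Quotient.mk I) = maximalIdeal (R ⧸ I) :=
      maximalIdeal_map_of_surjective _ hsurj
    let g : Fin m → R ⧸ I := fun i => Ideal.Quotient.mk I (f i.succ)
    have hg : ∀ i, g i ∈ maximalIdeal (R ⧸ I) := fun i => by
      rw [← hmaxmap]
      exact Ideal.mem_map_of_mem _ (hf i.succ)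
    have hgind : ∀ c : Fin m → R ⧸ I, ∑ i, c i * g i ∈ maximalIdeal (R ⧸ I) ^ 2 →
        ∀ i, c i ∈ maximalIdeal (R ⧸ I) := by
      intro cbar hc
      let c : Fin m → R := fun i => Function.surjInv hsurj (cbar i)
      have hcc : ∀ i, Ideal.Quotient.mk I (c i) = cbar i := fun i => Function.surjInv_eq hsurj _
      have h1 : Ideal.Quotient.mk I (∑ i, c i * f i.succ) ∈
          (maximalIdeal R ^ 2).map (Ideal.Quotient.mk I) := by
        rw [Ideal.map_pow, hmaxmap, map_sum]
        convert hc using 2 with i _
        rw [map_mul, hcc]
      obtain ⟨y, hy, hy2⟩ := (Ideal.mem_map_iff_of_surjective _ hsurj).mp h1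
      have h2 : (∑ i, c i * f i.succ) - y ∈ I := by
        rw [← Ideal.Quotient.eq]
        exact hy2.symm
      obtain ⟨a, ha⟩ := Ideal.mem_span_singleton'.mp h2
      have h3 := hind (Fin.cons (-a) c) (by
        rw [Fin.sum_univ_succ]
        simp only [Fin.cons_zero, Fin.cons_succ]
        have : -a * f 0 + ∑ i, c i * f i.succ = y := by
          rw [neg_mul, ha]; ring
        rw [this]
        exact hy)
      intro i
      have := h3 i.succ
      rw [Fin.cons_succ] at this
      rw [← hcc i, ← hmaxmap]
      exact Ideal.mem_map_of_mem _ this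
    obtain ⟨hreg₂, hseq₂⟩ := ih (R ⧸ I) g hg hgind
    constructor
    · -- the quotient
      have hJ : (Ideal.span (Set.range fun i : Fin m => f i.succ)).map (Ideal.Quotient.mk I) =
          Ideal.span (Set.range g) := by
        rw [Ideal.map_span, ← Set.range_comp]
        rfl
      have hsup : I ⊔ Ideal.span (Set.range fun i : Fin m => f i.succ) =
          Ideal.span (Set.range f) := by
        rw [hI, ← Ideal.span_union]
        congr 1
        ext z
        simp only [Set.singleton_union, Set.mem_insert_iff, Set.mem_range]
        constructor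
        · rintro (rfl | ⟨i, rfl⟩)
          · exact ⟨0, rfl⟩
          · exact ⟨i.succ, rfl⟩
        · rintro ⟨i, rfl⟩
          induction i using Fin.cases with
          | zero => exact Or.inl rfl
          | succ j => exact Or.inr ⟨j, rfl⟩
      have e1 := DoubleQuot.quotQuotEquivQuotSup I
        (Ideal.span (Set.range fun i : Fin m => f i.succ))
      rw [hJ] at e1
      exact IsRegularLocalRing.of_ringEquiv (R := (R ⧸ I) ⧸ Ideal.span (Set.range g))
        (e1.trans (Ideal.quotEquivOfEq hsup))
    · have hdomain : IsDomain R := isDomain_of_isRegularLocalRing R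
      have hne : f 0 ≠ 0 := by
        intro h0
        rw [h0] at hx2
        exact hx2 (Ideal.zero_mem _)
      have hsreg : IsSMulRegular R (f 0) :=
        Module.Flat.isSMulRegular_of_nonZeroDivisors (mem_nonZeroDivisors_of_ne_zero hne)
      rw [List.ofFn_succ, isRegular_cons_iff_quotient]
      refine ⟨hsreg, ?_⟩
      rw [List.map_ofFn]
      exact hseq₂

end Groth.Agent.Lib.Helper47
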