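import Mathlib
import Groth.Agent.Lib.Helper47.RegularCotangent
import Groth.Agent.Lib.Helper85.RegularLocal

/-!
# A Noetherian directed colimit of regular rings is regular (helper47)

`DirCover T τ S ψ`: the ring `S` is the directed colimit of the rings `T i` (transition maps `τ`,
structure maps `ψ`), expressed elementwise.  Main result:
`isRegularLocalRing_atPrime_of_dirCover`: if `S` is Noetherian and all local rings of all `T i`
are regular, then all local rings of `S` are regular (Stacks 07DX-type argument: a minimal system of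
generators of the maximal ideal of `S_P` lifts to part of a regular system of parameters at every
later stage, so generates a chain of prime ideals of the right length).
-/

set_option autoImplicit false
universe u v
open IsLocalRing

namespace Groth.Agent.Lib.Helper47.DirLim

section minimal

variable {L : Type*} [CommRing L] [IsLocalRing L] [IsNoetherianRing L]

/-- A minimal system of generators of the maximal ideal is independent modulo `𝔪²`. -/
theorem indep_of_span_eq_of_card_eq {d : ℕ} (y : Fin d → L)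
    (hy : Ideal.span (Set.range y) = maximalIdeal L)
    (hd : (maximalIdeal L).spanFinrank = d) (c : Fin d → L)
    (hc : ∑ l, c l * y l ∈ maximalIdeal L ^ 2) (l₀ : Fin d) : c l₀ ∈ maximalIdeal L := by
  classical
  by_contra hnot
  have hu : IsUnit (c l₀) := by
    by_contra h
    exact hnot ((mem_maximalIdeal _).mpr h)
  obtain ⟨u, hu⟩ := hu
  set N : Ideal L := Ideal.span (y '' {l | l ≠ l₀}) with hN
  have hyN : ∀ l, l ≠ l₀ → y l ∈ N := fun l hl => Ideal.subset_span ⟨l, hl, rfl⟩
  have hNm : N ≤ maximalIdeal L := by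
    rw [hN, Ideal.span_le]
    rintro _ ⟨l, -, rfl⟩
    rw [← hy]
    exact Ideal.subset_span ⟨l, rfl⟩
  have hsum : ∑ l, c l * y l = c l₀ * y l₀ + ∑ l ∈ Finset.univ.erase l₀, c l * y l :=
    (Finset.add_sum_erase _ _ (Finset.mem_univ l₀)).symm
  have hrest : ∑ l ∈ Finset.univ.erase l₀, c l * y l ∈ N := by
    refine Ideal.sum_mem _ fun l hl => Ideal.mul_mem_left _ _ (hyN l (Finset.ne_of_mem_erase hl))
  have h1 : c l₀ * y l₀ ∈ N ⊔ maximalIdeal L • maximalIdeal L := by
    have : c l₀ * y l₀ = ∑ l, c l * y l - ∑ l ∈ Finset.univ.erase l₀, c l * y l := by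
      rw [hsum]; ring
    rw [this]
    refine Ideal.sub_mem _ ?_ ?_
    · refine Ideal.mem_sup_right ?_
      rw [smul_eq_mul, ← pow_two]
      exact hc
    · exact Ideal.mem_sup_left hrest
  have h2 : y l₀ ∈ N ⊔ maximalIdeal L • maximalIdeal L := by
    have : y l₀ = (↑u⁻¹ : L) * (c l₀ * y l₀) := by
      rw [← mul_assoc, ← hu, Units.inv_mul, one_mul]
    rw [this]
    exact Ideal.mul_mem_left _ _ h1
  have h3 : maximalIdeal L ≤ N := by
    refine Submodule.le_of_le_smul_of_le_jacobson_bot (IsNoetherian.noetherian _)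
      (IsLocalRing.maximalIdeal_le_jacobson _) ?_
    rw [← hy, Ideal.span_le]
    rintro _ ⟨l, rfl⟩
    by_cases hl : l = l₀
    · rw [hl, hy]; exact h2
    · rw [hy]; exact Ideal.mem_sup_left (hyN l hl)
  have h4 : maximalIdeal L = N := le_antisymm h3 hNm
  have hfin : (y '' {l | l ≠ l₀}).Finite := Set.toFinite _
  have h5 : (maximalIdeal L).spanFinrank ≤ (y '' {l | l ≠ l₀}).ncard := by
    conv_lhs => rw [h4, hN]
    exact Submodule.spanFinrank_span_le_ncard_of_finite hfin
  have h6 : (y '' {l | l ≠ l₀}).ncard ≤ ({l | l ≠ l₀} : Set (Fin d)).ncard :=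
    Set.ncard_image_le (Set.toFinite _)
  have h7 : ({l | l ≠ l₀} : Set (Fin d)).ncard < d := by
    have : ({l | l ≠ l₀} : Set (Fin d)) = ({l₀} : Set (Fin d))ᶜ := by
      ext l; simp
    rw [this, Set.ncard_compl, Set.ncard_singleton, Nat.card_eq_fintype_card, Fintype.card_fin]
    have : 0 < d := Fin.pos l₀
    omega
  omega

omit [IsNoetherianRing L] in
/-- Independence modulo `𝔪²` passes to subfamilies. -/
theorem indep_comp {d r : ℕ} (X : Fin d → L)
    (hX : ∀ c : Fin d → L, ∑ l, c l * X l ∈ maximalIdeal L ^ 2 → ∀ l, c l ∈ maximalIdeal L)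
    (e : Fin r → Fin d) (he : Function.Injective e) (c' : Fin r → L)
    (hc' : ∑ l, c' l * X (e l) ∈ maximalIdeal L ^ 2) (l : Fin r) : c' l ∈ maximalIdeal L := by
  classical
  have hsum : ∑ l, (Function.extend e c' 0) l * X l = ∑ l, c' l * X (e l) := by
    have h1 : ∑ l, (Function.extend e c' 0) l * X l =
        ∑ l ∈ Finset.univ.map ⟨e, he⟩, (Function.extend e c' 0) l * X l := by
      symm
      apply Finset.sum_subset (Finset.subset_univ _)
      intro l _ hl
      have : ¬ ∃ a, e a = l := by
        rintro ⟨a, rfl⟩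
        exact hl (Finset.mem_map.mpr ⟨a, Finset.mem_univ _, rfl⟩)
      rw [Function.extend_apply' _ _ _ this]
      simp
    rw [h1, Finset.sum_map]
    refine Finset.sum_congr rfl fun a _ => ?_
    simp only [Function.Embedding.coeFn_mk]
    rw [he.extend_apply]
  have := hX (Function.extend e c' 0) (by rw [hsum]; exact hc') (e l)
  rwa [he.extend_apply] at this

omit [IsNoetherianRing L] in
/-- An element of an independent family is not in the ideal generated by a subfamily avoiding
it. -/
theorem notMem_span_of_indep {d r : ℕ} (X : Fin d → L)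
    (hX : ∀ c : Fin d → L, ∑ l, c l * X l ∈ maximalIdeal L ^ 2 → ∀ l, c l ∈ maximalIdeal L)
    (e : Fin r → Fin d) (he : Function.Injective e) (l₀ : Fin d) (hl₀ : ∀ a, e a ≠ l₀) :
    X l₀ ∉ Ideal.span (Set.range fun a => X (e a)) := by
  classical
  intro hmem
  obtain ⟨c', hc'⟩ := (Ideal.mem_span_range_iff_exists_fun).mp hmem
  have hsum : ∑ l, (Function.extend e c' 0) l * X l = ∑ l, c' l * X (e l) := by
    have h1 : ∑ l, (Function.extend e c' 0) l * X l =
        ∑ l ∈ Finset.univ.map ⟨e, he⟩, (Function.extend e c' 0) l * X l := by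
      symm
      apply Finset.sum_subset (Finset.subset_univ _)
      intro l _ hl
      have : ¬ ∃ a, e a = l := by
        rintro ⟨a, rfl⟩
        exact hl (Finset.mem_map.mpr ⟨a, Finset.mem_univ _, rfl⟩)
      rw [Function.extend_apply' _ _ _ this]
      simp
    rw [h1, Finset.sum_map]
    refine Finset.sum_congr rfl fun a _ => ?_
    simp only [Function.Embedding.coeFn_mk]
    rw [he.extend_apply]
  have hzero : ∑ l, ((Function.extend e c' 0 - Pi.single l₀ 1 : Fin d → L)) l * X l = 0 := by
    simp only [Pi.sub_apply, sub_mul, Finset.sum_sub_distrib]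
    rw [hsum, hc']
    rw [Finset.sum_eq_single l₀]
    · simp
    · intro b _ hb
      rw [Pi.single_eq_of_ne hb, zero_mul]
    · intro h; exact (h (Finset.mem_univ _)).elim
  have h1 := hX ((Function.extend e c' 0 - Pi.single l₀ 1 : Fin d → L))
    (by rw [hzero]; exact Ideal.zero_mem _) l₀
  have hne : ¬ ∃ a, e a = l₀ := fun ⟨a, ha⟩ => hl₀ a ha
  rw [Pi.sub_apply, Function.extend_apply' _ _ _ hne, Pi.single_eq_same] at h1
  simp only [Pi.zero_apply, zero_sub] at h1
  have h2 : (1 : L) ∈ maximalIdeal L := by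
    have := Ideal.neg_mem_iff (maximalIdeal L) |>.mp h1
    exact this
  exact (maximalIdeal.isMaximal L).ne_top ((Ideal.eq_top_iff_one _).mpr h2)

end minimal

section generators

variable {S : Type*} [CommRing S] [IsNoetherianRing S] (P : Ideal S) [P.IsPrime]

/-- A minimal system of generators of the maximal ideal of `S_P` coming from elements of `P`. -/
theorem exists_generators_atPrime :
    ∃ (d : ℕ) (x : Fin d → S), (∀ l, x l ∈ P) ∧
      Ideal.span (Set.range fun l => algebraMap S (Localization.AtPrime P) (x l)) =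
        maximalIdeal (Localization.AtPrime P) ∧
      (maximalIdeal (Localization.AtPrime P)).spanFinrank = d := by
  classical
  set L := Localization.AtPrime P
  obtain ⟨s, hscard, hsspan⟩ := Submodule.FG.exists_span_finset_card_eq_spanFinrank
    (IsNoetherian.noetherian (maximalIdeal L))
  set d := s.card with hd
  let y : Fin d → L := fun l => (s.equivFin.symm l : L)
  have hyrange : Set.range y = (s : Set L) := by
    ext z
    constructor
    · rintro ⟨l, rfl⟩
      exact (s.equivFin.symm l).2
    · intro hz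
      exact ⟨s.equivFin ⟨z, hz⟩, by simp [y]⟩
  have hym : ∀ l, y l ∈ maximalIdeal L := by
    intro l
    rw [← hsspan]
    exact Submodule.subset_span (s.equivFin.symm l).2
  have hex : ∀ l, ∃ (a : S) (t : P.primeCompl), IsLocalization.mk' L a t = y l := fun l => by
    obtain ⟨⟨a, t⟩, h⟩ := IsLocalization.mk'_surjective P.primeCompl (y l)
    exact ⟨a, t, h⟩
  choose a t hat using hex
  refine ⟨d, a, ?_, ?_, hscard.symm⟩
  · intro l
    have := hym l
    rw [← hat l, IsLocalization.AtPrime.mk'_mem_maximal_iff L P] at this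
    exact this
  · have hunit : ∀ l, IsUnit (algebraMap S L (t l)) := fun l =>
      IsLocalization.map_units L (t l)
    have hrel : ∀ l, algebraMap S L (a l) = y l * algebraMap S L (t l) := by
      intro l
      rw [← hat l, IsLocalization.mk'_spec]
    rw [← hsspan]
    change _ = Ideal.span (s : Set L)
    rw [← hyrange]
    apply le_antisymm
    · rw [Ideal.span_le]
      rintro _ ⟨l, rfl⟩
      change algebraMap S L (a l) ∈ _
      rw [hrel l]
      exact Ideal.mul_mem_right _ _ (Ideal.subset_span ⟨l, rfl⟩)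
    · rw [Ideal.span_le]
      rintro _ ⟨l, rfl⟩
      obtain ⟨u, hu⟩ := hunit l
      have : y l = algebraMap S L (a l) * (↑u⁻¹ : L) := by
        rw [hrel l, ← hu, mul_assoc, Units.mul_inv, mul_one]
      change y l ∈ _
      rw [this]
      exact Ideal.mul_mem_right _ _ (Ideal.subset_span ⟨l, rfl⟩)

end generators

section cover

variable {ι : Type v} [Preorder ι]

/-- `S` is the directed colimit of the `T i`, elementwise. -/
structure DirCover (T : ι → Type u) [∀ i, CommRing (T i)]
    (τ : ∀ i j, i ≤ j → T i →+* T j) (S : Type u) [CommRing S] (ψ : ∀ i, T i →+* S) : Prop where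
  compat : ∀ i j (h : i ≤ j) (x : T i), ψ j (τ i j h x) = ψ i x
  surj : ∀ s : S, ∃ i, ∃ x : T i, ψ i x = s
  inj : ∀ i (x : T i), ψ i x = 0 → ∃ j, ∃ h : i ≤ j, τ i j h x = 0

variable {T : ι → Type u} [∀ i, CommRing (T i)] {τ : ∀ i j, i ≤ j → T i →+* T j}
  {S : Type u} [CommRing S] {ψ : ∀ i, T i →+* S}

/-- Finite families lift to a common stage. -/
theorem DirCover.exists_lift [IsDirectedOrder ι] [Nonempty ι] (h : DirCover T τ S ψ)
    {κ : Type*} [Finite κ] (s : κ → S) :
    ∃ j, ∃ x : κ → T j, ∀ k, ψ j (x k) = s k := by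
  classical
  haveI := Fintype.ofFinite κ
  choose i x hx using fun k => h.surj (s k)
  obtain ⟨j, hj⟩ := Finset.exists_le (Finset.univ.image i)
  have hij : ∀ k, i k ≤ j := fun k => hj _ (Finset.mem_image_of_mem _ (Finset.mem_univ k))
  exact ⟨j, fun k => τ (i k) j (hij k) (x k), fun k => by rw [h.compat, hx]⟩

end cover

section stage

variable {T S : Type u} [CommRing T] [CommRing S] (ψ : T →+* S) (P : Ideal S) [P.IsPrime]

/-- At a stage `T → S`: lifts of an independent family of `S_P` generate prime ideals in the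
(regular) local ring `T_Q`, `Q = ψ⁻¹ P`. -/
theorem stage_isPrime [IsRegularLocalRing (Localization.AtPrime (P.comap ψ))]
    {d : ℕ} (x : Fin d → S) (hxP : ∀ l, x l ∈ P)
    (hind : ∀ c : Fin d → Localization.AtPrime P,
      ∑ l, c l * algebraMap S (Localization.AtPrime P) (x l) ∈
        maximalIdeal (Localization.AtPrime P) ^ 2 → ∀ l, c l ∈ maximalIdeal (Localization.AtPrime P))
    (xt : Fin d → T) (hxt : ∀ l, ψ (xt l) = x l) {r : ℕ} (e : Fin r → Fin d)
    (he : Function.Injective e) :
    (Ideal.span (Set.range fun a =>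
      algebraMap T (Localization.AtPrime (P.comap ψ)) (xt (e a)))).IsPrime := by
  set Q := P.comap ψ with hQ
  set LQ := Localization.AtPrime Q
  set L := Localization.AtPrime P
  let φ : LQ →+* L := Localization.localRingHom Q P ψ rfl
  haveI : IsLocalHom φ := Localization.isLocalHom_localRingHom Q P ψ rfl
  let F : Fin d → LQ := fun l => algebraMap T LQ (xt l)
  have hφF : ∀ l, φ (F l) = algebraMap S L (x l) := by
    intro l
    change Localization.localRingHom Q P ψ rfl (algebraMap T LQ (xt l)) = _
    rw [Localization.localRingHom_to_map, hxt]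
  have hFm : ∀ l, F l ∈ maximalIdeal LQ := by
    intro l
    change algebraMap T LQ (xt l) ∈ _
    rw [IsLocalization.AtPrime.to_map_mem_maximal_iff LQ Q]
    change ψ (xt l) ∈ P
    rw [hxt]; exact hxP l
  have hmap : (maximalIdeal LQ).map φ ≤ maximalIdeal L := by
    rw [Ideal.map_le_iff_le_comap]
    intro z hz
    rw [Ideal.mem_comap, mem_maximalIdeal, mem_nonunits_iff]
    intro hu
    exact ((mem_maximalIdeal _).mp hz) (isUnit_of_map_unit φ z hu)
  have hFind : ∀ c : Fin d → LQ, ∑ l, c l * F l ∈ maximalIdeal LQ ^ 2 →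
      ∀ l, c l ∈ maximalIdeal LQ := by
    intro c hc l
    have h1 : φ (∑ l, c l * F l) ∈ maximalIdeal L ^ 2 := by
      have := Ideal.mem_map_of_mem φ hc
      rw [Ideal.map_pow] at this
      exact Ideal.pow_right_mono hmap 2 this
    rw [map_sum] at h1
    simp only [map_mul, hφF] at h1
    have h2 := hind (fun l => φ (c l)) h1 l
    rw [mem_maximalIdeal, mem_nonunits_iff] at h2 ⊢
    intro hu
    exact h2 (hu.map φ)
  have hreg := (isRegularLocalRing_quotient_and_isRegular_of_indep r LQ (fun a => F (e a))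
    (fun a => hFm (e a)) (fun c' hc' => indep_comp F hFind e he c' hc')).1
  haveI := hreg
  have hdom : IsDomain (LQ ⧸ Ideal.span (Set.range fun a => F (e a))) :=
    Groth.Agent.Lib.Helper85.isDomain_of_isRegularLocalRing _
  exact (Ideal.Quotient.isDomain_iff_prime _).mp hdom

end stage

section main

variable {ι : Type v} [Preorder ι] [IsDirectedOrder ι] [Nonempty ι]
  {T : ι → Type u} [∀ i, CommRing (T i)] {τ : ∀ i j, i ≤ j → T i →+* T j}
  {S : Type u} [CommRing S] {ψ : ∀ i, T i →+* S}

omit [Preorder ι] [IsDirectedOrder ι] [Nonempty ι] in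
/-- Transfer of membership from a stage to the colimit. -/
theorem mem_span_of_stage (P : Ideal S) [P.IsPrime] (j : ι) {d r : ℕ} (x : Fin d → S)
    (xt : Fin d → T j) (hxt : ∀ l, ψ j (xt l) = x l) (e : Fin r → Fin d) (a' : T j)
    (h : algebraMap (T j) (Localization.AtPrime (P.comap (ψ j))) a' ∈
      Ideal.span (Set.range fun a =>
        algebraMap (T j) (Localization.AtPrime (P.comap (ψ j))) (xt (e a)))) :
    algebraMap S (Localization.AtPrime P) (ψ j a') ∈
      Ideal.span (Set.range fun a => algebraMap S (Localization.AtPrime P) (x (e a))) := by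
  set Q := P.comap (ψ j)
  let φ : Localization.AtPrime Q →+* Localization.AtPrime P :=
    Localization.localRingHom Q P (ψ j) rfl
  have h1 := Ideal.mem_map_of_mem φ h
  have h2 : φ (algebraMap (T j) (Localization.AtPrime Q) a') =
      algebraMap S (Localization.AtPrime P) (ψ j a') :=
    Localization.localRingHom_to_map Q P (ψ j) rfl a'
  rw [h2, Ideal.map_span] at h1
  refine Ideal.span_mono ?_ h1
  rintro _ ⟨_, ⟨a, rfl⟩, rfl⟩
  refine ⟨a, ?_⟩
  change _ = Localization.localRingHom Q P (ψ j) rfl (algebraMap (T j) _ (xt (e a)))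
  rw [Localization.localRingHom_to_map, hxt]

theorem isPrime_span_of_dirCover (h : DirCover T τ S ψ)
    (hreg : ∀ i (Q : Ideal (T i)) [Q.IsPrime], IsRegularLocalRing (Localization.AtPrime Q))
    (P : Ideal S) [P.IsPrime] {d : ℕ} (x : Fin d → S) (hxP : ∀ l, x l ∈ P)
    (hind : ∀ c : Fin d → Localization.AtPrime P,
      ∑ l, c l * algebraMap S (Localization.AtPrime P) (x l) ∈
        maximalIdeal (Localization.AtPrime P) ^ 2 → ∀ l, c l ∈ maximalIdeal (Localization.AtPrime P))
    {r : ℕ} (e : Fin r → Fin d) (he : Function.Injective e) :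
    (Ideal.span (Set.range fun a =>
      algebraMap S (Localization.AtPrime P) (x (e a)))).IsPrime := by
  classical
  set L := Localization.AtPrime P
  set I := Ideal.span (Set.range fun a => algebraMap S L (x (e a))) with hI
  have hIm : I ≤ maximalIdeal L := by
    rw [hI, Ideal.span_le]
    rintro _ ⟨a, rfl⟩
    change algebraMap S L (x (e a)) ∈ maximalIdeal L
    rw [IsLocalization.AtPrime.to_map_mem_maximal_iff L P]
    exact hxP _
  have hIJ : I = (Ideal.span (Set.range fun a => x (e a))).map (algebraMap S L) := by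
    rw [Ideal.map_span, ← Set.range_comp]
    rfl
  have key : ∀ a₀ b₀ : S, algebraMap S L (a₀ * b₀) ∈ I →
      algebraMap S L a₀ ∈ I ∨ algebraMap S L b₀ ∈ I := by
    intro a₀ b₀ hab
    rw [hIJ, IsLocalization.mem_map_algebraMap_iff P.primeCompl] at hab
    obtain ⟨⟨⟨w, hw⟩, u⟩, hwu⟩ := hab
    simp only at hwu
    rw [← map_mul, IsLocalization.eq_iff_exists P.primeCompl] at hwu
    obtain ⟨v, hv⟩ := hwu
    obtain ⟨c, hc⟩ := (Ideal.mem_span_range_iff_exists_fun).mp hw
    -- lift everything to a common stage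
    obtain ⟨j, y, hy⟩ := h.exists_lift
      (Sum.elim ![a₀, b₀, (u : S), (v : S)] (Sum.elim c x) : Fin 4 ⊕ (Fin r ⊕ Fin d) → S)
    have hya : ψ j (y (Sum.inl 0)) = a₀ := by simpa using hy (Sum.inl 0)
    have hyb : ψ j (y (Sum.inl 1)) = b₀ := by simpa using hy (Sum.inl 1)
    have hyu : ψ j (y (Sum.inl 2)) = u := by simpa using hy (Sum.inl 2)
    have hyv : ψ j (y (Sum.inl 3)) = v := by simpa using hy (Sum.inl 3)
    have hyc : ∀ a, ψ j (y (Sum.inr (Sum.inl a))) = c a := fun a => by
      simpa using hy (Sum.inr (Sum.inl a))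
    have hyx : ∀ l, ψ j (y (Sum.inr (Sum.inr l))) = x l := fun l => by
      simpa using hy (Sum.inr (Sum.inr l))
    set ρ : T j := y (Sum.inl 3) * (y (Sum.inl 0) * y (Sum.inl 1) * y (Sum.inl 2)) -
      y (Sum.inl 3) * ∑ a, y (Sum.inr (Sum.inl a)) * y (Sum.inr (Sum.inr (e a))) with hρ
    have hρ0 : ψ j ρ = 0 := by
      rw [hρ, map_sub, map_mul, map_mul, map_mul, map_mul, map_sum]
      simp only [map_mul, hya, hyb, hyu, hyv, hyc, hyx]
      rw [hc, sub_eq_zero]
      exact hv
    obtain ⟨j', hjj', hτ⟩ := h.inj j ρ hρ0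
    set g := τ j j' hjj' with hg
    have hψg : ∀ z, ψ j' (g z) = ψ j z := fun z => h.compat j j' hjj' z
    have hrel : g (y (Sum.inl 3)) * (g (y (Sum.inl 0)) * g (y (Sum.inl 1)) * g (y (Sum.inl 2))) =
        g (y (Sum.inl 3)) * ∑ a, g (y (Sum.inr (Sum.inl a))) * g (y (Sum.inr (Sum.inr (e a)))) := by
      rw [hρ, map_sub, sub_eq_zero] at hτ
      simpa only [map_mul, map_sum] using hτ
    set Q' := P.comap (ψ j') with hQ'
    haveI : IsRegularLocalRing (Localization.AtPrime Q') := hreg j' Q'
    have hprime := stage_isPrime (ψ j') P x hxP hind (fun l => g (y (Sum.inr (Sum.inr l))))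
      (fun l => by rw [hψg, hyx]) e he
    set L' := Localization.AtPrime Q'
    set I' := Ideal.span (Set.range fun a =>
      algebraMap (T j') L' (g (y (Sum.inr (Sum.inr (e a)))))) with hI'
    have hvQ : g (y (Sum.inl 3)) ∈ Q'.primeCompl := by
      change ¬ (ψ j' (g (y (Sum.inl 3))) ∈ P)
      rw [hψg, hyv]; exact v.2
    have huQ : g (y (Sum.inl 2)) ∈ Q'.primeCompl := by
      change ¬ (ψ j' (g (y (Sum.inl 2))) ∈ P)
      rw [hψg, hyu]; exact u.2
    have hvunit : IsUnit (algebraMap (T j') L' (g (y (Sum.inl 3)))) :=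
      IsLocalization.map_units L' (⟨_, hvQ⟩ : Q'.primeCompl)
    have huunit : IsUnit (algebraMap (T j') L' (g (y (Sum.inl 2)))) :=
      IsLocalization.map_units L' (⟨_, huQ⟩ : Q'.primeCompl)
    have hrel' : algebraMap (T j') L' (g (y (Sum.inl 3))) *
        (algebraMap (T j') L' (g (y (Sum.inl 0))) * algebraMap (T j') L' (g (y (Sum.inl 1))) *
          algebraMap (T j') L' (g (y (Sum.inl 2)))) =
        algebraMap (T j') L' (g (y (Sum.inl 3))) *
          algebraMap (T j') L'
            (∑ a, g (y (Sum.inr (Sum.inl a))) * g (y (Sum.inr (Sum.inr (e a))))) := by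
      have := congrArg (algebraMap (T j') L') hrel
      rw [map_mul (algebraMap (T j') L'), map_mul (algebraMap (T j') L'),
        map_mul (algebraMap (T j') L'), map_mul (algebraMap (T j') L')] at this
      exact this
    have hrel'' := hvunit.mul_left_cancel hrel'
    have hmemI' : algebraMap (T j') L' (g (y (Sum.inl 0))) *
        algebraMap (T j') L' (g (y (Sum.inl 1))) *
        algebraMap (T j') L' (g (y (Sum.inl 2))) ∈ I' := by
      rw [hrel'', map_sum]
      refine Ideal.sum_mem _ fun a _ => ?_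
      rw [map_mul]
      exact Ideal.mul_mem_left _ _ (Ideal.subset_span ⟨a, rfl⟩)
    have h1 : algebraMap (T j') L' (g (y (Sum.inl 0))) *
        algebraMap (T j') L' (g (y (Sum.inl 1))) ∈ I' := by
      rcases hprime.mem_or_mem hmemI' with h1 | h1
      · exact h1
      · exact (hprime.ne_top (Ideal.eq_top_of_isUnit_mem _ h1 huunit)).elim
    rcases hprime.mem_or_mem h1 with h2 | h2
    · left
      have := mem_span_of_stage P j' x (fun l => g (y (Sum.inr (Sum.inr l))))
        (fun l => by rw [hψg, hyx]) e _ h2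
      rwa [hψg, hya] at this
    · right
      have := mem_span_of_stage P j' x (fun l => g (y (Sum.inr (Sum.inr l))))
        (fun l => by rw [hψg, hyx]) e _ h2
      rwa [hψg, hyb] at this
  refine ⟨fun htop => (maximalIdeal.isMaximal L).ne_top (top_le_iff.mp (htop ▸ hIm)), ?_⟩
  intro a b hab
  obtain ⟨⟨a₀, s⟩, rfl⟩ := IsLocalization.mk'_surjective P.primeCompl a
  obtain ⟨⟨b₀, t⟩, rfl⟩ := IsLocalization.mk'_surjective P.primeCompl b
  simp only at hab ⊢
  rw [← IsLocalization.mk'_mul, IsLocalization.mk'_mem_iff] at hab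
  rw [IsLocalization.mk'_mem_iff, IsLocalization.mk'_mem_iff]
  exact key a₀ b₀ hab

/-- **A Noetherian directed colimit of regular rings is regular** (local form). -/
theorem isRegularLocalRing_atPrime_of_dirCover (h : DirCover T τ S ψ) [IsNoetherianRing S]
    (hreg : ∀ i (Q : Ideal (T i)) [Q.IsPrime], IsRegularLocalRing (Localization.AtPrime Q))
    (P : Ideal S) [P.IsPrime] : IsRegularLocalRing (Localization.AtPrime P) := by
  classical
  set L := Localization.AtPrime P
  obtain ⟨d, x, hxP, hspan, hd⟩ := exists_generators_atPrime P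
  have hind : ∀ c : Fin d → L, ∑ l, c l * algebraMap S L (x l) ∈ maximalIdeal L ^ 2 →
      ∀ l, c l ∈ maximalIdeal L := fun c hc l =>
    indep_of_span_eq_of_card_eq (fun l => algebraMap S L (x l)) hspan hd c hc l
  let J : ∀ r : ℕ, r ≤ d → Ideal L := fun r hr =>
    Ideal.span (Set.range fun a : Fin r => algebraMap S L (x (Fin.castLE hr a)))
  have hJprime : ∀ r hr, (J r hr).IsPrime := fun r hr =>
    isPrime_span_of_dirCover h hreg P x hxP hind (Fin.castLE hr) (Fin.castLE_injective hr)
  have hJlt : ∀ r r' (hr : r ≤ d) (hr' : r' ≤ d), r < r' → J r hr < J r' hr' := by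
    intro r r' hr hr' hlt
    have hle : J r hr ≤ J r' hr' := by
      apply Ideal.span_mono
      rintro _ ⟨a, rfl⟩
      exact ⟨⟨a.val, lt_trans a.2 hlt⟩, rfl⟩
    refine lt_of_le_of_ne hle ?_
    intro heq
    have hmem : algebraMap S L (x ⟨r, lt_of_lt_of_le hlt hr'⟩) ∈ J r' hr' :=
      Ideal.subset_span ⟨⟨r, hlt⟩, rfl⟩
    rw [← heq] at hmem
    refine notMem_span_of_indep (fun l => algebraMap S L (x l)) hind (Fin.castLE hr)
      (Fin.castLE_injective hr) ⟨r, lt_of_lt_of_le hlt hr'⟩ ?_ hmem
    intro a ha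
    have := congrArg Fin.val ha
    simp only [Fin.val_castLE] at this
    exact absurd this (ne_of_lt a.2)
  let f : Fin (d + 1) → PrimeSpectrum L := fun i =>
    ⟨J i.val (Nat.lt_succ_iff.mp i.2), hJprime _ _⟩
  have hf : StrictMono f := by
    intro a b hab
    change J _ _ < J _ _
    exact hJlt _ _ _ _ hab
  have hdim : (d : WithBot ℕ∞) ≤ ringKrullDim L := by
    have := Order.LTSeries.length_le_krullDim (LTSeries.mk d f hf)
    exact this
  apply IsRegularLocalRing.of_spanFinrank_maximalIdeal_le
  rw [hd]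
  exact hdim

end main

end Groth.Agent.Lib.Helper47.DirLim
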