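import Mathlib
import Groth.Prelude.Def_Found
import Groth.Agent.Lib.Helper47.DirLimRegular
import Groth.Agent.S1468

/-!
# Directed colimits of smooth algebras with Noetherian fibres are regular (helper47)
-/

set_option autoImplicit false
set_option linter.unusedVariables false
set_option linter.style.haveILetI false
universe u
open TensorProduct IsLocalRing

namespace Groth.Agent.Lib.Helper47.DirLim

section

variable (R : Type u) [CommRing R] {ι : Type u} [Preorder ι]
    [IsDirectedOrder ι] [Nonempty ι] (G : ι → Type u) [∀ i, CommRing (G i)] [∀ i, Algebra R (G i)]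
    (f : ∀ i j : ι, i ≤ j → (G i →ₐ[R] G j)) [DirectedSystem G (fun i j h => f i j h)]

/-- The direct limit is covered by its stages. -/
theorem dirCover_directLimit :
    DirCover G (fun i j h => (f i j h).toRingHom) (DirectLimit G f)
      (fun i => (DirectLimit.Algebra.of G f i).toRingHom) where
  compat i j h x := DirectLimit.Algebra.of_f h x
  surj s := by
    obtain ⟨i, x, rfl⟩ := DirectLimit.exists_eq_mk f s
    exact ⟨i, x, rfl⟩
  inj i x hx := by
    have h0 : (⟦⟨i, x⟩⟧ : DirectLimit G f) = ⟦⟨i, 0⟩⟧ := by
      have : (DirectLimit.Algebra.of G f i) x = (DirectLimit.Algebra.of G f i) 0 := by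
        rw [map_zero]; exact hx
      exact this
    obtain ⟨k, hik, hik', hk⟩ := Quotient.exact h0
    refine ⟨k, hik, ?_⟩
    change f i k hik x = 0
    rw [hk, map_zero]

/-- A directed colimit of flat algebras is flat. -/
theorem flat_directLimit [∀ i, Module.Flat R (G i)] : Module.Flat R (DirectLimit G f) := by
  have hcov := dirCover_directLimit R G f
  apply Module.Flat.of_forall_isTrivialRelation
  intro l c x hx
  obtain ⟨j, xt, hxt⟩ := hcov.exists_lift x
  have h1 : (DirectLimit.Algebra.of G f j) (∑ i, c i • xt i) = 0 := by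
    rw [map_sum, ← hx]
    refine Finset.sum_congr rfl fun i _ => ?_
    rw [map_smul]
    congr 1
    exact hxt i
  obtain ⟨j', hjj', h2⟩ := hcov.inj j _ h1
  have h3 : ∑ i, c i • (f j j' hjj' (xt i)) = 0 := by
    have : f j j' hjj' (∑ i, c i • xt i) = 0 := h2
    rw [map_sum] at this
    simpa only [map_smul] using this
  obtain ⟨k, a, y, hy1, hy2⟩ := Module.Flat.isTrivialRelation_of_sum_smul_eq_zero (R := R)
    (M := G j') (f := c) (x := fun i => f j j' hjj' (xt i)) h3
  refine ⟨k, a, fun m => DirectLimit.Algebra.of G f j' (y m), ?_, hy2⟩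
  intro i
  have h4 : x i = DirectLimit.Algebra.of G f j' (f j j' hjj' (xt i)) := by
    rw [DirectLimit.Algebra.of_f]
    exact (hxt i).symm
  have hy1' : f j j' hjj' (xt i) = ∑ m, a i m • y m := hy1 i
  rw [h4, hy1', map_sum]
  refine Finset.sum_congr rfl fun m _ => ?_
  rw [map_smul]

/-- The linear transition maps. -/
abbrev fL : ∀ i j : ι, i ≤ j → (G i →ₗ[R] G j) := fun i j h => (f i j h).toLinearMap

instance : DirectedSystem G (fun i j h => fL R G f i j h) where
  map_self i x := DirectedSystem.map_self' (f := fun i j h => f i j h) x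
  map_map i j k hij hjk x := DirectedSystem.map_map' (f := fun i j h => f i j h) hij hjk x

open Classical in
/-- Comparison with the module-theoretic direct limit. -/
noncomputable def θ : DirectLimit G f →ₗ[R] Module.DirectLimit G (fL R G f) :=
  DirectLimit.Module.lift R ι G f (fun i => Module.DirectLimit.of R ι G (fL R G f) i)
    (fun i j hij x => Module.DirectLimit.of_f)

variable (K : Type u) [CommRing K] [Algebra R K]

open Classical in
/-- Comparison of `K ⊗ colim` with the module-theoretic `colim (K ⊗ -)`. -/
noncomputable def Θ : K ⊗[R] DirectLimit G f →ₗ[R]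
    Module.DirectLimit (fun i => K ⊗[R] G i)
      (fun i j h => LinearMap.lTensor K (fL R G f i j h)) :=
  (TensorProduct.directLimitRight (fL R G f) K).toLinearMap ∘ₗ LinearMap.lTensor K (θ R G f)

open Classical in
theorem Θ_apply (i : ι) (a : K ⊗[R] G i) :
    Θ R G f K (Algebra.TensorProduct.map (AlgHom.id K K) (DirectLimit.Algebra.of G f i) a) =
      Module.DirectLimit.of R ι (fun i => K ⊗[R] G i)
        (fun i j h => LinearMap.lTensor K (fL R G f i j h)) i a := by
  induction a using TensorProduct.induction_on with
  | zero => simp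
  | tmul k g =>
    rw [Algebra.TensorProduct.map_tmul]
    change (TensorProduct.directLimitRight (fL R G f) K)
      (LinearMap.lTensor K (θ R G f) (k ⊗ₜ[R] (DirectLimit.Algebra.of G f i g))) = _
    rw [LinearMap.lTensor_tmul]
    have : θ R G f (DirectLimit.Algebra.of G f i g) =
        Module.DirectLimit.of R ι G (fL R G f) i g := rfl
    rw [this]
    exact TensorProduct.directLimitRight_tmul_of (fL R G f) K k g
  | add x y hx hy => rw [map_add, map_add, hx, hy, map_add]

/-- `K ⊗ colim Gᵢ` is covered by the `K ⊗ Gᵢ`. -/
theorem dirCover_tensor :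
    DirCover (fun i => K ⊗[R] G i)
      (fun i j h => (Algebra.TensorProduct.map (AlgHom.id K K) (f i j h)).toRingHom)
      (K ⊗[R] DirectLimit G f)
      (fun i => (Algebra.TensorProduct.map (AlgHom.id K K)
        (DirectLimit.Algebra.of G f i)).toRingHom) where
  compat i j h x := by
    change (Algebra.TensorProduct.map (AlgHom.id K K) (DirectLimit.Algebra.of G f j))
      ((Algebra.TensorProduct.map (AlgHom.id K K) (f i j h)) x) =
      (Algebra.TensorProduct.map (AlgHom.id K K) (DirectLimit.Algebra.of G f i)) x
    induction x using TensorProduct.induction_on with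
    | zero => simp
    | tmul k g =>
      rw [Algebra.TensorProduct.map_tmul, Algebra.TensorProduct.map_tmul,
        Algebra.TensorProduct.map_tmul, DirectLimit.Algebra.of_f]
      rfl
    | add x y hx hy => rw [map_add, map_add, hx, hy, map_add]
  surj s := by
    induction s using TensorProduct.induction_on with
    | zero => exact ⟨Classical.arbitrary ι, 0, map_zero _⟩
    | tmul k l =>
      obtain ⟨i, g, rfl⟩ := DirectLimit.exists_eq_mk f l
      refine ⟨i, k ⊗ₜ g, ?_⟩
      change (Algebra.TensorProduct.map (AlgHom.id K K) (DirectLimit.Algebra.of G f i))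
        (k ⊗ₜ g) = _
      rw [Algebra.TensorProduct.map_tmul]
      rfl
    | add x y hx hy =>
      obtain ⟨i, a, rfl⟩ := hx
      obtain ⟨j, b, rfl⟩ := hy
      obtain ⟨k, hik, hjk⟩ := exists_ge_ge i j
      refine ⟨k, (Algebra.TensorProduct.map (AlgHom.id K K) (f i k hik)) a +
        (Algebra.TensorProduct.map (AlgHom.id K K) (f j k hjk)) b, ?_⟩
      have hc : ∀ (i j : ι) (h : i ≤ j) (x : K ⊗[R] G i),
          (Algebra.TensorProduct.map (AlgHom.id K K) (DirectLimit.Algebra.of G f j))
            ((Algebra.TensorProduct.map (AlgHom.id K K) (f i j h)) x) =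
          (Algebra.TensorProduct.map (AlgHom.id K K) (DirectLimit.Algebra.of G f i)) x := by
        intro i j h x
        induction x using TensorProduct.induction_on with
        | zero => simp
        | tmul k g =>
          rw [Algebra.TensorProduct.map_tmul, Algebra.TensorProduct.map_tmul,
            Algebra.TensorProduct.map_tmul, DirectLimit.Algebra.of_f]
          rfl
        | add x y hx hy => rw [map_add, map_add, hx, hy, map_add]
      change (Algebra.TensorProduct.map (AlgHom.id K K) (DirectLimit.Algebra.of G f k)) _ = _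
      rw [map_add, hc, hc]
      rfl
  inj i x hx := by
    classical
    have h1 := Θ_apply R G f K i x
    have hx' : (Algebra.TensorProduct.map (AlgHom.id K K) (DirectLimit.Algebra.of G f i)) x = 0 :=
      hx
    rw [hx', map_zero] at h1
    obtain ⟨j, hij, hj⟩ := Module.DirectLimit.of.zero_exact h1.symm
    refine ⟨j, hij, ?_⟩
    change (Algebra.TensorProduct.map (AlgHom.id K K) (f i j hij)) x = 0
    rw [← hj]
    have key : ∀ z : K ⊗[R] G i, (Algebra.TensorProduct.map (AlgHom.id K K) (f i j hij)) z =
        LinearMap.lTensor K (fL R G f i j hij) z := by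
      intro z
      induction z using TensorProduct.induction_on with
      | zero => simp
      | tmul k g => rfl
      | add x y hx hy => rw [map_add, map_add, hx, hy]
    exact key x

/-- `K ⊗ colim Gᵢ` is a regular ring when it is Noetherian, `K` is a field and the `Gᵢ` are
smooth. -/
theorem isRegularRing_tensor_directLimit (K : Type u) [Field K] [Algebra R K]
    (hs : ∀ i, Algebra.Smooth R (G i)) [IsNoetherianRing (K ⊗[R] DirectLimit G f)] :
    IsRegularRing (K ⊗[R] DirectLimit G f) := by
  rw [isRegularRing_iff]
  intro P hP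
  refine isRegularLocalRing_atPrime_of_dirCover (dirCover_tensor R G f K) ?_ P
  intro i Q hQ
  haveI := hs i
  haveI : Algebra.Smooth K (K ⊗[R] G i) := inferInstance
  haveI : IsRegularRing (K ⊗[R] G i) := Groth.Agent.S1468.isRegularRing_of_smooth_field K _
  exact (isRegularRing_iff.mp inferInstance) Q

/-- **A directed colimit of smooth algebras with Noetherian fibres is regular.** -/
theorem isRegularHom_directLimit (hs : ∀ i, Algebra.Smooth R (G i))
    (hN : ∀ (p : Ideal R) [p.IsPrime], IsNoetherianRing (p.Fiber (DirectLimit G f))) :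
    CAlg.IsRegularHom R (DirectLimit G f) := by
  refine ⟨?_, fun p hp => ⟨hN p, ?_⟩⟩
  · haveI : ∀ i, Module.Flat R (G i) := fun i => by
      haveI := hs i
      infer_instance
    exact flat_directLimit R G f
  · intro k' _ _ hfin
    haveI := hN p
    haveI := hfin
    letI : Algebra R k' := ((algebraMap p.ResidueField k').comp (algebraMap R p.ResidueField)).toAlgebra
    haveI : IsScalarTower R p.ResidueField k' := IsScalarTower.of_algebraMap_eq (fun _ => rfl)
    let e : k' ⊗[p.ResidueField] (p.ResidueField ⊗[R] DirectLimit G f) ≃ₐ[p.ResidueField]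
        k' ⊗[R] DirectLimit G f :=
      Algebra.TensorProduct.cancelBaseChange R p.ResidueField p.ResidueField k' (DirectLimit G f)
    -- Noetherianity of `k' ⊗ F`
    haveI hNoeth1 : IsNoetherianRing (p.Fiber (DirectLimit G f) ⊗[p.ResidueField] k') :=
      Algebra.FiniteType.isNoetherianRing (p.Fiber (DirectLimit G f))
        (p.Fiber (DirectLimit G f) ⊗[p.ResidueField] k')
    haveI hNoeth2 : IsNoetherianRing (k' ⊗[p.ResidueField] p.Fiber (DirectLimit G f)) :=
      isNoetherianRing_of_ringEquiv _
        (Algebra.TensorProduct.comm p.ResidueField (p.Fiber (DirectLimit G f)) k').toRingEquiv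
    haveI hNoeth3 : IsNoetherianRing (k' ⊗[R] DirectLimit G f) :=
      isNoetherianRing_of_ringEquiv _ e.toRingEquiv
    haveI := isRegularRing_tensor_directLimit R G f k' hs
    exact IsRegularRing.of_ringEquiv e.symm.toRingEquiv

end

end Groth.Agent.Lib.Helper47.DirLim
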