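import Groth.Agent.Lib.Helper47.LocHomology
import Mathlib.Algebra.Homology.SingleHomology
import Mathlib.RingTheory.Finiteness.Ideal
import Groth.Prelude.Def_DRing3

/-!
# `H^0` of the extended alternating Cech complex
-/

set_option autoImplicit false
universe u

open CategoryTheory CategoryTheory.Limits

namespace Groth.Agent.Lib.Helper47

variable {R : Type u} [CommRing R]

/-- The elements of `M` killed by a power of each element of the list `fs`. -/
def powTorsionList (fs : List R) (M : Type*) [AddCommGroup M] [Module R M] : Submodule R M where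
  carrier := {m | ∀ f ∈ fs, ∃ n : ℕ, f ^ n • m = 0}
  zero_mem' := fun _ _ => ⟨0, smul_zero _⟩
  add_mem' := by
    intro a b ha hb f hf
    obtain ⟨n, hn⟩ := ha f hf
    obtain ⟨m, hm⟩ := hb f hf
    refine ⟨n + m, ?_⟩
    rw [smul_add, pow_add, mul_smul, mul_smul, hm, smul_zero, add_zero, smul_comm, hn, smul_zero]
  smul_mem' := by
    intro c a ha f hf
    obtain ⟨n, hn⟩ := ha f hf
    exact ⟨n, by rw [smul_comm, hn, smul_zero]⟩

theorem mem_powTorsionList {fs : List R} {M : Type*} [AddCommGroup M] [Module R M] {m : M} :
    m ∈ powTorsionList fs M ↔ ∀ f ∈ fs, ∃ n : ℕ, f ^ n • m = 0 := Iff.rfl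

section

attribute [local instance] HasDerivedCategory.standard

/-- `H^0` of the extended alternating Cech complex embeds into `M`, with image the elements killed by
a power of each `f ∈ fs`. -/
theorem exists_injective_extCechH_zero (M : ModuleCat.{u} R) (fs : List R) :
    ∃ ι : DerCA.extCechH fs M 0 →ₗ[R] M, Function.Injective ι ∧
      LinearMap.range ι = powTorsionList fs M := by
  induction fs with
  | nil =>
    refine ⟨(HomologicalComplex.singleObjHomologySelfIso (ComplexShape.up ℤ) 0 M).hom.hom,
      ((ConcreteCategory.isIso_iff_bijective _).mp inferInstance).1, ?_⟩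
    rw [LinearMap.range_eq_top.mpr ((ConcreteCategory.isIso_iff_bijective _).mp inferInstance).2]
    ext m
    simp [mem_powTorsionList]
  | cons g fs ih =>
    obtain ⟨ι, hι, hr⟩ := ih
    have hL : IsZero (((DerCA.locCx (Submonoid.powers g)).obj (DerCA.extCech M fs)).homology
        (-1)) := by
      apply HomologicalComplex.ExactAt.isZero_homology
      apply HomologicalComplex.ExactAt.of_isZero
      exact (DerCA.locFunctor (Submonoid.powers g)).map_isZero
        (isZero_extCech_X M fs (-1) (Or.inl (by norm_num)))
    have hinj := mappingCocone_fst_injective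
      (DerCA.locCxUnit (Submonoid.powers g) (DerCA.extCech M fs)) (-1) 0 (by norm_num) hL
    refine ⟨ι ∘ₗ (HomologicalComplex.homologyMap (CochainComplex.mappingCocone.fst
      (DerCA.locCxUnit (Submonoid.powers g) (DerCA.extCech M fs))) 0).hom, hι.comp hinj, ?_⟩
    ext m
    rw [mem_powTorsionList]
    constructor
    · rintro ⟨y, rfl⟩
      intro f hf
      have key : ∀ x : DerCA.extCechH fs M 0,
          x = (HomologicalComplex.homologyMap (CochainComplex.mappingCocone.fst
            (DerCA.locCxUnit (Submonoid.powers g) (DerCA.extCech M fs))) 0).hom y →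
          ∃ n : ℕ, f ^ n • ι x = 0 := by
        intro x hx
        rcases List.mem_cons.mp hf with rfl | hf
        · have h0 := mappingCocone_fst_comp
            (DerCA.locCxUnit (Submonoid.powers f) (DerCA.extCech M fs)) 0 y
          have h0' : (HomologicalComplex.homologyMap
              (DerCA.locCxUnit (Submonoid.powers f) (DerCA.extCech M fs)) 0).hom x = 0 := by
            rw [hx]; exact h0
          rw [homologyMap_locCxUnit_apply_eq_zero_iff] at h0'
          obtain ⟨⟨_, n, rfl⟩, hs⟩ := h0'
          refine ⟨n, ?_⟩
          have hs' : f ^ n • x = 0 := hs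
          rw [← map_smul, hs', map_zero]
        · have hm : ι x ∈ powTorsionList fs M := by
            rw [← hr]; exact ⟨x, rfl⟩
          exact hm f hf
      exact key _ rfl
    · intro hm
      have hm' : m ∈ LinearMap.range ι := by
        rw [hr, mem_powTorsionList]
        intro f hf
        exact hm f (List.mem_cons_of_mem _ hf)
      obtain ⟨x, rfl⟩ := hm'
      obtain ⟨n, hn⟩ := hm g List.mem_cons_self
      have hx : g ^ n • x = 0 := by
        apply hι
        rw [map_smul, hn, map_zero]
      have h0 : (HomologicalComplex.homologyMap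
          (DerCA.locCxUnit (Submonoid.powers g) (DerCA.extCech M fs)) 0).hom x = 0 := by
        rw [homologyMap_locCxUnit_apply_eq_zero_iff]
        exact ⟨⟨g ^ n, n, rfl⟩, hx⟩
      obtain ⟨y, hy⟩ := mappingCocone_exact₂ _ 0 x h0
      exact ⟨y, by rw [LinearMap.comp_apply]; exact congrArg ι hy⟩

end

/-- The elements killed by a power of each `f ∈ fs` are the elements killed by a power of the
ideal generated by `fs`. -/
theorem powTorsionList_eq_torsionSub (fs : List R) (M : Type u) [AddCommGroup M] [Module R M] :
    powTorsionList fs M = DRing.torsionSub (Ideal.span {x | x ∈ fs}) M := by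
  ext m
  constructor
  · intro hm
    have h1 : Ideal.span {x | x ∈ fs} ≤ (Module.annihilator R (Submodule.span R {m})).radical := by
      rw [Ideal.span_le]
      intro a ha
      obtain ⟨n, hn⟩ := hm a ha
      exact ⟨n, (Submodule.mem_annihilator_span_singleton _ _).mpr hn⟩
    have hfg : (Ideal.span {x | x ∈ fs}).FG := Submodule.fg_span (R := R) (List.finite_toSet fs)
    obtain ⟨n, hn⟩ := Ideal.exists_pow_le_of_le_radical_of_fg h1 hfg
    exact ⟨n, fun a ha => (Submodule.mem_annihilator_span_singleton _ _).mp (hn ha)⟩
  · rintro ⟨n, hn⟩ f hf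
    exact ⟨n, hn _ (Ideal.pow_mem_pow (Ideal.subset_span (show f ∈ {x | x ∈ fs} from hf)) n)⟩

end Groth.Agent.Lib.Helper47
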