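import Mathlib

/-!
# Maps killing `Ext` classes: dimension shifting (helper47)
-/

set_option autoImplicit false
universe u

open CategoryTheory CategoryTheory.Limits Abelian

namespace Groth.Agent.Lib.Helper47.ExtTorKill

variable {R : Type u} [CommRing R]

/-- Precomposition with `α` kills all classes in `Ext^{e+1}(M', N)`, for every `N`. -/
def ExtKill {M M' : ModuleCat.{u} R} (α : M ⟶ M') (e : ℕ) : Prop :=
  ∀ (N : ModuleCat.{u} R) (x : Ext.{u} M' N (e + 1)), (Ext.mk₀ α).comp x (zero_add _) = 0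

/-- Dimension shifting for `ExtKill` along a morphism of projective presentations. -/
theorem extKill_succ_iff {S S' : ShortComplex (ModuleCat.{u} R)} (hS : S.ShortExact)
    (hS' : S'.ShortExact) (Φ : S ⟶ S') [Projective S.X₂] [Projective S'.X₂] (e : ℕ) :
    ExtKill Φ.τ₃ (e + 1) ↔ ExtKill Φ.τ₁ e := by
  have hnat := ShortComplex.ShortExact.extClass_naturality hS hS' Φ
  constructor
  · intro h N y
    have h1 := h N (hS'.extClass.comp y (by omega : 1 + (e + 1) = e + 1 + 1))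
    rw [← Ext.comp_assoc (Ext.mk₀ Φ.τ₃) hS'.extClass y (zero_add 1) (by omega) (by omega),
      ← hnat, Ext.comp_assoc hS.extClass (Ext.mk₀ Φ.τ₁) y (add_zero 1) (zero_add _) (by omega)] at h1
    obtain ⟨x₂, hx₂⟩ := Ext.contravariant_sequence_exact₁ hS N _ (by omega) h1
    rw [← hx₂, Ext.eq_zero_of_projective x₂, Ext.comp_zero]
  · intro h N x
    obtain ⟨x₁, hx₁⟩ := Ext.contravariant_sequence_exact₃ hS' N x
      (Ext.eq_zero_of_projective _) (by omega : 1 + (e + 1) = e + 1 + 1)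
    rw [← hx₁, ← Ext.comp_assoc (Ext.mk₀ Φ.τ₃) hS'.extClass x₁ (zero_add 1) (by omega) (by omega),
      ← hnat, Ext.comp_assoc hS.extClass (Ext.mk₀ Φ.τ₁) x₁ (add_zero 1) (zero_add _) (by omega),
      h N x₁, Ext.comp_zero]

/-- If `α` kills `Ext¹(M', -)` it lifts through any surjection onto `M'`. -/
theorem exists_lift_of_extKill_zero {M : ModuleCat.{u} R} {S' : ShortComplex (ModuleCat.{u} R)}
    (hS' : S'.ShortExact) (α : M ⟶ S'.X₃) (h : ExtKill α 0) : ∃ β : M ⟶ S'.X₂, β ≫ S'.g = α := by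
  have h1 := h S'.X₁ hS'.extClass
  obtain ⟨x₂, hx₂⟩ := Ext.covariant_sequence_exact₃ M hS' (Ext.mk₀ α) (zero_add 1) h1
  obtain ⟨β, rfl⟩ := (Ext.mk₀_bijective _ _).2 x₂
  rw [Ext.mk₀_comp_mk₀] at hx₂
  exact ⟨β, (Ext.mk₀_bijective _ _).1 hx₂⟩

/-- A map factoring through a projective kills all higher `Ext`. -/
theorem extKill_of_factor {M Q M' : ModuleCat.{u} R} [Projective Q] (β : M ⟶ Q) (γ : Q ⟶ M')
    (e : ℕ) : ExtKill (β ≫ γ) e := by
  intro N x
  rw [← Ext.mk₀_comp_mk₀, Ext.comp_assoc (Ext.mk₀ β) (Ext.mk₀ γ) x (zero_add 0) (zero_add _)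
    (by omega), Ext.eq_zero_of_projective ((Ext.mk₀ γ).comp x _), Ext.comp_zero]

end Groth.Agent.Lib.Helper47.ExtTorKill
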