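import Mathlib
import Groth.Agent.Lib.Helper73.TorFirstVar

/-!
# Maps killing `Tor`: dimension shifting in the first variable (helper47)
-/

set_option autoImplicit false
set_option backward.isDefEq.respectTransparency false
universe u

open CategoryTheory CategoryTheory.Limits MonoidalCategory

namespace Groth.Agent.Lib.Helper47.ExtTorKill

open Groth.Agent.Lib.Helper73 Groth.Agent.Lib.Helper73.TorFirstVar

variable {A : Type u} [CommRing A]

/-- `α` induces the zero map `Tor_{e+1}(M, N) → Tor_{e+1}(M', N)` for every `N`. -/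
def TorKill {M M' : ModuleCat.{u} A} (α : M ⟶ M') (e : ℕ) : Prop :=
  ∀ N : ModuleCat.{u} A, ((Tor (ModuleCat.{u} A) (e + 1)).map α).app N = 0

lemma torKill_iff {M M' : ModuleCat.{u} A} (α : M ⟶ M') (e : ℕ) :
    TorKill α e ↔ ∀ N : ModuleCat.{u} A, Tmap (e + 1) α N = 0 := Iff.rfl

/-- `Tor_{k+1}(Q, N) = 0` for `Q` projective. -/
lemma isZero_T_succ_of_projective (Q : ModuleCat.{u} A) [Projective Q] (N : ModuleCat.{u} A)
    (k : ℕ) : IsZero (T (k + 1) Q N) := by
  let P := projectiveResolution N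
  refine IsZero.of_iso ?_ (P.isoLeftDerivedObj (TL Q) (k + 1))
  show IsZero ((((TL Q).mapHomologicalComplex _).obj P.complex).homology (k + 1))
  rw [← HomologicalComplex.exactAt_iff_isZero_homology]
  have h := P.complex_exactAt_succ k
  rw [HomologicalComplex.exactAt_iff] at h ⊢
  have : Module.Flat A Q := flat_of_projective Q
  exact Module.Flat.lTensor_shortComplex_exact Q _ h

section Nat

variable {S S' : ShortComplex (ModuleCat.{u} A)} (hS : S.ShortExact) (hS' : S'.ShortExact)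
  (Φ : S ⟶ S') {N : ModuleCat.{u} A} (P : ProjectiveResolution N)

/-- The morphism of short complexes of complexes induced by `Φ`. -/
noncomputable def tensSCMap : tensSC (S := S) P ⟶ tensSC (S := S') P where
  τ₁ := (NatTrans.mapHomologicalComplex (TLmap Φ.τ₁) _).app P.complex
  τ₂ := (NatTrans.mapHomologicalComplex (TLmap Φ.τ₂) _).app P.complex
  τ₃ := (NatTrans.mapHomologicalComplex (TLmap Φ.τ₃) _).app P.complex
  comm₁₂ := by
    refine HomologicalComplex.hom_ext _ _ (fun n => ?_)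
    change (Φ.τ₁ ▷ (P.complex.X n)) ≫ (S'.f ▷ (P.complex.X n)) =
      (S.f ▷ (P.complex.X n)) ≫ (Φ.τ₂ ▷ (P.complex.X n))
    rw [← comp_whiskerRight, ← comp_whiskerRight, Φ.comm₁₂]
  comm₂₃ := by
    refine HomologicalComplex.hom_ext _ _ (fun n => ?_)
    change (Φ.τ₂ ▷ (P.complex.X n)) ≫ (S'.g ▷ (P.complex.X n)) =
      (S.g ▷ (P.complex.X n)) ≫ (Φ.τ₃ ▷ (P.complex.X n))
    rw [← comp_whiskerRight, ← comp_whiskerRight, Φ.comm₂₃]

/-- Naturality of the connecting morphism of `Tor` in the first variable. -/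
lemma δ_naturality (n : ℕ) :
    δ hS P n ≫ Tmap n Φ.τ₁ N = Tmap (n + 1) Φ.τ₃ N ≫ δ hS' P n := by
  have h1 : Tmap n Φ.τ₁ N ≫ (P.isoLeftDerivedObj (TL S'.X₁) n).hom =
      (P.isoLeftDerivedObj (TL S.X₁) n).hom ≫
        HomologicalComplex.homologyMap (tensSCMap Φ P).τ₁ n := nat_map P Φ.τ₁ n
  have h3 : Tmap (n + 1) Φ.τ₃ N ≫ (P.isoLeftDerivedObj (TL S'.X₃) (n + 1)).hom =
      (P.isoLeftDerivedObj (TL S.X₃) (n + 1)).hom ≫
        HomologicalComplex.homologyMap (tensSCMap Φ P).τ₃ (n + 1) := nat_map P Φ.τ₃ (n + 1)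
  have hδ := HomologicalComplex.HomologySequence.δ_naturality (tensSCMap Φ P)
    (tensSC_shortExact hS P) (tensSC_shortExact hS' P) (n + 1) n rfl
  have h1' : (P.isoLeftDerivedObj (TL S.X₁) n).inv ≫ Tmap n Φ.τ₁ N =
      HomologicalComplex.homologyMap (tensSCMap Φ P).τ₁ n ≫
        (P.isoLeftDerivedObj (TL S'.X₁) n).inv := by
    rw [Iso.inv_comp_eq, ← Category.assoc, Iso.eq_comp_inv]
    exact h1
  calc δ hS P n ≫ Tmap n Φ.τ₁ N
      = (P.isoLeftDerivedObj (TL S.X₃) (n + 1)).hom ≫ (tensSC_shortExact hS P).δ (n + 1) n rfl ≫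
          ((P.isoLeftDerivedObj (TL S.X₁) n).inv ≫ Tmap n Φ.τ₁ N) := by
        dsimp only [δ]; simp only [Category.assoc]
    _ = (P.isoLeftDerivedObj (TL S.X₃) (n + 1)).hom ≫ ((tensSC_shortExact hS P).δ (n + 1) n rfl ≫
          HomologicalComplex.homologyMap (tensSCMap Φ P).τ₁ n) ≫
            (P.isoLeftDerivedObj (TL S'.X₁) n).inv := by
        rw [h1']; simp only [Category.assoc]
    _ = ((P.isoLeftDerivedObj (TL S.X₃) (n + 1)).hom ≫
          HomologicalComplex.homologyMap (tensSCMap Φ P).τ₃ (n + 1)) ≫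
            (tensSC_shortExact hS' P).δ (n + 1) n rfl ≫
              (P.isoLeftDerivedObj (TL S'.X₁) n).inv := by
        rw [hδ]; simp only [Category.assoc]
    _ = Tmap (n + 1) Φ.τ₃ N ≫ δ hS' P n := by
        rw [← h3]; dsimp only [δ]; simp only [Category.assoc]

end Nat

/-- Dimension shifting for `TorKill` along a morphism of projective presentations. -/
theorem torKill_succ_iff {S S' : ShortComplex (ModuleCat.{u} A)} (hS : S.ShortExact)
    (hS' : S'.ShortExact) (Φ : S ⟶ S') [Projective S.X₂] [Projective S'.X₂] (e : ℕ) :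
    TorKill Φ.τ₃ (e + 1) ↔ TorKill Φ.τ₁ e := by
  rw [torKill_iff, torKill_iff]
  constructor
  · intro h N
    let P := projectiveResolution N
    have hnat := δ_naturality hS hS' Φ P (e + 1)
    rw [h N, zero_comp] at hnat
    have hepi : Epi (δ hS P (e + 1)) :=
      (exact₁ hS P (e + 1)).epi_f ((isZero_T_succ_of_projective S.X₂ N e).eq_of_tgt _ _)
    exact (cancel_epi (δ hS P (e + 1))).mp (hnat.trans comp_zero.symm)
  · intro h N
    let P := projectiveResolution N
    have hnat := δ_naturality hS hS' Φ P (e + 1)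
    rw [h N, comp_zero] at hnat
    have hmono : Mono (δ hS' P (e + 1)) :=
      (exact₃ hS' P (e + 1)).mono_g ((isZero_T_succ_of_projective S'.X₂ N (e + 1)).eq_of_src _ _)
    exact (cancel_mono (δ hS' P (e + 1))).mp (hnat.symm.trans zero_comp.symm)

/-- A map factoring through a projective kills all higher `Tor`. -/
theorem torKill_of_factor {M Q M' : ModuleCat.{u} A} [Projective Q] (β : M ⟶ Q) (γ : Q ⟶ M')
    (e : ℕ) : TorKill (β ≫ γ) e := by
  intro N
  have hz : ((Tor (ModuleCat.{u} A) (e + 1)).map β).app N = 0 :=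
    (isZero_T_succ_of_projective Q N e).eq_of_tgt _ _
  rw [Functor.map_comp, NatTrans.comp_app, hz, zero_comp]

end Groth.Agent.Lib.Helper47.ExtTorKill
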