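import Mathlib
import Groth.Agent.Lib.Helper47.ExtTorKillA
import Groth.Agent.Lib.Helper47.ExtTorKillB
import Groth.Agent.Lib.Helper82.TorFactor

/-!
# `Ext`-killing ⟺ `Tor`-killing for maps out of finite modules over Noetherian rings (helper47)
-/

set_option autoImplicit false
universe u

open CategoryTheory CategoryTheory.Limits Abelian

namespace Groth.Agent.Lib.Helper47.ExtTorKill

variable {R : Type u} [CommRing R]

section SES

/-- the short complex `ker π → P → M` of a linear map. -/
noncomputable def presSC {P M : Type u} [AddCommGroup P] [Module R P] [AddCommGroup M] [Module R M]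
    (π : P →ₗ[R] M) : ShortComplex (ModuleCat.{u} R) :=
  ShortComplex.mk (ModuleCat.ofHom (LinearMap.ker π).subtype) (ModuleCat.ofHom π)
    (by ext x; exact LinearMap.mem_ker.mp x.2)

lemma presSC_shortExact {P M : Type u} [AddCommGroup P] [Module R P] [AddCommGroup M] [Module R M]
    (π : P →ₗ[R] M) (hπ : Function.Surjective π) : (presSC π).ShortExact := by
  have : Mono (presSC π).f := (ModuleCat.mono_iff_injective _).mpr (LinearMap.ker π).injective_subtype
  have : Epi (presSC π).g := (ModuleCat.epi_iff_surjective _).mpr hπ
  exact ShortComplex.ShortExact.mk ((ShortComplex.moduleCat_exact_iff _).mpr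
    (fun y hy => ⟨(⟨y, LinearMap.mem_ker.mpr hy⟩ : LinearMap.ker π), rfl⟩))

/-- the morphism of presentations induced by a lift. -/
noncomputable def presMap {P M P' M' : Type u} [AddCommGroup P] [Module R P] [AddCommGroup M]
    [Module R M] [AddCommGroup P'] [Module R P'] [AddCommGroup M'] [Module R M']
    (π : P →ₗ[R] M) (π' : P' →ₗ[R] M') (α : M →ₗ[R] M') (lam : P →ₗ[R] P')
    (h : π' ∘ₗ lam = α ∘ₗ π) : presSC π ⟶ presSC π' :=
  ShortComplex.homMk
    (ModuleCat.ofHom (lam.restrict (p := LinearMap.ker π) (q := LinearMap.ker π')
      (fun x hx => by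
        rw [LinearMap.mem_ker] at hx ⊢
        have := LinearMap.congr_fun h x
        simp only [LinearMap.comp_apply] at this
        rw [this, hx, map_zero])))
    (ModuleCat.ofHom lam) (ModuleCat.ofHom α)
    (by ext x; rfl)
    (by ext x; exact (LinearMap.congr_fun h x))

end SES

lemma projective_of {P : Type u} [AddCommGroup P] [Module R P] [Module.Projective R P] :
    Projective (ModuleCat.of R P) :=
  (IsProjective.iff_projective (R := R) P).mp inferInstance

theorem extKill_iff_torKill [IsNoetherianRing R] (e : ℕ) :
    ∀ (M M' : Type u) [AddCommGroup M] [Module R M] [Module.Finite R M] [AddCommGroup M']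
      [Module R M'] (α : M →ₗ[R] M'),
      ExtKill (ModuleCat.ofHom α) e ↔ TorKill (ModuleCat.ofHom α) e := by
  induction e with
  | zero =>
    intro M M' _ _ _ _ _ α
    constructor
    · intro h
      let π' : (M' →₀ R) →ₗ[R] M' := Finsupp.linearCombination R id
      have hπ' : Function.Surjective π' := Finsupp.linearCombination_id_surjective R M'
      have hS' := presSC_shortExact π' hπ'
      obtain ⟨β, hβ⟩ := exists_lift_of_extKill_zero hS' (ModuleCat.ofHom α) h
      have : Projective (presSC π').X₂ := projective_of (P := M' →₀ R)
      rw [← hβ]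
      exact torKill_of_factor β _ 0
    · intro h
      have : Module.FinitePresentation R M := Module.finitePresentation_of_finite R M
      obtain ⟨ι, g, k, hgk⟩ := Groth.Agent.Lib.Helper82.TorFactor.factorsFree_of_tor_one_zero α
        (fun N _ _ => h (ModuleCat.of R N))
      have : Projective (ModuleCat.of R (ι →₀ R)) := projective_of (P := ι →₀ R)
      have : ModuleCat.ofHom α = ModuleCat.ofHom g ≫ ModuleCat.ofHom k := by
        rw [hgk]; rfl
      rw [this]
      exact extKill_of_factor _ _ 0
  | succ e ih =>
    intro M M' _ _ _ _ _ α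
    obtain ⟨n, π, hπ⟩ := Module.Finite.exists_fin' R M
    let π' : (M' →₀ R) →ₗ[R] M' := Finsupp.linearCombination R id
    have hπ' : Function.Surjective π' := Finsupp.linearCombination_id_surjective R M'
    obtain ⟨lam, hlam⟩ := Module.projective_lifting_property π' (α ∘ₗ π) hπ'
    have hS := presSC_shortExact π hπ
    have hS' := presSC_shortExact π' hπ'
    let Φ := presMap π π' α lam hlam
    have : Projective (presSC π).X₂ := projective_of (P := Fin n → R)
    have : Projective (presSC π').X₂ := projective_of (P := M' →₀ R)
    have h1 := extKill_succ_iff hS hS' Φ e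
    have h2 := torKill_succ_iff hS hS' Φ e
    have h3 := ih (LinearMap.ker π) (LinearMap.ker π') (lam.restrict (p := LinearMap.ker π)
      (q := LinearMap.ker π') (fun x hx => by
        rw [LinearMap.mem_ker] at hx ⊢
        have := LinearMap.congr_fun hlam x
        simp only [LinearMap.comp_apply] at this
        rw [this, hx, map_zero]))
    exact h1.trans (h3.trans h2.symm)

end Groth.Agent.Lib.Helper47.ExtTorKill
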