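import Mathlib
import Groth.Agent.Lib.Helper69.SchDenseFibre

/-!
# The affine charts of a fibre, as algebras over the residue field (helper47)

Complements helper69's `fibChartRingHom`: the chart isomorphism
`Γ(X_y, fiberι⁻¹ U) ≅ κ(z) ⊗ Γ(X, U)` is semilinear over `κ(y) ≅ κ(z)`.
-/

set_option autoImplicit false
set_option linter.style.haveILetI false
universe u
open AlgebraicGeometry CategoryTheory Limits TopologicalSpace TensorProduct Opposite
open Groth.Agent.Lib.Helper69 Groth.Agent.Lib.Helper13.GenFibre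

namespace Groth.Agent.Lib.Helper47.FibreChartField

set_option backward.isDefEq.respectTransparency false in
theorem specFiberIso_inv_snd (R S : Type u) [CommRing R] [CommRing S] [Algebra R S]
    (p : PrimeSpectrum R) :
    (specFiberIso R S p).inv ≫
      (Spec.map (CommRingCat.ofHom (algebraMap R S))).fiberToSpecResidueField p =
    Spec.map (CommRingCat.ofHom (algebraMap p.asIdeal.ResidueField (p.asIdeal.Fiber S))) ≫
      Spec.map (Scheme.Spec.residueFieldIso (.of R) p).hom := by
  have h := Arrow.w (Spec.fiberToSpecResidueFieldIso R S p).inv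
  have h2 : (specFiberIso R S p).inv = (Spec.fiberToSpecResidueFieldIso R S p).inv.left := rfl
  rw [h2]
  simp only [Arrow.mk_hom] at h
  refine h.trans ?_
  congr 1

variable {X Y : Scheme.{u}} (f : X ⟶ Y) {W : Y.Opens} (hW : IsAffineOpen W) {U : X.Opens}
  (hU : IsAffineOpen U) (e : U ≤ f ⁻¹ᵁ W) (z : Spec Γ(Y, W))

theorem fiberChart_snd :
    fiberChart f hW hU e z ≫ f.fiberToSpecResidueField (hW.fromSpec z) =
      pullback.snd _ _ ≫ Spec.map (hW.fromSpec.residueFieldMap z) := by
  unfold fiberChart Scheme.Hom.fiberToSpecResidueField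
  exact pullback.lift_snd _ _ _

/-- The comparison of residue fields `κ(y) ≅ κ(z)` for `y = hW.fromSpec z`. -/
noncomputable def resFieldHom :
    Y.residueField (hW.fromSpec z) ⟶ CommRingCat.of z.asIdeal.ResidueField :=
  hW.fromSpec.residueFieldMap z ≫ (Scheme.Spec.residueFieldIso Γ(Y, W) z).hom

instance : IsIso (resFieldHom hW z) := by
  unfold resFieldHom
  infer_instance

theorem fibChart_fiberToSpecResidueField :
    letI : Algebra Γ(Y, W) Γ(X, U) := (f.appLE W U e).hom.toAlgebra
    fibChart f hW hU e z ≫ f.fiberToSpecResidueField (hW.fromSpec z) =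
      Spec.map (resFieldHom hW z ≫ CommRingCat.ofHom
        (algebraMap z.asIdeal.ResidueField (z.asIdeal.Fiber Γ(X, U)))) := by
  letI : Algebra Γ(Y, W) Γ(X, U) := (f.appLE W U e).hom.toAlgebra
  have h1 := fiberChart_snd f hW hU e z
  have h2 := specFiberIso_inv_snd Γ(Y, W) Γ(X, U) z
  change (specFiberIso Γ(Y, W) Γ(X, U) z).inv ≫ (fiberChart f hW hU e z ≫
    f.fiberToSpecResidueField (hW.fromSpec z)) = _
  rw [h1]
  unfold resFieldHom
  rw [Spec.map_comp, Spec.map_comp, ← Category.assoc, ← Category.assoc]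
  exact congrArg (· ≫ Spec.map (hW.fromSpec.residueFieldMap z)) h2

/-- The structure map `κ(y) ⟶ Γ(X_y, V)` of the fibre, for an open `V` of the fibre
(the algebra structure used in the statements). -/
noncomputable def fibreStructureHom (y : Y) (V : (f.fiber y).Opens) :
    Y.residueField y ⟶ Γ(f.fiber y, V) :=
  (Scheme.ΓSpecIso (Y.residueField y)).inv ≫ (f.fiberToSpecResidueField y).appTop ≫
    (f.fiber y).presheaf.map (homOfLE le_top).op

/-- The chart isomorphism is semilinear over `κ(y) ≅ κ(z)`. -/
theorem fibreStructureHom_comp_fibChartRingHom :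
    letI : Algebra Γ(Y, W) Γ(X, U) := (f.appLE W U e).hom.toAlgebra
    fibreStructureHom f (hW.fromSpec z) ((f.fiberι (hW.fromSpec z)) ⁻¹ᵁ U) ≫
        fibChartRingHom f hW hU e z =
      resFieldHom hW z ≫ CommRingCat.ofHom
        (algebraMap z.asIdeal.ResidueField (z.asIdeal.Fiber Γ(X, U))) := by
  letI : Algebra Γ(Y, W) Γ(X, U) := (f.appLE W U e).hom.toAlgebra
  unfold fibreStructureHom fibChartRingHom
  simp only [Category.assoc]
  rw [Scheme.Hom.map_appLE_assoc]
  have h3 : (fibChart f hW hU e z).appLE ⊤ ⊤ (by exact le_top) =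
      (fibChart f hW hU e z).appTop :=
    (Scheme.Hom.app_eq_appLE (f := fibChart f hW hU e z) (U := ⊤)).symm
  rw [h3, ← Scheme.Hom.comp_appTop_assoc, fibChart_fiberToSpecResidueField,
    Scheme.ΓSpecIso_naturality, Iso.inv_hom_id_assoc]

end Groth.Agent.Lib.Helper47.FibreChartField
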