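import Mathlib.RingTheory.Jacobson.Ring
import Mathlib.RingTheory.Localization.Integral
import Mathlib.RingTheory.Ideal.GoingUp
import Mathlib.RingTheory.Localization.FractionRing

/-!
# Finite type maps from a domain to a field

If `D` is a domain and `D → k` is an injective finite type ring map to a field, then there is a
nonzero `f : D` such that the only prime of `D` not containing `f` is zero
(equivalently `D[1/f]` is a field).
-/

set_option autoImplicit false

namespace Groth.Agent.Lib.Helper47

open Polynomial in
/-- If `D` is a domain and `k` is a field which is an injective `D`-algebra of finite type, then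
there is `f ≠ 0` in `D` such that every prime of `D` not containing `f` is zero. -/
theorem exists_ne_zero_forall_prime_eq_bot (D k : Type*) [CommRing D] [IsDomain D] [Field k]
    [Algebra D k] [FaithfulSMul D k] [Algebra.FiniteType D k] :
    ∃ f : D, f ≠ 0 ∧ ∀ q : Ideal D, q.IsPrime → f ∉ q → q = ⊥ := by
  classical
  let _ := FractionRing.liftAlgebra D k
  have : Algebra.FiniteType (FractionRing D) k :=
    Algebra.FiniteType.of_restrictScalars_finiteType D (FractionRing D) k
  have : Module.Finite (FractionRing D) k :=
    finite_of_finite_type_of_isJacobsonRing (FractionRing D) k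
  have : Algebra.IsAlgebraic (FractionRing D) k := Algebra.IsAlgebraic.of_finite _ _
  have halg : Algebra.IsAlgebraic D k :=
    (IsFractionRing.comap_isAlgebraic_iff (A := D) (K := FractionRing D) (C := k)).mpr this
  obtain ⟨s, hs⟩ := (Algebra.FiniteType.out : (⊤ : Subalgebra D k).FG)
  obtain ⟨f, hf0, hf⟩ := Algebra.IsAlgebraic.exists_integral_multiples D s
  refine ⟨f, hf0, fun q hq hfq => ?_⟩
  -- every element of `k` has a multiple by a power of `f` which is integral over `D`
  have key : ∀ x : k, ∃ n : ℕ, IsIntegral D (f ^ n • x) := by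
    intro x
    have hx : x ∈ Algebra.adjoin D (s : Set k) := by rw [hs]; trivial
    induction hx using Algebra.adjoin_induction with
    | mem x hx => exact ⟨1, by simpa using hf x hx⟩
    | algebraMap r => exact ⟨0, by simpa using isIntegral_algebraMap⟩
    | add x y _ _ hx hy =>
      obtain ⟨n, hn⟩ := hx
      obtain ⟨m, hm⟩ := hy
      refine ⟨n + m, ?_⟩
      have : f ^ (n + m) • (x + y) = f ^ m • (f ^ n • x) + f ^ n • (f ^ m • y) := by
        simp only [Algebra.smul_def, map_pow, map_mul, pow_add]; ring
      rw [this]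
      exact (hn.smul _).add (hm.smul _)
    | mul x y _ _ hx hy =>
      obtain ⟨n, hn⟩ := hx
      obtain ⟨m, hm⟩ := hy
      refine ⟨n + m, ?_⟩
      have : f ^ (n + m) • (x * y) = (f ^ n • x) * (f ^ m • y) := by
        simp only [Algebra.smul_def, map_pow, map_mul, pow_add]; ring
      rw [this]
      exact hn.mul hm
  -- lying over for the integral closure
  by_contra hne
  obtain ⟨c, hcq, hc0⟩ := Submodule.exists_mem_ne_zero_of_ne_bot hne
  let D' := integralClosure D k
  have hinj : Function.Injective (algebraMap D D') := by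
    intro a b hab
    apply FaithfulSMul.algebraMap_injective D k
    have := congrArg (algebraMap D' k) hab
    simpa [← IsScalarTower.algebraMap_apply] using this
  obtain ⟨Q, -, hQ, hQq⟩ := Ideal.exists_ideal_over_prime_of_isIntegral q (⊥ : Ideal D')
    (by rw [← RingHom.ker_eq_comap_bot, (RingHom.injective_iff_ker_eq_bot _).mp hinj]; exact bot_le)
  -- `1/c` times a power of `f` is integral
  obtain ⟨n, hn⟩ := key ((algebraMap D k c)⁻¹)
  let y : D' := ⟨f ^ n • (algebraMap D k c)⁻¹, hn⟩
  have hck : algebraMap D k c ≠ 0 := by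
    rw [Ne, map_eq_zero_iff _ (FaithfulSMul.algebraMap_injective D k)]; exact hc0
  have hmul : algebraMap D D' (f ^ n) = algebraMap D D' c * y := by
    apply Subtype.ext
    change algebraMap D k (f ^ n) = algebraMap D k c * (f ^ n • (algebraMap D k c)⁻¹)
    rw [Algebra.smul_def, mul_left_comm, mul_inv_cancel₀ hck, mul_one]
  have hcQ : algebraMap D D' c ∈ Q := by
    have : c ∈ Q.comap (algebraMap D D') := by rw [hQq]; exact hcq
    exact this
  have hfQ : f ^ n ∈ Q.comap (algebraMap D D') := by
    rw [Ideal.mem_comap, hmul]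
    exact Q.mul_mem_right _ hcQ
  rw [hQq] at hfQ
  exact hfq (hq.mem_of_pow_mem n hfQ)

/-- Ring hom version: if `φ : R →+* k` is of finite type with `k` a field, there is `g ∉ ker φ`
such that `ker φ` is the only prime containing `ker φ` and not containing `g`. -/
theorem exists_notMem_ker_forall_prime_eq {R k : Type*} [CommRing R] [Field k] (φ : R →+* k)
    (hφ : φ.FiniteType) :
    ∃ g : R, g ∉ RingHom.ker φ ∧
      ∀ q : Ideal R, q.IsPrime → RingHom.ker φ ≤ q → g ∉ q → q = RingHom.ker φ := by
  let p := RingHom.ker φ
  have hp : p.IsPrime := RingHom.ker_isPrime φ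
  let _ : Algebra R k := φ.toAlgebra
  let _ : Algebra (R ⧸ p) k := (RingHom.kerLift φ).toAlgebra
  have : IsScalarTower R (R ⧸ p) k := IsScalarTower.of_algebraMap_eq fun x => rfl
  have : FaithfulSMul (R ⧸ p) k :=
    (faithfulSMul_iff_algebraMap_injective _ _).mpr (RingHom.kerLift_injective φ)
  have : Algebra.FiniteType R k := hφ
  have : Algebra.FiniteType (R ⧸ p) k :=
    Algebra.FiniteType.of_restrictScalars_finiteType R (R ⧸ p) k
  obtain ⟨f, hf0, hf⟩ := exists_ne_zero_forall_prime_eq_bot (R ⧸ p) k
  obtain ⟨g, rfl⟩ := Ideal.Quotient.mk_surjective f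
  refine ⟨g, fun hg => hf0 (Ideal.Quotient.eq_zero_iff_mem.mpr hg), fun q hq hpq hgq => ?_⟩
  have hq' : (q.map (Ideal.Quotient.mk p)).IsPrime :=
    Ideal.map_isPrime_of_surjective Ideal.Quotient.mk_surjective (by simpa using hpq)
  have hcomap : (q.map (Ideal.Quotient.mk p)).comap (Ideal.Quotient.mk p) = q := by
    rw [Ideal.comap_map_of_surjective _ Ideal.Quotient.mk_surjective, ← RingHom.ker_eq_comap_bot,
      Ideal.mk_ker]
    exact sup_eq_left.mpr hpq
  have hgq' : Ideal.Quotient.mk p g ∉ q.map (Ideal.Quotient.mk p) := by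
    intro h
    apply hgq
    rw [← hcomap]
    exact h
  have hbot := hf _ hq' hgq'
  rw [← hcomap, hbot, ← RingHom.ker_eq_comap_bot, Ideal.mk_ker]

end Groth.Agent.Lib.Helper47
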