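import Groth.Agent.Lib.Helper47.FiniteTypeField
import Mathlib.AlgebraicGeometry.Morphisms.FiniteType
import Mathlib.AlgebraicGeometry.Morphisms.Finite
import Mathlib.AlgebraicGeometry.Morphisms.ClosedImmersion
import Mathlib.AlgebraicGeometry.ResidueField

/-!
# Finite type points of schemes
-/

set_option autoImplicit false
universe u

open AlgebraicGeometry CategoryTheory

namespace Groth.Agent.Lib.Helper47

/-- A point of a subtype is closed iff it has no proper specialization inside the subtype. -/
theorem isClosed_singleton_subtype_iff {T : Type*} [TopologicalSpace T] (P : T → Prop) (x : T)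
    (hx : P x) :
    IsClosed ({⟨x, hx⟩} : Set {y // P y}) ↔ ∀ y : T, P y → x ⤳ y → y = x := by
  rw [← closure_subset_iff_isClosed]
  constructor
  · intro h y hy hxy
    have h1 : (⟨x, hx⟩ : {y // P y}) ⤳ ⟨y, hy⟩ := by
      rw [← Topology.IsInducing.subtypeVal.specializes_iff]
      exact hxy
    have h2 := h (specializes_iff_mem_closure.mp h1)
    rw [Set.mem_singleton_iff] at h2
    exact congrArg Subtype.val h2
  · rintro h ⟨y, hy⟩ hy'
    rw [← specializes_iff_mem_closure, ← Topology.IsInducing.subtypeVal.specializes_iff] at hy'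
    rw [Set.mem_singleton_iff]
    exact Subtype.ext (h y hy hy')

/-- The image point of a morphism `Spec k ⟶ S` locally of finite type (with `k` a field) is
closed in some affine open neighbourhood. -/
theorem exists_isAffineOpen_isClosed_of_locallyOfFiniteType {S : Scheme.{u}} (k : Type u)
    [Field k] (f : Spec (CommRingCat.of k) ⟶ S) [LocallyOfFiniteType f] :
    ∃ U : S.Opens, IsAffineOpen U ∧ ∃ hu : f (IsLocalRing.closedPoint k) ∈ U,
      IsClosed ({⟨f (IsLocalRing.closedPoint k), hu⟩} : Set ↥U) := by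
  set pt : Spec (CommRingCat.of k) := IsLocalRing.closedPoint k with hpt
  set u := f pt with hu
  obtain ⟨_, ⟨U₀, hU₀, rfl⟩, huU₀, -⟩ :=
    S.isBasis_affineOpens.exists_subset_of_mem_open (Set.mem_univ u) isOpen_univ
  obtain ⟨U, hU, huU⟩ : ∃ U : S.Opens, IsAffineOpen U ∧ u ∈ U := ⟨U₀, hU₀, huU₀⟩
  clear huU₀ hU₀ U₀
  have hrange : Set.range f ⊆ Set.range hU.fromSpec := by
    rw [hU.range_fromSpec]
    rintro _ ⟨a, rfl⟩
    rw [Subsingleton.elim a pt]
    exact huU
  let f' : Spec (CommRingCat.of k) ⟶ Spec Γ(S, U) := IsOpenImmersion.lift hU.fromSpec f hrange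
  have hfac : f' ≫ hU.fromSpec = f := IsOpenImmersion.lift_fac _ _ _
  have : LocallyOfFiniteType (f' ≫ hU.fromSpec) := by rw [hfac]; infer_instance
  have hf' : LocallyOfFiniteType f' := locallyOfFiniteType_of_comp f' hU.fromSpec
  obtain ⟨φ, hφ⟩ := Spec.map_surjective f'
  rw [← hφ, HasRingHomProperty.Spec_iff (P := @LocallyOfFiniteType)] at hf'
  obtain ⟨g, hgker, hg⟩ := exists_notMem_ker_forall_prime_eq φ.hom hf'
  -- the point `p` of `Spec Γ(S, U)` corresponding to `u`
  let e : PrimeSpectrum Γ(S, U) → S := fun q => hU.fromSpec q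
  have he : Topology.IsOpenEmbedding e := hU.fromSpec.isOpenEmbedding
  have herange : Set.range e = U := hU.range_fromSpec
  let p : PrimeSpectrum Γ(S, U) := PrimeSpectrum.comap φ.hom (IsLocalRing.closedPoint k)
  have hpf' : p = f' pt := by rw [← hφ]; rfl
  have hpu : e p = u := by
    change hU.fromSpec p = u
    rw [hpf']
    change (f' ≫ hU.fromSpec) pt = u
    rw [hfac]
  have hpker : p.asIdeal = RingHom.ker φ.hom := by
    change Ideal.comap φ.hom (IsLocalRing.maximalIdeal k) = _
    rw [IsLocalRing.maximalIdeal_eq_bot, RingHom.ker_eq_comap_bot]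
  have hmem : ∀ q : PrimeSpectrum Γ(S, U), e q ∈ S.basicOpen g ↔ g ∉ q.asIdeal := by
    intro q
    change q ∈ (hU.fromSpec ⁻¹ᵁ S.basicOpen g) ↔ _
    rw [hU.fromSpec_preimage_basicOpen]
    exact PrimeSpectrum.mem_basicOpen _ _
  have huU' : u ∈ S.basicOpen g := by
    rw [← hpu, hmem, hpker]; exact hgker
  refine ⟨S.basicOpen g, hU.basicOpen g, huU', ?_⟩
  rw [isClosed_singleton_subtype_iff (fun y => y ∈ S.basicOpen g) u huU']
  intro y hy huy
  have hyU : y ∈ Set.range e := by
    rw [herange]; exact S.basicOpen_le g hy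
  obtain ⟨q, rfl⟩ := hyU
  have hpq : p ⤳ q := by
    rw [← he.isInducing.specializes_iff, hpu]
    exact huy
  have hle : p.asIdeal ≤ q.asIdeal := (PrimeSpectrum.le_iff_specializes p q).mpr hpq
  have hq := hg q.asIdeal q.2 (hpker ▸ hle) ((hmem q).mp hy)
  have : q = p := PrimeSpectrum.ext (hq.trans hpker.symm)
  rw [this, hpu]

/-- A point which is closed in some open neighbourhood is a finite type point. -/
theorem locallyOfFiniteType_fromSpecResidueField_of_isClosed {S : Scheme.{u}} (s : S)
    (U : S.Opens) (hs : s ∈ U) (hcl : IsClosed ({⟨s, hs⟩} : Set ↥U)) :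
    LocallyOfFiniteType (S.fromSpecResidueField s) := by
  have hrange : Set.range (S.fromSpecResidueField s) ⊆ Set.range U.ι := by
    rw [Scheme.range_fromSpecResidueField, Scheme.Opens.range_ι]
    rintro _ rfl
    exact hs
  let j : Spec (S.residueField s) ⟶ (U : Scheme) :=
    IsOpenImmersion.lift U.ι (S.fromSpecResidueField s) hrange
  have hfac : j ≫ U.ι = S.fromSpecResidueField s := IsOpenImmersion.lift_fac _ _ _
  have : IsPreimmersion (j ≫ U.ι) := by rw [hfac]; infer_instance
  have hj : IsPreimmersion j := IsPreimmersion.of_comp j U.ι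
  have hjrange : Set.range j = {⟨s, hs⟩} := by
    ext y
    simp only [Set.mem_range, Set.mem_singleton_iff]
    constructor
    · rintro ⟨a, rfl⟩
      apply Subtype.ext
      change (j ≫ U.ι) a = s
      rw [hfac, Scheme.fromSpecResidueField_apply]
    · rintro rfl
      refine ⟨default, ?_⟩
      apply Subtype.ext
      change (j ≫ U.ι) default = s
      rw [hfac, Scheme.fromSpecResidueField_apply]
  have hcj : IsClosedImmersion j := .of_isPreimmersion _ (by rw [hjrange]; exact hcl)
  rw [← hfac]
  infer_instance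

/-- Finite type points are exactly the points closed in some affine open neighbourhood. -/
theorem locallyOfFiniteType_fromSpecResidueField_iff {S : Scheme.{u}} (s : S) :
    LocallyOfFiniteType (S.fromSpecResidueField s) ↔
      ∃ U : S.Opens, IsAffineOpen U ∧ ∃ hs : s ∈ U, IsClosed ({⟨s, hs⟩} : Set ↥U) := by
  constructor
  · intro h
    obtain ⟨U, hU, hu, hcl⟩ := @exists_isAffineOpen_isClosed_of_locallyOfFiniteType S
      (IsLocalRing.ResidueField (S.presheaf.stalk s)) _ (S.fromSpecResidueField s) h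
    have hpt : S.fromSpecResidueField s
        (IsLocalRing.closedPoint (IsLocalRing.ResidueField (S.presheaf.stalk s))) = s :=
      S.fromSpecResidueField_apply s _
    generalize S.fromSpecResidueField s
        (IsLocalRing.closedPoint (IsLocalRing.ResidueField (S.presheaf.stalk s))) = t
        at hu hcl hpt
    subst hpt
    exact ⟨U, hU, hu, hcl⟩
  · rintro ⟨U, -, hs, hcl⟩
    exact locallyOfFiniteType_fromSpecResidueField_of_isClosed s U hs hcl

/-- The canonical morphism from the spectrum of the residue field of the point of `Spec k`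
(`k` a field) is an isomorphism. -/
theorem isIso_fromSpecResidueField_of_field (k : Type u) [Field k]
    (pt : Spec (CommRingCat.of k)) :
    IsIso ((Spec (CommRingCat.of k)).fromSpecResidueField pt) := by
  have hcl : IsClosed ({pt} : Set (Spec (CommRingCat.of k))) := by
    have : ({pt} : Set (Spec (CommRingCat.of k))) = Set.univ :=
      Set.eq_univ_of_forall fun y => Subsingleton.elim _ _
    rw [this]; exact isClosed_univ
  have h1 : IsClosedImmersion ((Spec (CommRingCat.of k)).fromSpecResidueField pt) :=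
    isClosed_singleton_iff_isClosedImmersion.mp hcl
  have h2 : Surjective ((Spec (CommRingCat.of k)).fromSpecResidueField pt) :=
    ⟨fun y => ⟨default, Subsingleton.elim _ _⟩⟩
  exact isIso_of_isClosedImmersion_of_surjective _

/-- If `Spec k ⟶ S` is locally of finite type, the residue field extension is finite. -/
theorem finite_residueFieldMap_of_locallyOfFiniteType {S : Scheme.{u}} (k : Type u) [Field k]
    (f : Spec (CommRingCat.of k) ⟶ S) [LocallyOfFiniteType f] (pt : Spec (CommRingCat.of k)) :
    (f.residueFieldMap pt).hom.Finite := by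
  have := isIso_fromSpecResidueField_of_field k pt
  have h2 : LocallyOfFiniteType ((Spec (CommRingCat.of k)).fromSpecResidueField pt ≫ f) :=
    inferInstance
  rw [← Scheme.Hom.SpecMap_residueFieldMap_fromSpecResidueField] at h2
  have h3 : LocallyOfFiniteType (Spec.map (f.residueFieldMap pt)) :=
    locallyOfFiniteType_of_comp _ (S.fromSpecResidueField (f pt))
  rw [HasRingHomProperty.Spec_iff (P := @LocallyOfFiniteType)] at h3
  exact (RingHom.finite_iff_finiteType_of_isJacobsonRing).mpr h3

/-- Characterisation of morphisms `Spec k ⟶ S` locally of finite type. -/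
theorem locallyOfFiniteType_Spec_field_iff {S : Scheme.{u}} (k : Type u) [Field k]
    (f : Spec (CommRingCat.of k) ⟶ S) :
    LocallyOfFiniteType f ↔
      ∃ U : S.Opens, IsAffineOpen U ∧ ∃ hu : f (IsLocalRing.closedPoint k) ∈ U,
        IsClosed ({⟨f (IsLocalRing.closedPoint k), hu⟩} : Set ↥U) ∧
          (f.residueFieldMap (IsLocalRing.closedPoint k)).hom.Finite := by
  constructor
  · intro h
    obtain ⟨U, hU, hu, hcl⟩ := exists_isAffineOpen_isClosed_of_locallyOfFiniteType k f
    exact ⟨U, hU, hu, hcl, finite_residueFieldMap_of_locallyOfFiniteType k f _⟩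
  · rintro ⟨U, hU, hu, hcl, hfin⟩
    have h1 := locallyOfFiniteType_fromSpecResidueField_of_isClosed _ U hu hcl
    have h2 : LocallyOfFiniteType (Spec.map (f.residueFieldMap (IsLocalRing.closedPoint k))) := by
      rw [HasRingHomProperty.Spec_iff (P := @LocallyOfFiniteType)]
      exact hfin.finiteType
    have h3 : LocallyOfFiniteType (Spec.map (f.residueFieldMap (IsLocalRing.closedPoint k)) ≫
        S.fromSpecResidueField (f (IsLocalRing.closedPoint k))) := inferInstance
    rw [Scheme.Hom.SpecMap_residueFieldMap_fromSpecResidueField] at h3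
    have := isIso_fromSpecResidueField_of_field k (IsLocalRing.closedPoint k)
    exact (MorphismProperty.cancel_left_of_respectsIso (P := @LocallyOfFiniteType) _ f).mp h3

/-- The image point of a morphism `Spec k ⟶ S` locally of finite type is a finite type point. -/
theorem locallyOfFiniteType_fromSpecResidueField_of_Spec_field {S : Scheme.{u}} (k : Type u)
    [Field k] (f : Spec (CommRingCat.of k) ⟶ S) [LocallyOfFiniteType f] (s : S)
    (hs : f (IsLocalRing.closedPoint k) = s) :
    LocallyOfFiniteType (S.fromSpecResidueField s) := by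
  subst hs
  obtain ⟨U, hU, hu, hcl⟩ := exists_isAffineOpen_isClosed_of_locallyOfFiniteType k f
  exact locallyOfFiniteType_fromSpecResidueField_of_isClosed _ U hu hcl

/-- Morphisms locally of finite type preserve finite type points. -/
theorem locallyOfFiniteType_fromSpecResidueField_map {T S : Scheme.{u}} (f : T ⟶ S)
    [LocallyOfFiniteType f] (t : T) (ht : LocallyOfFiniteType (T.fromSpecResidueField t)) :
    LocallyOfFiniteType (S.fromSpecResidueField (f t)) := by
  have h : LocallyOfFiniteType (T.fromSpecResidueField t ≫ f) := inferInstance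
  refine @locallyOfFiniteType_fromSpecResidueField_of_Spec_field S
    (IsLocalRing.ResidueField (T.presheaf.stalk t)) _ (T.fromSpecResidueField t ≫ f) h (f t) ?_
  rw [Scheme.Hom.comp_apply]
  exact congrArg f (T.fromSpecResidueField_apply t _)

/-- A nonempty relatively closed subset of an affine open contains a finite type point. -/
theorem exists_mem_locallyOfFiniteType_of_isAffineOpen {T : Scheme.{u}} (V : T.Opens)
    (hV : IsAffineOpen V) (C : Set T) (hC : IsClosed (Subtype.val ⁻¹' C : Set ↥V))
    (hne : (C ∩ V).Nonempty) :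
    ∃ t, t ∈ C ∧ t ∈ V ∧ LocallyOfFiniteType (T.fromSpecResidueField t) := by
  have : CompactSpace ↥V := isCompact_iff_compactSpace.mp hV.isCompact
  obtain ⟨z, hzC, hzV⟩ := hne
  obtain ⟨⟨t, htV⟩, htC, hcl⟩ := hC.exists_closed_singleton ⟨⟨z, hzV⟩, hzC⟩
  exact ⟨t, htC, htV, locallyOfFiniteType_fromSpecResidueField_of_isClosed t V htV hcl⟩

/-- Every nonempty locally closed subset contains a finite type point. -/
theorem exists_mem_locallyOfFiniteType_of_isLocallyClosed (S : Scheme.{u}) (Z : Set S)
    (hZ : IsLocallyClosed Z) (hne : Z.Nonempty) :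
    (Z ∩ {s : S | LocallyOfFiniteType (S.fromSpecResidueField s)}).Nonempty := by
  obtain ⟨O, C, hO, hC, rfl⟩ := hZ
  obtain ⟨z, hzO, hzC⟩ := hne
  obtain ⟨_, ⟨V₀, hV₀, rfl⟩, hzV₀, hV₀O⟩ :=
    S.isBasis_affineOpens.exists_subset_of_mem_open hzO hO
  obtain ⟨V, hV, hzV, hVO⟩ : ∃ V : S.Opens, IsAffineOpen V ∧ z ∈ V ∧ (V : Set S) ⊆ O :=
    ⟨V₀, hV₀, hzV₀, hV₀O⟩
  obtain ⟨t, htC, htV, ht⟩ := exists_mem_locallyOfFiniteType_of_isAffineOpen V hV C
    (hC.preimage continuous_subtype_val) ⟨z, hzC, hzV⟩
  exact ⟨t, ⟨hVO htV, htC⟩, ht⟩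

/-- Finite type points are dense in every closed subset. -/
theorem subset_closure_inter_locallyOfFiniteType (S : Scheme.{u}) (Z : Set S)
    (hZ : IsClosed Z) :
    Z ⊆ closure (Z ∩ {s : S | LocallyOfFiniteType (S.fromSpecResidueField s)}) := by
  intro z hz
  rw [mem_closure_iff]
  intro O hO hzO
  have h1 : IsLocallyClosed (O ∩ Z) := ⟨O, Z, hO, hZ, rfl⟩
  obtain ⟨t, ⟨htO, htZ⟩, ht⟩ :=
    exists_mem_locallyOfFiniteType_of_isLocallyClosed S (O ∩ Z) h1 ⟨z, hzO, hz⟩
  exact ⟨t, htO, htZ, ht⟩

/-- Finite type points lift along surjective morphisms. -/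
theorem exists_locallyOfFiniteType_fromSpecResidueField_of_surjective {T S : Scheme.{u}}
    (f : T ⟶ S) [Surjective f] (s : S) (hs : LocallyOfFiniteType (S.fromSpecResidueField s)) :
    ∃ t : T, LocallyOfFiniteType (T.fromSpecResidueField t) ∧ f t = s := by
  obtain ⟨U, hU, hsU, hcl⟩ := (locallyOfFiniteType_fromSpecResidueField_iff s).mp hs
  obtain ⟨t₀, rfl⟩ := f.surjective s
  obtain ⟨_, ⟨V₀, hV₀, rfl⟩, htV₀, hV₀U⟩ :=
    T.isBasis_affineOpens.exists_subset_of_mem_open (show t₀ ∈ (f ⁻¹ᵁ U : Set T) from hsU)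
      (f ⁻¹ᵁ U).isOpen
  obtain ⟨V, hV, htV, hVU⟩ : ∃ V : T.Opens, IsAffineOpen V ∧ t₀ ∈ V ∧
      (V : Set T) ⊆ (f ⁻¹ᵁ U : Set T) := ⟨V₀, hV₀, htV₀, hV₀U⟩
  let g : ↥V → ↥U := fun y => ⟨f y.1, hVU y.2⟩
  have hg : Continuous g := (f.continuous.comp continuous_subtype_val).subtype_mk _
  have hC : IsClosed (Subtype.val ⁻¹' (f ⁻¹' {f t₀}) : Set ↥V) := by
    have : (Subtype.val ⁻¹' (f ⁻¹' {f t₀}) : Set ↥V) = g ⁻¹' {⟨f t₀, hsU⟩} := by
      ext y
      simp only [Set.mem_preimage, Set.mem_singleton_iff, g, Subtype.ext_iff]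
    rw [this]
    exact hcl.preimage hg
  obtain ⟨t, htC, -, ht⟩ := exists_mem_locallyOfFiniteType_of_isAffineOpen V hV _ hC
    ⟨t₀, rfl, htV⟩
  exact ⟨t, ht, htC⟩

end Groth.Agent.Lib.Helper47
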