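import Mathlib
import Groth.Prelude.Def_VecGrp

/-!
# Finitely generated stable submodules for flat quasi-compact group schemes over a Noetherian affine base

For a group object `G` of `Over (Spec R)` whose structure map is flat and quasi-compact, and a `G`-module structure
`m : VecGrp.GMod G E`, every finitely generated submodule of `E` lies in a finitely generated `G`-stable submodule
(`gstable`).  The proof covers the total space of `G` by finitely many affine open charts `Spec A_l`, flat over `R`, with
universal points `g_l`; membership in the image of `B ⊗ N` is Zariski-local on `Spec B`, every point of `G` factors locally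
through a chart, and the stable submodule is `N = {x | g_l • (1 ⊗ x) ∈ im (A_l ⊗ N') ∀ l}` for a suitable finitely
generated `N'`; that `N` is stable uses the flatness of the `A_l` and the multiplicativity of the action at the point
`pr₂^* g_j * pr₁^* g_i` of `G` with values in `A_i ⊗ A_j`.
-/

set_option autoImplicit false
universe u

open CategoryTheory MonObj GrpObj AlgebraicGeometry
open scoped TensorProduct

namespace Groth.Agent.Lib.Helper47.GStableFG

section Part1

variable {R : Type u} [CommRing R] {E : Type u} [AddCommGroup E] [Module R E]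

/-- membership in the image of `B ⊗ N₀` is the vanishing in `B ⊗ (E ⧸ N₀)` -/
theorem mem_range_baseChange_iff (N₀ : Submodule R E) (B : Type u) [CommRing B] [Algebra R B]
    (y : B ⊗[R] E) :
    y ∈ LinearMap.range (N₀.subtype.baseChange B) ↔ (N₀.mkQ.baseChange B) y = 0 := by
  have hex : Function.Exact (N₀.subtype.lTensor B) (N₀.mkQ.lTensor B) :=
    lTensor_exact B (LinearMap.exact_subtype_mkQ N₀) (Submodule.mkQ_surjective N₀)
  have := hex y
  constructor
  · rintro ⟨z, rfl⟩
    exact this.mpr ⟨z, rfl⟩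
  · intro h
    obtain ⟨z, hz⟩ := this.mp h
    exact ⟨z, hz⟩

/-- the `B`-linear version of `Wmap` for a localization -/
noncomputable def locMap (P : Type u) [AddCommGroup P] [Module R P] (B : Type u) [CommRing B]
    [Algebra R B] (B' : Type u) [CommRing B'] [Algebra R B'] [Algebra B B'] [IsScalarTower R B B'] :
    B ⊗[R] P →ₗ[B] B' ⊗[R] P :=
  TensorProduct.AlgebraTensorModule.map (Algebra.linearMap B B') (LinearMap.id : P →ₗ[R] P)

theorem locMap_apply (P : Type u) [AddCommGroup P] [Module R P] (B : Type u) [CommRing B]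
    [Algebra R B] (B' : Type u) [CommRing B'] [Algebra R B'] [Algebra B B'] [IsScalarTower R B B']
    (y : B ⊗[R] P) :
    locMap P B B' y = VecGrp.Wmap (M := P) (IsScalarTower.toAlgHom R B B') y := by
  induction y using TensorProduct.induction_on with
  | zero => simp
  | tmul b m => rfl
  | add x y hx hy => simp only [map_add, hx, hy]

theorem isBaseChange_locMap (P : Type u) [AddCommGroup P] [Module R P] (B : Type u) [CommRing B]
    [Algebra R B] (B' : Type u) [CommRing B'] [Algebra R B'] [Algebra B B'] [IsScalarTower R B B'] :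
    IsBaseChange B' (locMap (R := R) P B B') := by
  have h1 : IsBaseChange B (TensorProduct.mk R B P 1) := TensorProduct.isBaseChange R P B
  have h2 : IsBaseChange B' (TensorProduct.mk R B' P 1) := TensorProduct.isBaseChange R P B'
  apply IsBaseChange.of_comp h1
  convert h2 using 1
  ext p
  simp [locMap]

theorem exists_pow_smul_eq_zero (P : Type u) [AddCommGroup P] [Module R P] (B : Type u) [CommRing B]
    [Algebra R B] (f : B) (q : B ⊗[R] P)
    (hq : VecGrp.Wmap (M := P) (IsScalarTower.toAlgHom R B (Localization.Away f)) q = 0) :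
    ∃ n : ℕ, f ^ n • q = 0 := by
  haveI : IsLocalizedModule (Submonoid.powers f) (locMap (R := R) P B (Localization.Away f)) :=
    (isLocalizedModule_iff_isBaseChange (Submonoid.powers f) (Localization.Away f) _).mpr
      (isBaseChange_locMap P B (Localization.Away f))
  rw [← locMap_apply] at hq
  obtain ⟨⟨_, n, rfl⟩, hs⟩ :=
    (IsLocalizedModule.eq_zero_iff (Submonoid.powers f) (locMap (R := R) P B (Localization.Away f))).mp hq
  exact ⟨n, hs⟩

/-- Local-global principle for membership in the image of `B ⊗ N₀ → B ⊗ E`. -/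
theorem mem_range_baseChange_of_localizations (N₀ : Submodule R E) (B : Type u) [CommRing B]
    [Algebra R B] (S : Set B) (hS : Ideal.span S = ⊤) (y : B ⊗[R] E)
    (h : ∀ f ∈ S, VecGrp.Wmap (M := E) (IsScalarTower.toAlgHom R B (Localization.Away f)) y ∈
      LinearMap.range (N₀.subtype.baseChange (Localization.Away f))) :
    y ∈ LinearMap.range (N₀.subtype.baseChange B) := by
  rw [mem_range_baseChange_iff]
  set q := (N₀.mkQ.baseChange B) y with hq
  have hmem : q ∈ (⊥ : Submodule B (B ⊗[R] (E ⧸ N₀))) := by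
    apply Submodule.mem_of_span_eq_top_of_smul_pow_mem _ S hS
    rintro ⟨f, hf⟩
    have h1 := h f hf
    rw [mem_range_baseChange_iff] at h1
    have h2 : VecGrp.Wmap (M := E ⧸ N₀) (IsScalarTower.toAlgHom R B (Localization.Away f)) q = 0 := by
      rw [hq, VecGrp.baseChange_natural]
      exact h1
    obtain ⟨n, hn⟩ := exists_pow_smul_eq_zero (E ⧸ N₀) B f q h2
    exact ⟨n, by simpa using hn⟩
  simpa using hmem

end Part1

section Part2


variable {R : Type u} [CommRing R] {G : Over (Spec (CommRingCat.of R))} [GrpObj G]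
  {E : Type u} [AddCommGroup E] [Module R E] (m : VecGrp.GMod G E)

/-- the orbit map `x ↦ g • (1 ⊗ x)` -/
noncomputable def act (B : Type u) [CommRing B] [Algebra R B] (pg : VecGrp.pt R B ⟶ G) :
    E →ₗ[R] B ⊗[R] E :=
  ((m.ρ B pg).toLinearMap.restrictScalars R) ∘ₗ (TensorProduct.mk R B E 1)

theorem act_apply (B : Type u) [CommRing B] [Algebra R B] (pg : VecGrp.pt R B ⟶ G) (x : E) :
    act m B pg x = m.ρ B pg ((1 : B) ⊗ₜ[R] x) := rfl

theorem Wmap_act {B B' : Type u} [CommRing B] [Algebra R B] [CommRing B'] [Algebra R B']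
    (φ : B →ₐ[R] B') (pg : VecGrp.pt R B ⟶ G) (x : E) :
    VecGrp.Wmap φ (act m B pg x) = act m B' (VecGrp.ptMap φ ≫ pg) x := by
  rw [act_apply, act_apply, m.naturality φ pg]
  simp

/-- `ρ` applied to a general element, in terms of `act` -/
theorem rho_tmul (B : Type u) [CommRing B] [Algebra R B] (pg : VecGrp.pt R B ⟶ G) (b : B) (x : E) :
    m.ρ B pg (b ⊗ₜ[R] x) = b • act m B pg x := by
  rw [act_apply, ← LinearEquiv.map_smul, TensorProduct.smul_tmul', smul_eq_mul, _root_.mul_one]

theorem Wmap_mem_range (N₀ : Submodule R E) {B B' : Type u} [CommRing B] [Algebra R B] [CommRing B']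
    [Algebra R B'] (φ : B →ₐ[R] B') (y : B ⊗[R] E)
    (hy : y ∈ LinearMap.range (N₀.subtype.baseChange B)) :
    VecGrp.Wmap φ y ∈ LinearMap.range (N₀.subtype.baseChange B') := by
  obtain ⟨z, rfl⟩ := hy
  exact ⟨VecGrp.Wmap φ z, (VecGrp.baseChange_natural _ φ z).symm⟩

section Cover

variable {J : Type*} (A : J → Type u) [∀ l, CommRing (A l)] [∀ l, Algebra R (A l)]
  (g : ∀ l, VecGrp.pt R (A l) ⟶ G)

/-- the covering hypothesis: every point of `G` factors locally through one of the `g l` -/
def Covers : Prop :=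
  ∀ (B : Type u) [CommRing B] [Algebra R B] (pg : VecGrp.pt R B ⟶ G),
    ∃ S : Set B, Ideal.span S = ⊤ ∧ ∀ f ∈ S, ∃ (l : J) (φ : A l →ₐ[R] Localization.Away f),
      VecGrp.ptMap (IsScalarTower.toAlgHom R B (Localization.Away f)) ≫ pg = VecGrp.ptMap φ ≫ g l

variable {A g}

/-- B4: membership for the universal points implies membership for all points. -/
theorem mem_of_forall_universal (hcov : Covers A g) (N₀ : Submodule R E) (x : E)
    (h : ∀ l, act m (A l) (g l) x ∈ LinearMap.range (N₀.subtype.baseChange (A l)))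
    (B : Type u) [CommRing B] [Algebra R B] (pg : VecGrp.pt R B ⟶ G) :
    act m B pg x ∈ LinearMap.range (N₀.subtype.baseChange B) := by
  obtain ⟨S, hS, hf⟩ := hcov B pg
  apply mem_range_baseChange_of_localizations N₀ B S hS
  intro f hfS
  obtain ⟨l, φ, hφ⟩ := hf f hfS
  rw [Wmap_act, hφ, ← Wmap_act]
  exact Wmap_mem_range N₀ φ _ (h l)

end Cover


section Main

variable {J : Type*} {A : J → Type u} [∀ l, CommRing (A l)] [∀ l, Algebra R (A l)]
  (g : ∀ l, VecGrp.pt R (A l) ⟶ G)

/-- the map `x ↦ class of g_l • (1 ⊗ x)` in `A_l ⊗ (E ⧸ N')` -/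
noncomputable def phi (N' : Submodule R E) (l : J) : E →ₗ[R] A l ⊗[R] (E ⧸ N') :=
  ((N'.mkQ.baseChange (A l)).restrictScalars R) ∘ₗ act m (A l) (g l)

theorem phi_apply (N' : Submodule R E) (l : J) (x : E) :
    phi m g N' l x = (N'.mkQ.baseChange (A l)) (act m (A l) (g l) x) := rfl

theorem phi_eq_zero_iff (N' : Submodule R E) (l : J) (x : E) :
    phi m g N' l x = 0 ↔ act m (A l) (g l) x ∈ LinearMap.range (N'.subtype.baseChange (A l)) := by
  rw [phi_apply, mem_range_baseChange_iff]

/-- the candidate stable submodule -/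
noncomputable def stab (N' : Submodule R E) : Submodule R E :=
  LinearMap.ker (LinearMap.pi (phi m g N'))

theorem mem_stab_iff (N' : Submodule R E) (x : E) :
    x ∈ stab m g N' ↔
      ∀ l, act m (A l) (g l) x ∈ LinearMap.range (N'.subtype.baseChange (A l)) := by
  rw [stab, LinearMap.mem_ker]
  constructor
  · intro h l
    rw [← phi_eq_zero_iff]
    exact congrFun h l
  · intro h
    funext l
    exact (phi_eq_zero_iff m g N' l x).mpr (h l)

variable {g}

theorem stab_le (hcov : Covers A g) (N' : Submodule R E) : stab m g N' ≤ N' := by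
  intro x hx
  have h1 := mem_of_forall_universal m hcov N' x ((mem_stab_iff m g N' x).mp hx) R 1
  rw [mem_range_baseChange_iff, act_apply, map_one] at h1
  have h2 : (N'.mkQ.baseChange R) ((1 : R) ⊗ₜ[R] x) = (1 : R) ⊗ₜ[R] N'.mkQ x := by
    simp
  have h3 : (1 : R) ⊗ₜ[R] N'.mkQ x = 0 := by
    rw [← h2]; exact h1
  have h4 := congrArg (TensorProduct.lid R (E ⧸ N')) h3
  simp only [TensorProduct.lid_tmul, one_smul, map_zero] at h4
  exact (Submodule.Quotient.mk_eq_zero N').mp h4

theorem range_baseChange_mono {N₁ N₂ : Submodule R E} (h : N₁ ≤ N₂) (B : Type u) [CommRing B]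
    [Algebra R B] :
    LinearMap.range (N₁.subtype.baseChange B) ≤ LinearMap.range (N₂.subtype.baseChange B) := by
  rintro _ ⟨z, rfl⟩
  refine ⟨(Submodule.inclusion h).baseChange B z, ?_⟩
  rw [← LinearMap.comp_apply, ← LinearMap.baseChange_comp]
  rfl

end Main

end Part2

section Part3


variable {R : Type u} [CommRing R] {G : Over (Spec (CommRingCat.of R))} [GrpObj G]
  {E : Type u} [AddCommGroup E] [Module R E] (m : VecGrp.GMod G E)

variable {J : Type*} {A : J → Type u} [∀ l, CommRing (A l)] [∀ l, Algebra R (A l)]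
  (g : ∀ l, VecGrp.pt R (A l) ⟶ G)

/-- B2 -/
theorem exists_fg_cover [Finite J] (M : Submodule R E) (hM : M.FG) :
    ∃ N' : Submodule R E, N'.FG ∧ M ≤ N' ∧
      ∀ l, ∀ x ∈ M, act m (A l) (g l) x ∈ LinearMap.range (N'.subtype.baseChange (A l)) := by
  obtain ⟨s, hs⟩ := hM
  have key : ∀ l : J, ∃ Nl : Submodule R E, Nl.FG ∧
      ∀ x ∈ s, act m (A l) (g l) x ∈ LinearMap.range (Nl.subtype.baseChange (A l)) := by
    intro l
    obtain ⟨Nl, hfin, hsub⟩ := TensorProduct.exists_finite_submodule_right_of_setFinite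
      ((act m (A l) (g l)) '' (s : Set E)) (s.finite_toSet.image _)
    refine ⟨Nl, Module.Finite.iff_fg.mp hfin, fun x hx => ?_⟩
    obtain ⟨z, hz⟩ := hsub ⟨x, hx, rfl⟩
    exact ⟨z, hz⟩
  choose Nl hNl hNl' using key
  refine ⟨M ⊔ ⨆ l, Nl l, ?_, le_sup_left, ?_⟩
  · exact Submodule.FG.sup ⟨s, hs⟩ (Submodule.fg_iSup _ hNl)
  · intro l x hx
    have hle : M ≤ Submodule.comap (act m (A l) (g l))
        ((LinearMap.range ((M ⊔ ⨆ l, Nl l).subtype.baseChange (A l))).restrictScalars R) := by
      rw [← hs, Submodule.span_le]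
      intro y hy
      exact range_baseChange_mono (le_sup_of_le_right (le_iSup Nl l)) (A l) (hNl' l y hy)
    exact hle hx


theorem assoc_symm_tmul (A₁ A₂ : Type u) [CommRing A₁] [Algebra R A₁] [CommRing A₂] [Algebra R A₂]
    (P : Type u) [AddCommGroup P] [Module R P] (a : A₁) (w : A₂ ⊗[R] P) :
    (TensorProduct.assoc R A₁ A₂ P).symm (a ⊗ₜ[R] w) =
      (a ⊗ₜ[R] (1 : A₂)) • VecGrp.Wmap (M := P)
        (Algebra.TensorProduct.includeRight : A₂ →ₐ[R] A₁ ⊗[R] A₂) w := by
  induction w using TensorProduct.induction_on with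
  | zero => simp
  | tmul b p =>
    simp [TensorProduct.smul_tmul']
  | add x y hx hy => simp only [TensorProduct.tmul_add, map_add, smul_add, hx, hy]

theorem piRight_lTensor_pi {J : Type*} [Fintype J] [DecidableEq J] (N : Type u) [AddCommGroup N]
    [Module R N] (P : Type u) [AddCommGroup P] [Module R P] (Q : J → Type u)
    [∀ j, AddCommGroup (Q j)] [∀ j, Module R (Q j)] (f : ∀ j, P →ₗ[R] Q j) (z : N ⊗[R] P) (j : J) :
    (TensorProduct.piRight R R N Q ((LinearMap.pi f).lTensor N z)) j = ((f j).lTensor N) z := by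
  induction z using TensorProduct.induction_on with
  | zero => simp
  | tmul n p => simp
  | add x y hx hy => simp only [map_add, Pi.add_apply, hx, hy]

/-- the key identity -/
theorem key_identity (N' : Submodule R E) (i j : J) (z : A i ⊗[R] E) :
    (TensorProduct.assoc R (A i) (A j) (E ⧸ N')).symm (((phi m g N' j).lTensor (A i)) z) =
      (N'.mkQ.baseChange (A i ⊗[R] A j))
        (m.ρ (A i ⊗[R] A j)
          (VecGrp.ptMap (Algebra.TensorProduct.includeRight : A j →ₐ[R] A i ⊗[R] A j) ≫ g j)
          (VecGrp.Wmap (Algebra.TensorProduct.includeLeft : A i →ₐ[R] A i ⊗[R] A j) z)) := by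
  induction z using TensorProduct.induction_on with
  | zero => simp
  | tmul a e =>
    rw [LinearMap.lTensor_tmul, phi_apply, assoc_symm_tmul, VecGrp.baseChange_natural, Wmap_act,
      VecGrp.Wmap_tmul, Algebra.TensorProduct.includeLeft_apply, rho_tmul, map_smul]
  | add x y hx hy => simp only [map_add, hx, hy]


variable {g}

/-- B5 -/
theorem act_mem_stab [Finite J] [∀ l, Module.Flat R (A l)] (hcov : Covers A g)
    (N' : Submodule R E) (x : E) (hx : x ∈ stab m g N') (i : J) :
    act m (A i) (g i) x ∈ LinearMap.range ((stab m g N').subtype.baseChange (A i)) := by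
  classical
  haveI : Fintype J := Fintype.ofFinite J
  have hex : Function.Exact ((stab m g N').subtype.lTensor (A i))
      ((LinearMap.pi (phi m g N')).lTensor (A i)) :=
    Module.Flat.lTensor_exact (A i) (LinearMap.exact_subtype_ker_map (LinearMap.pi (phi m g N')))
  suffices h : ((LinearMap.pi (phi m g N')).lTensor (A i)) (act m (A i) (g i) x) = 0 by
    obtain ⟨z, hz⟩ := (hex _).mp h
    exact ⟨z, hz⟩
  apply (TensorProduct.piRight R R (A i) (fun l => A l ⊗[R] (E ⧸ N'))).injective
  rw [map_zero]
  funext j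
  rw [piRight_lTensor_pi, Pi.zero_apply]
  apply (TensorProduct.assoc R (A i) (A j) (E ⧸ N')).symm.injective
  rw [map_zero, key_identity, Wmap_act, act_apply, ← LinearEquiv.mul_apply, ← map_mul, ← act_apply,
    ← mem_range_baseChange_iff]
  exact mem_of_forall_universal m hcov N' x ((mem_stab_iff m g N' x).mp hx) _ _

/-- The algebraic core of the theorem. -/
theorem main [Finite J] [∀ l, Module.Flat R (A l)] [IsNoetherianRing R] (hcov : Covers A g)
    (M : Submodule R E) (hM : M.FG) :
    ∃ N : Submodule R E, M ≤ N ∧ N.FG ∧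
      ∀ (B : Type u) [CommRing B] [Algebra R B] (pg : VecGrp.pt R B ⟶ G) (x : E), x ∈ N →
        m.ρ B pg ((1 : B) ⊗ₜ[R] x) ∈ LinearMap.range (N.subtype.baseChange B) := by
  obtain ⟨N', hN'fg, hMN', hN'⟩ := exists_fg_cover m g M hM
  refine ⟨stab m g N', ?_, ?_, ?_⟩
  · intro x hx
    exact (mem_stab_iff m g N' x).mpr fun l => hN' l x hx
  · haveI : IsNoetherian R N' := isNoetherian_of_fg_of_noetherian N' hN'fg
    have hle := stab_le m hcov N'
    have : stab m g N' = Submodule.map N'.subtype (Submodule.comap N'.subtype (stab m g N')) := by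
      rw [Submodule.map_comap_subtype, inf_eq_right.mpr hle]
    rw [this]
    exact Submodule.FG.map _ (IsNoetherian.noetherian _)
  · intro B _ _ pg x hx
    rw [← act_apply]
    exact mem_of_forall_universal m hcov (stab m g N') x
      (fun l => act_mem_stab m hcov N' x hx l) B pg

end Part3

section Part4

/-- local factorization of a morphism from an affine scheme through an affine open cover -/
theorem exists_local_factor {X : Scheme.{u}} (B : Type u) [CommRing B]
    (p : Spec (CommRingCat.of B) ⟶ X) {J : Type*} (C : J → CommRingCat.{u})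
    (f : ∀ j, Spec (C j) ⟶ X) [∀ j, IsOpenImmersion (f j)]
    (hcov : ∀ x : X, ∃ j, x ∈ Set.range (f j)) :
    ∃ S : Set B, Ideal.span S = ⊤ ∧ ∀ b ∈ S, ∃ (j : J)
      (ψ : C j ⟶ CommRingCat.of (Localization.Away b)),
      Spec.map ψ ≫ f j =
        Spec.map (CommRingCat.ofHom (algebraMap B (Localization.Away b))) ≫ p := by
  refine ⟨{b | ∃ (j : J) (ψ : C j ⟶ CommRingCat.of (Localization.Away b)),
      Spec.map ψ ≫ f j =
        Spec.map (CommRingCat.ofHom (algebraMap B (Localization.Away b))) ≫ p}, ?_, fun b hb => hb⟩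
  by_contra hne
  obtain ⟨𝔪, h𝔪, hle⟩ := Ideal.exists_le_maximal _ hne
  let q : Spec (CommRingCat.of B) := ⟨𝔪, h𝔪.isPrime⟩
  obtain ⟨j, hj⟩ := hcov (p q)
  let U : (Spec (CommRingCat.of B)).Opens := p ⁻¹ᵁ (f j).opensRange
  have hqU : q ∈ U := hj
  obtain ⟨_, ⟨b, rfl⟩, hqb, hbU⟩ :=
    (PrimeSpectrum.isTopologicalBasis_basic_opens (R := B)).exists_subset_of_mem_open hqU U.2
  have hb𝔪 : b ∉ 𝔪 := hqb
  apply hb𝔪
  apply hle
  apply Ideal.subset_span
  have hrange : Set.range (Spec.map (CommRingCat.ofHom (algebraMap B (Localization.Away b))) ≫ p) ⊆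
      Set.range (f j) := by
    rintro _ ⟨y, rfl⟩
    have h1 : (Spec.map (CommRingCat.ofHom (algebraMap B (Localization.Away b)))) y ∈
        (PrimeSpectrum.basicOpen b : Set (PrimeSpectrum B)) := by
      rw [← PrimeSpectrum.localization_away_comap_range (Localization.Away b) b]
      exact ⟨y, rfl⟩
    exact hbU h1
  refine ⟨j, Spec.preimage (IsOpenImmersion.lift (f j) _ hrange), ?_⟩
  rw [Spec.map_preimage, IsOpenImmersion.lift_fac]

end Part4

section Part5


/-- an affine chart of the total space of `G` -/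
structure Chart {R : Type u} [CommRing R] (G : Over (Spec (CommRingCat.of R))) where
  C : CommRingCat.{u}
  f : Spec C ⟶ G.left
  oi : IsOpenImmersion f

namespace Chart

variable {R : Type u} [CommRing R] {G : Over (Spec (CommRingCat.of R))} (c : Chart G)

noncomputable def str : CommRingCat.of R ⟶ c.C := Spec.preimage (c.f ≫ G.hom)

theorem map_str : Spec.map c.str = c.f ≫ G.hom := Spec.map_preimage _

noncomputable instance : Algebra R c.C := c.str.hom.toAlgebra

theorem algebraMap_eq : algebraMap R c.C = c.str.hom := rfl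

noncomputable def point : VecGrp.pt R c.C ⟶ G := Over.homMk c.f (by
  change c.f ≫ G.hom = Spec.map (CommRingCat.ofHom (algebraMap R c.C))
  rw [algebraMap_eq]
  exact c.map_str.symm)

@[simp] theorem point_left : c.point.left = c.f := rfl

theorem flat [Flat G.hom] : Module.Flat R c.C := by
  haveI := c.oi
  have h : Flat (c.f ≫ G.hom) := inferInstance
  rw [← c.map_str, Flat.SpecMap_iff] at h
  exact h

end Chart


section Final

variable {R : Type u} [CommRing R] {G : Over (Spec (CommRingCat.of R))}

theorem covers_of_charts {J : Type*} (c : J → Chart G)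
    (hcov : ∀ x : G.left, ∃ j, x ∈ Set.range (c j).f) :
    Covers (fun j => ((c j).C : Type u)) (fun j => (c j).point) := by
  intro B _ _ pg
  haveI : ∀ j, IsOpenImmersion ((fun j => (c j).f) j) := fun j => (c j).oi
  obtain ⟨S, hS, h⟩ := exists_local_factor B pg.left (fun j => (c j).C) (fun j => (c j).f) hcov
  refine ⟨S, hS, fun b hb => ?_⟩
  obtain ⟨j, ψ, hψ⟩ := h b hb
  have hw : pg.left ≫ G.hom = Spec.map (CommRingCat.ofHom (algebraMap R B)) := Over.w pg
  have hcomm : (c j).str ≫ ψ = CommRingCat.ofHom (algebraMap R (Localization.Away b)) := by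
    apply Spec.map_injective
    rw [Spec.map_comp, (c j).map_str, reassoc_of% hψ, hw, ← Spec.map_comp,
      IsScalarTower.algebraMap_eq R B (Localization.Away b)]
    rfl
  let φ : (c j).C →ₐ[R] Localization.Away b :=
    { ψ.hom with
      commutes' := fun r => by
        have := congrArg (fun k => k.hom r) hcomm
        exact this }
  refine ⟨j, φ, ?_⟩
  apply Over.OverMorphism.ext
  rw [Over.comp_left, Over.comp_left, VecGrp.ptMap_left, VecGrp.ptMap_left, Chart.point_left]
  exact hψ.symm

end Final


section Final2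

open MonObj GrpObj
open scoped TensorProduct

variable {R : Type u} [CommRing R] {G : Over (Spec (CommRingCat.of R))}

theorem exists_finite_charts [QuasiCompact G.hom] :
    ∃ (t : Finset G.left) (c : t → Chart G), ∀ x : G.left, ∃ j, x ∈ Set.range (c j).f := by
  haveI : CompactSpace G.left := (quasiCompact_iff_compactSpace (f := G.hom)).mp inferInstance
  obtain ⟨t, ht⟩ := isCompact_univ.elim_finite_subcover
    (fun x : G.left => Set.range (G.left.affineOpenCover.f x))
    (fun x => (G.left.affineOpenCover.f x).isOpenEmbedding.isOpen_range)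
    (fun x _ => Set.mem_iUnion.mpr ⟨_, G.left.affineOpenCover.covers x⟩)
  refine ⟨t, fun j => ⟨G.left.affineOpenCover.X j.1, G.left.affineOpenCover.f j.1, inferInstance⟩,
    fun x => ?_⟩
  have := ht (Set.mem_univ x)
  simp only [Set.mem_iUnion] at this
  obtain ⟨i, hi, hx⟩ := this
  exact ⟨⟨i, hi⟩, hx⟩

theorem gstable [IsNoetherianRing R] [GrpObj G] [Flat G.hom] [QuasiCompact G.hom]
    (E : Type u) [AddCommGroup E] [Module R E] (m : VecGrp.GMod G E) (M : Submodule R E)
    (hM : M.FG) :
    ∃ N : Submodule R E, M ≤ N ∧ N.FG ∧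
      ∀ (B : Type u) [CommRing B] [Algebra R B] (pg : VecGrp.pt R B ⟶ G) (x : E), x ∈ N →
        m.ρ B pg ((1 : B) ⊗ₜ[R] x) ∈ LinearMap.range (N.subtype.baseChange B) := by
  obtain ⟨t, c, hc⟩ := exists_finite_charts (G := G)
  haveI : ∀ l : t, Module.Flat R ((fun j => ((c j).C : Type u)) l) := fun l => (c l).flat
  exact main m (covers_of_charts c hc) M hM

end Final2

end Part5

end Groth.Agent.Lib.Helper47.GStableFG
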