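import Mathlib
import Groth.Prelude.Def_VecGrp
import Groth.Agent.Lib.Helper47.GStableFG

/-!
# Finitely generated stable submodules: projective ring of functions, flat module, arbitrary affine base

For a group object `G` of `Over (Spec R)` with flat, quasi-compact, quasi-separated structure map whose ring of global
functions `A = Γ(G, O_G)` is a projective `R`-module, and a flat `R`-module `E` with a `G`-module structure, every finitely
generated submodule of `E` lies in a finitely generated stable one (`result'`).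

The proof works with a finite affine atlas (`Atlas`): charts `Spec C_j` with universal points `g_j`, restriction maps, the
pullback of global functions along points, and the sheaf property of `O_G` (injectivity and gluing, `inj_of_cover`,
`glue_of_cover`).  Tensoring the Čech sequence `0 → A → ∏ C_j → ∏ C_k` with a flat module stays exact
(`Atlas.rTensor_r_injective`, `Atlas.exists_of_compatible`); this gives the coaction element `Δ x ∈ A ⊗ E`
(`exists_delta`) computing the action of every point (`act_eq_Wmap_pull`), and the comultiplication into `A ⊗ C_i`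
(`exists_comul`).  A dual basis of `A` (`exists_expansion`) yields the finitely many coefficient vectors of `Δ x`; their span
is stable (`act_cf_mem`, `main'`).
-/

set_option autoImplicit false
universe u

open CategoryTheory MonObj GrpObj AlgebraicGeometry
open scoped TensorProduct

namespace Groth.Agent.Lib.Helper47.GStableProj

open Groth.Agent.Lib.Helper47.GStableFG

section Part1


/-- A finite affine atlas of `G`, with the ring `A` of global functions. -/
structure Atlas (R : Type u) [CommRing R] (G : Over (Spec (CommRingCat.of R))) [GrpObj G]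
    (A : Type u) [CommRing A] [Algebra R A] where
  J : Type u
  [fin : Fintype J]
  [dec : DecidableEq J]
  C : J → Type u
  [cr : ∀ j, CommRing (C j)]
  [alg : ∀ j, Algebra R (C j)]
  [flat : ∀ j, Module.Flat R (C j)]
  g : ∀ j, VecGrp.pt R (C j) ⟶ G
  covers : Covers C g
  pull : ∀ (B : Type u) [CommRing B] [Algebra R B], (VecGrp.pt R B ⟶ G) → (A →ₐ[R] B)
  pull_comp : ∀ (B B' : Type u) [CommRing B] [Algebra R B] [CommRing B'] [Algebra R B']
    (φ : B →ₐ[R] B') (p : VecGrp.pt R B ⟶ G), pull B' (VecGrp.ptMap φ ≫ p) = φ.comp (pull B p)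
  le : J → J → Prop
  res : ∀ i j, le j i → (C i →ₐ[R] C j)
  res_point : ∀ i j (h : le j i), VecGrp.ptMap (res i j h) ≫ g i = g j
  inj : ∀ a : A, (∀ j, pull (C j) (g j) a = 0) → a = 0
  glue : ∀ a : ∀ j, C j, (∀ i j (h : le j i), res i j h (a i) = a j) →
    ∃ a₀ : A, ∀ j, pull (C j) (g j) a₀ = a j

attribute [instance] Atlas.fin Atlas.dec Atlas.cr Atlas.alg Atlas.flat

variable {R : Type u} [CommRing R] {G : Over (Spec (CommRingCat.of R))} [GrpObj G]
  {A : Type u} [CommRing A] [Algebra R A] (𝔄 : Atlas R G A)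

namespace Atlas

/-- restriction of global functions to a chart -/
noncomputable def r (j : 𝔄.J) : A →ₐ[R] 𝔄.C j := 𝔄.pull (𝔄.C j) (𝔄.g j)

theorem res_comp_r (i j : 𝔄.J) (h : 𝔄.le j i) : (𝔄.res i j h).comp (𝔄.r i) = 𝔄.r j := by
  unfold r
  rw [← 𝔄.pull_comp, 𝔄.res_point]

theorem res_r (i j : 𝔄.J) (h : 𝔄.le j i) (a : A) : 𝔄.res i j h (𝔄.r i a) = 𝔄.r j a := by
  rw [← 𝔄.res_comp_r i j h]; rfl

/-- the index set of inclusions -/
abbrev K : Type u := {k : 𝔄.J × 𝔄.J // 𝔄.le k.2 k.1}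

noncomputable instance : Fintype 𝔄.K := by classical exact Subtype.fintype _

noncomputable def d0 : A →ₗ[R] (∀ j, 𝔄.C j) := LinearMap.pi fun j => (𝔄.r j).toLinearMap

noncomputable def d1 : (∀ j, 𝔄.C j) →ₗ[R] (∀ k : 𝔄.K, 𝔄.C k.1.2) :=
  LinearMap.pi fun k => (𝔄.res k.1.1 k.1.2 k.2).toLinearMap ∘ₗ LinearMap.proj k.1.1
    - LinearMap.proj k.1.2

theorem d1_apply (a : ∀ j, 𝔄.C j) (k : 𝔄.K) :
    𝔄.d1 a k = 𝔄.res k.1.1 k.1.2 k.2 (a k.1.1) - a k.1.2 := rfl

theorem d0_injective : Function.Injective 𝔄.d0 := by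
  rw [← LinearMap.ker_eq_bot, LinearMap.ker_eq_bot']
  intro a ha
  apply 𝔄.inj
  intro j
  exact congrFun ha j

theorem exact_d0_d1 : Function.Exact 𝔄.d0 𝔄.d1 := by
  intro a
  constructor
  · intro h
    have hcomp : ∀ i j (h' : 𝔄.le j i), 𝔄.res i j h' (a i) = a j := by
      intro i j h'
      have := congrFun h ⟨(i, j), h'⟩
      rw [d1_apply] at this
      exact sub_eq_zero.mp this
    obtain ⟨a₀, ha₀⟩ := 𝔄.glue a hcomp
    exact ⟨a₀, funext ha₀⟩
  · rintro ⟨a₀, rfl⟩
    funext k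
    rw [d1_apply]
    change 𝔄.res k.1.1 k.1.2 k.2 (𝔄.r k.1.1 a₀) - 𝔄.r k.1.2 a₀ = 0
    rw [𝔄.res_r, sub_self]

end Atlas


namespace Atlas

variable (F : Type u) [AddCommGroup F] [Module R F]

theorem piLeft_rTensor_d0 (z : A ⊗[R] F) (j : 𝔄.J) :
    (TensorProduct.piLeft R F 𝔄.C) ((𝔄.d0.rTensor F) z) j = ((𝔄.r j).toLinearMap.rTensor F) z := by
  induction z using TensorProduct.induction_on with
  | zero => simp
  | tmul a f => simp [d0]
  | add x y hx hy => simp only [map_add, Pi.add_apply, hx, hy]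

theorem piLeft_rTensor_d1 (w : (∀ j, 𝔄.C j) ⊗[R] F) (k : 𝔄.K) :
    (TensorProduct.piLeft R F (fun k : 𝔄.K => 𝔄.C k.1.2)) ((𝔄.d1.rTensor F) w) k =
      ((𝔄.res k.1.1 k.1.2 k.2).toLinearMap.rTensor F) ((TensorProduct.piLeft R F 𝔄.C) w k.1.1)
        - (TensorProduct.piLeft R F 𝔄.C) w k.1.2 := by
  induction w using TensorProduct.induction_on with
  | zero => simp
  | tmul a f => simp [d1_apply, TensorProduct.sub_tmul]
  | add x y hx hy => simp only [map_add, Pi.add_apply, hx, hy]; abel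

/-- (A1a) joint injectivity after tensoring with a flat module -/
theorem rTensor_r_injective [Module.Flat R F] (z : A ⊗[R] F)
    (h : ∀ j, ((𝔄.r j).toLinearMap.rTensor F) z = 0) : z = 0 := by
  have hinj := Module.Flat.rTensor_preserves_injective_linearMap (M := F) 𝔄.d0 𝔄.d0_injective
  apply hinj
  rw [map_zero]
  apply (TensorProduct.piLeft R F 𝔄.C).injective
  rw [map_zero]
  funext j
  rw [piLeft_rTensor_d0, h j]
  rfl

/-- (A1b) compatible families come from `A ⊗ F` -/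
theorem exists_of_compatible [Module.Flat R F] (y : ∀ j, 𝔄.C j ⊗[R] F)
    (hy : ∀ i j (h : 𝔄.le j i), ((𝔄.res i j h).toLinearMap.rTensor F) (y i) = y j) :
    ∃ z : A ⊗[R] F, ∀ j, ((𝔄.r j).toLinearMap.rTensor F) z = y j := by
  have hex := Module.Flat.rTensor_exact F 𝔄.exact_d0_d1
  set w := (TensorProduct.piLeft R F 𝔄.C).symm y with hw
  have hw' : (TensorProduct.piLeft R F 𝔄.C) w = y := by rw [hw, LinearEquiv.apply_symm_apply]
  have h1 : (𝔄.d1.rTensor F) w = 0 := by
    refine (TensorProduct.piLeft R F (fun k : 𝔄.K => 𝔄.C k.1.2)).injective ?_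
    rw [map_zero]
    funext k
    rw [piLeft_rTensor_d1, hw', hy, sub_self]
    rfl
  obtain ⟨z, hz⟩ := (hex w).mp h1
  refine ⟨z, fun j => ?_⟩
  rw [← piLeft_rTensor_d0, hz, hw']

end Atlas

end Part1

section Part2


variable {R : Type u} [CommRing R] {G : Over (Spec (CommRingCat.of R))} [GrpObj G]
  {A : Type u} [CommRing A] [Algebra R A] (𝔄 : Atlas R G A)
  {E : Type u} [AddCommGroup E] [Module R E] (m : VecGrp.GMod G E)

theorem Wmap_comp {P : Type u} [AddCommGroup P] [Module R P] {B B' B'' : Type u} [CommRing B]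
    [Algebra R B] [CommRing B'] [Algebra R B'] [CommRing B''] [Algebra R B'']
    (φ : B →ₐ[R] B') (ψ : B' →ₐ[R] B'') (z : B ⊗[R] P) :
    VecGrp.Wmap (M := P) ψ (VecGrp.Wmap (M := P) φ z) = VecGrp.Wmap (M := P) (ψ.comp φ) z := by
  induction z using TensorProduct.induction_on with
  | zero => simp
  | tmul b p => simp
  | add x y hx hy => simp only [map_add, hx, hy]

/-- local-global principle for vanishing -/
theorem eq_zero_of_localizations {P : Type u} [AddCommGroup P] [Module R P] (B : Type u)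
    [CommRing B] [Algebra R B] (S : Set B) (hS : Ideal.span S = ⊤) (y : B ⊗[R] P)
    (h : ∀ f ∈ S, VecGrp.Wmap (M := P) (IsScalarTower.toAlgHom R B (Localization.Away f)) y = 0) :
    y = 0 := by
  have hmem : y ∈ (⊥ : Submodule B (B ⊗[R] P)) := by
    apply Submodule.mem_of_span_eq_top_of_smul_pow_mem _ S hS
    rintro ⟨f, hf⟩
    obtain ⟨n, hn⟩ := exists_pow_smul_eq_zero P B f y (h f hf)
    exact ⟨n, by simpa using hn⟩
  simpa using hmem

/-- existence of the coaction element -/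
theorem exists_delta [Module.Flat R E] (x : E) :
    ∃ z : A ⊗[R] E, ∀ j, VecGrp.Wmap (𝔄.r j) z = act m (𝔄.C j) (𝔄.g j) x := by
  apply 𝔄.exists_of_compatible E (fun j => act m (𝔄.C j) (𝔄.g j) x)
  intro i j h
  change VecGrp.Wmap (𝔄.res i j h) (act m (𝔄.C i) (𝔄.g i) x) = _
  rw [Wmap_act, 𝔄.res_point]

/-- the key formula: the action of any point is computed from the coaction element -/
theorem act_eq_Wmap_pull (x : E) (z : A ⊗[R] E)
    (hz : ∀ j, VecGrp.Wmap (𝔄.r j) z = act m (𝔄.C j) (𝔄.g j) x)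
    (B : Type u) [CommRing B] [Algebra R B] (p : VecGrp.pt R B ⟶ G) :
    act m B p x = VecGrp.Wmap (𝔄.pull B p) z := by
  obtain ⟨S, hS, hf⟩ := 𝔄.covers B p
  rw [← sub_eq_zero]
  apply eq_zero_of_localizations B S hS
  intro f hfS
  obtain ⟨l, φ, hφ⟩ := hf f hfS
  rw [map_sub, sub_eq_zero, Wmap_act, Wmap_comp, ← 𝔄.pull_comp, hφ, 𝔄.pull_comp, ← Wmap_comp,
    ← Wmap_act]
  congr 1
  exact (hz l).symm


section Coeff

variable (A) in
/-- the coefficient map attached to a linear form on `A` -/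
noncomputable def cf (P : Type u) [AddCommGroup P] [Module R P] (ψ : A →ₗ[R] R) :
    A ⊗[R] P →ₗ[R] P :=
  (TensorProduct.lid R P).toLinearMap ∘ₗ ψ.rTensor P

@[simp] theorem cf_tmul (P : Type u) [AddCommGroup P] [Module R P] (ψ : A →ₗ[R] R) (a : A) (p : P) :
    cf A P ψ (a ⊗ₜ p) = ψ a • p := by
  simp [cf]

/-- coefficient maps commute with linear maps on the second factor -/
theorem cf_lTensor {P Q : Type u} [AddCommGroup P] [Module R P] [AddCommGroup Q] [Module R Q]
    (ψ : A →ₗ[R] R) (u : P →ₗ[R] Q) (z : A ⊗[R] P) :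
    cf A Q ψ (u.lTensor A z) = u (cf A P ψ z) := by
  induction z using TensorProduct.induction_on with
  | zero => simp
  | tmul a p => simp
  | add x y hx hy => simp only [map_add, hx, hy]

/-- dual basis expansion in `A ⊗ P` for projective `A` -/
theorem exists_expansion [Module.Projective R A] (P : Type u) [AddCommGroup P] [Module R P] :
    ∃ φ : A → (A →ₗ[R] R), ∀ z : A ⊗[R] P, ∃ T : Finset A, ∀ T' : Finset A, T ⊆ T' →
      z = ∑ b ∈ T', b ⊗ₜ[R] cf A P (φ b) z := by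
  classical
  obtain ⟨s, hs⟩ := Module.projective_def'.mp (inferInstance : Module.Projective R A)
  refine ⟨fun b => (Finsupp.lapply b) ∘ₗ s, fun z => ?_⟩
  induction z using TensorProduct.induction_on with
  | zero => exact ⟨∅, fun T' _ => by simp⟩
  | tmul a p =>
    refine ⟨(s a).support, fun T' hT' => ?_⟩
    have h1 : a = ∑ b ∈ T', (s a) b • b := by
      have h2 : Finsupp.linearCombination R id (s a) = a := by
        have := congrArg (fun f => f a) hs
        simpa using this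
      rw [Finsupp.linearCombination_apply, Finsupp.sum_of_support_subset _ hT'] at h2
      · simpa using h2.symm
      · intro i _; simp
    conv_lhs => rw [h1]
    rw [TensorProduct.sum_tmul]
    apply Finset.sum_congr rfl
    intro b _
    simp [TensorProduct.smul_tmul]
  | add x y hx hy =>
    obtain ⟨T₁, h₁⟩ := hx
    obtain ⟨T₂, h₂⟩ := hy
    refine ⟨T₁ ∪ T₂, fun T' hT' => ?_⟩
    have e₁ := h₁ T' (Finset.union_subset_left hT')
    have e₂ := h₂ T' (Finset.union_subset_right hT')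
    simp only [map_add, TensorProduct.tmul_add, Finset.sum_add_distrib]
    exact congrArg₂ (· + ·) e₁ e₂

end Coeff

end Part2

section Part3


variable {R : Type u} [CommRing R] {G : Over (Spec (CommRingCat.of R))} [GrpObj G]
  {A : Type u} [CommRing A] [Algebra R A] (𝔄 : Atlas R G A)
  {E : Type u} [AddCommGroup E] [Module R E] (m : VecGrp.GMod G E)

theorem ptMap_id {B : Type u} [CommRing B] [Algebra R B] :
    VecGrp.ptMap (AlgHom.id R B) = 𝟙 (VecGrp.pt R B) := by
  apply Over.OverMorphism.ext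
  rw [VecGrp.ptMap_left]
  exact Spec.map_id _

theorem ptMap_comp {B B' B'' : Type u} [CommRing B] [Algebra R B] [CommRing B'] [Algebra R B']
    [CommRing B''] [Algebra R B''] (φ : B →ₐ[R] B') (ψ : B' →ₐ[R] B'') :
    VecGrp.ptMap (ψ.comp φ) = VecGrp.ptMap ψ ≫ VecGrp.ptMap φ := by
  apply Over.OverMorphism.ext
  rw [Over.comp_left, VecGrp.ptMap_left, VecGrp.ptMap_left, VecGrp.ptMap_left, ← Spec.map_comp]
  rfl

/-- the product point `pr₂^* g_i * pr₁^* g_l` with values in `C l ⊗ C i` -/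
noncomputable def mu (l i : 𝔄.J) : VecGrp.pt R (𝔄.C l ⊗[R] 𝔄.C i) ⟶ G :=
  (VecGrp.ptMap (Algebra.TensorProduct.includeRight : 𝔄.C i →ₐ[R] 𝔄.C l ⊗[R] 𝔄.C i) ≫ 𝔄.g i) *
    (VecGrp.ptMap (Algebra.TensorProduct.includeLeft : 𝔄.C l →ₐ[R] 𝔄.C l ⊗[R] 𝔄.C i) ≫ 𝔄.g l)

theorem mu_res (l l' i : 𝔄.J) (h : 𝔄.le l' l) :
    VecGrp.ptMap (Algebra.TensorProduct.map (𝔄.res l l' h) (AlgHom.id R (𝔄.C i))) ≫ mu 𝔄 l i =
      mu 𝔄 l' i := by
  unfold mu
  rw [MonObj.comp_mul, ← Category.assoc, ← Category.assoc, ← ptMap_comp, ← ptMap_comp,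
    Algebra.TensorProduct.map_comp_includeRight, Algebra.TensorProduct.map_comp_includeLeft,
    ptMap_comp, ptMap_comp, Category.assoc, Category.assoc, 𝔄.res_point, ptMap_id,
    Category.id_comp]


theorem rTensor_toLinearMap_eq_map {B B' D : Type u} [CommRing B] [Algebra R B] [CommRing B']
    [Algebra R B'] [CommRing D] [Algebra R D] (φ : B →ₐ[R] B') (y : B ⊗[R] D) :
    (φ.toLinearMap.rTensor D) y = Algebra.TensorProduct.map φ (AlgHom.id R D) y := by
  induction y using TensorProduct.induction_on with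
  | zero => simp
  | tmul b d => simp
  | add x y hx hy => simp only [map_add, hx, hy]

/-- the comultiplication, restricted to a chart in the second variable -/
theorem exists_comul (i : 𝔄.J) (a : A) :
    ∃ w : A ⊗[R] 𝔄.C i, ∀ l, ((𝔄.r l).toLinearMap.rTensor (𝔄.C i)) w =
      𝔄.pull (𝔄.C l ⊗[R] 𝔄.C i) (mu 𝔄 l i) a := by
  apply 𝔄.exists_of_compatible (𝔄.C i) (fun l => 𝔄.pull (𝔄.C l ⊗[R] 𝔄.C i) (mu 𝔄 l i) a)
  intro l l' h
  rw [rTensor_toLinearMap_eq_map, ← mu_res 𝔄 l l' i h, 𝔄.pull_comp]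
  rfl

/-- the orbit map in two variables -/
theorem assoc_symm_lTensor_act (l i : 𝔄.J) (z' : 𝔄.C l ⊗[R] E) :
    (TensorProduct.assoc R (𝔄.C l) (𝔄.C i) E).symm ((act m (𝔄.C i) (𝔄.g i)).lTensor (𝔄.C l) z') =
      m.ρ (𝔄.C l ⊗[R] 𝔄.C i)
        (VecGrp.ptMap (Algebra.TensorProduct.includeRight : 𝔄.C i →ₐ[R] 𝔄.C l ⊗[R] 𝔄.C i) ≫ 𝔄.g i)
        (VecGrp.Wmap (Algebra.TensorProduct.includeLeft : 𝔄.C l →ₐ[R] 𝔄.C l ⊗[R] 𝔄.C i) z') := by
  induction z' using TensorProduct.induction_on with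
  | zero => simp
  | tmul a e =>
    rw [LinearMap.lTensor_tmul, assoc_symm_tmul, Wmap_act, VecGrp.Wmap_tmul,
      Algebra.TensorProduct.includeLeft_apply, rho_tmul]
  | add x y hx hy => simp only [map_add, hx, hy]

theorem assoc_symm_lTensor_act_act (l i : 𝔄.J) (x : E) :
    (TensorProduct.assoc R (𝔄.C l) (𝔄.C i) E).symm
        ((act m (𝔄.C i) (𝔄.g i)).lTensor (𝔄.C l) (act m (𝔄.C l) (𝔄.g l) x)) =
      act m (𝔄.C l ⊗[R] 𝔄.C i) (mu 𝔄 l i) x := by
  rw [assoc_symm_lTensor_act, Wmap_act, act_apply, ← LinearEquiv.mul_apply, ← map_mul, ← act_apply]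
  rfl

/-- naturality of the associator in the first variable -/
theorem rTensor_assoc_tmul {P P' Q : Type u} [AddCommGroup P] [Module R P] [AddCommGroup P']
    [Module R P'] [AddCommGroup Q] [Module R Q] (f : P →ₗ[R] P') (w : P ⊗[R] Q) (e : E) :
    (f.rTensor (Q ⊗[R] E)) ((TensorProduct.assoc R P Q E) (w ⊗ₜ e)) =
      (TensorProduct.assoc R P' Q E) ((f.rTensor Q w) ⊗ₜ e) := by
  induction w using TensorProduct.induction_on with
  | zero => simp
  | tmul p q => simp
  | add x y hx hy => simp only [TensorProduct.add_tmul, map_add, hx, hy]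

theorem cf_assoc_tmul (Q : Type u) [AddCommGroup Q] [Module R Q] (ψ : A →ₗ[R] R) (w : A ⊗[R] Q)
    (e : E) :
    cf A (Q ⊗[R] E) ψ ((TensorProduct.assoc R A Q E) (w ⊗ₜ e)) = (cf A Q ψ w) ⊗ₜ e := by
  induction w using TensorProduct.induction_on with
  | zero => simp
  | tmul a q => simp [TensorProduct.smul_tmul']
  | add x y hx hy => simp only [TensorProduct.add_tmul, map_add, hx, hy]


/-- stability of coefficient vectors -/
theorem act_cf_mem [Module.Flat R E] (x : E) (z : A ⊗[R] E)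
    (hz : ∀ j, VecGrp.Wmap (𝔄.r j) z = act m (𝔄.C j) (𝔄.g j) x)
    (N : Submodule R E) (T : Finset A) (n : A → E) (hn : ∀ b ∈ T, n b ∈ N)
    (hzT : z = ∑ b ∈ T, b ⊗ₜ[R] n b) (ψ : A →ₗ[R] R) (i : 𝔄.J) :
    act m (𝔄.C i) (𝔄.g i) (cf A E ψ z) ∈ LinearMap.range (N.subtype.baseChange (𝔄.C i)) := by
  choose w hw using fun a => exists_comul 𝔄 i a
  have hZ : (act m (𝔄.C i) (𝔄.g i)).lTensor A z =
      ∑ b ∈ T, (TensorProduct.assoc R A (𝔄.C i) E) (w b ⊗ₜ n b) := by
    rw [← sub_eq_zero]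
    apply 𝔄.rTensor_r_injective (𝔄.C i ⊗[R] E)
    intro l
    rw [map_sub, sub_eq_zero, map_sum]
    have h1 : ((𝔄.r l).toLinearMap.rTensor (𝔄.C i ⊗[R] E))
        ((act m (𝔄.C i) (𝔄.g i)).lTensor A z) =
        (act m (𝔄.C i) (𝔄.g i)).lTensor (𝔄.C l) (((𝔄.r l).toLinearMap.rTensor E) z) := by
      rw [← LinearMap.comp_apply, ← LinearMap.comp_apply, LinearMap.rTensor_comp_lTensor,
        LinearMap.lTensor_comp_rTensor]
    rw [h1]
    change (act m (𝔄.C i) (𝔄.g i)).lTensor (𝔄.C l) (VecGrp.Wmap (𝔄.r l) z) = _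
    rw [hz l]
    apply (TensorProduct.assoc R (𝔄.C l) (𝔄.C i) E).symm.injective
    rw [assoc_symm_lTensor_act_act, act_eq_Wmap_pull 𝔄 m x z hz, map_sum]
    conv_lhs => rw [hzT]
    rw [map_sum]
    apply Finset.sum_congr rfl
    intro b _
    rw [rTensor_assoc_tmul, LinearEquiv.symm_apply_apply, hw b l, VecGrp.Wmap_tmul]
  rw [← cf_lTensor, hZ, map_sum]
  apply Submodule.sum_mem
  intro b hb
  rw [cf_assoc_tmul]
  refine ⟨(cf A (𝔄.C i) ψ (w b)) ⊗ₜ ⟨n b, hn b hb⟩, ?_⟩
  simp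


include 𝔄 in
/-- The algebraic core: `A` projective, `E` flat. -/
theorem main' [Module.Projective R A] [Module.Flat R E] (M : Submodule R E) (hM : M.FG) :
    ∃ N : Submodule R E, M ≤ N ∧ N.FG ∧
      ∀ (B : Type u) [CommRing B] [Algebra R B] (pg : VecGrp.pt R B ⟶ G) (x : E), x ∈ N →
        m.ρ B pg ((1 : B) ⊗ₜ[R] x) ∈ LinearMap.range (N.subtype.baseChange B) := by
  classical
  obtain ⟨sM, hsM⟩ := hM
  obtain ⟨φ, hφ⟩ := exists_expansion (R := R) (A := A) E
  choose z hz using fun x => exists_delta 𝔄 m x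
  choose T hT using hφ
  set N : Submodule R E := Submodule.span R
    (⋃ x ∈ (sM : Set E), (fun b => cf A E (φ b) (z x)) '' (T (z x) : Set A)) with hN
  have hnN : ∀ x ∈ sM, ∀ b ∈ T (z x), cf A E (φ b) (z x) ∈ N := by
    intro x hx b hb
    apply Submodule.subset_span
    simp only [Set.mem_iUnion]
    exact ⟨x, hx, b, hb, rfl⟩
  have hzx : ∀ x, z x = ∑ b ∈ T (z x), b ⊗ₜ[R] cf A E (φ b) (z x) := fun x =>
    hT (z x) (T (z x)) (Finset.Subset.refl _)
  have hcfN : ∀ x ∈ sM, ∀ ψ : A →ₗ[R] R, cf A E ψ (z x) ∈ N := by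
    intro x hx ψ
    conv => arg 2; rw [hzx x]
    rw [map_sum]
    apply Submodule.sum_mem
    intro b hb
    rw [cf_tmul]
    exact N.smul_mem _ (hnN x hx b hb)
  refine ⟨N, ?_, ?_, ?_⟩
  · rw [← hsM, Submodule.span_le]
    intro x hx
    have h1 := act_eq_Wmap_pull 𝔄 m x (z x) (hz x) R 1
    rw [act_apply, map_one] at h1
    have h2 : cf A E (𝔄.pull R 1).toLinearMap (z x) = x := by
      have := congrArg (TensorProduct.lid R E) h1
      simp only [LinearEquiv.coe_one, id_eq, TensorProduct.lid_tmul, one_smul] at this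
      exact this.symm
    rw [SetLike.mem_coe, ← h2]
    exact hcfN x hx _
  · apply Submodule.fg_span
    exact sM.finite_toSet.biUnion fun x _ => (Finset.finite_toSet _).image _
  · intro B _ _ pg y hy
    rw [← act_apply]
    apply mem_of_forall_universal m 𝔄.covers N y
    intro l
    have hle : N ≤ Submodule.comap (act m (𝔄.C l) (𝔄.g l))
        ((LinearMap.range (N.subtype.baseChange (𝔄.C l))).restrictScalars R) := by
      rw [hN, Submodule.span_le]
      intro y' hy'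
      simp only [Set.mem_iUnion] at hy'
      obtain ⟨x, hx, b, -, rfl⟩ := hy'
      exact act_cf_mem 𝔄 m x (z x) (hz x) N (T (z x)) (fun b => cf A E (φ b) (z x))
        (hnN x hx) (hzx x) (φ b) l
    exact hle hy

end Part3

section Part4


variable {R : Type u} [CommRing R] (G : Over (Spec (CommRingCat.of R)))

/-- the chart of an affine open -/
noncomputable def chartOf (U : G.left.affineOpens) : Chart G :=
  ⟨Γ(G.left, U.1), U.2.fromSpec, inferInstance⟩

/-- pullback of global functions along a point -/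
noncomputable def pullHom (B : Type u) [CommRing B] [Algebra R B] (p : VecGrp.pt R B ⟶ G) :
    Γ(G.left, ⊤) ⟶ CommRingCat.of B :=
  p.left.appTop ≫ (Scheme.ΓSpecIso (CommRingCat.of B)).hom

theorem pullHom_algebraMap (B : Type u) [CommRing B] [Algebra R B] (p : VecGrp.pt R B ⟶ G) :
    (Scheme.ΓSpecIso (CommRingCat.of R)).inv ≫ G.hom.appTop ≫ pullHom G B p =
      CommRingCat.ofHom (algebraMap R B) := by
  have hw : p.left ≫ G.hom = Spec.map (CommRingCat.ofHom (algebraMap R B)) := Over.w p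
  unfold pullHom
  rw [← Category.assoc G.hom.appTop, ← Scheme.Hom.comp_appTop, hw, Scheme.ΓSpecIso_naturality,
    Iso.inv_hom_id_assoc]

theorem pullHom_comp (B B' : Type u) [CommRing B] [Algebra R B] [CommRing B'] [Algebra R B']
    (φ : B →ₐ[R] B') (p : VecGrp.pt R B ⟶ G) :
    pullHom G B' (VecGrp.ptMap φ ≫ p) = pullHom G B p ≫ CommRingCat.ofHom φ.toRingHom := by
  unfold pullHom
  rw [Over.comp_left, VecGrp.ptMap_left, Scheme.Hom.comp_appTop, Category.assoc,
    Scheme.ΓSpecIso_naturality, Category.assoc]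

theorem pullHom_chart (U : G.left.affineOpens) :
    pullHom G _ (chartOf G U).point = G.left.presheaf.map (homOfLE le_top).op := by
  unfold pullHom
  rw [Chart.point_left]
  change U.2.fromSpec.app ⊤ ≫ _ = _
  rw [IsAffineOpen.fromSpec_app_of_le U.2 ⊤ le_top]
  simp [chartOf]
  rw [Iso.inv_comp_eq]
  exact Scheme.ΓSpecIso_naturality _


/-- the `R`-algebra structure on the global functions of `G` -/
@[reducible] noncomputable def gammaAlg : Algebra R Γ(G.left, ⊤) :=
  (((Scheme.ΓSpecIso (CommRingCat.of R)).inv ≫ G.hom.appTop).hom).toAlgebra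

attribute [local instance] gammaAlg

/-- pullback of global functions along a point, as an algebra map -/
noncomputable def pullAlg (B : Type u) [CommRing B] [Algebra R B] (p : VecGrp.pt R B ⟶ G) :
    Γ(G.left, ⊤) →ₐ[R] B :=
  { (pullHom G B p).hom with
    commutes' := fun r => by
      have := congrArg (fun k => k.hom r) (pullHom_algebraMap G B p)
      exact this }

theorem pullAlg_apply (B : Type u) [CommRing B] [Algebra R B] (p : VecGrp.pt R B ⟶ G)
    (a : Γ(G.left, ⊤)) : pullAlg G B p a = (pullHom G B p).hom a := rfl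

theorem pullAlg_comp (B B' : Type u) [CommRing B] [Algebra R B] [CommRing B'] [Algebra R B']
    (φ : B →ₐ[R] B') (p : VecGrp.pt R B ⟶ G) :
    pullAlg G B' (VecGrp.ptMap φ ≫ p) = φ.comp (pullAlg G B p) := by
  apply AlgHom.ext
  intro a
  rw [pullAlg_apply, pullHom_comp]
  rfl

/-- restriction between charts, as an algebra map -/
noncomputable def resAlg (U V : G.left.affineOpens) (h : V.1 ≤ U.1) :
    (chartOf G U).C →ₐ[R] (chartOf G V).C :=
  { (G.left.presheaf.map (homOfLE h).op).hom with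
    commutes' := fun r => by
      have hcomm : (chartOf G U).str ≫ G.left.presheaf.map (homOfLE h).op = (chartOf G V).str := by
        apply Spec.map_injective
        have e1 := (chartOf G U).map_str
        have e2 := (chartOf G V).map_str
        rw [Spec.map_comp, e1]
        exact (IsAffineOpen.map_fromSpec_assoc U.2 V.2 (homOfLE h).op G.hom).trans e2.symm
      have := congrArg (fun k => k.hom r) hcomm
      exact this }

theorem resAlg_apply (U V : G.left.affineOpens) (h : V.1 ≤ U.1) (a : Γ(G.left, U.1)) :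
    resAlg G U V h a = (G.left.presheaf.map (homOfLE h).op).hom a := rfl

theorem resAlg_point (U V : G.left.affineOpens) (h : V.1 ≤ U.1) :
    VecGrp.ptMap (resAlg G U V h) ≫ (chartOf G U).point = (chartOf G V).point := by
  apply Over.OverMorphism.ext
  rw [Over.comp_left, VecGrp.ptMap_left, Chart.point_left, Chart.point_left]
  exact IsAffineOpen.map_fromSpec U.2 V.2 (homOfLE h).op

theorem pullAlg_chart (U : G.left.affineOpens) (a : Γ(G.left, ⊤)) :
    pullAlg G _ (chartOf G U).point a = (G.left.presheaf.map (homOfLE le_top).op).hom a := by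
  rw [pullAlg_apply, pullHom_chart]
  rfl

end Part4

section Part5
open TopologicalSpace

variable {X : Scheme.{u}}

theorem res_res {U V W : X.Opens} (h₁ : V ≤ U) (h₂ : W ≤ V) (a : Γ(X, U)) :
    (X.presheaf.map (homOfLE h₂).op).hom ((X.presheaf.map (homOfLE h₁).op).hom a) =
      (X.presheaf.map (homOfLE (h₂.trans h₁)).op).hom a := by
  rw [← CommRingCat.comp_apply, ← Functor.map_comp]
  rfl

/-- separatedness of the structure sheaf for a family of opens covering `V` -/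
theorem eq_of_forall_res_eq {K : Type*} (U : K → X.Opens) (V : X.Opens) (hUV : ∀ i, U i ≤ V)
    (hcov : V ≤ iSup U) (a b : Γ(X, V))
    (h : ∀ i, (X.presheaf.map (homOfLE (hUV i)).op).hom a =
      (X.presheaf.map (homOfLE (hUV i)).op).hom b) : a = b :=
  TopCat.Sheaf.eq_of_locally_eq' X.sheaf U V (fun i => homOfLE (hUV i)) hcov a b h

/-- gluing for the structure sheaf -/
theorem exists_glue {K : Type*} (U : K → X.Opens) (hcov : ⊤ ≤ iSup U) (sf : ∀ i, Γ(X, U i))
    (hcomp : ∀ i j, (X.presheaf.map (homOfLE (inf_le_left : U i ⊓ U j ≤ U i)).op).hom (sf i) =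
      (X.presheaf.map (homOfLE (inf_le_right : U i ⊓ U j ≤ U j)).op).hom (sf j)) :
    ∃ a : Γ(X, ⊤), ∀ i, (X.presheaf.map (homOfLE (le_top : U i ≤ ⊤)).op).hom a = sf i := by
  obtain ⟨s, hs, -⟩ := TopCat.Sheaf.existsUnique_gluing' X.sheaf U ⊤ (fun i => homOfLE le_top) hcov
    sf hcomp
  exact ⟨s, hs⟩


theorem inj_of_cover (𝒰₀ : Finset X.affineOpens) (h0 : ∀ x : X, ∃ U ∈ 𝒰₀, x ∈ U.1)
    (a : Γ(X, ⊤))
    (h : ∀ U ∈ 𝒰₀, (X.presheaf.map (homOfLE (le_top : U.1 ≤ ⊤)).op).hom a = 0) : a = 0 := by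
  apply eq_of_forall_res_eq (fun U : 𝒰₀ => U.1.1) ⊤ (fun _ => le_top)
  · intro x _
    obtain ⟨U, hU, hx⟩ := h0 x
    exact Opens.mem_iSup.mpr ⟨⟨U, hU⟩, hx⟩
  · intro U
    rw [h U.1 U.2, map_zero]

theorem glue_of_cover (𝒰₀ 𝒰 : Finset X.affineOpens) (h0 : ∀ x : X, ∃ U ∈ 𝒰₀, x ∈ U.1)
    (h1 : 𝒰₀ ⊆ 𝒰)
    (h2 : ∀ U ∈ 𝒰₀, ∀ U' ∈ 𝒰₀, ∀ x ∈ U.1 ⊓ U'.1, ∃ V ∈ 𝒰, x ∈ V.1 ∧ V.1 ≤ U.1 ⊓ U'.1)
    (h3 : ∀ V ∈ 𝒰, ∃ U ∈ 𝒰₀, V.1 ≤ U.1)
    (sf : ∀ U : 𝒰, Γ(X, U.1.1))
    (hcomp : ∀ (U V : 𝒰) (h : V.1.1 ≤ U.1.1),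
      (X.presheaf.map (homOfLE h).op).hom (sf U) = sf V) :
    ∃ a : Γ(X, ⊤), ∀ U : 𝒰, (X.presheaf.map (homOfLE (le_top : U.1.1 ≤ ⊤)).op).hom a = sf U := by
  have hglue := exists_glue (fun U : 𝒰₀ => U.1.1) ?_ (fun U => sf ⟨U.1, h1 U.2⟩) ?_
  · obtain ⟨a, ha⟩ := hglue
    refine ⟨a, fun V => ?_⟩
    obtain ⟨U, hU, hVU⟩ := h3 V.1 V.2
    have := ha ⟨U, hU⟩
    rw [← hcomp ⟨U, h1 hU⟩ V hVU, ← this, res_res]
  · intro x _
    obtain ⟨U, hU, hx⟩ := h0 x
    exact Opens.mem_iSup.mpr ⟨⟨U, hU⟩, hx⟩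
  · intro U U'
    -- check equality on the overlap locally
    let K' := {V : 𝒰 // V.1.1 ≤ U.1.1 ⊓ U'.1.1}
    apply eq_of_forall_res_eq (fun V : K' => V.1.1.1) (U.1.1 ⊓ U'.1.1) (fun V => V.2)
    · intro x hx
      obtain ⟨V, hV, hxV, hVle⟩ := h2 U.1 U.2 U'.1 U'.2 x hx
      exact Opens.mem_iSup.mpr ⟨⟨⟨V, hV⟩, hVle⟩, hxV⟩
    · intro V
      rw [res_res, res_res, hcomp ⟨U.1, h1 U.2⟩ V.1 (V.2.trans inf_le_left),
        hcomp ⟨U'.1, h1 U'.2⟩ V.1 (V.2.trans inf_le_right)]


theorem exists_atlas_opens [CompactSpace X] [QuasiSeparatedSpace X] :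
    ∃ 𝒰₀ 𝒰 : Finset X.affineOpens, (∀ x : X, ∃ U ∈ 𝒰₀, x ∈ U.1) ∧ 𝒰₀ ⊆ 𝒰 ∧
      (∀ U ∈ 𝒰₀, ∀ U' ∈ 𝒰₀, ∀ x ∈ U.1 ⊓ U'.1, ∃ V ∈ 𝒰, x ∈ V.1 ∧ V.1 ≤ U.1 ⊓ U'.1) ∧
      (∀ V ∈ 𝒰, ∃ U ∈ 𝒰₀, V.1 ≤ U.1) := by
  classical
  obtain ⟨𝒰₀, h𝒰₀⟩ := isCompact_univ.elim_finite_subcover
    (fun U : X.affineOpens => (U.1 : Set X)) (fun U => U.1.2) (by
      intro x _
      obtain ⟨W, hW, hxW, -⟩ := exists_isAffineOpen_mem_and_subset (X := X) (x := x)
        (U := ⊤) trivial
      exact Set.mem_iUnion.mpr ⟨⟨W, hW⟩, hxW⟩)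
  have hpair : ∀ U U' : X.affineOpens, ∃ s : Set X.affineOpens, s.Finite ∧
      ((U.1 : Set X) ∩ (U'.1 : Set X)) = ⋃ i ∈ s, (i : Set X) := by
    intro U U'
    apply isCompact_and_isOpen_iff_finite_and_eq_biUnion_affineOpens.mp
    exact ⟨QuasiSeparatedSpace.inter_isCompact _ _ U.1.2 U.2.isCompact U'.1.2 U'.2.isCompact,
      U.1.2.inter U'.1.2⟩
  choose s hsfin hs using hpair
  refine ⟨𝒰₀, 𝒰₀ ∪ (𝒰₀ ×ˢ 𝒰₀).biUnion (fun p => (hsfin p.1 p.2).toFinset), ?_,
    Finset.subset_union_left, ?_, ?_⟩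
  · intro x
    have := h𝒰₀ (Set.mem_univ x)
    simp only [Set.mem_iUnion] at this
    obtain ⟨U, hU, hx⟩ := this
    exact ⟨U, hU, hx⟩
  · intro U hU U' hU' x hx
    have hx' : x ∈ ((U.1 : Set X) ∩ (U'.1 : Set X)) := hx
    rw [hs U U'] at hx'
    simp only [Set.mem_iUnion] at hx'
    obtain ⟨V, hV, hxV⟩ := hx'
    refine ⟨V, ?_, hxV, ?_⟩
    · apply Finset.mem_union_right
      rw [Finset.mem_biUnion]
      exact ⟨(U, U'), Finset.mem_product.mpr ⟨hU, hU'⟩, (hsfin U U').mem_toFinset.mpr hV⟩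
    · intro y hy
      have : y ∈ ⋃ i ∈ s U U', (i : Set X) := Set.mem_iUnion₂.mpr ⟨V, hV, hy⟩
      rw [← hs U U'] at this
      exact this
  · intro V hV
    rcases Finset.mem_union.mp hV with hV | hV
    · exact ⟨V, hV, le_rfl⟩
    · rw [Finset.mem_biUnion] at hV
      obtain ⟨⟨U, U'⟩, hp, hVs⟩ := hV
      rw [Finset.mem_product] at hp
      refine ⟨U, hp.1, ?_⟩
      intro y hy
      have hVs' : V ∈ s U U' := (hsfin U U').mem_toFinset.mp hVs
      have : y ∈ ⋃ i ∈ s U U', (i : Set X) := Set.mem_iUnion₂.mpr ⟨V, hVs', hy⟩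
      rw [← hs U U'] at this
      exact this.1

end Part5

section Part6


variable {R : Type u} [CommRing R] (G : Over (Spec (CommRingCat.of R)))

attribute [local instance] gammaAlg

/-- the atlas of a flat quasi-compact quasi-separated group scheme over an affine base -/
theorem exists_atlas [GrpObj G] [Flat G.hom] [QuasiCompact G.hom] [QuasiSeparated G.hom] :
    Nonempty (Atlas R G Γ(G.left, ⊤)) := by
  classical
  haveI : CompactSpace G.left := (quasiCompact_iff_compactSpace (f := G.hom)).mp inferInstance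
  haveI : QuasiSeparatedSpace G.left := quasiSeparatedSpace_of_quasiSeparated G.hom
  obtain ⟨𝒰₀, 𝒰, h0, h1, h2, h3⟩ := exists_atlas_opens (X := G.left)
  refine ⟨{
    J := 𝒰
    C := fun j => (chartOf G j.1).C
    flat := fun j => (chartOf G j.1).flat
    g := fun j => (chartOf G j.1).point
    covers := covers_of_charts (fun j : 𝒰 => chartOf G j.1) (fun x => by
      obtain ⟨U, hU, hx⟩ := h0 x
      refine ⟨⟨U, h1 hU⟩, ?_⟩
      change x ∈ Set.range U.2.fromSpec
      rw [IsAffineOpen.range_fromSpec]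
      exact hx)
    pull := fun B _ _ p => pullAlg G B p
    pull_comp := fun B B' _ _ _ _ φ p => pullAlg_comp G B B' φ p
    le := fun j i => j.1.1 ≤ i.1.1
    res := fun i j h => resAlg G i.1 j.1 h
    res_point := fun i j h => resAlg_point G i.1 j.1 h
    inj := fun a ha => by
      apply inj_of_cover 𝒰₀ h0 a
      intro U hU
      have := ha ⟨U, h1 hU⟩
      rw [pullAlg_chart] at this
      exact this
    glue := fun a ha => by
      obtain ⟨a₀, ha₀⟩ := glue_of_cover 𝒰₀ 𝒰 h0 h1 h2 h3 a (fun U V h => ha U V h)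
      refine ⟨a₀, fun j => ?_⟩
      rw [pullAlg_chart]
      exact ha₀ j }⟩

theorem result' [GrpObj G] [Flat G.hom] [QuasiCompact G.hom] [QuasiSeparated G.hom]
    (hA : Module.Projective R Γ(G.left, ⊤))
    (E : Type u) [AddCommGroup E] [Module R E] [Module.Flat R E] (m : VecGrp.GMod G E)
    (M : Submodule R E) (hM : M.FG) :
    ∃ N : Submodule R E, M ≤ N ∧ N.FG ∧
      ∀ (B : Type u) [CommRing B] [Algebra R B] (g : VecGrp.pt R B ⟶ G) (x : E), x ∈ N →
        m.ρ B g ((1 : B) ⊗ₜ[R] x) ∈ LinearMap.range (N.subtype.baseChange B) := by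
  obtain ⟨𝔄⟩ := exists_atlas G
  exact main' 𝔄 m M hM

end Part6

end Groth.Agent.Lib.Helper47.GStableProj
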