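import Mathlib
import Groth.Agent.Lib.Helper50.GeomReducedScheme
import Groth.Agent.Lib.Helper47.SeparableSmooth

/-!
# Geometrically reduced fibre ⇒ geometrically reduced (hence formally smooth) residue field
extension at a point whose local ring is a field (helper47)
-/

set_option autoImplicit false
universe u

open CategoryTheory CategoryTheory.Limits AlgebraicGeometry

namespace Groth.Agent.Lib.Helper47.GenFibreSep

theorem residue_bijective_of_isField {X : Scheme.{u}} (x : X) (hF : IsField (X.presheaf.stalk x)) :
    Function.Bijective (X.residue x).hom := by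
  refine ⟨?_, X.residue_surjective _⟩
  rw [injective_iff_map_eq_zero]
  intro a ha
  have h1 : a ∈ IsLocalRing.maximalIdeal (X.presheaf.stalk x) :=
    (IsLocalRing.residue_eq_zero_iff a).mp ha
  rw [IsLocalRing.isField_iff_maximalIdeal_eq.mp hF] at h1
  exact h1

/-- If the fibre of `f` over `z` is geometrically reduced and `x₀` is a point of `X` over `z` whose
local ring is a field, then `κ(x₀)` is geometrically reduced over `κ(z)`. -/
theorem isGeometricallyReduced_residueField {X Z : Scheme.{u}} (f : X ⟶ Z) (z : Z)
    [hgr0 : GeometricallyReduced (pullback.snd f (Z.fromSpecResidueField z))]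
    (w : ↑(pullback f (Z.fromSpecResidueField z))) (x₀ : X)
    (hx₀ : pullback.fst f (Z.fromSpecResidueField z) w = x₀)
    (hF : IsField (X.presheaf.stalk x₀))
    (ι : Z.residueField z ⟶ X.residueField x₀)
    (hι : Spec.map ι ≫ Z.fromSpecResidueField z = X.fromSpecResidueField x₀ ≫ f) :
    letI := ι.hom.toAlgebra
    Algebra.IsGeometricallyReduced (Z.residueField z) (X.residueField x₀) := by
  subst hx₀
  obtain ⟨φ', hφ'⟩ := Groth.Agent.Lib.Helper50.exists_ringHom_stalk
    (k := IsLocalRing.ResidueField (Z.presheaf.stalk z))
    (pullback.snd f (Z.fromSpecResidueField z)) w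
  have hgr := Groth.Agent.Lib.Helper50.isGeometricallyReduced_stalk_of_geometricallyReduced
    (k := IsLocalRing.ResidueField (Z.presheaf.stalk z))
    (pullback.snd f (Z.fromSpecResidueField z)) (hf := hgr0) w φ' hφ'
  let φc : Z.residueField z ⟶ (pullback f (Z.fromSpecResidueField z)).presheaf.stalk w :=
    CommRingCat.ofHom φ'
  have hφc : Spec.map φc = (pullback f (Z.fromSpecResidueField z)).fromSpecStalk w ≫
      pullback.snd f (Z.fromSpecResidueField z) := hφ'
  -- the residue map at `x` is bijective
  have hbij := residue_bijective_of_isField _ hF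
  let e : X.presheaf.stalk (pullback.fst f (Z.fromSpecResidueField z) w) ≃+*
      X.residueField (pullback.fst f (Z.fromSpecResidueField z) w) :=
    RingEquiv.ofBijective (X.residue _).hom hbij
  let ψc : X.residueField (pullback.fst f (Z.fromSpecResidueField z) w) ⟶
      (pullback f (Z.fromSpecResidueField z)).presheaf.stalk w :=
    CommRingCat.ofHom (((pullback.fst f (Z.fromSpecResidueField z)).stalkMap w).hom.comp
      (e.symm : X.residueField (pullback.fst f (Z.fromSpecResidueField z) w) →+* _))
  have hψc : X.residue _ ≫ ψc = (pullback.fst f (Z.fromSpecResidueField z)).stalkMap w := by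
    ext a
    change ((pullback.fst f (Z.fromSpecResidueField z)).stalkMap w).hom (e.symm (e a)) = _
    rw [RingEquiv.symm_apply_apply]
  have hX : X.fromSpecResidueField (pullback.fst f (Z.fromSpecResidueField z) w) =
      Spec.map (X.residue _) ≫ X.fromSpecStalk _ := rfl
  have hcomp : ι ≫ ψc = φc := by
    apply Spec.map_injective
    rw [← cancel_mono (Z.fromSpecResidueField z), Spec.map_comp, Category.assoc, hι, hφc,
      Category.assoc, ← pullback.condition, hX, ← Category.assoc,
      ← Category.assoc, ← Spec.map_comp, hψc, Scheme.SpecMap_stalkMap_fromSpecStalk,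
      Category.assoc]
  letI := ι.hom.toAlgebra
  letI : Algebra (Z.residueField z) ((pullback f (Z.fromSpecResidueField z)).presheaf.stalk w) :=
    φ'.toAlgebra
  haveI : Algebra.IsGeometricallyReduced (Z.residueField z)
      ((pullback f (Z.fromSpecResidueField z)).presheaf.stalk w) := hgr
  let ψ : X.residueField (pullback.fst f (Z.fromSpecResidueField z) w) →ₐ[Z.residueField z]
      (pullback f (Z.fromSpecResidueField z)).presheaf.stalk w :=
    { ψc.hom with
      commutes' := fun a => by
        have := congrArg (fun g => g.hom a) hcomp
        exact this }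
  have hinj : Function.Injective ψ := (RingHom.injective ψc.hom : Function.Injective ψc.hom)
  exact Algebra.IsGeometricallyReduced.of_injective ψ hinj

/-- Same, concluding formal smoothness (MacLane). -/
theorem formallySmooth_residueField {X Z : Scheme.{u}} (f : X ⟶ Z) (z : Z)
    [GeometricallyReduced (pullback.snd f (Z.fromSpecResidueField z))]
    (w : ↑(pullback f (Z.fromSpecResidueField z))) (x₀ : X)
    (hx₀ : pullback.fst f (Z.fromSpecResidueField z) w = x₀)
    (hF : IsField (X.presheaf.stalk x₀))
    (ι : Z.residueField z ⟶ X.residueField x₀)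
    (hι : Spec.map ι ≫ Z.fromSpecResidueField z = X.fromSpecResidueField x₀ ≫ f) :
    ι.hom.FormallySmooth := by
  letI := ι.hom.toAlgebra
  haveI := isGeometricallyReduced_residueField f z w x₀ hx₀ hF ι hι
  exact Groth.Agent.Lib.Helper47.formallySmooth_of_isGeometricallyReduced
    (Z.residueField z) (X.residueField x₀)

/-- The version at a point `x` with `z = f x` and the canonical residue field map. -/
theorem formallySmooth_residueFieldMap {X Z : Scheme.{u}} (f : X ⟶ Z) (x : X)
    [GeometricallyReduced (pullback.snd f (Z.fromSpecResidueField (f x)))]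
    (hF : IsField (X.presheaf.stalk x)) :
    (f.residueFieldMap x).hom.FormallySmooth := by
  obtain ⟨w, hw, -⟩ := Scheme.Pullback.exists_preimage_pullback (f := f)
    (g := Z.fromSpecResidueField (f x)) x (IsLocalRing.closedPoint _)
    (by rw [Scheme.fromSpecResidueField_apply])
  exact formallySmooth_residueField f (f x) w x hw hF (f.residueFieldMap x)
    (Scheme.Hom.SpecMap_residueFieldMap_fromSpecResidueField f x)

end Groth.Agent.Lib.Helper47.GenFibreSep
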