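import Mathlib
import Groth.Prelude.Def_W4c2ratsingkovacsGH
import Groth.Agent.S15708

/-!
# Homogeneous sequences of prescribed geometric heights

For a Noetherian `ℕ`-graded ring `A`, `f` homogeneous of positive degree, the primes of `A_(f)` correspond to the
homogeneous primes of `A` not containing `f` (`psi`, `locIdeal_psi`, `psi_locIdeal`, from Mathlib's `Proj` charts); heights in
`A_(f)` are bounded by heights in `A` (`height_locIdeal_le`).  Using graded prime avoidance (`S15708`) one builds, for a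
homogeneous ideal `J` of uniform geometric height `h`, homogeneous `z_1, …, z_h ∈ J` of positive degree avoiding finitely many
given primes, with `(z_1, …, z_j)` of geometric height `j` in every chart `D_+(f)`, `f ∉ √J` (`main`).
-/

set_option autoImplicit false
universe u v

open AlgebraicGeometry W4c2ratsingkovacs

namespace Groth.Agent.Lib.Helper47.GeomHeight

section Part1

variable {R : Type u} {A : Type v} [CommRing R] [CommRing A] [Algebra R A]
  (𝒜 : ℕ → Submodule R A) [GradedRing 𝒜]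

theorem locIdeal_mono {I I' : Ideal A} (h : I ≤ I') (f : A) : locIdeal 𝒜 I f ≤ locIdeal 𝒜 I' f :=
  Ideal.comap_mono (Ideal.map_mono h)

variable {𝒜} {f : A} {m : ℕ}

/-- the homogeneous prime of `A` attached to a prime of `A_(f)` -/
noncomputable def psi (hf : f ∈ 𝒜 m) (hm : 0 < m)
    (q : PrimeSpectrum (HomogeneousLocalization.Away 𝒜 f)) : Ideal A :=
  ProjIsoSpecTopComponent.FromSpec.carrier.asIdeal hf hm q

theorem psi_isPrime (hf : f ∈ 𝒜 m) (hm : 0 < m)
    (q : PrimeSpectrum (HomogeneousLocalization.Away 𝒜 f)) : (psi hf hm q).IsPrime :=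
  ProjIsoSpecTopComponent.FromSpec.carrier.asIdeal.prime hf hm q

theorem psi_isHomogeneous (hf : f ∈ 𝒜 m) (hm : 0 < m)
    (q : PrimeSpectrum (HomogeneousLocalization.Away 𝒜 f)) : (psi hf hm q).IsHomogeneous 𝒜 :=
  ProjIsoSpecTopComponent.FromSpec.carrier.asIdeal.homogeneous hf hm q

theorem notMem_psi (hf : f ∈ 𝒜 m) (hm : 0 < m)
    (q : PrimeSpectrum (HomogeneousLocalization.Away 𝒜 f)) : f ∉ psi hf hm q :=
  ProjIsoSpecTopComponent.FromSpec.carrier.denom_notMem hf hm q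

theorem locIdeal_psi (hf : f ∈ 𝒜 m) (hm : 0 < m)
    (q : PrimeSpectrum (HomogeneousLocalization.Away 𝒜 f)) :
    locIdeal 𝒜 (psi hf hm q) f = q.asIdeal := by
  have := ProjIsoSpecTopComponent.toSpec_fromSpec 𝒜 hf hm q
  exact congrArg PrimeSpectrum.asIdeal this

theorem psi_mono (hf : f ∈ 𝒜 m) (hm : 0 < m)
    {q q' : PrimeSpectrum (HomogeneousLocalization.Away 𝒜 f)} (h : q ≤ q') :
    psi hf hm q ≤ psi hf hm q' := by
  intro a ha i
  exact h (ha i)

theorem psi_strictMono (hf : f ∈ 𝒜 m) (hm : 0 < m) :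
    StrictMono (fun q : PrimeSpectrum (HomogeneousLocalization.Away 𝒜 f) =>
      (⟨psi hf hm q, psi_isPrime hf hm q⟩ : PrimeSpectrum A)) := by
  intro q q' h
  refine lt_of_le_of_ne (psi_mono hf hm h.le) ?_
  intro heq
  have h1 : psi hf hm q = psi hf hm q' := congrArg PrimeSpectrum.asIdeal heq
  have h2 : q.asIdeal = q'.asIdeal := by
    rw [← locIdeal_psi hf hm q, ← locIdeal_psi hf hm q', h1]
  exact h.ne (PrimeSpectrum.ext h2)

/-- `locIdeal` of a homogeneous prime not containing `f` is prime -/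
theorem isPrime_locIdeal (p : Ideal A) [hp : p.IsPrime] (hfp : f ∉ p) :
    (locIdeal 𝒜 p f).IsPrime := by
  refine Ideal.IsPrime.comap _ (hK := ?_)
  exact IsLocalization.isPrime_of_isPrime_disjoint (Submonoid.powers f) _ _ hp
    ((Ideal.disjoint_powers_iff_notMem _ hp.isRadical).mpr hfp)

theorem psi_locIdeal (hf : f ∈ 𝒜 m) (hm : 0 < m) (p : Ideal A) [hp : p.IsPrime]
    (hph : p.IsHomogeneous 𝒜) (hfp : f ∉ p) :
    psi hf hm ⟨locIdeal 𝒜 p f, isPrime_locIdeal p hfp⟩ = p := by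
  have hrel : ¬ HomogeneousIdeal.irrelevant 𝒜 ≤ (⟨p, hph⟩ : HomogeneousIdeal 𝒜) := by
    intro hle
    exact hfp (hle (DirectSum.decompose_of_mem_ne 𝒜 hf hm.ne'))
  let x : ProjectiveSpectrum 𝒜 := ⟨⟨p, hph⟩, hp, hrel⟩
  have hx : x ∈ ProjectiveSpectrum.basicOpen 𝒜 f := hfp
  have := ProjIsoSpecTopComponent.fromSpec_toSpec 𝒜 hf hm ⟨x, hx⟩
  have h2 := congrArg (fun y => y.1.asHomogeneousIdeal.toIdeal) this
  exact h2

end Part1

section Part2


variable {R : Type u} {A : Type v} [CommRing R] [CommRing A] [Algebra R A]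
  {𝒜 : ℕ → Submodule R A} [GradedRing 𝒜] {f : A} {m : ℕ}

/-- minimal primes over a homogeneous ideal are homogeneous -/
theorem isHomogeneous_of_mem_minimalPrimes {I p : Ideal A} (hI : I.IsHomogeneous 𝒜)
    (hp : p ∈ I.minimalPrimes) : p.IsHomogeneous 𝒜 := by
  have hprime : p.IsPrime := hp.1.1
  have hcore : (p.homogeneousCore 𝒜).toIdeal.IsPrime := Ideal.IsPrime.homogeneousCore hprime
  have hIle : I ≤ (p.homogeneousCore 𝒜).toIdeal := by
    have : (⟨I, hI⟩ : HomogeneousIdeal 𝒜) ≤ p.homogeneousCore 𝒜 :=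
      (Ideal.homogeneousCore.gc 𝒜).le_u hp.1.2
    exact this
  have hle : p ≤ (p.homogeneousCore 𝒜).toIdeal :=
    hp.2 ⟨hcore, hIle⟩ (Ideal.toIdeal_homogeneousCore_le 𝒜 p)
  have : (p.homogeneousCore 𝒜).toIdeal = p :=
    le_antisymm (Ideal.toIdeal_homogeneousCore_le 𝒜 p) hle
  rw [← this]
  exact (p.homogeneousCore 𝒜).isHomogeneous

theorem mk_mem_locIdeal (hf : f ∈ 𝒜 m) (hm : 0 < m) (I : Ideal A) {a : A} {n : ℕ} (hn : a ∈ 𝒜 n) (ha : a ∈ I) :
    (HomogeneousLocalization.mk ⟨m * n, ⟨a ^ m, SetLike.pow_mem_graded m hn⟩,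
        ⟨f ^ n, by rw [mul_comm]; exact SetLike.pow_mem_graded n hf⟩, ⟨_, rfl⟩⟩ :
      HomogeneousLocalization.Away 𝒜 f) ∈ locIdeal 𝒜 I f := by
  rw [locIdeal, Ideal.mem_comap, HomogeneousLocalization.algebraMap_apply,
    HomogeneousLocalization.val_mk, Localization.mk_eq_mk', IsLocalization.mk'_eq_mul_mk'_one]
  apply Ideal.mul_mem_right
  apply Ideal.mem_map_of_mem
  exact Ideal.pow_mem_of_mem I ha m hm


theorem le_psi_of_locIdeal_le (hf : f ∈ 𝒜 m) (hm : 0 < m) {I : Ideal A} (hI : I.IsHomogeneous 𝒜)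
    (q : PrimeSpectrum (HomogeneousLocalization.Away 𝒜 f)) (h : locIdeal 𝒜 I f ≤ q.asIdeal) :
    I ≤ psi hf hm q := by
  classical
  intro a ha
  rw [← DirectSum.sum_support_decompose 𝒜 a]
  apply Ideal.sum_mem
  intro i _
  have hai : (DirectSum.decompose 𝒜 a i : A) ∈ I := hI i ha
  have hdeg : (DirectSum.decompose 𝒜 a i : A) ∈ 𝒜 i := SetLike.coe_mem _
  exact (ProjIsoSpecTopComponent.FromSpec.mem_carrier_iff_of_mem hf hm q _ hdeg).mpr
    (h (mk_mem_locIdeal hf hm I hdeg hai))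

theorem locIdeal_le_of_le_psi (hf : f ∈ 𝒜 m) (hm : 0 < m) {I : Ideal A}
    (q : PrimeSpectrum (HomogeneousLocalization.Away 𝒜 f)) (h : I ≤ psi hf hm q) :
    locIdeal 𝒜 I f ≤ q.asIdeal := by
  rw [← locIdeal_psi hf hm q]
  exact locIdeal_mono 𝒜 h f

/-- height transfer -/
theorem height_locIdeal_le (hf : f ∈ 𝒜 m) (hm : 0 < m) (p : Ideal A) [hp : p.IsPrime]
    (hph : p.IsHomogeneous 𝒜) (hfp : f ∉ p) :
    (locIdeal 𝒜 p f).height ≤ p.height := by
  have e1 := PrimeSpectrum.height_eq_orderHeight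
    (⟨locIdeal 𝒜 p f, isPrime_locIdeal p hfp⟩ : PrimeSpectrum (HomogeneousLocalization.Away 𝒜 f))
  have e2 := PrimeSpectrum.height_eq_orderHeight (⟨p, hp⟩ : PrimeSpectrum A)
  have h1 := Order.height_le_height_apply_of_strictMono _ (psi_strictMono hf hm)
    (⟨locIdeal 𝒜 p f, isPrime_locIdeal p hfp⟩ : PrimeSpectrum (HomogeneousLocalization.Away 𝒜 f))
  have h2 : (⟨psi hf hm ⟨locIdeal 𝒜 p f, isPrime_locIdeal p hfp⟩, psi_isPrime hf hm _⟩ :
      PrimeSpectrum A) = ⟨p, hp⟩ := PrimeSpectrum.ext (psi_locIdeal hf hm p hph hfp)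
  simp only [h2] at h1
  rw [← e1, ← e2] at h1
  exact h1

end Part2

section Part3


variable {R : Type u} {A : Type v} [CommRing R] [CommRing A] [Algebra R A]
  (𝒜 : ℕ → Submodule R A) [GradedRing 𝒜]

/-- the inductive invariant -/
def Inv (J : Ideal A) (zs : List A) : Prop :=
  ∀ (f : A) (n : ℕ), 0 < n → f ∈ 𝒜 n → f ∉ J.radical →
    ∀ q : PrimeSpectrum (HomogeneousLocalization.Away 𝒜 f),
      locIdeal 𝒜 (Ideal.ofList zs) f ≤ q.asIdeal → (zs.length : ℕ∞) ≤ q.asIdeal.height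

theorem inv_nil (J : Ideal A) : Inv 𝒜 J [] := by
  intro f n _ _ _ q _
  simp

theorem ofList_isHomogeneous (zs : List A) (hzs : ∀ z ∈ zs, SetLike.IsHomogeneousElem 𝒜 z) :
    (Ideal.ofList zs).IsHomogeneous 𝒜 :=
  Ideal.homogeneous_span 𝒜 _ (fun x hx => hzs x hx)

variable {𝒜}

theorem inv_concat {J : Ideal A} {h : ℕ} (hJh : HasUniformGeomHeight 𝒜 J h) (zs : List A)
    (hzs : ∀ z ∈ zs, SetLike.IsHomogeneousElem 𝒜 z) (hlen : zs.length < h) (hinv : Inv 𝒜 J zs)
    (z : A) (hzhom : SetLike.IsHomogeneousElem 𝒜 z)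
    (hz : ∀ p ∈ (Ideal.ofList zs).minimalPrimes, ¬ J ≤ p →
      ¬ (HomogeneousIdeal.irrelevant 𝒜).toIdeal ≤ p → z ∉ p) :
    Inv 𝒜 J (zs ++ [z]) := by
  intro f n hn hf hfJ q hq
  have hhom : (Ideal.ofList (zs ++ [z])).IsHomogeneous 𝒜 := by
    apply ofList_isHomogeneous
    intro x hx
    rcases List.mem_append.mp hx with hx | hx
    · exact hzs x hx
    · rw [List.mem_singleton] at hx; rw [hx]; exact hzhom
  have hle := le_psi_of_locIdeal_le hf hn hhom q hq
  haveI hpp : (psi hf hn q).IsPrime := psi_isPrime hf hn q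
  have hfp : f ∉ psi hf hn q := notMem_psi hf hn q
  rw [Ideal.ofList_append, Ideal.ofList_singleton] at hle
  have hle1 : Ideal.ofList zs ≤ psi hf hn q := le_sup_left.trans hle
  have hzp : z ∈ psi hf hn q := hle (Ideal.mem_sup_right (Ideal.mem_span_singleton_self z))
  obtain ⟨p', hp'min, hp'le⟩ := Ideal.exists_minimalPrimes_le hle1
  haveI hp'prime : p'.IsPrime := hp'min.1.1
  have hp'hom : p'.IsHomogeneous 𝒜 :=
    isHomogeneous_of_mem_minimalPrimes (ofList_isHomogeneous 𝒜 zs hzs) hp'min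
  have hfp' : f ∉ p' := fun hc => hfp (hp'le hc)
  have hlen' : ((zs ++ [z]).length : ℕ∞) = (zs.length : ℕ∞) + 1 := by
    simp
  rw [hlen']
  by_cases hJp' : J ≤ p'
  · -- Case 2
    have h1 : locIdeal 𝒜 J f ≤ q.asIdeal :=
      locIdeal_le_of_le_psi hf hn q (hJp'.trans hp'le)
    have h2 := Ideal.height_mono h1
    have h3 : (locIdeal 𝒜 J f).height = h := hJh f n hn hf hfJ
    rw [h3] at h2
    refine le_trans ?_ h2
    exact_mod_cast hlen
  · -- Case 1
    have hirr : ¬ (HomogeneousIdeal.irrelevant 𝒜).toIdeal ≤ p' := by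
      intro hle'
      apply hfp'
      apply hle'
      exact DirectSum.decompose_of_mem_ne 𝒜 hf hn.ne'
    have hzp' : z ∉ p' := hz p' hp'min hJp' hirr
    haveI hQ' : (locIdeal 𝒜 p' f).IsPrime := isPrime_locIdeal p' hfp'
    have hQ'le : locIdeal 𝒜 p' f ≤ q.asIdeal := locIdeal_le_of_le_psi hf hn q hp'le
    have hQ'ne : locIdeal 𝒜 p' f ≠ q.asIdeal := by
      intro heq
      have h1 := psi_locIdeal hf hn p' hp'hom hfp'
      have h2 : (⟨locIdeal 𝒜 p' f, isPrime_locIdeal p' hfp'⟩ :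
          PrimeSpectrum (HomogeneousLocalization.Away 𝒜 f)) = q := PrimeSpectrum.ext heq
      rw [h2] at h1
      exact hzp' (h1 ▸ hzp)
    have hlt : locIdeal 𝒜 p' f < q.asIdeal := lt_of_le_of_ne hQ'le hQ'ne
    have h3 := Ideal.height_add_one_le_of_lt_of_isPrime hlt
    have h4 := hinv f n hn hf hfJ ⟨locIdeal 𝒜 p' f, hQ'⟩ (locIdeal_mono 𝒜 hp'min.1.2 f)
    exact le_trans (add_le_add_left h4 1) h3


theorem exists_list [IsNoetherianRing A] (J : Ideal A) (hJ : J.IsHomogeneous 𝒜) (h : ℕ)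
    (hJh : HasUniformGeomHeight 𝒜 J h) (P : Finset (Ideal A))
    (hP : ∀ q ∈ P, q.IsPrime ∧ ¬ J ≤ q ∧ ¬ (HomogeneousIdeal.irrelevant 𝒜).toIdeal ≤ q) (j : ℕ)
    (hj : j ≤ h) :
    ∃ zs : List A, zs.length = j ∧
      (∀ z ∈ zs, (∃ n : ℕ, 0 < n ∧ z ∈ 𝒜 n) ∧ z ∈ J ∧ ∀ q ∈ P, z ∉ q) ∧
      ∀ i ≤ j, Inv 𝒜 J (zs.take i) := by
  classical
  induction j with
  | zero =>
    refine ⟨[], rfl, by simp, fun i _ => ?_⟩
    simpa using inv_nil 𝒜 J
  | succ j ih =>
    obtain ⟨zs, hlen, hzs, hinv⟩ := ih (by omega)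
    have hfin : (Ideal.ofList zs).minimalPrimes.Finite :=
      Ideal.finite_minimalPrimes_of_isNoetherianRing A _
    let P' : Finset (Ideal A) := P ∪ hfin.toFinset.filter
      (fun p => ¬ J ≤ p ∧ ¬ (HomogeneousIdeal.irrelevant 𝒜).toIdeal ≤ p)
    have hP' : ∀ p ∈ P', p.IsPrime ∧ ¬ (HomogeneousIdeal.irrelevant 𝒜).toIdeal ≤ p ∧ ¬ J ≤ p := by
      intro p hp
      rcases Finset.mem_union.mp hp with hp | hp
      · exact ⟨(hP p hp).1, (hP p hp).2.2, (hP p hp).2.1⟩
      · rw [Finset.mem_filter, Set.Finite.mem_toFinset] at hp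
        exact ⟨hp.1.1.1, hp.2.2, hp.2.1⟩
    obtain ⟨z, n, hn, hzn, hzJ, hzP'⟩ := Groth.Agent.S15708.result 𝒜 J hJ P' hP'
    have hzshom : ∀ x ∈ zs, SetLike.IsHomogeneousElem 𝒜 x := by
      intro x hx
      obtain ⟨⟨k, _, hk⟩, _⟩ := hzs x hx
      exact ⟨k, hk⟩
    have hinvz : Inv 𝒜 J (zs ++ [z]) := by
      apply inv_concat hJh zs hzshom (by omega) ?_ z ⟨n, hzn⟩
      · intro p hp h1 h2
        apply hzP' p
        apply Finset.mem_union_right
        rw [Finset.mem_filter, Set.Finite.mem_toFinset]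
        exact ⟨hp, h1, h2⟩
      · have := hinv j le_rfl
        rwa [← hlen, List.take_length] at this
    refine ⟨zs ++ [z], by simp [hlen], ?_, ?_⟩
    · intro x hx
      rcases List.mem_append.mp hx with hx | hx
      · exact hzs x hx
      · rw [List.mem_singleton] at hx
        subst hx
        exact ⟨⟨n, hn, hzn⟩, hzJ, fun q hq => hzP' q (Finset.mem_union_left _ hq)⟩
    · intro i hi
      rcases Nat.lt_or_ge i (j + 1) with hlt | hge
      · have hij : i ≤ zs.length := by omega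
        rw [List.take_append_of_le_length hij]
        exact hinv i (by omega)
      · have : i = j + 1 := le_antisymm hi hge
        subst this
        have hl : (zs ++ [z]).length ≤ j + 1 := by simp [hlen]
        rw [List.take_of_length_le hl]
        exact hinvz


theorem main [IsNoetherianRing A] (J : Ideal A) (hJ : J.IsHomogeneous 𝒜) (h : ℕ)
    (hJh : HasUniformGeomHeight 𝒜 J h) (P : Finset (Ideal A))
    (hP : ∀ q ∈ P, q.IsPrime ∧ ¬ J ≤ q ∧ ¬ (HomogeneousIdeal.irrelevant 𝒜).toIdeal ≤ q) :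
    ∃ zs : List A, zs.length = h ∧
      (∀ z ∈ zs, (∃ n : ℕ, 0 < n ∧ z ∈ 𝒜 n) ∧ z ∈ J ∧ ∀ q ∈ P, z ∉ q) ∧
      ∀ (f : A) (n : ℕ), 0 < n → f ∈ 𝒜 n → f ∉ J.radical →
        ∀ j : ℕ, 1 ≤ j → j ≤ h → geomHeight 𝒜 (Ideal.ofList (zs.take j)) f = j := by
  classical
  obtain ⟨zs, hlen, hzs, hinv⟩ := exists_list J hJ h hJh P hP h le_rfl
  refine ⟨zs, hlen, hzs, ?_⟩
  intro f n hn hf hfJ j _ hj
  have hlenj : (zs.take j).length = j := by
    rw [List.length_take, hlen]; exact min_eq_left hj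
  have hsubJ : Ideal.ofList (zs.take j) ≤ J := by
    rw [Ideal.span_le]
    intro x hx
    exact (hzs x (List.mem_of_mem_take hx)).2.1
  have hhom : ∀ x ∈ zs.take j, SetLike.IsHomogeneousElem 𝒜 x := by
    intro x hx
    obtain ⟨⟨k, _, hk⟩, _⟩ := hzs x (List.mem_of_mem_take hx)
    exact ⟨k, hk⟩
  apply le_antisymm
  · -- upper bound via Krull in `A`
    have hfrad : f ∉ (Ideal.ofList (zs.take j)).radical := fun hc =>
      hfJ (Ideal.radical_mono hsubJ hc)
    rw [← Ideal.sInf_minimalPrimes, Ideal.mem_sInf] at hfrad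
    push Not at hfrad
    obtain ⟨p, hpmin, hfp⟩ := hfrad
    haveI hpp : p.IsPrime := hpmin.1.1
    have hph : p.IsHomogeneous 𝒜 :=
      isHomogeneous_of_mem_minimalPrimes (ofList_isHomogeneous 𝒜 _ hhom) hpmin
    have hspan : Ideal.ofList (zs.take j) = Ideal.span ((zs.take j).toFinset : Set A) := by
      rw [List.coe_toFinset]
    have hkrull : p.height ≤ ((zs.take j).toFinset.card : ℕ∞) := by
      apply Ideal.height_le_card_of_mem_minimalPrimes_span_finset
      rw [← hspan]; exact hpmin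
    have hcard : ((zs.take j).toFinset.card : ℕ∞) ≤ (j : ℕ∞) := by
      have := List.toFinset_card_le (zs.take j)
      rw [hlenj] at this
      exact_mod_cast this
    calc geomHeight 𝒜 (Ideal.ofList (zs.take j)) f
        ≤ (locIdeal 𝒜 p f).height := Ideal.height_mono (locIdeal_mono 𝒜 hpmin.1.2 f)
      _ ≤ p.height := height_locIdeal_le hf hn p hph hfp
      _ ≤ _ := hkrull
      _ ≤ j := hcard
  · -- lower bound from the invariant
    unfold geomHeight
    rw [Ideal.height_eq_inf_minimalPrimes]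
    refine le_iInf₂ fun q hq => ?_
    have := hinv j hj f n hn hf hfJ ⟨q, hq.1.1⟩ hq.1.2
    rwa [hlenj] at this

end Part3

end Groth.Agent.Lib.Helper47.GeomHeight
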