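import Mathlib
import Groth.Agent.Lib.Helper90.GeomRegBridge

/-!
# Geometric regularity of the coordinate rings of affine opens, in terms of the stalks (helper47)
-/

set_option autoImplicit false
set_option linter.style.haveILetI false
universe u
open AlgebraicGeometry CategoryTheory TopologicalSpace Opposite IsLocalRing

namespace Groth.Agent.Lib.Helper47.GeomRegStalk

section transport

variable {k L L' : Type u} [Field k] [CommRing L] [CommRing L'] [Algebra k L] [Algebra k L']
  [IsLocalRing L] [IsLocalRing L']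

theorem isAdicFormallySmooth_of_algEquiv (e : L ≃ₐ[k] L')
    (h : CAlgX.IsAdicFormallySmooth k L (maximalIdeal L)) :
    CAlgX.IsAdicFormallySmooth k L' (maximalIdeal L') := by
  intro A _ _ J hJ ψ' hψ'
  obtain ⟨n, hn⟩ := hψ'
  have hmax : ∀ x ∈ maximalIdeal L, e x ∈ maximalIdeal L' := by
    intro x hx
    rw [mem_maximalIdeal, mem_nonunits_iff] at hx ⊢
    intro hu
    apply hx
    have := hu.map e.symm
    simpa using this
  have hpow : ∀ x ∈ maximalIdeal L ^ n, e x ∈ maximalIdeal L' ^ n := by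
    intro x hx
    have h1 : (maximalIdeal L).map (e : L →+* L') ≤ maximalIdeal L' := by
      rw [Ideal.map_le_iff_le_comap]
      intro y hy
      exact hmax y hy
    have h2 := Ideal.mem_map_of_mem (e : L →+* L') hx
    rw [Ideal.map_pow] at h2
    exact Ideal.pow_right_mono h1 n h2
  obtain ⟨χ, hχ⟩ := h A J hJ (ψ'.comp e.toAlgHom) ⟨n, fun x hx => hn (e x) (hpow x hx)⟩
  refine ⟨χ.comp e.symm.toAlgHom, ?_⟩
  rw [← AlgHom.comp_assoc, hχ]
  ext x
  simp

end transport

variable {K : Type u} [Field K] {Z : Scheme.{u}} (φ : K →+* Γ(Z, ⊤))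

/-- The stalk at `x` is formally smooth over `K` (for its adic topology). -/
def StalkSmooth (x : Z) : Prop :=
  letI : Algebra K (Z.presheaf.stalk x) := ((Z.presheaf.germ ⊤ x trivial).hom.comp φ).toAlgebra
  CAlgX.IsAdicFormallySmooth K (Z.presheaf.stalk x) (maximalIdeal (Z.presheaf.stalk x))

/-- Localisation at a prime of an affine open versus the stalk. -/
theorem isAdicFormallySmooth_atPrime_iff_stalkSmooth {W : Z.Opens} (hW : IsAffineOpen W)
    (q : PrimeSpectrum Γ(Z, W)) :
    letI : Algebra K Γ(Z, W) := ((Z.presheaf.map (homOfLE le_top).op).hom.comp φ).toAlgebra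
    CAlgX.IsAdicFormallySmooth K (Localization.AtPrime q.asIdeal)
        (maximalIdeal (Localization.AtPrime q.asIdeal)) ↔
      StalkSmooth φ (hW.fromSpec q) := by
  letI : Algebra K Γ(Z, W) := ((Z.presheaf.map (homOfLE le_top).op).hom.comp φ).toAlgebra
  have hx : hW.fromSpec q ∈ W := by
    have : hW.fromSpec q ∈ Set.range hW.fromSpec := ⟨q, rfl⟩
    rw [hW.range_fromSpec] at this
    exact this
  letI : Algebra K (Z.presheaf.stalk (hW.fromSpec q)) :=
    ((Z.presheaf.germ ⊤ (hW.fromSpec q) trivial).hom.comp φ).toAlgebra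
  letI : Algebra Γ(Z, W) (Z.presheaf.stalk (hW.fromSpec q)) :=
    TopCat.Presheaf.algebra_section_stalk Z.presheaf ⟨hW.fromSpec q, hx⟩
  haveI : IsScalarTower K Γ(Z, W) (Z.presheaf.stalk (hW.fromSpec q)) := by
    apply IsScalarTower.of_algebraMap_eq
    intro c
    change (Z.presheaf.germ ⊤ (hW.fromSpec q) trivial).hom (φ c) =
      (Z.presheaf.germ W (hW.fromSpec q) hx).hom
        ((Z.presheaf.map (homOfLE le_top).op).hom (φ c))
    rw [← TopCat.Presheaf.germ_res Z.presheaf (homOfLE (le_top : W ≤ ⊤)) (hW.fromSpec q) hx]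
    rfl
  haveI hloc : IsLocalization.AtPrime (Z.presheaf.stalk (hW.fromSpec q)) q.asIdeal :=
    hW.isLocalization_stalk' q hx
  let e : Localization.AtPrime q.asIdeal ≃ₐ[K] Z.presheaf.stalk (hW.fromSpec q) :=
    (IsLocalization.algEquiv q.asIdeal.primeCompl (Localization.AtPrime q.asIdeal)
      (Z.presheaf.stalk (hW.fromSpec q))).restrictScalars K
  unfold StalkSmooth
  exact ⟨isAdicFormallySmooth_of_algEquiv e, isAdicFormallySmooth_of_algEquiv e.symm⟩

/-- Geometric regularity of the coordinate ring of an affine open, in terms of the stalks. -/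
theorem isGeometricallyRegular_iff_stalkSmooth {W : Z.Opens} (hW : IsAffineOpen W)
    (hN : IsNoetherianRing Γ(Z, W)) :
    letI : Algebra K Γ(Z, W) := ((Z.presheaf.map (homOfLE le_top).op).hom.comp φ).toAlgebra
    CAlg.IsGeometricallyRegular K Γ(Z, W) ↔ ∀ x ∈ W, StalkSmooth φ x := by
  letI : Algebra K Γ(Z, W) := ((Z.presheaf.map (homOfLE le_top).op).hom.comp φ).toAlgebra
  rw [Groth.Agent.Lib.Helper90.GeomRegBridge.isGeometricallyRegular_iff]
  constructor
  · intro H x hx
    have h1 := (isAdicFormallySmooth_atPrime_iff_stalkSmooth φ hW (hW.primeIdealOf ⟨x, hx⟩)).mp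
      (H (hW.primeIdealOf ⟨x, hx⟩).asIdeal)
    rw [hW.fromSpec_primeIdealOf ⟨x, hx⟩] at h1
    exact h1
  · intro H q hq
    have hx : hW.fromSpec ⟨q, hq⟩ ∈ W := by
      have : hW.fromSpec ⟨q, hq⟩ ∈ Set.range hW.fromSpec := ⟨_, rfl⟩
      rw [hW.range_fromSpec] at this
      exact this
    exact (isAdicFormallySmooth_atPrime_iff_stalkSmooth φ hW ⟨q, hq⟩).mpr (H _ hx)

end Groth.Agent.Lib.Helper47.GeomRegStalk
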