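import Groth.Agent.H76.FlatLocusFP
import Groth.Agent.H76.FlatLocusTower
import Groth.Agent.H76.FlatModel
import Groth.Agent.Lib.Helper91.GenericFreeness
import Groth.Agent.Lib.Helper23.NilpotentFree

/-!
# Generic freeness over a base with a unique minimal prime (EGA IV 11.?)
-/

set_option autoImplicit false
universe u

open TensorProduct

namespace Groth.Agent.Lib.Helper47.MinPrimeFree

section Step1

variable {A B : Type u} [CommRing A] [CommRing B] [Algebra A B]
  [Algebra.FinitePresentation A B] (p : Ideal A) [p.IsPrime]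
  (M : Type u) [AddCommGroup M] [Module B M] [Module A M] [IsScalarTower A B M]
  [Module.FinitePresentation B M]

omit [Algebra.FinitePresentation A B] [Module.FinitePresentation B M] in
/-- If `M_p` is flat over `A`, then `M_q` is flat over `A` for every prime `q` of `B` with
`q ∩ A ⊆ p`. -/
theorem flat_localization_of_comap_le
    (hflat : Module.Flat A (LocalizedModule p.primeCompl M))
    (q : Ideal B) [q.IsPrime] (hq : q.comap (algebraMap A B) ≤ p) :
    Module.Flat A (LocalizedModule q.primeCompl M) := by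
  rw [Groth.Agent.H76.FlatLocal.flat_localized_iff]
  intro I hI z hz
  have h := (Groth.Agent.H76.FlatLocal.flat_localized_iff (R := A) (S := A) (M := M)
    p.primeCompl).mp hflat I hI z hz
  obtain ⟨w, hw, hwz⟩ := h
  refine ⟨algebraMap A B w, ?_, ?_⟩
  · intro hmem
    exact hw (hq hmem)
  · rw [algebraMap_smul]
    exact hwz

/-- Step 1: flatness spreads out from the minimal prime. -/
theorem exists_flat_away
    (hflat : Module.Flat A (LocalizedModule p.primeCompl M)) :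
    ∃ t : A, t ∉ p ∧
      Module.Flat A (LocalizedModule (Submonoid.powers (algebraMap A B t)) M) := by
  have hopen := Groth.Agent.H76.FlatLocusFP.isOpen_flatLocus (R := A) (S := B) (M := M)
  obtain ⟨𝔟, h𝔟⟩ := (PrimeSpectrum.isClosed_iff_zeroLocus_ideal _).mp hopen.isClosed_compl
  -- `𝔟` meets the image of `p.primeCompl`
  have hmeet : ∃ t : A, t ∉ p ∧ algebraMap A B t ∈ 𝔟 := by
    by_contra hcon
    push_neg at hcon
    have hdisj : Disjoint (𝔟 : Set B) (Submonoid.map (algebraMap A B) p.primeCompl : Set B) := by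
      rw [Set.disjoint_left]
      rintro x hx ⟨t, ht, rfl⟩
      exact hcon t ht hx
    obtain ⟨q, hqprime, h𝔟q, hqdisj⟩ := Ideal.exists_le_prime_disjoint 𝔟 _ hdisj
    have hqZ : (⟨q, hqprime⟩ : PrimeSpectrum B) ∈ PrimeSpectrum.zeroLocus (𝔟 : Set B) := h𝔟q
    rw [← h𝔟] at hqZ
    apply hqZ
    haveI := hqprime
    refine flat_localization_of_comap_le p M hflat q ?_
    intro x hx
    by_contra hxp
    exact Set.disjoint_left.mp hqdisj hx ⟨x, hxp, rfl⟩
  obtain ⟨t, htp, ht𝔟⟩ := hmeet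
  refine ⟨t, htp, ?_⟩
  rw [Groth.Agent.H76.FlatLocusTower.flat_localized_iff_forall_prime]
  intro r hr hdisj
  by_contra hnf
  have hrZ : (⟨r, hr⟩ : PrimeSpectrum B) ∈
      {q : PrimeSpectrum B | Module.Flat A (LocalizedModule q.asIdeal.primeCompl M)}ᶜ := hnf
  rw [h𝔟] at hrZ
  have : algebraMap A B t ∈ r := hrZ ht𝔟
  exact Set.disjoint_left.mp hdisj this (Submonoid.mem_powers _)

end Step1

open Pointwise

/-- base change along a pushout square -/
theorem isBaseChange_of_isPushout {R₀ A S₀ S M₀ N : Type*} [CommRing R₀] [CommRing A] [CommRing S₀]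
    [CommRing S] [Algebra R₀ A] [Algebra R₀ S₀] [Algebra R₀ S] [Algebra S₀ S] [Algebra A S]
    [IsScalarTower R₀ S₀ S] [IsScalarTower R₀ A S] [Algebra.IsPushout R₀ A S₀ S]
    [AddCommGroup M₀] [Module R₀ M₀] [Module S₀ M₀] [IsScalarTower R₀ S₀ M₀]
    [AddCommGroup N] [Module S N] [Module S₀ N] [IsScalarTower S₀ S N]
    [Module A N] [IsScalarTower A S N] [Module R₀ N] [IsScalarTower R₀ S₀ N] [IsScalarTower R₀ A N]
    (f : M₀ →ₗ[S₀] N) (hf : IsBaseChange S f) : IsBaseChange A (f.restrictScalars R₀) := by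
  let e : A ⊗[R₀] M₀ ≃ₗ[A] N :=
    (Algebra.IsPushout.cancelBaseChange R₀ A S₀ S M₀).symm ≪≫ₗ (hf.equiv.restrictScalars A)
  refine IsBaseChange.of_equiv e (fun x => ?_)
  simp only [e, LinearEquiv.trans_apply, Algebra.IsPushout.cancelBaseChange_symm_tmul, map_one,
    LinearEquiv.restrictScalars_apply, IsBaseChange.equiv_tmul, one_smul]
  rfl

theorem isNilpotent_map_comap {R₀ A : Type*} [CommRing R₀] [IsNoetherianRing R₀] [CommRing A]
    [Algebra R₀ A] (p : Ideal A) (hp : p ≤ nilradical A) :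
    IsNilpotent ((p.comap (algebraMap R₀ A)).map (algebraMap R₀ A)) := by
  set 𝔫 := RingHom.ker (algebraMap R₀ A) with h𝔫
  have h1 : p.comap (algebraMap R₀ A) ≤ 𝔫.radical := by
    intro x hx
    obtain ⟨k, hk⟩ := hp (Ideal.mem_comap.mp hx)
    refine ⟨k, ?_⟩
    rw [h𝔫, RingHom.mem_ker, map_pow, hk]
  obtain ⟨n, hn⟩ := Ideal.exists_radical_pow_le_of_fg 𝔫 (IsNoetherian.noetherian _)
  refine ⟨n, ?_⟩
  rw [Ideal.zero_eq_bot, eq_bot_iff, ← Ideal.map_pow]
  refine (Ideal.map_mono ((Ideal.pow_right_mono h1 n).trans hn)).trans ?_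
  rw [Ideal.map_le_iff_le_comap]
  intro x hx
  rw [Ideal.mem_comap, Ideal.mem_bot]
  exact hx

section
variable {R₀ S₀ M₀ : Type*} [CommRing R₀] [CommRing S₀] [Algebra R₀ S₀]
  [AddCommGroup M₀] [Module S₀ M₀] [Module R₀ M₀] [IsScalarTower R₀ S₀ M₀] (p₀ : Ideal R₀)

theorem restrictScalars_map_smul_top :
    ((p₀.map (algebraMap R₀ S₀)) • (⊤ : Submodule S₀ M₀)).restrictScalars R₀ =
      p₀ • (⊤ : Submodule R₀ M₀) := by
  apply le_antisymm
  · intro x hx
    rw [Submodule.restrictScalars_mem] at hx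
    refine Submodule.smul_induction_on hx ?_ ?_
    · intro j hj m _
      refine Submodule.span_induction (p := fun j _ => ∀ m : M₀, j • m ∈ p₀ • (⊤ : Submodule R₀ M₀))
        ?_ ?_ ?_ ?_ hj m
      · rintro _ ⟨a, ha, rfl⟩ m
        rw [algebraMap_smul]
        exact Submodule.smul_mem_smul ha Submodule.mem_top
      · intro m; rw [zero_smul]; exact zero_mem _
      · intro x y _ _ hx hy m; rw [add_smul]; exact add_mem (hx m) (hy m)
      · intro s x _ hx m
        rw [smul_eq_mul, mul_comm, mul_smul]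
        exact hx (s • m)
    · intro x y hx hy; exact add_mem hx hy
  · rw [Submodule.smul_le]
    intro a ha m _
    rw [Submodule.restrictScalars_mem, ← algebraMap_smul S₀ a m]
    exact Submodule.smul_mem_smul (Ideal.mem_map_of_mem _ ha) Submodule.mem_top

variable (S₀) in
/-- generic freeness modulo a prime -/
theorem exists_free_tensor_quotient [Algebra.FiniteType R₀ S₀] [Module.Finite S₀ M₀]
    [p₀.IsPrime] :
    ∃ t₀ : R₀, t₀ ∉ p₀ ∧ Module.Free (Localization.Away (Ideal.Quotient.mk p₀ t₀))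
      (Localization.Away (Ideal.Quotient.mk p₀ t₀) ⊗[R₀ ⧸ p₀]
        (M₀ ⧸ (p₀ • (⊤ : Submodule R₀ M₀)))) := by
  set J := p₀.map (algebraMap R₀ S₀) with hJ
  letI : Module (R₀ ⧸ p₀) (M₀ ⧸ (J • (⊤ : Submodule S₀ M₀))) :=
    Module.compHom _ (algebraMap (R₀ ⧸ p₀) (S₀ ⧸ J))
  haveI : IsScalarTower (R₀ ⧸ p₀) (S₀ ⧸ J) (M₀ ⧸ (J • (⊤ : Submodule S₀ M₀))) :=
    IsScalarTower.of_compHom _ _ _
  haveI : Algebra.FiniteType R₀ (S₀ ⧸ J) :=
    Algebra.FiniteType.of_surjective (Ideal.Quotient.mkₐ R₀ J) Ideal.Quotient.mk_surjective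
  haveI : Algebra.FiniteType (R₀ ⧸ p₀) (S₀ ⧸ J) :=
    Algebra.FiniteType.of_restrictScalars_finiteType R₀ (R₀ ⧸ p₀) (S₀ ⧸ J)
  haveI : Module.Finite (S₀ ⧸ J) (M₀ ⧸ (J • (⊤ : Submodule S₀ M₀))) := inferInstance
  obtain ⟨g, hg, hfree, -⟩ := Groth.Agent.Lib.Helper91.generic_freeness (R := R₀ ⧸ p₀)
    (S := S₀ ⧸ J) (M := M₀ ⧸ (J • (⊤ : Submodule S₀ M₀)))
  obtain ⟨t₀, rfl⟩ := Ideal.Quotient.mk_surjective g
  refine ⟨t₀, fun h => hg (Ideal.Quotient.eq_zero_iff_mem.mpr h), ?_⟩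
  -- the `R₀`-linear identification of the two quotients
  let e₀ : (M₀ ⧸ (p₀ • (⊤ : Submodule R₀ M₀))) ≃ₗ[R₀] (M₀ ⧸ (J • (⊤ : Submodule S₀ M₀))) :=
    (Submodule.quotEquivOfEq _ _ (restrictScalars_map_smul_top (S₀ := S₀) p₀).symm) ≪≫ₗ
      Submodule.Quotient.restrictScalarsEquiv R₀ (J • (⊤ : Submodule S₀ M₀))
  have he₀ : ∀ x : M₀, e₀ (Submodule.Quotient.mk x) = Submodule.Quotient.mk x := fun x => rfl
  let e : (M₀ ⧸ (p₀ • (⊤ : Submodule R₀ M₀))) ≃ₗ[R₀ ⧸ p₀] (M₀ ⧸ (J • (⊤ : Submodule S₀ M₀))) :=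
    { e₀ with
      map_smul' := fun r x => by
        obtain ⟨a, rfl⟩ := Ideal.Quotient.mk_surjective r
        obtain ⟨m, rfl⟩ := Submodule.Quotient.mk_surjective _ x
        change e₀ _ = (algebraMap (R₀ ⧸ p₀) (S₀ ⧸ J) (Ideal.Quotient.mk p₀ a)) • e₀ _
        rw [he₀, Ideal.Quotient.algebraMap_quotient_map_quotient]
        have : (Ideal.Quotient.mk p₀ a) • (Submodule.Quotient.mk m :
            M₀ ⧸ (p₀ • (⊤ : Submodule R₀ M₀))) = Submodule.Quotient.mk (a • m) := rfl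
        rw [this, he₀]
        have h2 : (Ideal.Quotient.mk J (algebraMap R₀ S₀ a)) • (Submodule.Quotient.mk m :
            M₀ ⧸ (J • (⊤ : Submodule S₀ M₀))) = Submodule.Quotient.mk ((algebraMap R₀ S₀ a) • m) :=
          rfl
        rw [h2, algebraMap_smul] }
  exact Module.Free.of_equiv (TensorProduct.AlgebraTensorModule.congr
    (LinearEquiv.refl (Localization.Away (Ideal.Quotient.mk p₀ t₀))
      (Localization.Away (Ideal.Quotient.mk p₀ t₀))) e.symm)
end

section QuotBC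
variable {R M : Type*} [CommRing R] [AddCommGroup M] [Module R M] (I : Ideal R)

/-- `M → M/IM` is the base change along `R → R/I`. -/
theorem isBaseChange_mkQ_smul_top :
    IsBaseChange (R ⧸ I) ((I • (⊤ : Submodule R M)).mkQ) := by
  let e : (R ⧸ I) ⊗[R] M ≃ₗ[R ⧸ I] (M ⧸ (I • (⊤ : Submodule R M))) :=
    (TensorProduct.quotTensorEquivQuotSMul M I).extendScalarsOfSurjective
      Ideal.Quotient.mk_surjective
  refine IsBaseChange.of_equiv e (fun x => ?_)
  change TensorProduct.quotTensorEquivQuotSMul M I ((1 : R ⧸ I) ⊗ₜ x) = _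
  rw [← map_one (Ideal.Quotient.mk I), TensorProduct.quotTensorEquivQuotSMul_mk_tmul, one_smul]
  rfl

end QuotBC

section D

variable {R₀ : Type*} [CommRing R₀] (p₀ : Ideal R₀) (t₀ : R₀) {M₀ : Type*} [AddCommGroup M₀]
  [Module R₀ M₀]
  (T : Type*) [CommRing T] [Algebra R₀ T] {Q : Type*} [AddCommGroup Q] [Module T Q] [Module R₀ Q]
  [IsScalarTower R₀ T Q]

theorem free_of_isBaseChange_of_free_tensor
    (hfree : Module.Free (Localization.Away (Ideal.Quotient.mk p₀ t₀))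
      (Localization.Away (Ideal.Quotient.mk p₀ t₀) ⊗[R₀ ⧸ p₀]
        (M₀ ⧸ (p₀ • (⊤ : Submodule R₀ M₀)))))
    (hp₀ : ∀ a ∈ p₀, algebraMap R₀ T a = 0) (ht₀ : IsUnit (algebraMap R₀ T t₀))
    (δ : M₀ →ₗ[R₀] Q) (hδ : IsBaseChange T δ) : Module.Free T Q := by
  -- algebra structures
  letI algRT : Algebra (R₀ ⧸ p₀) T := (Ideal.Quotient.lift p₀ (algebraMap R₀ T) hp₀).toAlgebra
  haveI tow1 : IsScalarTower R₀ (R₀ ⧸ p₀) T := IsScalarTower.of_algebraMap_eq fun _ => rfl
  have ht₀' : IsUnit (algebraMap (R₀ ⧸ p₀) T (Ideal.Quotient.mk p₀ t₀)) := ht₀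
  letI algLT : Algebra (Localization.Away (Ideal.Quotient.mk p₀ t₀)) T :=
    (IsLocalization.Away.lift (Ideal.Quotient.mk p₀ t₀) ht₀').toAlgebra
  haveI tow2 : IsScalarTower (R₀ ⧸ p₀) (Localization.Away (Ideal.Quotient.mk p₀ t₀)) T :=
    IsScalarTower.of_algebraMap_eq fun x =>
      (IsLocalization.Away.lift_eq (Ideal.Quotient.mk p₀ t₀) ht₀' x).symm
  -- module structures
  letI modRQ : Module (R₀ ⧸ p₀) Q := Module.compHom Q (algebraMap (R₀ ⧸ p₀) T)
  haveI tow3 : IsScalarTower (R₀ ⧸ p₀) T Q := IsScalarTower.of_compHom _ _ _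
  have hsm : ∀ (a : R₀) (q : Q), (Ideal.Quotient.mk p₀ a) • q = a • q := by
    intro a q
    change (algebraMap (R₀ ⧸ p₀) T (Ideal.Quotient.mk p₀ a)) • q = _
    change (algebraMap R₀ T a) • q = _
    rw [algebraMap_smul]
  haveI tow4 : IsScalarTower R₀ (R₀ ⧸ p₀) Q := by
    refine ⟨fun a r q => ?_⟩
    obtain ⟨b, rfl⟩ := Ideal.Quotient.mk_surjective r
    have h1 : a • (Ideal.Quotient.mk p₀ b) = Ideal.Quotient.mk p₀ (a * b) := by
      rw [Algebra.smul_def, Ideal.Quotient.algebraMap_eq, ← map_mul]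
    rw [h1, hsm, hsm, mul_smul]
  -- the induced map on the quotient
  have hker : p₀ • (⊤ : Submodule R₀ M₀) ≤ LinearMap.ker δ := by
    rw [Submodule.smul_le]
    intro a ha m _
    rw [LinearMap.mem_ker, map_smul, ← algebraMap_smul T a (δ m), hp₀ a ha, zero_smul]
  let δ₀ : (M₀ ⧸ (p₀ • (⊤ : Submodule R₀ M₀))) →ₗ[R₀] Q :=
    (p₀ • (⊤ : Submodule R₀ M₀)).liftQ δ hker
  let δ' : (M₀ ⧸ (p₀ • (⊤ : Submodule R₀ M₀))) →ₗ[R₀ ⧸ p₀] Q :=
    LinearMap.extendScalarsOfSurjective Ideal.Quotient.mk_surjective δ₀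
  have hcomp : (δ' : (M₀ ⧸ (p₀ • (⊤ : Submodule R₀ M₀))) →ₗ[R₀] Q) ∘ₗ
      (p₀ • (⊤ : Submodule R₀ M₀)).mkQ = δ := by
    ext x; rfl
  have hδ' : IsBaseChange T δ' := by
    refine IsBaseChange.of_comp (isBaseChange_mkQ_smul_top (M := M₀) p₀) ?_
    rw [hcomp]; exact hδ
  -- conclude
  let e1 : T ⊗[R₀ ⧸ p₀] (M₀ ⧸ (p₀ • (⊤ : Submodule R₀ M₀))) ≃ₗ[T] Q := hδ'.equiv
  let e2 : T ⊗[Localization.Away (Ideal.Quotient.mk p₀ t₀)]
      (Localization.Away (Ideal.Quotient.mk p₀ t₀) ⊗[R₀ ⧸ p₀]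
        (M₀ ⧸ (p₀ • (⊤ : Submodule R₀ M₀)))) ≃ₗ[T]
      T ⊗[R₀ ⧸ p₀] (M₀ ⧸ (p₀ • (⊤ : Submodule R₀ M₀))) :=
    TensorProduct.AlgebraTensorModule.cancelBaseChange _ _ _ _ _
  exact Module.Free.of_equiv (e2 ≪≫ₗ e1)

end D

theorem free_of_flat_of_free_quotient {R M : Type*} [CommRing R] [AddCommGroup M] [Module R M]
    (J : Ideal R) (hJ : IsNilpotent J) [Module.Flat R M]
    [Module.Free (R ⧸ J) (M ⧸ (J • (⊤ : Submodule R M)))] : Module.Free R M := by
  haveI : Module.Free (R ⧸ J) ((R ⧸ J) ⊗[R] M) :=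
    Module.Free.of_equiv ((TensorProduct.quotTensorEquivQuotSMul M J).extendScalarsOfSurjective
      Ideal.Quotient.mk_surjective).symm
  let b := Module.Free.chooseBasis (R ⧸ J) ((R ⧸ J) ⊗[R] M)
  haveI : Module.Flat R (R ⊗[R] M) := Module.Flat.of_linearEquiv (TensorProduct.lid R M)
  haveI : Module.Free R (R ⊗[R] M) :=
    (Groth.Agent.Lib.Helper23.free_iff_map_relIdeal b hJ R).mpr
      ((Groth.Agent.Lib.Helper23.flat_iff_map_relIdeal b hJ R).mp inferInstance)
  exact Module.Free.of_equiv (TensorProduct.lid R M)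

section Core

/-- **Core**: a finitely presented module over a finitely presented algebra, flat over a base whose
prime `p` consists of nilpotents, becomes free after inverting an element outside `p`
(which may moreover be chosen divisible by a given `u`). -/
theorem exists_free_away_of_flat {A : Type u} [CommRing A] (p : Ideal A) [p.IsPrime]
    (hnil : p ≤ nilradical A)
    (S : Type u) [CommRing S] [Algebra A S] [Algebra.FinitePresentation A S]
    (N : Type u) [AddCommGroup N] [Module S N] [Module A N] [IsScalarTower A S N]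
    [Module.FinitePresentation S N] [Module.Flat A N] (u : A) :
    ∃ t₂ : A, t₂ ∉ p ∧ Module.Free (Localization.Away (u * t₂))
      (LocalizedModule (Submonoid.powers (u * t₂)) N) := by
  obtain ⟨R₀, i1, i2, S₀, i3, i4, i5, i6, i7, i8, M₀, i9, i10, i11, i12, i13, i14, f, hZ, hS₀,
    hfin, -, hpo, hbc⟩ := Groth.Agent.H76.FlatModel.exists_flat_model A S N
  haveI : IsNoetherianRing R₀ := Algebra.FiniteType.isNoetherianRing ℤ R₀
  letI modR₀N : Module R₀ N := Module.compHom N (algebraMap R₀ A)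
  haveI towR₀AN : IsScalarTower R₀ A N := IsScalarTower.of_compHom _ _ _
  haveI towR₀S₀N : IsScalarTower R₀ S₀ N := by
    refine ⟨fun r s n => ?_⟩
    change (r • s) • n = (algebraMap R₀ A r) • (s • n)
    rw [Algebra.smul_def, mul_smul, ← algebraMap_smul S (algebraMap R₀ S₀ r) (s • n),
      ← IsScalarTower.algebraMap_apply R₀ S₀ S, IsScalarTower.algebraMap_apply R₀ A S,
      algebraMap_smul]
  have hf' : IsBaseChange A (f.restrictScalars R₀) := isBaseChange_of_isPushout f hbc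
  set p₀ := p.comap (algebraMap R₀ A) with hp₀
  have hI : IsNilpotent (p₀.map (algebraMap R₀ A)) := isNilpotent_map_comap p hnil
  obtain ⟨t₀, ht₀, hfree⟩ := exists_free_tensor_quotient S₀ (M₀ := M₀) p₀
  refine ⟨algebraMap R₀ A t₀, ht₀, ?_⟩
  set t := u * algebraMap R₀ A t₀ with ht
  set I := p₀.map (algebraMap R₀ A) with hIdef
  set Iₜ := I.map (algebraMap A (Localization.Away t)) with hIₜ
  have hIₜnil : IsNilpotent Iₜ := by
    obtain ⟨k, hk⟩ := hI
    refine ⟨k, ?_⟩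
    rw [hIₜ, ← Ideal.map_pow, hk, Ideal.zero_eq_bot, Ideal.map_bot]
    rfl
  -- the chain of base changes
  have hμ : IsBaseChange (Localization.Away t)
      (LocalizedModule.mkLinearMap (Submonoid.powers t) N) :=
    (isLocalizedModule_iff_isBaseChange (Submonoid.powers t) (Localization.Away t) _).mp
      inferInstance
  have hπ : IsBaseChange (Localization.Away t ⧸ Iₜ)
      ((Iₜ • (⊤ : Submodule (Localization.Away t)
        (LocalizedModule (Submonoid.powers t) N))).mkQ) :=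
    isBaseChange_mkQ_smul_top Iₜ
  have hδ := (hf'.comp hμ).comp hπ
  -- `p₀` dies and `t₀` becomes a unit
  have hp₀T : ∀ a ∈ p₀, algebraMap R₀ (Localization.Away t ⧸ Iₜ) a = 0 := by
    intro a ha
    rw [IsScalarTower.algebraMap_apply R₀ (Localization.Away t) (Localization.Away t ⧸ Iₜ),
      Ideal.Quotient.algebraMap_eq, Ideal.Quotient.eq_zero_iff_mem,
      IsScalarTower.algebraMap_apply R₀ A (Localization.Away t)]
    exact Ideal.mem_map_of_mem _ (Ideal.mem_map_of_mem _ ha)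
  have ht₀T : IsUnit (algebraMap R₀ (Localization.Away t ⧸ Iₜ) t₀) := by
    rw [IsScalarTower.algebraMap_apply R₀ (Localization.Away t) (Localization.Away t ⧸ Iₜ),
      IsScalarTower.algebraMap_apply R₀ A (Localization.Away t)]
    refine IsUnit.map _ ?_
    have h1 : IsUnit (algebraMap A (Localization.Away t) t) :=
      IsLocalization.Away.algebraMap_isUnit t
    rw [ht, map_mul] at h1
    exact isUnit_of_mul_isUnit_right h1
  haveI : Module.Free (Localization.Away t ⧸ Iₜ)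
      (LocalizedModule (Submonoid.powers t) N ⧸ (Iₜ • (⊤ : Submodule (Localization.Away t)
        (LocalizedModule (Submonoid.powers t) N)))) :=
    free_of_isBaseChange_of_free_tensor p₀ t₀ (Localization.Away t ⧸ Iₜ) hfree hp₀T ht₀T _ hδ
  exact free_of_flat_of_free_quotient Iₜ hIₜnil

end Core

section Comp

theorem isLocalizedModule_comp {R : Type*} [CommRing R] (S₁ S₂ : Submonoid R)
    (h : ∀ s ∈ S₁, ∃ m : R, m * s ∈ S₂) {M N P : Type*} [AddCommGroup M] [Module R M]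
    [AddCommGroup N] [Module R N] [AddCommGroup P] [Module R P]
    (f : M →ₗ[R] N) (g : N →ₗ[R] P) [IsLocalizedModule S₁ f] [IsLocalizedModule S₂ g] :
    IsLocalizedModule S₂ (g ∘ₗ f) where
  map_units x := IsLocalizedModule.map_units g x
  surj y := by
    obtain ⟨⟨n, s₂⟩, e₂⟩ := IsLocalizedModule.surj S₂ g y
    obtain ⟨⟨m, s₁⟩, e₁⟩ := IsLocalizedModule.surj S₁ f n
    obtain ⟨c, hc⟩ := h s₁.1 s₁.2
    refine ⟨⟨c • m, ⟨c * s₁.1, hc⟩ * s₂⟩, ?_⟩
    simp only [Submonoid.smul_def, Submonoid.coe_mul] at e₁ e₂ ⊢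
    rw [LinearMap.comp_apply, map_smul, ← e₁, map_smul, map_smul, ← e₂]
    simp only [smul_smul]
    congr 1
    ring
  exists_of_eq {x₁ x₂} e := by
    rw [LinearMap.comp_apply, LinearMap.comp_apply] at e
    obtain ⟨s₂, hs₂⟩ := IsLocalizedModule.exists_of_eq (S := S₂) (f := g) e
    rw [Submonoid.smul_def, Submonoid.smul_def, ← map_smul, ← map_smul] at hs₂
    obtain ⟨s₁, hs₁⟩ := IsLocalizedModule.exists_of_eq (S := S₁) (f := f) hs₂
    obtain ⟨c, hc⟩ := h s₁.1 s₁.2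
    refine ⟨⟨c * s₁.1, hc⟩ * s₂, ?_⟩
    simp only [Submonoid.smul_def, Submonoid.coe_mul] at hs₁ ⊢
    rw [mul_smul, mul_smul, mul_smul, mul_smul, hs₁]

end Comp

end Groth.Agent.Lib.Helper47.MinPrimeFree
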