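import Mathlib
import Groth.Agent.Lib.Helper47.GrStratCore
import Groth.Agent.Lib.Helper47.MinPrimeFree
import Groth.Agent.Lib.Helper59.FlatSeq

/-!
# Base change bookkeeping for the flattening stratification of `gr_J(M)` (helper47)
-/

set_option autoImplicit false

namespace Groth.Agent.Lib.Helper47.GrStrat

open TensorProduct

universe u

section Q1

variable {A₀ : Type*} [CommRing A₀] (𝔟 : Ideal A₀) {P T : Type*} [AddCommGroup P] [Module A₀ P]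
  [AddCommGroup T] [Module A₀ T] [Module (A₀ ⧸ 𝔟) T] [IsScalarTower A₀ (A₀ ⧸ 𝔟) T]

/-- A surjection `P → T` onto an `A₀/𝔟`-module with kernel `𝔟P` is the base change to `A₀/𝔟`. -/
theorem isBaseChange_of_surjective_of_ker (g : P →ₗ[A₀] T) (hs : Function.Surjective g)
    (hk : LinearMap.ker g = 𝔟 • (⊤ : Submodule A₀ P)) : IsBaseChange (A₀ ⧸ 𝔟) g := by
  letI : Module (A₀ ⧸ 𝔟) (P ⧸ (𝔟 • (⊤ : Submodule A₀ P))) := inferInstance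
  let e₀ : (P ⧸ (𝔟 • (⊤ : Submodule A₀ P))) ≃ₗ[A₀] T :=
    (Submodule.quotEquivOfEq _ _ hk.symm) ≪≫ₗ (g.quotKerEquivOfSurjective hs)
  have he₀ : ∀ x : P, e₀ (Submodule.Quotient.mk x) = g x := fun x => rfl
  let e : (P ⧸ (𝔟 • (⊤ : Submodule A₀ P))) ≃ₗ[A₀ ⧸ 𝔟] T :=
    e₀.extendScalarsOfSurjective Ideal.Quotient.mk_surjective
  have h1 := (Groth.Agent.Lib.Helper47.MinPrimeFree.isBaseChange_mkQ_smul_top (M := P) 𝔟).comp
    (IsBaseChange.ofEquiv e)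
  have h2 : (e.toLinearMap.restrictScalars A₀).comp (𝔟 • (⊤ : Submodule A₀ P)).mkQ = g := by
    ext x
    rfl
  rw [h2] at h1
  exact h1

end Q1

section Q2

variable {A₀ B₀ : Type u} [CommRing A₀] [CommRing B₀] [Algebra A₀ B₀] (𝔟 : Ideal A₀)
  (J₀ : Ideal B₀) (M₀ : Type u) [AddCommGroup M₀] [Module B₀ M₀] [Module A₀ M₀]
  [IsScalarTower A₀ B₀ M₀]

/-- `B₀ / 𝔟B₀`. -/
abbrev Bb : Type u := B₀ ⧸ (𝔟.map (algebraMap A₀ B₀))

/-- `M₀ / 𝔟M₀` as a quotient by a `B₀`-submodule. -/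
abbrev Nb : Type u := M₀ ⧸ ((𝔟.map (algebraMap A₀ B₀)) • (⊤ : Submodule B₀ M₀))

/-- The image of `J₀` in `B₀ / 𝔟B₀`. -/
abbrev Jb : Ideal (Bb (B₀ := B₀) 𝔟) := J₀.map (Ideal.Quotient.mk (𝔟.map (algebraMap A₀ B₀)))

noncomputable instance modNb : Module (A₀ ⧸ 𝔟) (Nb (B₀ := B₀) 𝔟 M₀) :=
  Module.compHom _ (algebraMap (A₀ ⧸ 𝔟) (Bb (B₀ := B₀) 𝔟))

instance towNb : IsScalarTower (A₀ ⧸ 𝔟) (Bb (B₀ := B₀) 𝔟) (Nb (B₀ := B₀) 𝔟 M₀) :=
  IsScalarTower.of_compHom _ _ _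

instance towNb' : IsScalarTower A₀ (A₀ ⧸ 𝔟) (Nb (B₀ := B₀) 𝔟 M₀) := by
  refine ⟨fun a r x => ?_⟩
  change (algebraMap (A₀ ⧸ 𝔟) (Bb (B₀ := B₀) 𝔟) (a • r)) • x =
    a • ((algebraMap (A₀ ⧸ 𝔟) (Bb (B₀ := B₀) 𝔟) r) • x)
  rw [Algebra.smul_def, map_mul, mul_smul, ← IsScalarTower.algebraMap_apply, algebraMap_smul]

/-- the truncations of `M₀` itself, over `A₀` -/
abbrev TruncZ (k : ℕ) : Type u := M₀ ⧸ ((J₀ ^ k • (⊤ : Submodule B₀ M₀)).restrictScalars A₀)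

theorem mkQ_mem_iff (k : ℕ) (x : M₀) :
    (Submodule.Quotient.mk x : Nb (B₀ := B₀) 𝔟 M₀) ∈
      (Jb 𝔟 J₀ ^ k • (⊤ : Submodule (Bb (B₀ := B₀) 𝔟) (Nb (B₀ := B₀) 𝔟 M₀))) ↔
    x ∈ J₀ ^ k • (⊤ : Submodule B₀ M₀) ⊔
      (𝔟.map (algebraMap A₀ B₀)) • (⊤ : Submodule B₀ M₀) := by
  have h1 : (Jb 𝔟 J₀ ^ k • (⊤ : Submodule (Bb (B₀ := B₀) 𝔟) (Nb (B₀ := B₀) 𝔟 M₀))).restrictScalars
      B₀ = J₀ ^ k • (⊤ : Submodule B₀ (Nb (B₀ := B₀) 𝔟 M₀)) := by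
    rw [← Groth.Agent.Lib.Helper47.MinPrimeFree.restrictScalars_map_smul_top
      (S₀ := Bb (B₀ := B₀) 𝔟) (J₀ ^ k), Ideal.map_pow]
    rfl
  have h2 : J₀ ^ k • (⊤ : Submodule B₀ (Nb (B₀ := B₀) 𝔟 M₀)) =
      Submodule.map ((𝔟.map (algebraMap A₀ B₀)) • (⊤ : Submodule B₀ M₀)).mkQ
        (J₀ ^ k • (⊤ : Submodule B₀ M₀)) := by
    rw [Submodule.map_smul'', Submodule.map_top, Submodule.range_mkQ]
  rw [← Submodule.restrictScalars_mem B₀, h1, h2, ← Submodule.mkQ_apply, ← Submodule.mem_comap,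
    Submodule.comap_map_eq, Submodule.ker_mkQ]

/-- the comparison map `M₀ / J₀ᵏM₀ → (M₀/𝔟M₀) / J̄ᵏ(M₀/𝔟M₀)`. -/
noncomputable def truncComp (k : ℕ) :
    TruncZ (A₀ := A₀) J₀ M₀ k →ₗ[A₀] Trunc (Jb 𝔟 J₀) (Nb (B₀ := B₀) 𝔟 M₀) k :=
  Submodule.liftQ _
    (((Jb 𝔟 J₀ ^ k • (⊤ : Submodule (Bb (B₀ := B₀) 𝔟) (Nb (B₀ := B₀) 𝔟 M₀))).mkQ.restrictScalars
      A₀) ∘ₗ (((𝔟.map (algebraMap A₀ B₀)) • (⊤ : Submodule B₀ M₀)).mkQ.restrictScalars A₀)) (by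
    intro x hx
    rw [LinearMap.mem_ker, LinearMap.comp_apply]
    change Submodule.Quotient.mk (Submodule.Quotient.mk x) = 0
    rw [Submodule.Quotient.mk_eq_zero, mkQ_mem_iff]
    exact Submodule.mem_sup_left hx)

theorem truncComp_mk (k : ℕ) (x : M₀) :
    truncComp 𝔟 J₀ M₀ k (Submodule.Quotient.mk x) =
      Submodule.Quotient.mk (Submodule.Quotient.mk x) := rfl

theorem truncComp_surjective (k : ℕ) : Function.Surjective (truncComp 𝔟 J₀ M₀ k) := by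
  intro z
  obtain ⟨y, rfl⟩ := Submodule.Quotient.mk_surjective _ z
  obtain ⟨x, rfl⟩ := Submodule.Quotient.mk_surjective _ y
  exact ⟨Submodule.Quotient.mk x, rfl⟩

theorem ker_truncComp (k : ℕ) :
    LinearMap.ker (truncComp 𝔟 J₀ M₀ k) =
      𝔟 • (⊤ : Submodule A₀ (TruncZ (A₀ := A₀) J₀ M₀ k)) := by
  apply le_antisymm
  · intro p hp
    obtain ⟨x, rfl⟩ := Submodule.Quotient.mk_surjective _ p
    rw [LinearMap.mem_ker, truncComp_mk, Submodule.Quotient.mk_eq_zero, mkQ_mem_iff] at hp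
    obtain ⟨y, hy, z, hz, rfl⟩ := Submodule.mem_sup.mp hp
    have hy0 : (Submodule.Quotient.mk y : TruncZ (A₀ := A₀) J₀ M₀ k) = 0 := by
      rw [Submodule.Quotient.mk_eq_zero]
      exact hy
    rw [Submodule.Quotient.mk_add, hy0, zero_add]
    have hz' : z ∈ 𝔟 • (⊤ : Submodule A₀ M₀) := by
      rw [← Groth.Agent.Lib.Helper47.MinPrimeFree.restrictScalars_map_smul_top (S₀ := B₀) 𝔟]
      exact hz
    have h3 : Submodule.map ((J₀ ^ k • (⊤ : Submodule B₀ M₀)).restrictScalars A₀).mkQ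
        (𝔟 • (⊤ : Submodule A₀ M₀)) ≤ 𝔟 • (⊤ : Submodule A₀ (TruncZ (A₀ := A₀) J₀ M₀ k)) := by
      rw [Submodule.map_smul'']
      exact Submodule.smul_mono le_rfl le_top
    exact h3 ⟨z, hz', rfl⟩
  · rw [Submodule.smul_le]
    intro a ha p _
    rw [LinearMap.mem_ker, map_smul, ← algebraMap_smul (A₀ ⧸ 𝔟) a,
      Ideal.Quotient.algebraMap_eq, Ideal.Quotient.eq_zero_iff_mem.mpr ha, zero_smul]

theorem isBaseChange_truncComp (k : ℕ) : IsBaseChange (A₀ ⧸ 𝔟) (truncComp 𝔟 J₀ M₀ k) :=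
  isBaseChange_of_surjective_of_ker 𝔟 _ (truncComp_surjective 𝔟 J₀ M₀ k) (ker_truncComp 𝔟 J₀ M₀ k)

end Q2

section StepB

variable {A₀ B₀ : Type u} [CommRing A₀] [IsNoetherianRing A₀] [CommRing B₀] [Algebra A₀ B₀]
  [Algebra.FiniteType A₀ B₀] (J₀ : Ideal B₀) (M₀ : Type u) [AddCommGroup M₀] [Module B₀ M₀]
  [Module A₀ M₀] [IsScalarTower A₀ B₀ M₀] [Module.Finite B₀ M₀]

/-- Over a nonempty open `D(t)` of the reduced closed subscheme `V(𝔟)`, all truncations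
`M₀ / J₀ᵏM₀` become flat after base change. -/
theorem exists_flat_tensor_truncZ (𝔟 : Ideal A₀) (h𝔟 : 𝔟.IsRadical) (hne : 𝔟 ≠ ⊤) :
    ∃ t : A₀, t ∉ 𝔟 ∧ ∀ k : ℕ, Module.Flat (Localization.Away (Ideal.Quotient.mk 𝔟 t))
      (Localization.Away (Ideal.Quotient.mk 𝔟 t) ⊗[A₀] TruncZ (A₀ := A₀) J₀ M₀ k) := by
  haveI : IsReduced (A₀ ⧸ 𝔟) := (Ideal.isRadical_iff_quotient_reduced 𝔟).mp h𝔟
  haveI : Nontrivial (A₀ ⧸ 𝔟) := Ideal.Quotient.nontrivial_iff.mpr hne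
  haveI : IsNoetherianRing B₀ := Algebra.FiniteType.isNoetherianRing A₀ B₀
  haveI : IsNoetherianRing (Bb (B₀ := B₀) 𝔟) := inferInstance
  haveI : Algebra.FiniteType A₀ (Bb (B₀ := B₀) 𝔟) :=
    Algebra.FiniteType.of_surjective (Ideal.Quotient.mkₐ A₀ (𝔟.map (algebraMap A₀ B₀)))
      Ideal.Quotient.mk_surjective
  haveI : Algebra.FiniteType (A₀ ⧸ 𝔟) (Bb (B₀ := B₀) 𝔟) :=
    Algebra.FiniteType.of_restrictScalars_finiteType A₀ (A₀ ⧸ 𝔟) (Bb (B₀ := B₀) 𝔟)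
  haveI : Module.Finite (Bb (B₀ := B₀) 𝔟) (Nb (B₀ := B₀) 𝔟 M₀) := inferInstance
  obtain ⟨f, -, hf0, hflat⟩ := exists_flat_localized_trunc (R := A₀ ⧸ 𝔟) (B := Bb (B₀ := B₀) 𝔟)
    (Jb 𝔟 J₀) (Nb (B₀ := B₀) 𝔟 M₀) 1 one_ne_zero
  obtain ⟨t, rfl⟩ := Ideal.Quotient.mk_surjective f
  refine ⟨t, fun h => hf0 (Ideal.Quotient.eq_zero_iff_mem.mpr h), fun k => ?_⟩
  have hL : Module.Flat (Localization.Away (Ideal.Quotient.mk 𝔟 t))
      (LocalizedModule (Submonoid.powers (Ideal.Quotient.mk 𝔟 t))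
        (Trunc (Jb 𝔟 J₀) (Nb (B₀ := B₀) 𝔟 M₀) k)) :=
    (Module.flat_iff_of_isLocalization (Localization.Away (Ideal.Quotient.mk 𝔟 t))
      (Submonoid.powers (Ideal.Quotient.mk 𝔟 t)) _).mpr (hflat k)
  let e1 : Localization.Away (Ideal.Quotient.mk 𝔟 t) ⊗[A₀] TruncZ (A₀ := A₀) J₀ M₀ k
      ≃ₗ[Localization.Away (Ideal.Quotient.mk 𝔟 t)]
      Localization.Away (Ideal.Quotient.mk 𝔟 t) ⊗[A₀ ⧸ 𝔟]
        ((A₀ ⧸ 𝔟) ⊗[A₀] TruncZ (A₀ := A₀) J₀ M₀ k) :=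
    (TensorProduct.AlgebraTensorModule.cancelBaseChange A₀ (A₀ ⧸ 𝔟)
      (Localization.Away (Ideal.Quotient.mk 𝔟 t)) (Localization.Away (Ideal.Quotient.mk 𝔟 t))
      (TruncZ (A₀ := A₀) J₀ M₀ k)).symm
  let e2 : Localization.Away (Ideal.Quotient.mk 𝔟 t) ⊗[A₀ ⧸ 𝔟]
        ((A₀ ⧸ 𝔟) ⊗[A₀] TruncZ (A₀ := A₀) J₀ M₀ k)
      ≃ₗ[Localization.Away (Ideal.Quotient.mk 𝔟 t)]
      Localization.Away (Ideal.Quotient.mk 𝔟 t) ⊗[A₀ ⧸ 𝔟]
        Trunc (Jb 𝔟 J₀) (Nb (B₀ := B₀) 𝔟 M₀) k :=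
    TensorProduct.AlgebraTensorModule.congr (LinearEquiv.refl _ _)
      (isBaseChange_truncComp 𝔟 J₀ M₀ k).equiv
  let e3 : Localization.Away (Ideal.Quotient.mk 𝔟 t) ⊗[A₀ ⧸ 𝔟]
        Trunc (Jb 𝔟 J₀) (Nb (B₀ := B₀) 𝔟 M₀) k
      ≃ₗ[Localization.Away (Ideal.Quotient.mk 𝔟 t)]
      LocalizedModule (Submonoid.powers (Ideal.Quotient.mk 𝔟 t))
        (Trunc (Jb 𝔟 J₀) (Nb (B₀ := B₀) 𝔟 M₀) k) :=
    ((isLocalizedModule_iff_isBaseChange (Submonoid.powers (Ideal.Quotient.mk 𝔟 t))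
      (Localization.Away (Ideal.Quotient.mk 𝔟 t))
      (LocalizedModule.mkLinearMap (Submonoid.powers (Ideal.Quotient.mk 𝔟 t))
        (Trunc (Jb 𝔟 J₀) (Nb (B₀ := B₀) 𝔟 M₀) k))).mp inferInstance).equiv
  exact Module.Flat.of_linearEquiv (e1 ≪≫ₗ e2 ≪≫ₗ e3)

end StepB

section StepB'

variable {A₀ A' : Type u} [CommRing A₀] [CommRing A'] [Algebra A₀ A'] {M₀ : Type u}
  [AddCommGroup M₀] [Module A₀ M₀]

/-- `(A' ⊗ M₀) / im(A' ⊗ G) ≃ A' ⊗ (M₀ / G)`. -/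
noncomputable def quotRangeEquiv (G : Submodule A₀ M₀) :
    ((A' ⊗[A₀] M₀) ⧸ LinearMap.range (LinearMap.baseChange A' G.subtype)) ≃ₗ[A']
      A' ⊗[A₀] (M₀ ⧸ G) :=
  have hex : Function.Exact (LinearMap.baseChange A' G.subtype) (LinearMap.baseChange A' G.mkQ) := by
    have h := lTensor_exact A' (LinearMap.exact_subtype_mkQ G) (Submodule.mkQ_surjective G)
    intro x
    have := h x
    rwa [← LinearMap.baseChange_eq_ltensor, ← LinearMap.baseChange_eq_ltensor] at this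
  have hsurj : Function.Surjective (LinearMap.baseChange A' G.mkQ) := by
    have h := LinearMap.lTensor_surjective A' (Submodule.mkQ_surjective G)
    rwa [← LinearMap.baseChange_eq_ltensor] at h
  (Submodule.quotEquivOfEq _ _ (LinearMap.exact_iff.mp hex).symm) ≪≫ₗ
    (LinearMap.baseChange A' G.mkQ).quotKerEquivOfSurjective hsurj

theorem flat_map_mkQ_range (G' G : Submodule A₀ M₀) (hle : G' ≤ G)
    [Module.Flat A' (A' ⊗[A₀] (M₀ ⧸ G'))] [Module.Flat A' (A' ⊗[A₀] (M₀ ⧸ G))] :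
    Module.Flat A' ↥(Submodule.map (LinearMap.range (LinearMap.baseChange A' G'.subtype)).mkQ
      (LinearMap.range (LinearMap.baseChange A' G.subtype))) := by
  set X' := LinearMap.range (LinearMap.baseChange A' G'.subtype) with hX'
  set X'' := LinearMap.range (LinearMap.baseChange A' G.subtype) with hX''
  have hle' : X' ≤ X'' := by
    rintro _ ⟨z, rfl⟩
    refine ⟨LinearMap.baseChange A' (Submodule.inclusion hle) z, ?_⟩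
    rw [← LinearMap.comp_apply, ← LinearMap.baseChange_comp]
    rfl
  haveI : Module.Flat A' ((A' ⊗[A₀] M₀) ⧸ X') := Module.Flat.of_linearEquiv (quotRangeEquiv G')
  haveI : Module.Flat A' ((A' ⊗[A₀] M₀) ⧸ X'') := Module.Flat.of_linearEquiv (quotRangeEquiv G)
  refine Groth.Agent.Lib.Helper59.FlatSeq.flat_of_exact (Submodule.map X'.mkQ X'').subtype
    (Submodule.factor hle') (Submodule.injective_subtype _) ?_ ?_
  · intro z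
    obtain ⟨x, rfl⟩ := Submodule.Quotient.mk_surjective _ z
    exact ⟨Submodule.Quotient.mk x, rfl⟩
  · intro y
    obtain ⟨x, rfl⟩ := Submodule.Quotient.mk_surjective _ y
    rw [Submodule.coe_subtype, Subtype.range_coe_subtype]
    change Submodule.Quotient.mk x = 0 ↔ X'.mkQ x ∈ Submodule.map X'.mkQ X''
    rw [Submodule.Quotient.mk_eq_zero, ← Submodule.mem_comap, Submodule.comap_map_mkQ,
      sup_eq_right.mpr hle']

end StepB'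

end Groth.Agent.Lib.Helper47.GrStrat
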