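import Mathlib
import Groth.Agent.Lib.Helper47.GrStratBC

/-!
# Noetherian induction for the flattening stratification of `gr_J(M)` (helper47)
-/

set_option autoImplicit false

namespace Groth.Agent.Lib.Helper47.GrStrat

open TensorProduct AlgebraicGeometry CategoryTheory

universe u

section Sets

variable {A₀ : Type u} [CommRing A₀]

/-- The locally closed set `V(𝔟) ∩ D(t)`. -/
def ZD (p : Ideal A₀ × A₀) : Set (PrimeSpectrum A₀) :=
  PrimeSpectrum.zeroLocus (p.1 : Set A₀) ∩ (PrimeSpectrum.basicOpen p.2 : Set (PrimeSpectrum A₀))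

theorem mem_ZD (p : Ideal A₀ × A₀) (x : PrimeSpectrum A₀) :
    x ∈ ZD p ↔ p.1 ≤ x.asIdeal ∧ p.2 ∉ x.asIdeal := Iff.rfl

/-- Abstract combinatorial stratification statement. -/
theorem exists_strat (Good : Ideal A₀ × A₀ → Prop) [IsNoetherianRing A₀]
    (hgood : ∀ 𝔟 : Ideal A₀, 𝔟.IsRadical → 𝔟 ≠ ⊤ → ∃ t : A₀, t ∉ 𝔟 ∧ Good (𝔟, t))
    (𝔞 : Ideal A₀) :
    ∃ (m : ℕ) (d : Fin m → Ideal A₀ × A₀), (∀ i, Good (d i)) ∧
      (∀ i j, i ≠ j → Disjoint (ZD (d i)) (ZD (d j))) ∧
      (⋃ i, ZD (d i) = PrimeSpectrum.zeroLocus (𝔞 : Set A₀)) ∧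
      ∀ i, ∃ U : Set (PrimeSpectrum A₀), IsOpen U ∧
        U ∩ (⋃ j, ⋃ (_ : i ≤ j), ZD (d j)) = ZD (d i) := by
  induction 𝔞 using IsNoetherian.induction with
  | hgt 𝔞 ih =>
  by_cases htop : 𝔞 = ⊤
  · refine ⟨0, Fin.elim0, fun i => i.elim0, fun i => i.elim0, ?_, fun i => i.elim0⟩
    ext x
    simp only [Set.mem_iUnion, IsEmpty.exists_iff, htop, PrimeSpectrum.mem_zeroLocus,
      Submodule.top_coe, Set.univ_subset_iff, false_iff]
    intro h
    exact x.isPrime.ne_top (SetLike.coe_injective (by rw [h]; rfl))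
  · have hrad : (Ideal.radical 𝔞) ≠ ⊤ := fun h => htop (Ideal.radical_eq_top.mp h)
    obtain ⟨t, ht, hG⟩ := hgood (Ideal.radical 𝔞) (Ideal.radical_isRadical 𝔞) hrad
    have htn : t ∉ 𝔞 := fun h => ht (Ideal.le_radical h)
    have hlt : 𝔞 < 𝔞 ⊔ Ideal.span {t} := by
      refine lt_of_le_of_ne le_sup_left (fun h => htn ?_)
      rw [h]
      exact Ideal.mem_sup_right (Ideal.mem_span_singleton_self t)
    obtain ⟨m, d, h1, h2, h3, h4⟩ := ih _ hlt
    have hZ0 : ∀ x, x ∈ ZD ((Ideal.radical 𝔞), t) ↔ 𝔞 ≤ x.asIdeal ∧ t ∉ x.asIdeal := by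
      intro x
      rw [mem_ZD]
      refine and_congr_left (fun _ => ?_)
      exact ⟨fun h => Ideal.le_radical.trans h, fun h => (x.isPrime.isRadical.radical_le_iff).mpr h⟩
    have hZs : ∀ x, (∃ i, x ∈ ZD (d i)) ↔ 𝔞 ≤ x.asIdeal ∧ t ∈ x.asIdeal := by
      intro x
      rw [← Set.mem_iUnion, h3]
      change (𝔞 ⊔ Ideal.span {t}) ≤ x.asIdeal ↔ _
      rw [sup_le_iff, Ideal.span_singleton_le_iff_mem]
    let d' : Fin (m + 1) → Ideal A₀ × A₀ := Fin.cons ((Ideal.radical 𝔞), t) d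
    have hd0 : d' 0 = ((Ideal.radical 𝔞), t) := rfl
    have hds : ∀ j : Fin m, d' j.succ = d j := fun j => Fin.cons_succ _ _ _
    have hunion : ⋃ i, ZD (d' i) = PrimeSpectrum.zeroLocus (𝔞 : Set A₀) := by
      ext x
      rw [Set.mem_iUnion, Fin.exists_fin_succ, hd0, hZ0]
      simp only [hds]
      rw [hZs]
      change _ ↔ 𝔞 ≤ x.asIdeal
      constructor
      · rintro (h | h) <;> exact h.1
      · intro h
        by_cases hx : t ∈ x.asIdeal
        · exact Or.inr ⟨h, hx⟩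
        · exact Or.inl ⟨h, hx⟩
    refine ⟨m + 1, d', ?_, ?_, hunion, ?_⟩
    · intro i
      refine Fin.cases ?_ (fun j => ?_) i
      · exact hG
      · rw [hds]; exact h1 j
    · intro i j
      refine Fin.cases ?_ (fun i' => ?_) i <;> refine Fin.cases ?_ (fun j' => ?_) j
      · intro h; exact absurd rfl h
      · intro _
        rw [hd0, hds, Set.disjoint_left]
        intro x hx hx'
        exact ((hZ0 x).mp hx).2 ((hZs x).mp ⟨j', hx'⟩).2
      · intro _
        rw [hd0, hds, Set.disjoint_right]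
        intro x hx hx'
        exact ((hZ0 x).mp hx).2 ((hZs x).mp ⟨i', hx'⟩).2
      · intro h
        rw [hds, hds]
        exact h2 i' j' (fun h' => h (by rw [h']))
    · intro i
      refine Fin.cases ?_ (fun i' => ?_) i
      · refine ⟨(PrimeSpectrum.basicOpen t : Set (PrimeSpectrum A₀)),
          (PrimeSpectrum.basicOpen t).isOpen, ?_⟩
        have : (⋃ j, ⋃ (_ : (0 : Fin (m + 1)) ≤ j), ZD (d' j)) = ⋃ j, ZD (d' j) := by
          ext x
          simp only [Set.mem_iUnion, Fin.zero_le, exists_true_left]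
        rw [this, hunion, hd0]
        ext x
        rw [hZ0]
        exact ⟨fun h => ⟨h.2, h.1⟩, fun h => ⟨h.2, h.1⟩⟩
      · obtain ⟨U, hU, hUi⟩ := h4 i'
        refine ⟨U, hU, ?_⟩
        have : (⋃ j, ⋃ (_ : i'.succ ≤ j), ZD (d' j)) = ⋃ j, ⋃ (_ : i' ≤ j), ZD (d j) := by
          ext x
          simp only [Set.mem_iUnion, exists_prop]
          rw [Fin.exists_fin_succ]
          simp only [hds, Fin.succ_le_succ_iff]
          constructor
          · rintro (⟨h, -⟩ | h)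
            · exact absurd h (by simp)
            · exact h
          · intro h
            exact Or.inr h
        rw [this, hds, hUi]

end Sets

section Scheme

variable {A₀ : Type u} [CommRing A₀] (𝔟 : Ideal A₀) (t : A₀)

theorem isImmersion_specMap :
    IsImmersion (Spec.map (CommRingCat.ofHom
      (algebraMap A₀ (Localization.Away (Ideal.Quotient.mk 𝔟 t))))) := by
  have h : algebraMap A₀ (Localization.Away (Ideal.Quotient.mk 𝔟 t)) =
      (algebraMap (A₀ ⧸ 𝔟) (Localization.Away (Ideal.Quotient.mk 𝔟 t))).comp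
        (Ideal.Quotient.mk 𝔟) :=
    IsScalarTower.algebraMap_eq A₀ (A₀ ⧸ 𝔟) _
  rw [h, CommRingCat.ofHom_comp, Spec.map_comp]
  haveI : IsClosedImmersion (Spec.map (CommRingCat.ofHom (Ideal.Quotient.mk 𝔟))) :=
    IsClosedImmersion.spec_of_surjective _ Ideal.Quotient.mk_surjective
  haveI : IsOpenImmersion (Spec.map (CommRingCat.ofHom
      (algebraMap (A₀ ⧸ 𝔟) (Localization.Away (Ideal.Quotient.mk 𝔟 t))))) :=
    IsOpenImmersion.of_isLocalization (Ideal.Quotient.mk 𝔟 t)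
  infer_instance

theorem range_comap_algebraMap :
    Set.range (PrimeSpectrum.comap (algebraMap A₀ (Localization.Away (Ideal.Quotient.mk 𝔟 t)))) =
      ZD (𝔟, t) := by
  have h : algebraMap A₀ (Localization.Away (Ideal.Quotient.mk 𝔟 t)) =
      (algebraMap (A₀ ⧸ 𝔟) (Localization.Away (Ideal.Quotient.mk 𝔟 t))).comp
        (Ideal.Quotient.mk 𝔟) :=
    IsScalarTower.algebraMap_eq A₀ (A₀ ⧸ 𝔟) _
  rw [h, PrimeSpectrum.comap_comp, Set.range_comp,
    PrimeSpectrum.localization_away_comap_range _ (Ideal.Quotient.mk 𝔟 t)]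
  have h2 : ((PrimeSpectrum.basicOpen (Ideal.Quotient.mk 𝔟 t) : TopologicalSpace.Opens _) :
      Set (PrimeSpectrum (A₀ ⧸ 𝔟))) =
      PrimeSpectrum.comap (Ideal.Quotient.mk 𝔟) ⁻¹' (PrimeSpectrum.basicOpen t : Set _) := by
    ext q
    rfl
  rw [h2, Set.image_preimage_eq_inter_range,
    _root_.range_comap_of_surjective _ _ Ideal.Quotient.mk_surjective, Ideal.mk_ker,
    Set.inter_comm]
  rfl

theorem range_specMap :
    Set.range (Spec.map (CommRingCat.ofHom
      (algebraMap A₀ (Localization.Away (Ideal.Quotient.mk 𝔟 t))))) = ZD (𝔟, t) :=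
  range_comap_algebraMap 𝔟 t

end Scheme

end Groth.Agent.Lib.Helper47.GrStrat
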