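import Groth.Agent.Lib.Helper60.LocalCohOf
import Groth.Prelude.Def_DualLC

/-!
# Local cohomology with supports in a specialization-closed subset `T`: elementwise API (helper47)

Port of helper60's `lcMk` API from the ideal-powers diagram to `Dual2.idealsInDiagram T`.
-/

set_option autoImplicit false
universe u
open CategoryTheory CategoryTheory.Limits Opposite Abelian

namespace Groth.Agent.Lib.Helper47.HTLib

open Groth.Agent.Lib.Helper60 localCohomology

variable {R : Type u} [CommRing R]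

/-- an object of `IdealsIn T`. -/
def idl (T : Set (PrimeSpectrum R)) (𝔞 : Ideal R)
    (h : PrimeSpectrum.zeroLocus (𝔞 : Set R) ⊆ T) : Dual2.IdealsIn T := ⟨𝔞, h⟩

/-- a morphism of `IdealsIn T`. -/
def idlHom (T : Set (PrimeSpectrum R)) {a b : Dual2.IdealsIn T} (h : a.obj ≤ b.obj) : a ⟶ b :=
  ObjectProperty.homMk (homOfLE h)

lemma idl_le {T : Set (PrimeSpectrum R)} {a b : Dual2.IdealsIn T} (f : a ⟶ b) : a.obj ≤ b.obj :=
  leOfHom f.hom

instance (T : Set (PrimeSpectrum R)) (a b : Dual2.IdealsIn T) : Subsingleton (a ⟶ b) :=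
  ⟨fun f g => by
    apply ObjectProperty.hom_ext
    exact Subsingleton.elim _ _⟩

lemma zeroLocus_inf_subset {T : Set (PrimeSpectrum R)} {𝔞 𝔟 : Ideal R}
    (ha : PrimeSpectrum.zeroLocus (𝔞 : Set R) ⊆ T) (hb : PrimeSpectrum.zeroLocus (𝔟 : Set R) ⊆ T) :
    PrimeSpectrum.zeroLocus ((𝔞 ⊓ 𝔟 : Ideal R) : Set R) ⊆ T := by
  rw [PrimeSpectrum.zeroLocus_inf]
  exact Set.union_subset ha hb

instance (T : Set (PrimeSpectrum R)) : IsFiltered (Dual2.IdealsIn T)ᵒᵖ where
  nonempty := ⟨op (idl T ⊤ (by rw [Submodule.top_coe, PrimeSpectrum.zeroLocus_univ]; exact Set.empty_subset _))⟩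
  cocone_objs a b := ⟨op (idl T (a.unop.obj ⊓ b.unop.obj) (zeroLocus_inf_subset a.unop.property b.unop.property)),
    (idlHom T (a := idl T _ _) (b := a.unop) inf_le_left).op,
    (idlHom T (a := idl T _ _) (b := b.unop) inf_le_right).op, trivial⟩
  cocone_maps {a b} f g := ⟨b, 𝟙 b, by
    have : f = g := by
      apply Quiver.Hom.unop_inj
      exact Subsingleton.elim _ _
    rw [this]⟩

variable (T : Set (PrimeSpectrum R))

/-- The evaluated diagram `𝔞 ↦ Ext^i(R/𝔞, M)` (old Ext). -/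
noncomputable abbrev tDiag (i : ℕ) (M : ModuleCat.{u} R) : (Dual2.IdealsIn T)ᵒᵖ ⥤ ModuleCat.{u} R :=
  diagram (Dual2.idealsInDiagram T) i ⋙ (evaluation _ _).obj M

/-- The evaluated colimit cocone, with point `H^i_T(M)`. -/
noncomputable abbrev tCocone (i : ℕ) (M : ModuleCat.{u} R) : Cocone (tDiag T i M) :=
  ((evaluation _ _).obj M).mapCocone (colimit.cocone (diagram (Dual2.idealsInDiagram T) i))

/-- The evaluated colimit cocone is a colimit cocone. -/
noncomputable def tIsColimit (i : ℕ) (M : ModuleCat.{u} R) : IsColimit (tCocone T i M) :=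
  isColimitOfPreserves ((evaluation _ _).obj M)
    (colimit.isColimit (diagram (Dual2.idealsInDiagram T) i))

/-- the functor `H^i_T`. -/
noncomputable abbrev HTf (i : ℕ) : ModuleCat.{u} R ⥤ ModuleCat.{u} R :=
  localCohomology.ofDiagram.{u, u} (Dual2.idealsInDiagram T) i

/-- old `Ext^i(R/𝔞, M)` as a type. -/
abbrev OldExtQ (i : ℕ) (M : ModuleCat.{u} R) (𝔞 : Ideal R) : Type u :=
  (((Ext R (ModuleCat.{u} R) i).obj (op (quotObj 𝔞))).obj M : ModuleCat.{u} R)

/-- The structure map `Ext^i(R/𝔞, M) → H^i_T(M)` (old Ext), as a linear map. -/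
noncomputable def tIota (i : ℕ) (M : ModuleCat.{u} R) (a : Dual2.IdealsIn T) :
    OldExtQ i M a.obj →ₗ[R] ((HTf T i).obj M) :=
  ((tCocone T i M).ι.app (op a)).hom

/-- The transition map `Ext^i(R/𝔟, M) → Ext^i(R/𝔞, M)` (old Ext) for `𝔞 ≤ 𝔟`. -/
noncomputable def tTrans (i : ℕ) (M : ModuleCat.{u} R) {𝔞 𝔟 : Ideal R} (h : 𝔞 ≤ 𝔟) :
    OldExtQ i M 𝔟 →ₗ[R] OldExtQ i M 𝔞 :=
  (((Ext R (ModuleCat.{u} R) i).map (qmap h).op).app M).hom

lemma tIota_surj (i : ℕ) (M : ModuleCat.{u} R) (y : (HTf T i).obj M) :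
    ∃ (a : Dual2.IdealsIn T) (z : OldExtQ i M a.obj), tIota T i M a z = y := by
  obtain ⟨j, z, hz⟩ := Concrete.isColimit_exists_rep (tDiag T i M) (tIsColimit T i M) y
  exact ⟨j.unop, z, hz⟩

lemma tIota_trans (i : ℕ) (M : ModuleCat.{u} R) {a b : Dual2.IdealsIn T} (h : a.obj ≤ b.obj)
    (z : OldExtQ i M b.obj) : tIota T i M a (tTrans i M h z) = tIota T i M b z := by
  have := (tCocone T i M).w (idlHom T h).op
  exact congrArg (fun φ => φ.hom z) this

lemma tIota_eq_iff (i : ℕ) (M : ModuleCat.{u} R) {a b : Dual2.IdealsIn T}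
    (z : OldExtQ i M a.obj) (w : OldExtQ i M b.obj) :
    tIota T i M a z = tIota T i M b w ↔
      ∃ (c : Dual2.IdealsIn T) (ha : c.obj ≤ a.obj) (hb : c.obj ≤ b.obj),
        tTrans i M ha z = tTrans i M hb w := by
  constructor
  · intro h
    have h' := (Concrete.isColimit_rep_eq_iff_exists (tDiag T i M) (tIsColimit T i M)
      (i := op a) (j := op b) z w).mp h
    obtain ⟨k, f, g, hfg⟩ := h'
    refine ⟨k.unop, idl_le f.unop, idl_le g.unop, ?_⟩
    have hf : f = (idlHom T (idl_le f.unop)).op := Subsingleton.elim _ _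
    have hg : g = (idlHom T (idl_le g.unop)).op := Subsingleton.elim _ _
    rw [hf, hg] at hfg
    exact hfg
  · rintro ⟨c, ha, hb, h⟩
    rw [← tIota_trans T i M ha z, ← tIota_trans T i M hb w, h]

lemma tMap_tIota (i : ℕ) {M N : ModuleCat.{u} R} (φ : M ⟶ N) (a : Dual2.IdealsIn T)
    (z : OldExtQ i M a.obj) :
    ((HTf T i).map φ).hom (tIota T i M a z) =
      tIota T i N a ((((Ext R (ModuleCat.{u} R) i).obj (op (quotObj a.obj))).map φ).hom z) := by
  have := (colimit.ι (diagram (Dual2.idealsInDiagram T) i) (op a)).naturality φ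
  exact (congrArg (fun ψ => ψ.hom z) this).symm

/-! ### Description via the new `Abelian.Ext` -/

/-- The class in `H^i_T(M)` of an element of `Ext^i(R/𝔞, M)`, `V(𝔞) ⊆ T`. -/
noncomputable def tMk (i : ℕ) (M : ModuleCat.{u} R) (a : Dual2.IdealsIn T)
    (x : Abelian.Ext (quotObj a.obj) M i) : (HTf T i).obj M :=
  tIota T i M a ((extBridge (quotObj a.obj) i M).symm x)

lemma tMk_surj (i : ℕ) (M : ModuleCat.{u} R) (y : (HTf T i).obj M) :
    ∃ (a : Dual2.IdealsIn T) (x : Abelian.Ext (quotObj a.obj) M i), tMk T i M a x = y := by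
  obtain ⟨a, z, hz⟩ := tIota_surj T i M y
  refine ⟨a, extBridge (quotObj a.obj) i M z, ?_⟩
  unfold tMk
  rw [LinearEquiv.symm_apply_apply]
  exact hz

lemma extBridge_tTrans (i : ℕ) (M : ModuleCat.{u} R) {𝔞 𝔟 : Ideal R} (h : 𝔞 ≤ 𝔟)
    (z : OldExtQ i M 𝔟) :
    extBridge (quotObj 𝔞) i M (tTrans i M h z) = qres h (extBridge (quotObj 𝔟) i M z) :=
  extBridge_mapLeft i (qmap h) M z

lemma tTrans_extBridge_symm (i : ℕ) (M : ModuleCat.{u} R) {𝔞 𝔟 : Ideal R} (h : 𝔞 ≤ 𝔟)
    (x : Abelian.Ext (quotObj 𝔟) M i) :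
    tTrans i M h ((extBridge (quotObj 𝔟) i M).symm x) =
      (extBridge (quotObj 𝔞) i M).symm (qres h x) := by
  apply (extBridge (quotObj 𝔞) i M).injective
  rw [extBridge_tTrans, LinearEquiv.apply_symm_apply, LinearEquiv.apply_symm_apply]

lemma tMk_res (i : ℕ) (M : ModuleCat.{u} R) {a b : Dual2.IdealsIn T} (h : a.obj ≤ b.obj)
    (x : Abelian.Ext (quotObj b.obj) M i) : tMk T i M a (qres h x) = tMk T i M b x := by
  unfold tMk
  rw [← tTrans_extBridge_symm, tIota_trans]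

lemma tMk_eq_iff (i : ℕ) (M : ModuleCat.{u} R) {a b : Dual2.IdealsIn T}
    (x : Abelian.Ext (quotObj a.obj) M i) (y : Abelian.Ext (quotObj b.obj) M i) :
    tMk T i M a x = tMk T i M b y ↔
      ∃ (c : Dual2.IdealsIn T) (ha : c.obj ≤ a.obj) (hb : c.obj ≤ b.obj), qres ha x = qres hb y := by
  unfold tMk
  rw [tIota_eq_iff]
  constructor
  · rintro ⟨c, ha, hb, h⟩
    refine ⟨c, ha, hb, ?_⟩
    rw [tTrans_extBridge_symm, tTrans_extBridge_symm] at h
    exact (extBridge (quotObj c.obj) i M).symm.injective h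
  · rintro ⟨c, ha, hb, h⟩
    refine ⟨c, ha, hb, ?_⟩
    rw [tTrans_extBridge_symm, tTrans_extBridge_symm, h]

lemma tMk_add (i : ℕ) (M : ModuleCat.{u} R) (a : Dual2.IdealsIn T)
    (x y : Abelian.Ext (quotObj a.obj) M i) :
    tMk T i M a (x + y) = tMk T i M a x + tMk T i M a y := by
  unfold tMk
  rw [map_add, map_add]

lemma tMk_smul (i : ℕ) (M : ModuleCat.{u} R) (a : Dual2.IdealsIn T) (r : R)
    (x : Abelian.Ext (quotObj a.obj) M i) :
    tMk T i M a (r • x) = r • tMk T i M a x := by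
  unfold tMk
  rw [map_smul, map_smul]

lemma tMk_zero (i : ℕ) (M : ModuleCat.{u} R) (a : Dual2.IdealsIn T) :
    tMk T i M a (0 : Abelian.Ext (quotObj a.obj) M i) = 0 := by
  unfold tMk
  rw [map_zero, map_zero]

lemma tMk_eq_zero_iff (i : ℕ) (M : ModuleCat.{u} R) {a : Dual2.IdealsIn T}
    (x : Abelian.Ext (quotObj a.obj) M i) :
    tMk T i M a x = 0 ↔ ∃ (c : Dual2.IdealsIn T) (ha : c.obj ≤ a.obj), qres ha x = 0 := by
  rw [← tMk_zero T i M a, tMk_eq_iff]
  constructor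
  · rintro ⟨c, ha, hb, h⟩
    exact ⟨c, ha, h.trans (qres_zero hb)⟩
  · rintro ⟨c, ha, h⟩
    exact ⟨c, ha, ha, h.trans (qres_zero ha).symm⟩

lemma tMap_tMk (i : ℕ) {M N : ModuleCat.{u} R} (φ : M ⟶ N) (a : Dual2.IdealsIn T)
    (x : Abelian.Ext (quotObj a.obj) M i) :
    ((HTf T i).map φ).hom (tMk T i M a x) = tMk T i N a (x.comp (Ext.mk₀ φ) (add_zero i)) := by
  unfold tMk
  rw [tMap_tIota]
  congr 1
  apply (extBridge (quotObj a.obj) i N).injective
  rw [LinearEquiv.apply_symm_apply, extBridge_map, LinearEquiv.apply_symm_apply]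

/-- a common lower bound of two objects of `IdealsIn T`. -/
def idlInf (a b : Dual2.IdealsIn T) : Dual2.IdealsIn T :=
  idl T (a.obj ⊓ b.obj) (zeroLocus_inf_subset a.property b.property)

lemma idlInf_le_left (a b : Dual2.IdealsIn T) : (idlInf T a b).obj ≤ a.obj := inf_le_left
lemma idlInf_le_right (a b : Dual2.IdealsIn T) : (idlInf T a b).obj ≤ b.obj := inf_le_right

end Groth.Agent.Lib.Helper47.HTLib
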