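import Mathlib
import Groth.Prelude.Def_DualLC
import Groth.Agent.Lib.Helper47.HTBasic

/-!
# `H^0_T` on `D(A)`: `HD0 T X = colim_J Hom(A/J[0], X)`, elementwise API (helper47)

`Dual2.HDT A T K i` is definitionally `HD0 T (K⟦i⟧)`.
-/

set_option autoImplicit false
universe u
open CategoryTheory CategoryTheory.Limits Opposite Abelian
attribute [local instance] HasDerivedCategory.standard

namespace Groth.Agent.Lib.Helper47.HDTLib

open Groth.Agent.Lib.Helper60 Groth.Agent.Lib.Helper47.HTLib localCohomology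

variable {A : Type u} [CommRing A] (T : Set (PrimeSpectrum A))

/-- `A/𝔞` in degree `0`. -/
noncomputable abbrev QJ (𝔞 : Ideal A) : Dual.D A :=
  (DerivedCategory.singleFunctor (ModuleCat.{u} A) 0).obj (quotObj 𝔞)

/-- the projection `A/𝔞[0] ⟶ A/𝔟[0]`. -/
noncomputable abbrev qD {𝔞 𝔟 : Ideal A} (h : 𝔞 ≤ 𝔟) : QJ 𝔞 ⟶ QJ 𝔟 :=
  (DerivedCategory.singleFunctor (ModuleCat.{u} A) 0).map (qmap h)

lemma qD_comp {𝔞 𝔟 𝔠 : Ideal A} (h : 𝔞 ≤ 𝔟) (h' : 𝔟 ≤ 𝔠) : qD h ≫ qD h' = qD (h.trans h') := by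
  rw [← Functor.map_comp, qmap_comp]

/-- the indexing functor. -/
noncomputable abbrev Dg : (Dual2.IdealsIn T)ᵒᵖ ⥤ (Dual.D A)ᵒᵖ :=
  (localCohomology.ringModIdeals (Dual2.idealsInDiagram T) ⋙
    DerivedCategory.singleFunctor (ModuleCat.{u} A) 0).op

/-- the diagram `J ↦ Hom(A/J[0], X)`. -/
noncomputable abbrev Fd (X : Dual.D A) : (Dual2.IdealsIn T)ᵒᵖ ⥤ ModuleCat.{u + 1} A :=
  Dg T ⋙ (linearYoneda A (Dual.D A)).obj X

/-- `H^0_T(X) = colim_J Hom(A/J[0], X)`. -/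
noncomputable abbrev HD0 (X : Dual.D A) : ModuleCat.{u + 1} A := colimit (Fd T X)

lemma HDT_eq (K : Dual.D A) (i : ℤ) : Dual2.HDT A T K i = HD0 T (K⟦i⟧) := rfl

instance preservesColimitsOfShape_forget :
    PreservesColimitsOfShape (Dual2.IdealsIn T)ᵒᵖ (forget (ModuleCat.{u + 1} A)) := by
  have : PreservesFilteredColimitsOfSize.{u, u} (forget AddCommGrpCat.{u + 1}) :=
    preservesFilteredColimitsOfSize_shrink.{u, u + 1, u, u + 1} _
  have : PreservesColimitsOfShape (Dual2.IdealsIn T)ᵒᵖ (forget AddCommGrpCat.{u + 1}) :=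
    inferInstance
  exact (inferInstance : PreservesColimitsOfShape (Dual2.IdealsIn T)ᵒᵖ
    (forget₂ (ModuleCat.{u + 1} A) AddCommGrpCat.{u + 1} ⋙ forget AddCommGrpCat.{u + 1}))

/-- the class of a morphism `A/𝔞[0] ⟶ X`. -/
noncomputable def dMk (X : Dual.D A) (a : Dual2.IdealsIn T) (f : QJ a.obj ⟶ X) : HD0 T X :=
  (colimit.ι (Fd T X) (op a)).hom f

lemma dMk_surj (X : Dual.D A) (y : HD0 T X) :
    ∃ (a : Dual2.IdealsIn T) (f : QJ a.obj ⟶ X), dMk T X a f = y := by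
  obtain ⟨j, z, hz⟩ := Concrete.isColimit_exists_rep (Fd T X) (colimit.isColimit (Fd T X)) y
  exact ⟨j.unop, z, hz⟩

lemma dMk_res (X : Dual.D A) {a b : Dual2.IdealsIn T} (h : a.obj ≤ b.obj) (f : QJ b.obj ⟶ X) :
    dMk T X a (qD h ≫ f) = dMk T X b f := by
  have := colimit.w (Fd T X) (idlHom T h).op
  exact congrArg (fun φ => φ.hom f) this

lemma dMk_eq_iff (X : Dual.D A) {a b : Dual2.IdealsIn T} (f : QJ a.obj ⟶ X) (g : QJ b.obj ⟶ X) :
    dMk T X a f = dMk T X b g ↔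
      ∃ (c : Dual2.IdealsIn T) (ha : c.obj ≤ a.obj) (hb : c.obj ≤ b.obj), qD ha ≫ f = qD hb ≫ g := by
  constructor
  · intro h
    have h' := (Concrete.isColimit_rep_eq_iff_exists (Fd T X) (colimit.isColimit (Fd T X))
      (i := op a) (j := op b) f g).mp h
    obtain ⟨k, u, v, huv⟩ := h'
    refine ⟨k.unop, idl_le u.unop, idl_le v.unop, ?_⟩
    have hu : u = (idlHom T (idl_le u.unop)).op := Subsingleton.elim _ _
    have hv : v = (idlHom T (idl_le v.unop)).op := Subsingleton.elim _ _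
    rw [hu, hv] at huv
    exact huv
  · rintro ⟨c, ha, hb, h⟩
    rw [← dMk_res T X ha f, ← dMk_res T X hb g, h]

lemma dMk_add (X : Dual.D A) (a : Dual2.IdealsIn T) (f g : QJ a.obj ⟶ X) :
    dMk T X a (f + g) = dMk T X a f + dMk T X a g :=
  map_add (colimit.ι (Fd T X) (op a)).hom f g

lemma dMk_smul (X : Dual.D A) (a : Dual2.IdealsIn T) (r : A) (f : QJ a.obj ⟶ X) :
    dMk T X a (r • f) = r • dMk T X a f :=
  map_smul (colimit.ι (Fd T X) (op a)).hom r f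

lemma dMk_zero (X : Dual.D A) (a : Dual2.IdealsIn T) : dMk T X a (0 : QJ a.obj ⟶ X) = 0 :=
  map_zero (colimit.ι (Fd T X) (op a)).hom

lemma dMk_eq_zero_iff (X : Dual.D A) {a : Dual2.IdealsIn T} (f : QJ a.obj ⟶ X) :
    dMk T X a f = 0 ↔ ∃ (c : Dual2.IdealsIn T) (ha : c.obj ≤ a.obj), qD ha ≫ f = 0 := by
  rw [← dMk_zero T X a, dMk_eq_iff]
  constructor
  · rintro ⟨c, ha, hb, h⟩
    exact ⟨c, ha, h.trans comp_zero⟩
  · rintro ⟨c, ha, h⟩
    exact ⟨c, ha, ha, h.trans comp_zero.symm⟩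

/-! ### Functoriality -/

/-- the map induced by `φ : X ⟶ Y`. -/
noncomputable def dMap {X Y : Dual.D A} (φ : X ⟶ Y) : HD0 T X ⟶ HD0 T Y :=
  colimMap (Functor.whiskerLeft (Dg T) ((linearYoneda A (Dual.D A)).map φ))

lemma dMap_dMk {X Y : Dual.D A} (φ : X ⟶ Y) (a : Dual2.IdealsIn T) (f : QJ a.obj ⟶ X) :
    (dMap T φ).hom (dMk T X a f) = dMk T Y a (f ≫ φ) := by
  have := ι_colimMap (Functor.whiskerLeft (Dg T) ((linearYoneda A (Dual.D A)).map φ)) (op a)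
  exact congrArg (fun ψ => ψ.hom f) this

lemma dMap_id_apply (X : Dual.D A) (y : HD0 T X) : (dMap T (𝟙 X)).hom y = y := by
  obtain ⟨a, f, rfl⟩ := dMk_surj T X y
  rw [dMap_dMk, Category.comp_id]

lemma dMap_comp_apply {X Y Z : Dual.D A} (φ : X ⟶ Y) (ψ : Y ⟶ Z) (y : HD0 T X) :
    (dMap T (φ ≫ ψ)).hom y = (dMap T ψ).hom ((dMap T φ).hom y) := by
  obtain ⟨a, f, rfl⟩ := dMk_surj T X y
  rw [dMap_dMk, dMap_dMk, dMap_dMk, Category.assoc]

lemma dMap_zero_apply {X Y : Dual.D A} (y : HD0 T X) : (dMap T (0 : X ⟶ Y)).hom y = 0 := by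
  obtain ⟨a, f, rfl⟩ := dMk_surj T X y
  rw [dMap_dMk, comp_zero, dMk_zero]

lemma dMap_smul_apply {X Y : Dual.D A} (r : A) (φ : X ⟶ Y) (y : HD0 T X) :
    (dMap T (r • φ)).hom y = r • (dMap T φ).hom y := by
  obtain ⟨a, f, rfl⟩ := dMk_surj T X y
  rw [dMap_dMk, dMap_dMk, Linear.comp_smul, dMk_smul]

lemma dMap_neg_apply {X Y : Dual.D A} (φ : X ⟶ Y) (y : HD0 T X) :
    (dMap T (-φ)).hom y = -(dMap T φ).hom y := by
  obtain ⟨a, f, rfl⟩ := dMk_surj T X y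
  rw [dMap_dMk, dMap_dMk, Preadditive.comp_neg]
  have := dMk_add T Y a (f ≫ φ) (-(f ≫ φ))
  rw [add_neg_cancel, dMk_zero] at this
  exact (neg_eq_of_add_eq_zero_right this.symm).symm

lemma dMap_smul_id_apply (X : Dual.D A) (r : A) (y : HD0 T X) :
    (dMap T (r • 𝟙 X)).hom y = r • y := by
  rw [dMap_smul_apply, dMap_id_apply]

/-- isomorphic objects have isomorphic `H^0_T`. -/
noncomputable def dCongr {X Y : Dual.D A} (e : X ≅ Y) : HD0 T X ≃ₗ[A] HD0 T Y where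
  toFun := (dMap T e.hom).hom
  map_add' := map_add _
  map_smul' := map_smul _
  invFun := (dMap T e.inv).hom
  left_inv y := by rw [← dMap_comp_apply, e.hom_inv_id, dMap_id_apply]
  right_inv y := by rw [← dMap_comp_apply, e.inv_hom_id, dMap_id_apply]

@[simp] lemma dCongr_apply {X Y : Dual.D A} (e : X ≅ Y) (y : HD0 T X) :
    dCongr T e y = (dMap T e.hom).hom y := rfl

/-! ### Torsion -/

lemma smul_id_QJ_eq_zero {𝔞 : Ideal A} (r : A) (hr : r ∈ 𝔞) : r • 𝟙 (QJ 𝔞) = 0 := by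
  have h2 : r • 𝟙 (quotObj 𝔞) = 0 := by
    apply ModuleCat.hom_ext
    apply LinearMap.ext
    intro y
    obtain ⟨y, rfl⟩ := Submodule.Quotient.mk_surjective _ (y : A ⧸ 𝔞)
    show r • (Submodule.Quotient.mk y : A ⧸ 𝔞) = 0
    rw [← Submodule.Quotient.mk_smul, Submodule.Quotient.mk_eq_zero]
    exact Ideal.mul_mem_right _ _ hr
  have h3 : (DerivedCategory.singleFunctor (ModuleCat.{u} A) 0).map (r • 𝟙 (quotObj 𝔞)) =
      r • 𝟙 (QJ 𝔞) := by
    rw [Functor.map_smul, CategoryTheory.Functor.map_id]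
  rw [← h3, h2, Functor.map_zero]

lemma smul_dMk_eq_zero (X : Dual.D A) (a : Dual2.IdealsIn T) (f : QJ a.obj ⟶ X) (r : A)
    (hr : r ∈ a.obj) : r • dMk T X a f = 0 := by
  rw [← dMk_smul]
  have : r • f = (r • 𝟙 (QJ a.obj)) ≫ f := by rw [Linear.smul_comp, Category.id_comp]
  rw [this, smul_id_QJ_eq_zero r hr, zero_comp, dMk_zero]

/-- every element of `H^0_T(X)` is killed by an ideal `𝔞` with `V(𝔞) ⊆ T`. -/
lemma d_isTorsion (X : Dual.D A) (y : HD0 T X) :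
    ∃ 𝔞 : Ideal A, PrimeSpectrum.zeroLocus (𝔞 : Set A) ⊆ T ∧ ∀ r ∈ 𝔞, r • y = 0 := by
  obtain ⟨a, f, rfl⟩ := dMk_surj T X y
  exact ⟨a.obj, a.property, fun r hr => smul_dMk_eq_zero T X a f r hr⟩

/-! ### Exactness -/

open Pretriangulated in
/-- exactness at the middle term of a distinguished triangle. -/
lemma d_exact (Tr : Triangle (Dual.D A)) (hTr : Tr ∈ distTriang (Dual.D A))
    (y : HD0 T Tr.obj₂) (hy : (dMap T Tr.mor₂).hom y = 0) :
    ∃ x : HD0 T Tr.obj₁, (dMap T Tr.mor₁).hom x = y := by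
  obtain ⟨a, k, rfl⟩ := dMk_surj T _ y
  rw [dMap_dMk, dMk_eq_zero_iff] at hy
  obtain ⟨c, hc, h0⟩ := hy
  rw [← Category.assoc] at h0
  obtain ⟨l, hl⟩ := Triangle.coyoneda_exact₂ Tr hTr (qD hc ≫ k) h0
  refine ⟨dMk T _ c l, ?_⟩
  rw [dMap_dMk, ← hl, dMk_res]

open Pretriangulated in
lemma d_comp_zero (Tr : Triangle (Dual.D A)) (hTr : Tr ∈ distTriang (Dual.D A))
    (x : HD0 T Tr.obj₁) : (dMap T Tr.mor₂).hom ((dMap T Tr.mor₁).hom x) = 0 := by
  rw [← dMap_comp_apply, comp_distTriang_mor_zero₁₂ _ hTr, dMap_zero_apply]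

/-! ### Vanishing -/

open DerivedCategory in
/-- `H^0_T(X) = 0` for `X ∈ D^{≥ 1}`. -/
lemma d_subsingleton_of_isGE (X : Dual.D A) [X.IsGE 1] : Subsingleton (HD0 T X) := by
  refine ⟨fun y z => ?_⟩
  have key : ∀ y : HD0 T X, y = 0 := by
    intro y
    obtain ⟨a, f, rfl⟩ := dMk_surj T X y
    have : f = 0 := TStructure.t.zero_of_isLE_of_isGE f 0 1 (by omega) inferInstance inferInstance
    rw [this, dMk_zero]
  rw [key y, key z]

end Groth.Agent.Lib.Helper47.HDTLib
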