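import Groth.Agent.Lib.Helper47.HDTTrunc

/-!
# Faltings' annihilator theorem for `H^i_T(K)`, `K ∈ D^+(A)` with finite cohomology (helper47)
-/

set_option autoImplicit false
universe u
open CategoryTheory CategoryTheory.Limits Opposite Abelian
attribute [local instance] HasDerivedCategory.standard

namespace Groth.Agent.Lib.Helper47.HDTLib

open Groth.Agent.Lib.Helper60 Groth.Agent.Lib.Helper47.HTLib localCohomology
open DerivedCategory DerivedCategory.TStructure Pretriangulated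

variable {A : Type u} [CommRing A] (T : Set (PrimeSpectrum A))

/-- a regular element for `H^0(X')` when `H^0_T(X') = 0`. -/
theorem exists_regular [IsNoetherianRing A] (X' : Dual.D A) [X'.IsGE 0] (hX' : FinCoh X')
    (hs : Subsingleton (HD0 T X')) (J : Ideal A)
    (hJ : PrimeSpectrum.zeroLocus (J : Set A) ⊆ T) :
    ∃ x ∈ J, Mono ((homologyFunctor (ModuleCat.{u} A) 0).map (x • 𝟙 X')) := by
  obtain ⟨Y, ν, Z, g, h, hTr, hZ⟩ := exists_trunc X'
  haveI : (Triangle.mk ν g h).obj₃.IsGE 1 := hZ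
  have e := truncEquiv _ hTr Y rfl
  haveI : Module.Finite A (Hm (Triangle.mk ν g h).obj₂ 0) := hX' 0
  haveI : Module.Finite A Y := Module.Finite.equiv e.symm
  have hbot : torsT T Y = ⊥ := torsT_eq_bot_of_hd0 T Y ν g h hTr hs
  have hbotJ : DRing.torsionSub J Y = ⊥ :=
    eq_bot_iff.mpr ((torsionSub_le_torsT T hJ _).trans hbot.le)
  obtain ⟨x, hxJ, hreg⟩ := exists_isSMulRegular_of_torsionSub_eq_bot J Y hbotJ
  refine ⟨x, hxJ, ?_⟩
  haveI hf : Mono (x • 𝟙 Y) := (ModuleCat.mono_iff_injective _).mpr (by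
    intro a b hab
    exact hreg hab)
  have h1 := mono_H0_sg0_map (x • 𝟙 Y)
  haveI hiso : IsIso ((homologyFunctor (ModuleCat.{u} A) 0).map ν) := isIso_H0_mor₁ _ hTr
  have hcomm : (singleFunctor (ModuleCat.{u} A) 0).map (x • 𝟙 Y) ≫ ν = ν ≫ (x • 𝟙 X') := by
    rw [Functor.map_smul, CategoryTheory.Functor.map_id, Linear.smul_comp, Linear.comp_smul,
      Category.id_comp, Category.comp_id]
  have hH : (homologyFunctor (ModuleCat.{u} A) 0).map
      ((singleFunctor (ModuleCat.{u} A) 0).map (x • 𝟙 Y)) ≫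
        (homologyFunctor (ModuleCat.{u} A) 0).map ν =
      (homologyFunctor (ModuleCat.{u} A) 0).map ν ≫
        (homologyFunctor (ModuleCat.{u} A) 0).map (x • 𝟙 X') := by
    rw [← Functor.map_comp, ← Functor.map_comp, hcomm]
  have : (homologyFunctor (ModuleCat.{u} A) 0).map (x • 𝟙 X') =
      inv ((homologyFunctor (ModuleCat.{u} A) 0).map ν) ≫
        (homologyFunctor (ModuleCat.{u} A) 0).map
          ((singleFunctor (ModuleCat.{u} A) 0).map (x • 𝟙 Y)) ≫
        (homologyFunctor (ModuleCat.{u} A) 0).map ν := by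
    rw [hH, IsIso.inv_hom_id_assoc]
  rw [this]
  have h2 : Mono ((homologyFunctor (ModuleCat.{u} A) 0).map ν) := IsIso.mono_of_iso _
  have h3 : Mono (inv ((homologyFunctor (ModuleCat.{u} A) 0).map ν)) := IsIso.mono_of_iso _
  exact mono_comp' h3 (mono_comp' h1 h2)

/-- the cone of multiplication by `x`. -/
theorem cone_step [IsNoetherianRing A] (X' : Dual.D A) [X'.IsGE 0] (hX' : FinCoh X') (x : A)
    (hx : Mono ((homologyFunctor (ModuleCat.{u} A) 0).map (x • 𝟙 X'))) :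
    ∃ (C : Dual.D A) (p : X' ⟶ C) (q : C ⟶ X'⟦(1 : ℤ)⟧), C.IsGE 0 ∧ FinCoh C ∧
      (∀ (i : ℤ) (y : HD0 T (C⟦i⟧)), (dMap T (q⟦i⟧')).hom y = 0 →
        ∃ z : HD0 T (X'⟦i⟧), (dMap T (p⟦i⟧')).hom z = y) ∧
      (∀ (i : ℤ) (y : HD0 T ((X'⟦(1 : ℤ)⟧)⟦i⟧)), x • y = 0 →
        ∃ z : HD0 T (C⟦i⟧), (dMap T (q⟦i⟧')).hom z = y) := by
  obtain ⟨C, p, q, hTr⟩ := distinguished_cocone_triangle (x • 𝟙 X')
  haveI : (Triangle.mk (x • 𝟙 X') p q).obj₁.IsGE 0 := (inferInstance : X'.IsGE 0)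
  haveI : (Triangle.mk (x • 𝟙 X') p q).obj₂.IsGE 0 := (inferInstance : X'.IsGE 0)
  have hGE : C.IsGE 0 := isGE_cone (Triangle.mk (x • 𝟙 X') p q) hTr hx
  have hrot : Triangle.mk p q (-(x • 𝟙 X')⟦(1 : ℤ)⟧') ∈ distTriang (Dual.D A) :=
    rot_of_distTriang _ hTr
  have hrot2 : Triangle.mk q (-(x • 𝟙 X')⟦(1 : ℤ)⟧') (-p⟦(1 : ℤ)⟧') ∈ distTriang (Dual.D A) :=
    rot_of_distTriang _ hrot
  refine ⟨C, p, q, hGE, finCoh_cone _ hTr hX' hX', ?_, ?_⟩
  · intro i y hy
    exact d_exact_shift T _ hrot i y hy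
  · intro i y hy
    refine d_exact_shift T _ hrot2 i y ?_
    show (dMap T ((-(x • 𝟙 X')⟦(1 : ℤ)⟧')⟦i⟧')).hom y = 0
    rw [Functor.map_neg, Functor.map_smul, Functor.map_smul, CategoryTheory.Functor.map_id,
      CategoryTheory.Functor.map_id, dMap_neg_apply, dMap_smul_id_apply, hy, neg_zero]

lemma finite_nonpos [IsNoetherianRing A] (X : Dual.D A) [X.IsGE 0] (hX : FinCoh X) (i : ℤ)
    (hi : i ≤ 0) : Module.Finite A (HD0 T (X⟦i⟧)) := by
  haveI : (X⟦i⟧).IsGE 0 := isGE_shift_of_le X i 0 (by omega)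
  exact hd0_finite T (X⟦i⟧) (finCoh_shift X i hX 0)

/-- **Faltings' annihilator theorem for complexes**: core induction. -/
theorem core [IsNoetherianRing A] (d : ℕ) : ∀ (X : Dual.D A) [X.IsGE 0], FinCoh X →
    ∀ J : Ideal A, PrimeSpectrum.zeroLocus (J : Set A) ⊆ T →
    (∀ i : ℤ, i ≤ d → ∀ x ∈ J, ∀ y : HD0 T (X⟦i⟧), x • y = 0) →
    ∀ i : ℤ, i ≤ d → Module.Finite A (HD0 T (X⟦i⟧)) := by
  induction d with
  | zero =>
    intro X _ hX J hJ hk i hi
    exact finite_nonpos T X hX i (by exact_mod_cast hi)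
  | succ d ih =>
    intro X _ hX J hJ hk i hi
    by_cases hi0 : i ≤ 0
    · exact finite_nonpos T X hX i hi0
    obtain ⟨i', rfl⟩ : ∃ i', i = 1 + i' := ⟨i - 1, by ring⟩
    have hi' : i' ≤ d := by push_cast at hi; omega
    obtain ⟨X', φ, hGE, hX', hs, hsurj, hinj⟩ := exists_torsionfree_model T X hX
    haveI := hGE
    obtain ⟨x, hxJ, hx⟩ := exists_regular T X' hX' hs J hJ
    obtain ⟨C, p, q, hCGE, hC, hex1, hex2⟩ := cone_step T X' hX' x hx
    haveI := hCGE
    have hk' : ∀ k : ℤ, k ≤ d + 1 → ∀ r ∈ J, ∀ y : HD0 T (X'⟦k⟧), r • y = 0 := by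
      intro k hk1 r hr y
      by_cases hk0 : 0 ≤ k
      · obtain ⟨z, rfl⟩ := hsurj k hk0 y
        rw [← map_smul, hk k (by push_cast; exact hk1) r hr z, map_zero]
      · haveI : (X'⟦k⟧).IsGE 1 := isGE_shift_of_le X' k 1 (by omega)
        haveI := d_subsingleton_of_isGE T (X'⟦k⟧)
        exact Subsingleton.elim _ _
    have hk'' : ∀ k : ℤ, k ≤ d → ∀ r ∈ J, ∀ y : HD0 T ((X'⟦(1 : ℤ)⟧)⟦k⟧), r • y = 0 := by
      intro k hk1 r hr
      exact kills_congr T ((shiftFunctorAdd' (Dual.D A) 1 k (1 + k) rfl).app X') r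
        (hk' (1 + k) (by omega) r hr)
    have hkC : ∀ k : ℤ, k ≤ d → ∀ r ∈ J * J, ∀ y : HD0 T (C⟦k⟧), r • y = 0 := by
      intro k hk1 r hr y
      refine Submodule.mul_induction_on hr ?_ ?_
      · intro a ha b hb
        rw [mul_smul]
        obtain ⟨z, hz⟩ := hex1 k (b • y) (by rw [map_smul, hk'' k hk1 b hb])
        rw [← hz, ← map_smul, hk' k (by omega) a ha z, map_zero]
      · intro a b ha hb
        rw [add_smul, ha, hb, add_zero]
    have hfinC := ih C hC (J * J) (zeroLocus_mul_subset T hJ hJ) hkC i' hi'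
    have hsurjq : Function.Surjective (dMap T (q⟦i'⟧')).hom := by
      intro y
      exact hex2 i' y (hk'' i' hi' x hxJ y)
    have hfin1 : Module.Finite A (HD0 T ((X'⟦(1 : ℤ)⟧)⟦i'⟧)) :=
      Module.Finite.of_surjective (dMap T (q⟦i'⟧')).hom hsurjq
    have hfin2 : Module.Finite A (HD0 T (X'⟦1 + i'⟧)) :=
      finite_congr T ((shiftFunctorAdd' (Dual.D A) 1 i' (1 + i') rfl).app X').symm hfin1
    haveI : IsNoetherian A (HD0 T (X'⟦1 + i'⟧)) := isNoetherian_of_isNoetherianRing_of_finite A _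
    exact Module.Finite.of_injective (dMap T (φ⟦1 + i'⟧')).hom (hinj (1 + i') (by omega))

/-- a finite `H^0_T(X)` is killed by a single ideal `J` with `V(J) ⊆ T`. -/
lemma exists_ideal_kills_of_finite (X : Dual.D A) (h : Module.Finite A (HD0 T X)) :
    ∃ J : Ideal A, PrimeSpectrum.zeroLocus (J : Set A) ⊆ T ∧
      ∀ r ∈ J, ∀ y : HD0 T X, r • y = 0 := by
  classical
  have key : ∀ s : Finset (HD0 T X), ∃ J : Ideal A, PrimeSpectrum.zeroLocus (J : Set A) ⊆ T ∧
      ∀ r ∈ J, ∀ y ∈ Submodule.span A (s : Set (HD0 T X)), r • y = 0 := by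
    intro s
    induction s using Finset.induction_on with
    | empty =>
      refine ⟨⊤, zeroLocus_top_subset T, fun r _ y hy => ?_⟩
      simp only [Finset.coe_empty, Submodule.span_empty, Submodule.mem_bot] at hy
      rw [hy, smul_zero]
    | insert g s hg ih =>
      obtain ⟨J, hJ, hk⟩ := ih
      obtain ⟨J', hJ', hk'⟩ := d_isTorsion T X g
      refine ⟨J ⊓ J', zeroLocus_inf_subset hJ hJ', fun r hr y hy => ?_⟩
      rw [Finset.coe_insert, Submodule.mem_span_insert] at hy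
      obtain ⟨c, z, hz, rfl⟩ := hy
      rw [smul_add, smul_comm, hk' r hr.2, smul_zero, hk r hr.1 z hz, add_zero]
  obtain ⟨s, hs⟩ := h.fg_top
  obtain ⟨J, hJ, hk⟩ := key s
  exact ⟨J, hJ, fun r hr y => hk r hr y (hs ▸ Submodule.mem_top)⟩

/-- **finiteness ⟺ annihilation** for `H^i_T(K)`, `K` bounded below with finite cohomology. -/
theorem main [IsNoetherianRing A] (K : Dual.D A) (a : ℤ)
    (hKa : ∀ i : ℤ, i < a → Subsingleton (Hm K i)) (hK : FinCoh K) (n : ℤ) :
    (∀ i : ℤ, i ≤ n → Module.Finite A (HD0 T (K⟦i⟧))) ↔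
      ∃ J : Ideal A, PrimeSpectrum.zeroLocus (J : Set A) ⊆ T ∧
        ∀ i : ℤ, i ≤ n → ∀ x : A, x ∈ J → ∀ y : HD0 T (K⟦i⟧), x • y = 0 := by
  haveI hGEa : K.IsGE a := (isGE_iff K a).mpr (fun i hi => by
    haveI := hKa i hi
    exact ModuleCat.isZero_of_subsingleton _)
  have hvan : ∀ i : ℤ, i < a → Subsingleton (HD0 T (K⟦i⟧)) := by
    intro i hi
    haveI : (K⟦i⟧).IsGE (a - i) := t.isGE_shift K a i (a - i)
    haveI : (K⟦i⟧).IsGE 1 := t.isGE_of_ge _ 1 (a - i) (by omega)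
    exact d_subsingleton_of_isGE T (K⟦i⟧)
  constructor
  · intro hfin
    have key : ∀ m : ℕ, ∃ J : Ideal A, PrimeSpectrum.zeroLocus (J : Set A) ⊆ T ∧
        ∀ i : ℤ, i < a + m → i ≤ n → ∀ x : A, x ∈ J → ∀ y : HD0 T (K⟦i⟧), x • y = 0 := by
      intro m
      induction m with
      | zero =>
        refine ⟨⊤, zeroLocus_top_subset T, fun i hi _ x _ y => ?_⟩
        haveI := hvan i (by simpa using hi)
        exact Subsingleton.elim _ _
      | succ m ih =>
        obtain ⟨J, hJ, hk⟩ := ih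
        by_cases hm : a + m ≤ n
        · obtain ⟨J', hJ', hk'⟩ := exists_ideal_kills_of_finite T (K⟦a + (m : ℤ)⟧) (hfin _ hm)
          refine ⟨J ⊓ J', zeroLocus_inf_subset hJ hJ', fun i hi hin x hx y => ?_⟩
          by_cases him : i < a + m
          · exact hk i him hin x hx.1 y
          · obtain rfl : i = a + m := by push_cast at hi; omega
            exact hk' x hx.2 y
        · refine ⟨J, hJ, fun i hi hin x hx y => ?_⟩
          exact hk i (by omega) hin x hx y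
    obtain ⟨J, hJ, hk⟩ := key (n - a + 1).toNat
    refine ⟨J, hJ, fun i hi x hx y => ?_⟩
    by_cases hia : i < a
    · haveI := hvan i hia
      exact Subsingleton.elim _ _
    · exact hk i (by
        have : ((n - a + 1).toNat : ℤ) = n - a + 1 := Int.toNat_of_nonneg (by omega)
        omega) hi x hx y
  · rintro ⟨J, hJ, hk⟩ i hi
    by_cases hia : i < a
    · haveI := hvan i hia
      infer_instance
    · haveI : (K⟦a⟧).IsGE 0 := t.isGE_shift K a a 0
      have hd : (((n - a).toNat : ℕ) : ℤ) = n - a := Int.toNat_of_nonneg (by omega)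
      have hcore := core T (n - a).toNat (K⟦a⟧) (finCoh_shift K a hK) J hJ (by
        intro k hk1 x hx
        exact kills_congr T ((shiftFunctorAdd' (Dual.D A) a k (a + k) rfl).app K) x
          (hk (a + k) (by omega) x hx)) (i - a) (by omega)
      exact finite_congr T ((shiftFunctorAdd' (Dual.D A) a (i - a) i (by ring)).app K).symm hcore

end Groth.Agent.Lib.Helper47.HDTLib
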