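import Groth.Agent.Lib.Helper47.HTLES
import Groth.Agent.Lib.Helper60.LocalCohTorsion

/-!
# `H^i_T`: vanishing on injectives, `H^0_T = Γ_T`, torsion modules (helper47)
-/

set_option autoImplicit false
universe u
open CategoryTheory CategoryTheory.Limits Opposite Abelian

namespace Groth.Agent.Lib.Helper47.HTLib

open Groth.Agent.Lib.Helper60 localCohomology

variable {R : Type u} [CommRing R] (T : Set (PrimeSpectrum R))

lemma zeroLocus_top_subset : PrimeSpectrum.zeroLocus ((⊤ : Ideal R) : Set R) ⊆ T := by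
  rw [Submodule.top_coe, PrimeSpectrum.zeroLocus_univ]; exact Set.empty_subset _

lemma zeroLocus_mul_subset {𝔞 𝔟 : Ideal R}
    (ha : PrimeSpectrum.zeroLocus (𝔞 : Set R) ⊆ T) (hb : PrimeSpectrum.zeroLocus (𝔟 : Set R) ⊆ T) :
    PrimeSpectrum.zeroLocus ((𝔞 * 𝔟 : Ideal R) : Set R) ⊆ T := by
  rw [PrimeSpectrum.zeroLocus_mul]
  exact Set.union_subset ha hb

lemma zeroLocus_pow_subset {𝔞 : Ideal R} (ha : PrimeSpectrum.zeroLocus (𝔞 : Set R) ⊆ T) (n : ℕ) :
    PrimeSpectrum.zeroLocus ((𝔞 ^ n : Ideal R) : Set R) ⊆ T := by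
  induction n with
  | zero => rw [pow_zero, Ideal.one_eq_top]; exact zeroLocus_top_subset T
  | succ n ih => rw [pow_succ]; exact zeroLocus_mul_subset T ih ha

/-- `H^i_T(E) = 0` for `E` injective and `i > 0`. -/
lemma t_subsingleton_of_injective (E : ModuleCat.{u} R) [Injective E] (i : ℕ)
    (hi : 0 < i) : Subsingleton ((HTf T i).obj E) := by
  obtain ⟨i, rfl⟩ := Nat.exists_eq_succ_of_ne_zero hi.ne'
  refine ⟨fun a b => ?_⟩
  obtain ⟨n, x, rfl⟩ := tMk_surj T _ E a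
  obtain ⟨m, y, rfl⟩ := tMk_surj T _ E b
  rw [Ext.eq_zero_of_injective x, Ext.eq_zero_of_injective y, tMk_zero, tMk_zero]

/-- Every element of `Ext^i(R/𝔞, M)` is killed by `𝔞`. -/
lemma smul_ext_quotObj_eq_zero {𝔞 : Ideal R} {i : ℕ} {M : ModuleCat.{u} R}
    (x : Abelian.Ext (quotObj 𝔞) M i) (a : R) (ha : a ∈ 𝔞) : a • x = 0 := by
  have h1 : a • x = (Ext.mk₀ (a • 𝟙 (quotObj 𝔞))).comp x (zero_add i) := by
    rw [Ext.mk₀_smul, Ext.smul_comp, Ext.mk₀_id_comp]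
  have h2 : a • 𝟙 (quotObj 𝔞) = 0 := by
    apply ModuleCat.hom_ext
    apply LinearMap.ext
    intro y
    obtain ⟨y, rfl⟩ := Submodule.Quotient.mk_surjective _ (y : R ⧸ 𝔞)
    show a • (Submodule.Quotient.mk y : R ⧸ 𝔞) = 0
    rw [← Submodule.Quotient.mk_smul, Submodule.Quotient.mk_eq_zero]
    exact Ideal.mul_mem_right _ _ ha
  rw [h1, h2, Ext.mk₀_zero, Ext.zero_comp]

/-- Every element of `H^i_T(M)` is killed by an ideal `𝔞` with `V(𝔞) ⊆ T`. -/
lemma t_isTorsion (i : ℕ) (M : ModuleCat.{u} R) (y : (HTf T i).obj M) :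
    ∃ 𝔞 : Ideal R, PrimeSpectrum.zeroLocus (𝔞 : Set R) ⊆ T ∧ ∀ a ∈ 𝔞, a • y = 0 := by
  obtain ⟨c, x, rfl⟩ := tMk_surj T i M y
  refine ⟨c.obj, c.property, fun a ha => ?_⟩
  rw [← tMk_smul, smul_ext_quotObj_eq_zero x a ha, tMk_zero]

/-- The `T`-torsion submodule. -/
def torsT (M : Type u) [AddCommGroup M] [Module R M] : Submodule R M where
  carrier := {m | ∃ 𝔞 : Ideal R, PrimeSpectrum.zeroLocus (𝔞 : Set R) ⊆ T ∧ ∀ a ∈ 𝔞, a • m = 0}
  zero_mem' := ⟨⊤, zeroLocus_top_subset T, fun a _ => smul_zero a⟩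
  add_mem' := by
    rintro m m' ⟨𝔞, h𝔞, hn⟩ ⟨𝔟, h𝔟, hn'⟩
    refine ⟨𝔞 ⊓ 𝔟, zeroLocus_inf_subset h𝔞 h𝔟, fun a ha => ?_⟩
    rw [smul_add, hn a ha.1, hn' a ha.2, add_zero]
  smul_mem' := by
    rintro c m ⟨𝔞, h𝔞, hn⟩
    exact ⟨𝔞, h𝔞, fun a ha => by rw [smul_comm, hn a ha, smul_zero]⟩

lemma mem_torsT {M : Type u} [AddCommGroup M] [Module R M] (m : M) :
    m ∈ torsT T M ↔
      ∃ 𝔞 : Ideal R, PrimeSpectrum.zeroLocus (𝔞 : Set R) ⊆ T ∧ ∀ a ∈ 𝔞, a • m = 0 := Iff.rfl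

/-- a finitely generated submodule of `T`-torsion elements is killed by a single ideal. -/
lemma exists_ideal_smul_eq_zero_of_fg {M : Type u} [AddCommGroup M] [Module R M]
    (N : Submodule R M) (hN : N.FG) (h : N ≤ torsT T M) :
    ∃ 𝔞 : Ideal R, PrimeSpectrum.zeroLocus (𝔞 : Set R) ⊆ T ∧ ∀ a ∈ 𝔞, ∀ x ∈ N, a • x = 0 := by
  classical
  obtain ⟨s, rfl⟩ := hN
  induction s using Finset.induction_on with
  | empty =>
    refine ⟨⊤, zeroLocus_top_subset T, fun a _ x hx => ?_⟩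
    simp only [Finset.coe_empty, Submodule.span_empty, Submodule.mem_bot] at hx
    rw [hx, smul_zero]
  | insert m s _ ih =>
    have hs : Submodule.span R (s : Set M) ≤ torsT T M :=
      (Submodule.span_mono (by simp)).trans h
    obtain ⟨𝔞, h𝔞, h1⟩ := ih hs
    obtain ⟨𝔟, h𝔟, h2⟩ := h (Submodule.subset_span (Finset.mem_insert_self m s))
    refine ⟨𝔞 ⊓ 𝔟, zeroLocus_inf_subset h𝔞 h𝔟, fun a ha x hx => ?_⟩
    rw [Finset.coe_insert, Submodule.mem_span_insert] at hx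
    obtain ⟨r, z, hz, rfl⟩ := hx
    rw [smul_add, smul_comm, h2 a ha.2, smul_zero, h1 a ha.1 z hz, add_zero]

section H0

variable (M : ModuleCat.{u} R)

/-- the class of `1` in `R/𝔞`. -/
abbrev quotOne (𝔞 : Ideal R) : (quotObj 𝔞 : Type u) := (Submodule.Quotient.mk (1 : R) : R ⧸ 𝔞)

/-- evaluation at `1`: `Ext^0(R/𝔞, M) → M`. -/
noncomputable def ext0EvalQ (𝔞 : Ideal R) : Abelian.Ext (quotObj 𝔞) M 0 →ₗ[R] M where
  toFun x := (Ext.linearEquiv₀ (R := R) x).hom (quotOne 𝔞)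
  map_add' x y := by
    rw [map_add, ModuleCat.hom_add, LinearMap.add_apply]
  map_smul' r x := by
    rw [map_smul, ModuleCat.hom_smul, LinearMap.smul_apply]
    rfl

lemma ext0EvalQ_mk₀ (𝔞 : Ideal R) (ψ : quotObj 𝔞 ⟶ M) :
    ext0EvalQ M 𝔞 (Ext.mk₀ ψ) = ψ.hom (quotOne 𝔞) := by
  show (Ext.linearEquiv₀ (R := R) (Ext.mk₀ ψ)).hom _ = _
  rw [← Ext.linearEquiv₀_symm_apply (R := R), LinearEquiv.apply_symm_apply]

lemma ext0Q_surj_mk₀ {𝔞 : Ideal R} (x : Abelian.Ext (quotObj 𝔞) M 0) :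
    ∃ ψ : quotObj 𝔞 ⟶ M, Ext.mk₀ ψ = x :=
  ⟨Ext.linearEquiv₀ (R := R) x, Ext.mk₀_linearEquiv₀_apply x⟩

lemma ext0EvalQ_qres {𝔞 𝔟 : Ideal R} (h : 𝔞 ≤ 𝔟) (x : Abelian.Ext (quotObj 𝔟) M 0) :
    ext0EvalQ M 𝔞 (qres h x) = ext0EvalQ M 𝔟 x := by
  obtain ⟨ψ, rfl⟩ := ext0Q_surj_mk₀ M x
  unfold qres
  rw [Ext.mk₀_comp_mk₀, ext0EvalQ_mk₀, ext0EvalQ_mk₀]
  rfl

/-- The canonical map `H^0_T(M) → M`. -/
noncomputable def tH0Map : (HTf T 0).obj M →ₗ[R] M :=
  tDescₗ T 0 M (fun a => ext0EvalQ M a.obj) (fun _ _ h x => ext0EvalQ_qres M h x)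

@[simp]
lemma tH0Map_tMk (a : Dual2.IdealsIn T) (x : Abelian.Ext (quotObj a.obj) M 0) :
    tH0Map T M (tMk T 0 M a x) = ext0EvalQ M a.obj x :=
  tDescₗ_tMk T 0 M _ _ a x

lemma tH0Map_injective : Function.Injective (tH0Map T M) := by
  rw [← LinearMap.ker_eq_bot, eq_bot_iff]
  intro y hy
  rw [LinearMap.mem_ker] at hy
  obtain ⟨a, x, rfl⟩ := tMk_surj T 0 M y
  obtain ⟨ψ, rfl⟩ := ext0Q_surj_mk₀ M x
  rw [tH0Map_tMk, ext0EvalQ_mk₀] at hy
  have : ψ = 0 := quotObj_hom_ext (by rw [hy]; rfl)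
  rw [Submodule.mem_bot, this, Ext.mk₀_zero, tMk_zero]

lemma tH0Map_mem_torsT (y : (HTf T 0).obj M) : tH0Map T M y ∈ torsT T M := by
  obtain ⟨a, x, rfl⟩ := tMk_surj T 0 M y
  refine ⟨a.obj, a.property, fun r hr => ?_⟩
  rw [← map_smul, ← tMk_smul, smul_ext_quotObj_eq_zero x r hr, tMk_zero, map_zero]

lemma exists_tH0Map_eq (m : M) (𝔞 : Ideal R) (h𝔞 : PrimeSpectrum.zeroLocus (𝔞 : Set R) ⊆ T)
    (hm : ∀ a ∈ 𝔞, a • m = 0) : ∃ y : (HTf T 0).obj M, tH0Map T M y = m := by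
  let ψ : (R ⧸ 𝔞) →ₗ[R] M :=
    Submodule.liftQ 𝔞 (LinearMap.toSpanSingleton R M m) (by
      intro a ha
      rw [LinearMap.mem_ker, LinearMap.toSpanSingleton_apply]
      exact hm a ha)
  refine ⟨tMk T 0 M (idl T 𝔞 h𝔞) (Ext.mk₀ (ModuleCat.ofHom ψ)), ?_⟩
  rw [tH0Map_tMk, ext0EvalQ_mk₀]
  show ψ (Submodule.Quotient.mk 1) = m
  rw [Submodule.liftQ_apply, LinearMap.toSpanSingleton_apply, one_smul]

variable {M} in
/-- naturality of `H^0_T(M) → M`. -/
lemma tH0Map_naturality {N : ModuleCat.{u} R} (φ : M ⟶ N) (y : (HTf T 0).obj M) :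
    tH0Map T N (((HTf T 0).map φ).hom y) = φ.hom (tH0Map T M y) := by
  obtain ⟨a, x, rfl⟩ := tMk_surj T 0 M y
  obtain ⟨ψ, rfl⟩ := ext0Q_surj_mk₀ M x
  rw [tMap_tMk, tH0Map_tMk, tH0Map_tMk, Ext.mk₀_comp_mk₀, ext0EvalQ_mk₀, ext0EvalQ_mk₀]
  rfl

/-- `H^0_T(M) ≃ Γ_T(M)`. -/
noncomputable def tH0Equiv : (HTf T 0).obj M ≃ₗ[R] torsT T M :=
  LinearEquiv.ofBijective ((tH0Map T M).codRestrict _ (tH0Map_mem_torsT T M))
    ⟨fun a b h => tH0Map_injective T M (congrArg Subtype.val h), by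
      rintro ⟨m, 𝔞, h𝔞, hm⟩
      obtain ⟨y, hy⟩ := exists_tH0Map_eq T M m 𝔞 h𝔞 hm
      exact ⟨y, Subtype.ext hy⟩⟩

end H0

/-- **Γ_T of an injective module is injective** (Noetherian ring). -/
theorem injective_torsT [IsNoetherianRing R] (E : Type u) [AddCommGroup E]
    [Module R E] [Module.Injective R E] : Module.Injective R (torsT T E) := by
  apply Module.Baer.injective
  intro 𝔞 g
  let g' : 𝔞 →ₗ[R] E := (torsT T E).subtype ∘ₗ g
  have hfg : (LinearMap.range g').FG := by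
    have : Module.Finite R 𝔞 := Module.IsNoetherian.finite R _
    have h' := Module.Finite.fg_top (R := R) (M := LinearMap.range g')
    have := Submodule.FG.map (LinearMap.range g').subtype h'
    rwa [Submodule.map_top, Submodule.range_subtype] at this
  obtain ⟨J, hJ, hn⟩ := exists_ideal_smul_eq_zero_of_fg T (LinearMap.range g') hfg (by
    rintro _ ⟨y, rfl⟩
    exact (g y).2)
  -- Artin–Rees
  obtain ⟨c, hc⟩ := Ideal.exists_pow_inf_eq_pow_smul J (𝔞 : Submodule R R)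
  let k := c + 1
  have hvanish : ∀ x (hx : x ∈ 𝔞), x ∈ J ^ k → g' ⟨x, hx⟩ = 0 := by
    intro x hx hxk
    have h1 := hc k (Nat.le_add_right c 1)
    have hkc : k - c = 1 := Nat.add_sub_cancel_left c 1
    rw [hkc, pow_one] at h1
    have hmem : x ∈ (J ^ k • ⊤ ⊓ (𝔞 : Submodule R R) : Submodule R R) := by
      refine ⟨?_, hx⟩
      rw [Ideal.smul_eq_mul, Ideal.mul_top]
      exact hxk
    rw [h1] at hmem
    have hle : (J • (J ^ c • ⊤ ⊓ (𝔞 : Submodule R R)) : Submodule R R) ≤ 𝔞 := by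
      rw [Submodule.smul_le]
      intro a _ b hb
      exact 𝔞.mul_mem_left a hb.2
    suffices H : ∀ z (hz : z ∈ (J • (J ^ c • ⊤ ⊓ (𝔞 : Submodule R R)) : Submodule R R)),
        g' ⟨z, hle hz⟩ = 0 from H x hmem
    intro z hz
    refine Submodule.smul_induction_on' (p := fun z hz => g' ⟨z, hle hz⟩ = 0) hz ?_ ?_
    · intro a ha b hb
      have : (⟨a • b, hle (Submodule.smul_mem_smul ha hb)⟩ : 𝔞) = a • ⟨b, hb.2⟩ := rfl
      rw [this, map_smul]
      exact hn a ha _ ⟨_, rfl⟩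
    · intro x hx y hy hgx hgy
      have : (⟨x + y, hle (add_mem hx hy)⟩ : 𝔞) = ⟨x, hle hx⟩ + ⟨y, hle hy⟩ := rfl
      rw [this, map_add, hgx, hgy, add_zero]
  let f : 𝔞 →ₗ[R] (R ⧸ J ^ k) := (J ^ k).mkQ ∘ₗ (𝔞 : Submodule R R).subtype
  obtain ⟨e, he⟩ := exists_extension_of_ker_le f g' (by
    rintro ⟨x, hx⟩ hxf
    rw [LinearMap.mem_ker] at hxf ⊢
    apply hvanish x hx
    rw [← Submodule.Quotient.mk_eq_zero]
    exact hxf)
  have hmemQ : ∀ x : R, (e ∘ₗ (J ^ k).mkQ) x ∈ torsT T E := by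
    intro x
    refine ⟨J ^ k, zeroLocus_pow_subset T hJ k, fun a ha => ?_⟩
    rw [← map_smul, LinearMap.comp_apply, Submodule.mkQ_apply]
    have : (Submodule.Quotient.mk (a • x) : R ⧸ J ^ k) = 0 := by
      rw [Submodule.Quotient.mk_eq_zero]
      exact Ideal.mul_mem_right _ _ ha
    rw [this, map_zero]
  refine ⟨(e ∘ₗ (J ^ k).mkQ).codRestrict _ hmemQ, fun x hx => ?_⟩
  apply Subtype.ext
  have := congrArg (fun φ => φ ⟨x, hx⟩) he
  exact this

/-- a `T`-torsion module embeds into a `T`-torsion injective module (Noetherian ring). -/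
lemma exists_injective_torsT_embedding [IsNoetherianRing R] (N : Type u)
    [AddCommGroup N] [Module R N] (hN : torsT T N = ⊤) :
    ∃ (E₀ : Type u) (_ : AddCommGroup E₀) (_ : Module R E₀) (_ : Module.Injective R E₀)
      (ι : N →ₗ[R] E₀), Function.Injective ι ∧ torsT T E₀ = ⊤ := by
  let E := Injective.under (ModuleCat.of R N)
  let ι : ModuleCat.of R N ⟶ E := Injective.ι _
  have hι : Function.Injective ι.hom := (ModuleCat.mono_iff_injective ι).mp inferInstance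
  have hE : Injective (ModuleCat.of R E) := (inferInstance : Injective E)
  have : Module.Injective R E := Module.injective_module_of_injective_object R E
  have := injective_torsT T E
  refine ⟨torsT T E, inferInstance, inferInstance, inferInstance,
    ι.hom.codRestrict _ (fun x => ?_), ?_, ?_⟩
  · obtain ⟨𝔞, h𝔞, hn⟩ := (mem_torsT T x).mp (hN ▸ Submodule.mem_top)
    exact ⟨𝔞, h𝔞, fun a ha => by rw [← map_smul, hn a ha, map_zero]⟩
  · intro x y hxy
    exact hι (congrArg Subtype.val hxy)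
  · rw [eq_top_iff]
    rintro ⟨x, 𝔞, h𝔞, hn⟩ -
    exact ⟨𝔞, h𝔞, fun a ha => Subtype.ext (hn a ha)⟩

lemma torsT_eq_top_of_surjective {M N : Type u} [AddCommGroup M] [Module R M] [AddCommGroup N]
    [Module R N] (f : M →ₗ[R] N) (hf : Function.Surjective f) (hM : torsT T M = ⊤) :
    torsT T N = ⊤ := by
  rw [eq_top_iff]
  intro y _
  obtain ⟨x, rfl⟩ := hf y
  obtain ⟨𝔞, h𝔞, hn⟩ := (mem_torsT T x).mp (hM ▸ Submodule.mem_top)
  exact ⟨𝔞, h𝔞, fun a ha => by rw [← map_smul, hn a ha, map_zero]⟩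

/-- **`T`-torsion modules have no higher local cohomology** (Noetherian ring). -/
theorem t_subsingleton_of_torsion_succ [IsNoetherianRing R] (i : ℕ) :
    ∀ (N : ModuleCat.{u} R) (_ : torsT T N = ⊤), Subsingleton ((HTf T (i + 1)).obj N) := by
  induction i with
  | zero =>
    intro N hN
    obtain ⟨E₀, _, _, _, ι, hι, hE₀⟩ := exists_injective_torsT_embedding T N hN
    have hS := sesOfInjective_shortExact ι hι
    have : Injective (sesOfInjective ι).X₂ := Module.injective_object_of_injective_module R E₀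
    have := t_subsingleton_of_injective T (sesOfInjective ι).X₂ 1 one_pos
    refine ⟨fun a b => ?_⟩
    suffices H : ∀ y : (HTf T (0 + 1)).obj (ModuleCat.of R N), y = 0 by
      rw [H a, H b]
    intro y
    obtain ⟨y₃, rfl⟩ := t_exact₁ T hS 0 y (Subsingleton.elim _ _)
    obtain ⟨e, he⟩ := (LinearMap.range ι).mkQ_surjective (tH0Map T _ y₃)
    obtain ⟨𝔞, h𝔞, hn⟩ := (mem_torsT T e).mp (hE₀ ▸ Submodule.mem_top)
    obtain ⟨y₂, hy₂⟩ := exists_tH0Map_eq T (sesOfInjective ι).X₂ e 𝔞 h𝔞 hn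
    have : ((HTf T 0).map (sesOfInjective ι).g).hom y₂ = y₃ := by
      apply tH0Map_injective
      rw [tH0Map_naturality, hy₂]
      exact he
    rw [← this, tDelta_comp_map]
    rfl
  | succ i ih =>
    intro N hN
    obtain ⟨E₀, _, _, _, ι, hι, hE₀⟩ := exists_injective_torsT_embedding T N hN
    have hS := sesOfInjective_shortExact ι hι
    have : Injective (sesOfInjective ι).X₂ := Module.injective_object_of_injective_module R E₀
    have := t_subsingleton_of_injective T (sesOfInjective ι).X₂ (i + 1 + 1) (Nat.succ_pos _)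
    have : Subsingleton ((HTf T (i + 1)).obj (sesOfInjective ι).X₃) := by
      apply ih
      exact torsT_eq_top_of_surjective T (LinearMap.range ι).mkQ (LinearMap.range ι).mkQ_surjective hE₀
    refine ⟨fun a b => ?_⟩
    suffices H : ∀ y : (HTf T (i + 1 + 1)).obj (ModuleCat.of R N), y = 0 by
      rw [H a, H b]
    intro y
    obtain ⟨y₃, rfl⟩ := t_exact₁ T hS (i + 1) y (Subsingleton.elim _ _)
    rw [Subsingleton.elim y₃ 0, map_zero]
    rfl

/-- **`T`-torsion modules have no higher local cohomology** (Noetherian ring). -/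
theorem t_subsingleton_of_torsion [IsNoetherianRing R] (i : ℕ) (hi : 0 < i)
    (N : ModuleCat.{u} R) (hN : torsT T N = ⊤) : Subsingleton ((HTf T i).obj N) := by
  obtain ⟨i, rfl⟩ := Nat.exists_eq_succ_of_ne_zero hi.ne'
  exact t_subsingleton_of_torsion_succ T i N hN

lemma torsT_torsT_eq_top (N : Type u) [AddCommGroup N] [Module R N] :
    torsT T (torsT T N) = ⊤ := by
  rw [eq_top_iff]
  rintro ⟨x, 𝔞, h𝔞, hn⟩ -
  exact ⟨𝔞, h𝔞, fun a ha => Subtype.ext (hn a ha)⟩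

/-- `H^i_T(N) → H^i_T(N/Γ_T(N))` is bijective for `i > 0` (Noetherian ring). -/
theorem tMap_mkQ_torsT_bijective [IsNoetherianRing R] (N : Type u)
    [AddCommGroup N] [Module R N] (i : ℕ) (hi : 0 < i) :
    Function.Bijective ((HTf T i).map (ModuleCat.ofHom (torsT T N).mkQ)).hom := by
  have hS := sesOfSubmodule_shortExact (torsT T N)
  have htor : torsT T (sesOfSubmodule (torsT T N)).X₁ = ⊤ := torsT_torsT_eq_top T N
  have h1 := t_subsingleton_of_torsion T i hi _ htor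
  have h2 := t_subsingleton_of_torsion T (i + 1) (Nat.succ_pos i) _ htor
  constructor
  · rw [injective_iff_map_eq_zero]
    intro y hy
    obtain ⟨y₁, rfl⟩ := t_exact₂ T hS i y hy
    rw [Subsingleton.elim y₁ 0, map_zero]
    rfl
  · intro y₃
    exact t_exact₃ T hS i y₃ (Subsingleton.elim _ _)

/-- `M/Γ_T(M)` has no `T`-torsion (Noetherian ring). -/
lemma torsT_quotient_eq_bot [IsNoetherianRing R] (M : Type u) [AddCommGroup M] [Module R M] :
    torsT T (M ⧸ torsT T M) = ⊥ := by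
  rw [eq_bot_iff]
  intro y hy
  obtain ⟨m, rfl⟩ := Submodule.Quotient.mk_surjective _ y
  obtain ⟨𝔞, h𝔞, hn⟩ := hy
  rw [Submodule.mem_bot, Submodule.Quotient.mk_eq_zero]
  have h1 : ∀ a ∈ 𝔞, a • m ∈ torsT T M := by
    intro a ha
    have := hn a ha
    rwa [← Submodule.Quotient.mk_smul, Submodule.Quotient.mk_eq_zero] at this
  -- the submodule `𝔞 • m` is finitely generated and inside `Γ_T(M)`
  have hfg : (Submodule.map (LinearMap.toSpanSingleton R M m) 𝔞).FG :=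
    Submodule.FG.map _ (IsNoetherian.noetherian 𝔞)
  obtain ⟨𝔟, h𝔟, hk⟩ := exists_ideal_smul_eq_zero_of_fg T _ hfg (by
    rintro _ ⟨a, ha, rfl⟩
    rw [LinearMap.toSpanSingleton_apply]
    exact h1 a ha)
  refine ⟨𝔟 * 𝔞, zeroLocus_mul_subset T h𝔟 h𝔞, fun c hc => ?_⟩
  refine Submodule.mul_induction_on hc ?_ ?_
  · intro b hb a ha
    rw [mul_smul]
    exact hk b hb _ ⟨a, ha, by rw [LinearMap.toSpanSingleton_apply]⟩
  · intro x y hx hy
    rw [add_smul, hx, hy, add_zero]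

end Groth.Agent.Lib.Helper47.HTLib
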