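import Groth.Agent.Lib.Helper47.HDTBasic
import Groth.Agent.Lib.Helper47.HTTorsion

/-!
# `H^0_T` of modules placed in degree `0` and their shifts (helper47)
-/

set_option autoImplicit false
universe u
open CategoryTheory CategoryTheory.Limits Opposite Abelian
attribute [local instance] HasDerivedCategory.standard

namespace Groth.Agent.Lib.Helper47.HDTLib

open Groth.Agent.Lib.Helper60 Groth.Agent.Lib.Helper47.HTLib localCohomology

variable {A : Type u} [CommRing A] (T : Set (PrimeSpectrum A))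

/-- the linear map `A/𝔞 → Y` attached to an element killed by `𝔞`. -/
noncomputable def lin {Y : ModuleCat.{u} A} (𝔞 : Ideal A) (m : Y) (hm : ∀ r ∈ 𝔞, r • m = 0) :
    quotObj 𝔞 ⟶ Y :=
  ModuleCat.ofHom (Submodule.liftQ 𝔞 (LinearMap.toSpanSingleton A Y m) (by
    intro a ha
    rw [LinearMap.mem_ker, LinearMap.toSpanSingleton_apply]
    exact hm a ha))

lemma lin_one {Y : ModuleCat.{u} A} (𝔞 : Ideal A) (m : Y) (hm : ∀ r ∈ 𝔞, r • m = 0) :
    (lin 𝔞 m hm).hom (Submodule.Quotient.mk (1 : A) : A ⧸ 𝔞) = m := by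
  show Submodule.liftQ 𝔞 (LinearMap.toSpanSingleton A Y m) _ (Submodule.Quotient.mk 1) = m
  rw [Submodule.liftQ_apply, LinearMap.toSpanSingleton_apply, one_smul]

lemma eq_lin {Y : ModuleCat.{u} A} {𝔞 : Ideal A} (g : quotObj 𝔞 ⟶ Y) :
    ∃ hm, g = lin 𝔞 (g.hom (Submodule.Quotient.mk (1 : A) : A ⧸ 𝔞)) hm := by
  have hm : ∀ r ∈ 𝔞, r • g.hom (Submodule.Quotient.mk (1 : A) : A ⧸ 𝔞) = 0 := by
    intro r hr
    rw [← map_smul, ← Submodule.Quotient.mk_smul, smul_eq_mul, mul_one,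
      (Submodule.Quotient.mk_eq_zero 𝔞).mpr hr, map_zero]
  exact ⟨hm, quotObj_hom_ext (by rw [lin_one])⟩

lemma qmap_lin {Y : ModuleCat.{u} A} {𝔞 𝔟 : Ideal A} (h : 𝔞 ≤ 𝔟) (m : Y)
    (hm : ∀ r ∈ 𝔟, r • m = 0) :
    qmap h ≫ lin 𝔟 m hm = lin 𝔞 m (fun r hr => hm r (h hr)) := by
  apply quotObj_hom_ext
  rw [lin_one]
  show (lin 𝔟 m hm).hom ((qmap h).hom (Submodule.Quotient.mk 1)) = m
  rw [qmap_mk, lin_one]

lemma lin_add {Y : ModuleCat.{u} A} (𝔞 : Ideal A) (m m' : Y) (hm : ∀ r ∈ 𝔞, r • m = 0)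
    (hm' : ∀ r ∈ 𝔞, r • m' = 0) :
    lin 𝔞 (m + m') (fun r hr => by rw [smul_add, hm r hr, hm' r hr, add_zero]) =
      lin 𝔞 m hm + lin 𝔞 m' hm' := by
  apply quotObj_hom_ext
  rw [lin_one, ModuleCat.hom_add, LinearMap.add_apply, lin_one, lin_one]

lemma lin_smul {Y : ModuleCat.{u} A} (𝔞 : Ideal A) (s : A) (m : Y) (hm : ∀ r ∈ 𝔞, r • m = 0) :
    lin 𝔞 (s • m) (fun r hr => by rw [smul_comm, hm r hr, smul_zero]) = s • lin 𝔞 m hm := by
  apply quotObj_hom_ext
  rw [lin_one, ModuleCat.hom_smul, LinearMap.smul_apply, lin_one]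

/-- the single functor in degree `0`. -/
noncomputable abbrev sg0 (Y : ModuleCat.{u} A) : Dual.D A :=
  (DerivedCategory.singleFunctor (ModuleCat.{u} A) 0).obj Y

/-- the class in `H^0_T(Y[0])` of an element of `Y` killed by `𝔞`. -/
noncomputable def cls (Y : ModuleCat.{u} A) (a : Dual2.IdealsIn T) (m : Y)
    (hm : ∀ r ∈ a.obj, r • m = 0) : HD0 T (sg0 Y) :=
  dMk T (sg0 Y) a ((DerivedCategory.singleFunctor (ModuleCat.{u} A) 0).map (lin a.obj m hm))

lemma exists_cls_eq (Y : ModuleCat.{u} A) (y : HD0 T (sg0 Y)) :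
    ∃ (a : Dual2.IdealsIn T) (m : Y) (hm : ∀ r ∈ a.obj, r • m = 0), cls T Y a m hm = y := by
  obtain ⟨a, f, rfl⟩ := dMk_surj T _ y
  obtain ⟨g, rfl⟩ := (DerivedCategory.singleFunctor (ModuleCat.{u} A) 0).map_surjective f
  obtain ⟨hm, hg⟩ := eq_lin g
  refine ⟨a, _, hm, ?_⟩
  unfold cls
  rw [← hg]

lemma cls_res (Y : ModuleCat.{u} A) {a b : Dual2.IdealsIn T} (h : a.obj ≤ b.obj) (m : Y)
    (hm : ∀ r ∈ b.obj, r • m = 0) :
    cls T Y a m (fun r hr => hm r (h hr)) = cls T Y b m hm := by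
  unfold cls
  rw [← dMk_res T _ h, ← Functor.map_comp, qmap_lin]

lemma cls_add (Y : ModuleCat.{u} A) (a : Dual2.IdealsIn T) (m m' : Y)
    (hm : ∀ r ∈ a.obj, r • m = 0) (hm' : ∀ r ∈ a.obj, r • m' = 0) :
    cls T Y a (m + m') (fun r hr => by rw [smul_add, hm r hr, hm' r hr, add_zero]) =
      cls T Y a m hm + cls T Y a m' hm' := by
  unfold cls
  rw [lin_add _ m m' hm hm', Functor.map_add, dMk_add]

lemma cls_smul (Y : ModuleCat.{u} A) (a : Dual2.IdealsIn T) (s : A) (m : Y)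
    (hm : ∀ r ∈ a.obj, r • m = 0) :
    cls T Y a (s • m) (fun r hr => by rw [smul_comm, hm r hr, smul_zero]) =
      s • cls T Y a m hm := by
  unfold cls
  rw [lin_smul _ s m hm, Functor.map_smul, dMk_smul]

lemma lin_zero {Y : ModuleCat.{u} A} (𝔞 : Ideal A) :
    lin 𝔞 (0 : Y) (fun r _ => smul_zero r) = 0 := by
  apply quotObj_hom_ext
  rw [lin_one]
  rfl

lemma cls_zero (Y : ModuleCat.{u} A) (a : Dual2.IdealsIn T) :
    cls T Y a (0 : Y) (fun r _ => smul_zero r) = 0 := by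
  unfold cls
  rw [lin_zero, Functor.map_zero, dMk_zero]

/-- `H^0_T(Y[0])` is finite for `Y` finite over a Noetherian ring. -/
theorem hd0_single_finite [IsNoetherianRing A] (Y : ModuleCat.{u} A) [Module.Finite A Y] :
    Module.Finite A (HD0 T (sg0 Y)) := by
  classical
  have : IsNoetherian A Y := isNoetherian_of_isNoetherianRing_of_finite A Y
  have hfg : (torsT T Y).FG := IsNoetherian.noetherian _
  obtain ⟨𝔞, h𝔞, hk⟩ := exists_ideal_smul_eq_zero_of_fg T (torsT T Y) hfg le_rfl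
  let a : Dual2.IdealsIn T := idl T 𝔞 h𝔞
  obtain ⟨s, hs⟩ := hfg
  -- the span of the classes of the generators
  let W : Submodule A (HD0 T (sg0 Y)) :=
    Submodule.span A (Set.range (fun m : {m : Y // m ∈ s} =>
      cls T Y a m.1 (fun r hr => hk r hr m.1 (hs ▸ Submodule.subset_span m.2))))
  have hW : W = ⊤ := by
    rw [eq_top_iff]
    intro y _
    obtain ⟨b, m, hm, rfl⟩ := exists_cls_eq T Y y
    have hmT : m ∈ torsT T Y := ⟨b.obj, b.property, hm⟩
    -- general statement by span induction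
    have key : ∀ m ∈ Submodule.span A (s : Set Y), ∀ hm' : (∀ r ∈ a.obj, r • m = 0),
        cls T Y a m hm' ∈ W := by
      intro m hmem
      refine Submodule.span_induction (p := fun m _ => ∀ hm' : (∀ r ∈ a.obj, r • m = 0),
        cls T Y a m hm' ∈ W) ?_ ?_ ?_ ?_ hmem
      · intro x hx hm'
        exact Submodule.subset_span ⟨⟨x, hx⟩, rfl⟩
      · intro hm'
        rw [cls_zero]
        exact W.zero_mem
      · intro x y hx hy ihx ihy hm'
        have hx' : ∀ r ∈ a.obj, r • x = 0 := fun r hr => hk r hr x (hs ▸ hx)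
        have hy' : ∀ r ∈ a.obj, r • y = 0 := fun r hr => hk r hr y (hs ▸ hy)
        have := cls_add T Y a x y hx' hy'
        rw [this]
        exact W.add_mem (ihx hx') (ihy hy')
      · intro c x hx ihx hm'
        have hx' : ∀ r ∈ a.obj, r • x = 0 := fun r hr => hk r hr x (hs ▸ hx)
        have := cls_smul T Y a c x hx'
        rw [this]
        exact W.smul_mem c (ihx hx')
    have hma : ∀ r ∈ a.obj, r • m = 0 := fun r hr => hk r hr m hmT
    have h1 := key m (hs ▸ hmT) hma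
    -- compare the two classes on `a ⊓ b`
    have h2 : cls T Y b m hm = cls T Y a m hma := by
      rw [← cls_res T Y (idlInf_le_right T a b) m hm, ← cls_res T Y (idlInf_le_left T a b) m hma]
    rw [h2]
    exact h1
  have hfin : W.FG := by
    have : Finite {m : Y // m ∈ s} := Finite.of_fintype _
    exact Submodule.fg_span (Set.finite_range _)
  exact Module.Finite.of_fg_top (hW ▸ hfin)

/-- every class of `H^0_T(Y[0])` comes from `Γ_T(Y)[0]`. -/
theorem dMap_single_subtype_surjective (Y : ModuleCat.{u} A) :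
    Function.Surjective (dMap T ((DerivedCategory.singleFunctor (ModuleCat.{u} A) 0).map
      (ModuleCat.ofHom (torsT T Y).subtype))).hom := by
  intro y
  obtain ⟨b, m, hm, rfl⟩ := exists_cls_eq T Y y
  have hmT : m ∈ torsT T Y := ⟨b.obj, b.property, hm⟩
  refine ⟨cls T (ModuleCat.of A (torsT T Y)) b ⟨m, hmT⟩ (fun r hr => Subtype.ext (hm r hr)), ?_⟩
  unfold cls
  rw [dMap_dMk, ← Functor.map_comp]
  congr 2
  apply quotObj_hom_ext
  rw [lin_one, ModuleCat.hom_comp, LinearMap.comp_apply, lin_one]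
  rfl

/-- `H^0_T(N[0]⟦i⟧) = H^i_T(N) = 0` for `N` a `T`-torsion module and `i > 0` (Noetherian ring). -/
theorem hd0_single_shift_subsingleton [IsNoetherianRing A] (N : ModuleCat.{u} A)
    (hN : torsT T N = ⊤) (i : ℕ) (hi : 0 < i) :
    Subsingleton (HD0 T ((sg0 N)⟦(i : ℤ)⟧)) := by
  have hsub := t_subsingleton_of_torsion T i hi N hN
  refine ⟨fun y z => ?_⟩
  have key : ∀ y : HD0 T ((sg0 N)⟦(i : ℤ)⟧), y = 0 := by
    intro y
    obtain ⟨a, f, rfl⟩ := dMk_surj T _ y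
    let x : Abelian.Ext (quotObj a.obj) N i := Ext.homEquiv.symm f
    have hx : x.hom = f := Equiv.apply_symm_apply _ _
    have h0 : tMk T i N a x = 0 := Subsingleton.elim _ _
    rw [tMk_eq_zero_iff] at h0
    obtain ⟨c, hc, h⟩ := h0
    have h2 := congrArg Ext.hom h
    unfold qres at h2
    rw [Ext.comp_hom, Ext.mk₀_hom, ShiftedHom.mk₀_comp, Ext.zero_hom, hx] at h2
    rw [← dMk_res T _ hc f]
    have : qD hc ≫ f = 0 := h2
    rw [this, dMk_zero]
  rw [key y, key z]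

end Groth.Agent.Lib.Helper47.HDTLib
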