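import Groth.Agent.Lib.Helper47.HTTorsion
import Groth.Agent.Lib.Helper60.LocalCohFinite

/-!
# Finiteness of `H^i_T` versus annihilation (Faltings) for a specialization-closed `T` (helper47)
-/

set_option autoImplicit false
universe u
open CategoryTheory CategoryTheory.Limits Opposite Abelian

namespace Groth.Agent.Lib.Helper47.HTLib

open Groth.Agent.Lib.Helper60 localCohomology

variable {R : Type u} [CommRing R] (T : Set (PrimeSpectrum R))

/-- if `a` kills `H^i(X₂)` and `b` kills `H^{i+1}(X₁)` then `a * b` kills `H^i(X₃)`. -/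
lemma t_mul_smul_eq_zero_X₃ {S : ShortComplex (ModuleCat.{u} R)}
    (hS : S.ShortExact) (i : ℕ) (a b : R)
    (ha : ∀ y : (HTf T i).obj S.X₂, a • y = 0)
    (hb : ∀ y : (HTf T (i + 1)).obj S.X₁, b • y = 0)
    (y : (HTf T i).obj S.X₃) : (a * b) • y = 0 := by
  have h3 : tDelta T hS i (b • y) = 0 := by
    rw [map_smul]
    exact hb _
  obtain ⟨z, hz⟩ := t_exact₃ T hS i (b • y) h3
  rw [mul_smul, ← hz, ← map_smul, ha, map_zero]

lemma t_ideal_mul_smul_eq_zero_X₃ {S : ShortComplex (ModuleCat.{u} R)}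
    (hS : S.ShortExact) (i : ℕ) (A B : Ideal R)
    (hA : ∀ a ∈ A, ∀ y : (HTf T i).obj S.X₂, a • y = 0)
    (hB : ∀ b ∈ B, ∀ y : (HTf T (i + 1)).obj S.X₁, b • y = 0) :
    ∀ c ∈ A * B, ∀ y : (HTf T i).obj S.X₃, c • y = 0 := by
  intro c hc y
  refine Submodule.mul_induction_on hc ?_ ?_
  · intro a ha b hb
    exact t_mul_smul_eq_zero_X₃ T hS i a b (hA a ha) (hB b hb) y
  · intro x x' hx hx'
    rw [add_smul, hx, hx', add_zero]

/-- `H^0_T(M)` is finite for a finite module over a Noetherian ring. -/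
lemma t_zero_finite [IsNoetherianRing R] (M : Type u) [AddCommGroup M] [Module R M]
    [Module.Finite R M] : Module.Finite R ((HTf T 0).obj (ModuleCat.of R M)) := by
  have : IsNoetherian R M := isNoetherian_of_isNoetherianRing_of_finite R M
  have h : Module.Finite R (torsT T (ModuleCat.of R M)) :=
    Module.Finite.of_fg (IsNoetherian.noetherian (torsT T M))
  exact Module.Finite.equiv (tH0Equiv T (ModuleCat.of R M)).symm

lemma torsionSub_le_torsT {J : Ideal R} (hJ : PrimeSpectrum.zeroLocus (J : Set R) ⊆ T)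
    (M : Type u) [AddCommGroup M] [Module R M] : DRing.torsionSub J M ≤ torsT T M := by
  rintro m ⟨n, hn⟩
  exact ⟨J ^ n, zeroLocus_pow_subset T hJ n, hn⟩

/-- **Faltings**: if an ideal `J` with `V(J) ⊆ T` kills `H^i_T(M)` for `i ≤ n` (`M` finite over a
Noetherian ring) then these local cohomology modules are finite. -/
theorem t_finite_of_ideal_smul_eq_zero [IsNoetherianRing R] (n : ℕ) :
    ∀ (M : Type u) [AddCommGroup M] [Module R M] [Module.Finite R M] (J : Ideal R),
      PrimeSpectrum.zeroLocus (J : Set R) ⊆ T →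
      (∀ i ≤ n, ∀ a ∈ J, ∀ x : (HTf T i).obj (ModuleCat.of R M), a • x = 0) →
      ∀ i ≤ n, Module.Finite R ((HTf T i).obj (ModuleCat.of R M)) := by
  induction n with
  | zero =>
    intro M _ _ _ J _ _ i hi
    obtain rfl : i = 0 := by omega
    exact t_zero_finite T M
  | succ n ih =>
    intro M _ _ _ J hJ hk i hi
    rcases Nat.eq_zero_or_pos i with rfl | hi0
    · exact t_zero_finite T M
    -- pass to `M' = M / Γ_T(M)`
    have hbij := tMap_mkQ_torsT_bijective T M
    have hbot := torsT_quotient_eq_bot T M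
    have hk' : ∀ j ≤ n + 1, ∀ a ∈ J, ∀ x : (HTf T j).obj
        (ModuleCat.of R (M ⧸ torsT T M)), a • x = 0 := by
      intro j hj a ha x
      rcases Nat.eq_zero_or_pos j with rfl | hj0
      · have h0 : x = 0 := by
          apply tH0Map_injective T
          rw [map_zero]
          have hmem := tH0Map_mem_torsT T (ModuleCat.of R (M ⧸ torsT T M)) x
          have hmem' : (tH0Map T (ModuleCat.of R (M ⧸ torsT T M)) x : M ⧸ torsT T M) ∈
              torsT T (M ⧸ torsT T M) := hmem
          exact (Submodule.mem_bot R).mp (hbot.le hmem')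
        rw [h0, smul_zero]
      · obtain ⟨y, rfl⟩ := (hbij j hj0).2 x
        rw [← map_smul, hk j hj a ha y, map_zero]
    suffices H : Module.Finite R ((HTf T i).obj (ModuleCat.of R (M ⧸ torsT T M))) by
      let e := LinearEquiv.ofBijective
        ((HTf T i).map (ModuleCat.ofHom (torsT T M).mkQ)).hom (hbij i hi0)
      exact Module.Finite.equiv e.symm
    have hbotJ : DRing.torsionSub J (M ⧸ torsT T M) = ⊥ :=
      eq_bot_iff.mpr ((torsionSub_le_torsT T hJ _).trans hbot.le)
    obtain ⟨r, hrJ, hreg⟩ :=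
      exists_isSMulRegular_of_torsionSub_eq_bot J (M ⧸ torsT T M) hbotJ
    have hS := hreg.smulShortComplex_shortExact (M := ModuleCat.of R (M ⧸ torsT T M))
    obtain ⟨j, rfl⟩ : ∃ j, i = j + 1 := ⟨i - 1, by omega⟩
    have hQ : ∀ l ≤ n, ∀ a ∈ J * J, ∀ x : (HTf T l).obj
        (ModuleCat.of R (QuotSMulTop r (M ⧸ torsT T M))), a • x = 0 := by
      intro l hl a ha x
      exact t_ideal_mul_smul_eq_zero_X₃ T hS l J J (hk' l (by omega))
        (hk' (l + 1) (by omega)) a ha x
    have hfin := ih (QuotSMulTop r (M ⧸ torsT T M)) (J * J) (zeroLocus_mul_subset T hJ hJ) hQ j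
      (by omega)
    have hsurj : Function.Surjective (tDelta T hS j) := by
      intro y
      apply t_exact₁ T hS j y
      have h1 : ((HTf T (j + 1)).map
          (r • 𝟙 (ModuleCat.of R (M ⧸ torsT T M)))).hom y = r • y :=
        tMap_smul_id T (j + 1) _ r y
      exact h1.trans (hk' (j + 1) hi r hrJ y)
    have : Module.Finite R ((HTf T j).obj
        ((ModuleCat.of R (M ⧸ torsT T M)).smulShortComplex r).X₃) := hfin
    exact Module.Finite.of_surjective (tDelta T hS j) hsurj

/-- a finite module all of whose elements are `T`-torsion is killed by one ideal. -/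
lemma exists_ideal_smul_eq_zero_of_finite (N : Type u) [AddCommGroup N] [Module R N]
    [Module.Finite R N] (h : torsT T N = ⊤) :
    ∃ 𝔞 : Ideal R, PrimeSpectrum.zeroLocus (𝔞 : Set R) ⊆ T ∧ ∀ a ∈ 𝔞, ∀ x : N, a • x = 0 := by
  obtain ⟨𝔞, h𝔞, hk⟩ := exists_ideal_smul_eq_zero_of_fg T (⊤ : Submodule R N)
    Module.Finite.fg_top (h ▸ le_refl _)
  exact ⟨𝔞, h𝔞, fun a ha x => hk a ha x Submodule.mem_top⟩

/-- finiteness implies annihilation by an ideal with `V(J) ⊆ T`. -/
theorem exists_ideal_smul_eq_zero_of_t_finite (M : ModuleCat.{u} R) (n : ℕ)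
    (h : ∀ i ≤ n, Module.Finite R ((HTf T i).obj M)) :
    ∃ J : Ideal R, PrimeSpectrum.zeroLocus (J : Set R) ⊆ T ∧
      ∀ i ≤ n, ∀ a ∈ J, ∀ x : (HTf T i).obj M, a • x = 0 := by
  induction n with
  | zero =>
    have := h 0 le_rfl
    obtain ⟨𝔞, h𝔞, hk⟩ := exists_ideal_smul_eq_zero_of_finite T ((HTf T 0).obj M) (by
      rw [eq_top_iff]
      intro y _
      exact t_isTorsion T 0 M y)
    refine ⟨𝔞, h𝔞, fun i hi a ha x => ?_⟩
    obtain rfl : i = 0 := by omega
    exact hk a ha x
  | succ n ih =>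
    obtain ⟨J, hJ, hJk⟩ := ih (fun i hi => h i (by omega))
    have := h (n + 1) le_rfl
    obtain ⟨𝔞, h𝔞, hk⟩ := exists_ideal_smul_eq_zero_of_finite T ((HTf T (n + 1)).obj M) (by
      rw [eq_top_iff]
      intro y _
      exact t_isTorsion T (n + 1) M y)
    refine ⟨J ⊓ 𝔞, zeroLocus_inf_subset hJ h𝔞, fun i hi a ha x => ?_⟩
    rcases Nat.lt_or_ge i (n + 1) with hlt | hge
    · exact hJk i (by omega) a ha.1 x
    · obtain rfl : i = n + 1 := by omega
      exact hk a ha.2 x

end Groth.Agent.Lib.Helper47.HTLib
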