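import Groth.Agent.Lib.Helper47.HDTModule
import Groth.Agent.Lib.Helper47.HTFinite

/-!
# `H^0_T` on `D^{≥0}(A)`: truncation triangles, finiteness, shifts, torsion removal (helper47)
-/

set_option autoImplicit false
universe u
open CategoryTheory CategoryTheory.Limits Opposite Abelian
attribute [local instance] HasDerivedCategory.standard

namespace Groth.Agent.Lib.Helper47.HDTLib

open Groth.Agent.Lib.Helper60 Groth.Agent.Lib.Helper47.HTLib localCohomology
open DerivedCategory DerivedCategory.TStructure Pretriangulated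

variable {A : Type u} [CommRing A] (T : Set (PrimeSpectrum A))

/-- the `j`-th cohomology module of an object of `D(A)`. -/
noncomputable abbrev Hm (X : Dual.D A) (j : ℤ) : ModuleCat.{u} A :=
  (homologyFunctor (ModuleCat.{u} A) j).obj X

/-- finite cohomology modules. -/
def FinCoh (X : Dual.D A) : Prop := ∀ j : ℤ, Module.Finite A (Hm X j)

/-- truncation triangle `Y[0] → X → τ_{≥1} X` for `X ∈ D^{≥0}`. -/
lemma exists_trunc (X : Dual.D A) [X.IsGE 0] :
    ∃ (Y : ModuleCat.{u} A) (ν : sg0 Y ⟶ X) (Z : Dual.D A) (g : X ⟶ Z)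
      (h : Z ⟶ (sg0 Y)⟦(1 : ℤ)⟧), Triangle.mk ν g h ∈ distTriang (Dual.D A) ∧ Z.IsGE 1 := by
  have hd := t.triangleLTGE_distinguished 1 X
  haveI h1 : ((t.truncLT 1).obj X).IsLE 0 := (inferInstance : t.IsLE ((t.truncLT (0 + 1)).obj X) 0)
  haveI h2 : ((t.truncLT 1).obj X).IsGE 0 := inferInstance
  obtain ⟨Y, ⟨e⟩⟩ := exists_iso_singleFunctor_obj_of_isGE_of_isLE ((t.truncLT 1).obj X) 0
  refine ⟨Y, e.inv ≫ (t.truncLTι 1).app X, (t.truncGE 1).obj X, (t.truncGEπ 1).app X,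
    (t.truncGEδLT 1).app X ≫ e.hom⟦(1 : ℤ)⟧', ?_, inferInstance⟩
  refine isomorphic_distinguished _ hd _ (Triangle.isoMk _ _ e.symm (Iso.refl _) (Iso.refl _)
    ?_ ?_ ?_)
  · exact Category.comp_id _
  · exact (Category.comp_id _).trans (Category.id_comp _).symm
  · refine Eq.trans ?_ (Category.id_comp _).symm
    show ((t.truncGEδLT 1).app X ≫ (shiftFunctor (Dual.D A) (1 : ℤ)).map e.hom) ≫
      (shiftFunctor (Dual.D A) (1 : ℤ)).map e.inv = (t.truncGEδLT 1).app X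
    rw [Category.assoc, ← Functor.map_comp, e.hom_inv_id, CategoryTheory.Functor.map_id]
    exact Category.comp_id _

/-- `H^0` of the first map of a distinguished triangle is an iso when the cone is in `D^{≥1}`. -/
lemma isIso_H0_mor₁ (Tr : Triangle (Dual.D A)) (hTr : Tr ∈ distTriang (Dual.D A))
    [Tr.obj₃.IsGE 1] : IsIso ((homologyFunctor (ModuleCat.{u} A) 0).map Tr.mor₁) := by
  have hm : Mono ((homologyFunctor (ModuleCat.{u} A) 0).map Tr.mor₁) :=
    (HomologySequence.mono_homologyMap_mor₁_iff Tr hTr (-1) 0 (by norm_num)).mpr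
      ((isZero_of_isGE Tr.obj₃ 1 (-1) (by norm_num)).eq_of_src _ _)
  have he : Epi ((homologyFunctor (ModuleCat.{u} A) 0).map Tr.mor₁) :=
    (HomologySequence.epi_homologyMap_mor₁_iff Tr hTr 0).mpr
      ((isZero_of_isGE Tr.obj₃ 1 0 (by norm_num)).eq_of_tgt _ _)
  exact isIso_of_mono_of_epi _

/-- the cone of a map in `D^{≥0}` which is injective on `H^0` lies in `D^{≥0}`. -/
lemma isGE_cone (Tr : Triangle (Dual.D A)) (hTr : Tr ∈ distTriang (Dual.D A))
    [Tr.obj₁.IsGE 0] [Tr.obj₂.IsGE 0]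
    (hm : Mono ((homologyFunctor (ModuleCat.{u} A) 0).map Tr.mor₁)) : Tr.obj₃.IsGE 0 := by
  rw [isGE_iff]
  intro i hi
  have h2 : IsZero ((homologyFunctor (ModuleCat.{u} A) i).obj Tr.obj₂) :=
    isZero_of_isGE _ 0 i hi
  have hδ : HomologySequence.δ Tr i (i + 1) rfl = 0 := by
    by_cases h : i + 1 = 0
    · obtain rfl : i = -1 := by omega
      exact (HomologySequence.mono_homologyMap_mor₁_iff Tr hTr (-1) 0 (by norm_num)).mp hm
    · exact (isZero_of_isGE Tr.obj₁ 0 (i + 1) (by omega)).eq_of_tgt _ _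
  have hex := HomologySequence.exact₃ Tr hTr i (i + 1) rfl
  have : Epi ((homologyFunctor (ModuleCat.{u} A) i).map Tr.mor₂) := hex.epi_f hδ
  exact IsZero.of_epi ((homologyFunctor (ModuleCat.{u} A) i).map Tr.mor₂) h2

lemma finite_of_exact [IsNoetherianRing A] {M₁ M₂ M₃ : Type*} [AddCommGroup M₁] [Module A M₁]
    [AddCommGroup M₂] [Module A M₂] [AddCommGroup M₃] [Module A M₃] (f : M₁ →ₗ[A] M₂)
    (g : M₂ →ₗ[A] M₃) (h : Function.Exact f g) [Module.Finite A M₁] [Module.Finite A M₃] :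
    Module.Finite A M₂ := by
  have : IsNoetherian A M₃ := isNoetherian_of_isNoetherianRing_of_finite A M₃
  refine Module.Finite.of_exact (f := f) (g := g.rangeRestrict) ?_ g.surjective_rangeRestrict
  intro y
  rw [← h y]
  constructor
  · intro hy
    exact congrArg Subtype.val hy
  · intro hy
    exact Subtype.ext hy

/-- the cone of a map between objects with finite cohomology has finite cohomology. -/
lemma finCoh_cone [IsNoetherianRing A] (Tr : Triangle (Dual.D A))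
    (hTr : Tr ∈ distTriang (Dual.D A)) (h₁ : FinCoh Tr.obj₁) (h₂ : FinCoh Tr.obj₂) :
    FinCoh Tr.obj₃ := by
  intro j
  have hex := HomologySequence.exact₃ Tr hTr j (j + 1) rfl
  have hex' := (ShortComplex.ShortExact.moduleCat_exact_iff_function_exact _).mp hex
  haveI := h₂ j
  haveI := h₁ (j + 1)
  exact finite_of_exact _ _ hex'

lemma finCoh_sg0 (Y : ModuleCat.{u} A) [Module.Finite A Y] : FinCoh (sg0 Y) := by
  intro j
  by_cases hj : j = 0
  · subst hj
    have e : Y ≃ₗ[A] Hm (sg0 Y) 0 :=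
      ((singleFunctorCompHomologyFunctorIso (ModuleCat.{u} A) 0).app Y).symm.toLinearEquiv
    exact Module.Finite.equiv e
  · have hz : IsZero (Hm (sg0 Y) j) := by
      rcases lt_or_gt_of_ne hj with h | h
      · exact isZero_of_isGE (sg0 Y) 0 j h
      · exact isZero_of_isLE (sg0 Y) 0 j h
    haveI := ModuleCat.subsingleton_of_isZero hz
    infer_instance

/-- the module `Y` of a truncation triangle is `H^0(X)`. -/
noncomputable def truncEquiv (Tr : Triangle (Dual.D A)) (hTr : Tr ∈ distTriang (Dual.D A))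
    [Tr.obj₃.IsGE 1] (Y : ModuleCat.{u} A) (hY : Tr.obj₁ = sg0 Y) : Y ≃ₗ[A] Hm Tr.obj₂ 0 := by
  haveI := isIso_H0_mor₁ Tr hTr
  exact (((singleFunctorCompHomologyFunctorIso (ModuleCat.{u} A) 0).app Y).symm ≪≫
    eqToIso (by rw [hY]; rfl) ≪≫
    asIso ((homologyFunctor (ModuleCat.{u} A) 0).map Tr.mor₁)).toLinearEquiv

/-- surjectivity of `H^0_T(X₁) → H^0_T(X₂)` when the cone is in `D^{≥1}`. -/
lemma dMap_surjective_of_isGE (Tr : Triangle (Dual.D A)) (hTr : Tr ∈ distTriang (Dual.D A))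
    [Tr.obj₃.IsGE 1] : Function.Surjective (dMap T Tr.mor₁).hom := by
  intro y
  haveI := d_subsingleton_of_isGE T Tr.obj₃
  exact d_exact T _ hTr y (Subsingleton.elim _ _)

/-- injectivity of `H^0_T(X₁) → H^0_T(X₂)` when the cone is in `D^{≥1}`. -/
lemma dMap_injective_of_isGE (Tr : Triangle (Dual.D A)) (hTr : Tr ∈ distTriang (Dual.D A))
    [Tr.obj₃.IsGE 1] : Function.Injective (dMap T Tr.mor₁).hom := by
  rw [injective_iff_map_eq_zero]
  intro y hy
  have hinv := inv_rot_of_distTriang _ hTr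
  obtain ⟨x, hx⟩ := d_exact T _ hinv y hy
  haveI : (Tr.obj₃⟦(-1 : ℤ)⟧).IsGE 1 := by
    haveI : (Tr.obj₃⟦(-1 : ℤ)⟧).IsGE 2 := t.isGE_shift Tr.obj₃ 1 (-1) 2
    exact t.isGE_of_ge _ 1 2
  have hs : Subsingleton (HD0 T Tr.invRotate.obj₁) :=
    d_subsingleton_of_isGE T (Tr.obj₃⟦(-1 : ℤ)⟧)
  rw [← hx, hs.elim x 0]
  exact map_zero _

/-- (F2) `H^0_T(X)` is finite for `X ∈ D^{≥0}` with `H^0(X)` finite. -/
theorem hd0_finite [IsNoetherianRing A] (X : Dual.D A) [X.IsGE 0]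
    (hX : Module.Finite A (Hm X 0)) : Module.Finite A (HD0 T X) := by
  obtain ⟨Y, ν, Z, g, h, hTr, hZ⟩ := exists_trunc X
  haveI : (Triangle.mk ν g h).obj₃.IsGE 1 := hZ
  have e := truncEquiv _ hTr Y rfl
  haveI : Module.Finite A (Hm (Triangle.mk ν g h).obj₂ 0) := hX
  haveI : Module.Finite A Y := Module.Finite.equiv e.symm
  haveI := hd0_single_finite T Y
  exact Module.Finite.of_surjective (dMap T ν).hom (dMap_surjective_of_isGE T _ hTr)

lemma cls_eq_zero (Y : ModuleCat.{u} A) (a : Dual2.IdealsIn T) (m : Y)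
    (hm : ∀ r ∈ a.obj, r • m = 0) (h : cls T Y a m hm = 0) : m = 0 := by
  unfold cls at h
  rw [dMk_eq_zero_iff] at h
  obtain ⟨c, hc, h0⟩ := h
  rw [← Functor.map_comp, qmap_lin] at h0
  have h1 := (singleFunctor (ModuleCat.{u} A) 0).map_injective
    (h0.trans (Functor.map_zero _ _ _).symm)
  have h2 := lin_one c.obj m (fun r hr => hm r (hc hr))
  rw [h1] at h2
  exact h2.symm

/-- if `H^0_T(X) = 0` then `H^0(X)` has no `T`-torsion (stated for the module of a truncation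
triangle). -/
lemma torsT_eq_bot_of_hd0 (Y : ModuleCat.{u} A) {X Z : Dual.D A} (ν : sg0 Y ⟶ X) (g : X ⟶ Z)
    (h : Z ⟶ (sg0 Y)⟦(1 : ℤ)⟧) (hTr : Triangle.mk ν g h ∈ distTriang (Dual.D A)) [hZ : Z.IsGE 1]
    (hX : Subsingleton (HD0 T X)) : torsT T Y = ⊥ := by
  haveI : (Triangle.mk ν g h).obj₃.IsGE 1 := hZ
  rw [eq_bot_iff]
  rintro m ⟨𝔞, h𝔞, hm⟩
  rw [Submodule.mem_bot]
  refine cls_eq_zero T Y (idl T 𝔞 h𝔞) m hm ?_
  apply dMap_injective_of_isGE T _ hTr
  exact hX.elim _ _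

lemma dMap_units_smul_apply {X Y : Dual.D A} (ε : ℤˣ) (φ : X ⟶ Y) (y : HD0 T X) :
    (dMap T (ε • φ)).hom y = 0 ↔ (dMap T φ).hom y = 0 := by
  rcases Int.units_eq_one_or ε with rfl | rfl
  · rw [one_smul]
  · rw [Units.neg_smul, one_smul, dMap_neg_apply, neg_eq_zero]

/-- exactness at the middle term of a shifted distinguished triangle. -/
lemma d_exact_shift (Tr : Triangle (Dual.D A)) (hTr : Tr ∈ distTriang (Dual.D A)) (i : ℤ)
    (y : HD0 T (Tr.obj₂⟦i⟧)) (hy : (dMap T (Tr.mor₂⟦i⟧')).hom y = 0) :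
    ∃ x : HD0 T (Tr.obj₁⟦i⟧), (dMap T (Tr.mor₁⟦i⟧')).hom x = y := by
  have hsh : Triangle.mk (i.negOnePow • Tr.mor₁⟦i⟧') (i.negOnePow • Tr.mor₂⟦i⟧')
      (i.negOnePow • Tr.mor₃⟦i⟧' ≫ (shiftFunctorComm (Dual.D A) 1 i).hom.app Tr.obj₁) ∈
        distTriang (Dual.D A) := Triangle.shift_distinguished Tr hTr i
  have hy' : (dMap T (i.negOnePow • Tr.mor₂⟦i⟧')).hom y = 0 :=
    (dMap_units_smul_apply T _ _ y).mpr hy
  obtain ⟨x, hx⟩ : ∃ x : HD0 T (Tr.obj₁⟦i⟧), (dMap T (i.negOnePow • Tr.mor₁⟦i⟧')).hom x = y :=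
    d_exact T _ hsh y hy'
  rcases Int.units_eq_one_or (i.negOnePow) with h1 | h1
  · refine ⟨x, ?_⟩
    rw [h1, one_smul] at hx
    exact hx
  · refine ⟨-x, ?_⟩
    rw [h1, Units.neg_smul, one_smul, dMap_neg_apply] at hx
    rw [map_neg, hx]

lemma finCoh_shift (X : Dual.D A) (i : ℤ) (hX : FinCoh X) : FinCoh (X⟦i⟧) := by
  intro j
  have e : Hm (X⟦i⟧) j ≅ Hm X (i + j) :=
    ((homologyFunctor (ModuleCat.{u} A) 0).shiftIso i j (i + j) rfl).app X
  haveI := hX (i + j)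
  exact Module.Finite.equiv e.symm.toLinearEquiv

lemma isGE_shift_of_le (X : Dual.D A) [X.IsGE 0] (i n : ℤ) (h : i + n ≤ 0) : (X⟦i⟧).IsGE n := by
  haveI : (X⟦i⟧).IsGE (-i) := t.isGE_shift X 0 i (-i)
  exact t.isGE_of_ge _ n (-i) (by omega)

lemma finite_congr {X Y : Dual.D A} (e : X ≅ Y) (h : Module.Finite A (HD0 T X)) :
    Module.Finite A (HD0 T Y) := Module.Finite.equiv (dCongr T e)

lemma subsingleton_congr {X Y : Dual.D A} (e : X ≅ Y) (h : Subsingleton (HD0 T X)) :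
    Subsingleton (HD0 T Y) := (dCongr T e).symm.toEquiv.subsingleton

lemma kills_congr {X Y : Dual.D A} (e : X ≅ Y) (r : A) (h : ∀ y : HD0 T X, r • y = 0)
    (y : HD0 T Y) : r • y = 0 := by
  obtain ⟨z, rfl⟩ := (dCongr T e).surjective y
  rw [← map_smul, h, map_zero]

lemma torsT_torsT_eq_top (Y : ModuleCat.{u} A) :
    torsT T (ModuleCat.of A (torsT T Y)) = ⊤ := by
  rw [eq_top_iff]
  rintro ⟨m, 𝔞, h𝔞, hm⟩ _
  exact ⟨𝔞, h𝔞, fun r hr => Subtype.ext (hm r hr)⟩

/-- `H^0_T` of shifts of a `T`-torsion module vanish in positive degrees (integer version). -/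
lemma hd0_single_shift_subsingleton' [IsNoetherianRing A] (N : ModuleCat.{u} A)
    (hN : torsT T N = ⊤) (i : ℤ) (hi : 0 < i) : Subsingleton (HD0 T ((sg0 N)⟦i⟧)) := by
  obtain ⟨k, rfl⟩ := Int.eq_ofNat_of_zero_le hi.le
  exact hd0_single_shift_subsingleton T N hN k (by exact_mod_cast hi)

/-- monomorphisms stay monomorphisms under `H^0 ∘ sg0`. -/
lemma mono_H0_sg0_map {Y Y' : ModuleCat.{u} A} (f : Y ⟶ Y') [Mono f] :
    Mono ((homologyFunctor (ModuleCat.{u} A) 0).map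
      ((singleFunctor (ModuleCat.{u} A) 0).map f)) := by
  let iso := singleFunctorCompHomologyFunctorIso (ModuleCat.{u} A) 0
  have nat := iso.hom.naturality f
  have : (homologyFunctor (ModuleCat.{u} A) 0).map ((singleFunctor (ModuleCat.{u} A) 0).map f) =
      iso.hom.app Y ≫ f ≫ iso.inv.app Y' := by
    rw [← Category.assoc]
    erw [← nat]
    simp
  rw [this]
  have h1 : IsIso (iso.inv.app Y') := (iso.symm.app Y').isIso_hom
  have h2 : IsIso (iso.hom.app Y) := (iso.app Y).isIso_hom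
  have h3 : Mono (iso.inv.app Y') := @IsIso.mono_of_iso _ _ _ _ _ h1
  have h4 : Mono (iso.hom.app Y) := @IsIso.mono_of_iso _ _ _ _ _ h2
  have h0 : Mono f := inferInstance
  have h5 : Mono (f ≫ iso.inv.app Y') := mono_comp' h0 h3
  exact mono_comp' h4 h5

/-- removing the `T`-torsion of `H^0`. -/
theorem exists_torsionfree_model [IsNoetherianRing A] (X : Dual.D A) [X.IsGE 0] (hX : FinCoh X) :
    ∃ (X' : Dual.D A) (φ : X ⟶ X'), X'.IsGE 0 ∧ FinCoh X' ∧ Subsingleton (HD0 T X') ∧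
      (∀ i : ℤ, 0 ≤ i → Function.Surjective (dMap T (φ⟦i⟧')).hom) ∧
      (∀ i : ℤ, 1 ≤ i → Function.Injective (dMap T (φ⟦i⟧')).hom) := by
  obtain ⟨Y, ν, Z, g, h, hTr, hZ⟩ := exists_trunc X
  haveI : (Triangle.mk ν g h).obj₃.IsGE 1 := hZ
  have e := truncEquiv _ hTr Y rfl
  haveI : Module.Finite A (Hm (Triangle.mk ν g h).obj₂ 0) := hX 0
  haveI : Module.Finite A Y := Module.Finite.equiv e.symm
  haveI : IsNoetherian A Y := isNoetherian_of_isNoetherianRing_of_finite A Y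
  let Nm : ModuleCat.{u} A := ModuleCat.of A (torsT T Y)
  let incl : Nm ⟶ Y := ModuleCat.ofHom (torsT T Y).subtype
  haveI : Module.Finite A Nm := (inferInstance : Module.Finite A (torsT T Y))
  let ι : sg0 Nm ⟶ X := (singleFunctor (ModuleCat.{u} A) 0).map incl ≫ ν
  obtain ⟨X', φ, ψ, hTr'⟩ := distinguished_cocone_triangle ι
  have hN : torsT T Nm = ⊤ := torsT_torsT_eq_top T Y
  haveI : Mono incl := (ModuleCat.mono_iff_injective incl).mpr (Submodule.injective_subtype _)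
  have hmono : Mono ((homologyFunctor (ModuleCat.{u} A) 0).map ι) := by
    have : (homologyFunctor (ModuleCat.{u} A) 0).map ι =
        (homologyFunctor (ModuleCat.{u} A) 0).map ((singleFunctor (ModuleCat.{u} A) 0).map incl) ≫
          (homologyFunctor (ModuleCat.{u} A) 0).map ν := Functor.map_comp _ _ _
    rw [this]
    haveI := mono_H0_sg0_map incl
    haveI : IsIso ((homologyFunctor (ModuleCat.{u} A) 0).map ν) := isIso_H0_mor₁ _ hTr
    exact mono_comp _ _
  haveI : (Triangle.mk ι φ ψ).obj₁.IsGE 0 := (inferInstance : (sg0 Nm).IsGE 0)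
  haveI : (Triangle.mk ι φ ψ).obj₂.IsGE 0 := (inferInstance : X.IsGE 0)
  haveI hGE : X'.IsGE 0 := isGE_cone (Triangle.mk ι φ ψ) hTr' hmono
  refine ⟨X', φ, hGE, finCoh_cone _ hTr' (finCoh_sg0 Nm) hX, ?_, ?_, ?_⟩
  · refine ⟨fun y z => ?_⟩
    have key : ∀ y : HD0 T X', y = 0 := by
      intro y
      have hrot := rot_of_distTriang _ hTr'
      have hs := hd0_single_shift_subsingleton' T Nm hN 1 one_pos
      obtain ⟨x, rfl⟩ : ∃ x : HD0 T X, (dMap T φ).hom x = y :=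
        d_exact T _ hrot y (hs.elim _ _)
      obtain ⟨z, rfl⟩ : ∃ z : HD0 T (sg0 Y), (dMap T ν).hom z = x :=
        dMap_surjective_of_isGE T _ hTr x
      obtain ⟨w, rfl⟩ := dMap_single_subtype_surjective T Y z
      rw [← dMap_comp_apply, ← dMap_comp_apply]
      have : (singleFunctor (ModuleCat.{u} A) 0).map (ModuleCat.ofHom (torsT T Y).subtype) ≫ ν ≫
          φ = 0 := (Category.assoc _ _ _).symm.trans (comp_distTriang_mor_zero₁₂ _ hTr')
      rw [this, dMap_zero_apply]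
    rw [key y, key z]
  · intro i hi y
    have hrot := rot_of_distTriang _ hTr'
    have hs : Subsingleton (HD0 T (((sg0 Nm)⟦(1 : ℤ)⟧)⟦i⟧)) :=
      subsingleton_congr T ((shiftFunctorAdd' (Dual.D A) 1 i (1 + i) rfl).app (sg0 Nm))
        (hd0_single_shift_subsingleton' T Nm hN (1 + i) (by omega))
    exact d_exact_shift T _ hrot i y (hs.elim _ _)
  · intro i hi
    rw [injective_iff_map_eq_zero]
    intro y hy
    obtain ⟨w, rfl⟩ : ∃ w : HD0 T ((sg0 Nm)⟦i⟧), (dMap T (ι⟦i⟧')).hom w = y :=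
      d_exact_shift T _ hTr' i y hy
    have hs := hd0_single_shift_subsingleton' T Nm hN i (by omega)
    rw [hs.elim w 0]
    exact map_zero _

end Groth.Agent.Lib.Helper47.HDTLib
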