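import Groth.Agent.Lib.Helper47.HTBasic
import Mathlib.Algebra.Homology.DerivedCategory.Ext.ExactSequences

/-!
# `H^i_T`: maps out, connecting homomorphisms and the long exact sequence (helper47)
-/

set_option autoImplicit false
universe u
open CategoryTheory CategoryTheory.Limits Opposite Abelian

namespace Groth.Agent.Lib.Helper47.HTLib

open Groth.Agent.Lib.Helper60 localCohomology

variable {R : Type u} [CommRing R] (T : Set (PrimeSpectrum R))

section desc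

variable (i : ℕ) (M : ModuleCat.{u} R) {Q : Type*} [AddCommGroup Q]
  (φ : ∀ a : Dual2.IdealsIn T, Abelian.Ext (quotObj a.obj) M i →+ Q)
  (hφ : ∀ (a b : Dual2.IdealsIn T) (h : a.obj ≤ b.obj) (x : Abelian.Ext (quotObj b.obj) M i),
    φ a (qres h x) = φ b x)

/-- underlying function of `tDesc`. -/
noncomputable def tDescFun (y : (HTf T i).obj M) : Q :=
  φ (tMk_surj T i M y).choose (tMk_surj T i M y).choose_spec.choose

include hφ in
lemma tDescFun_tMk (a : Dual2.IdealsIn T) (x : Abelian.Ext (quotObj a.obj) M i) :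
    tDescFun T i M φ (tMk T i M a x) = φ a x := by
  unfold tDescFun
  have hspec := (tMk_surj T i M (tMk T i M a x)).choose_spec.choose_spec
  rw [tMk_eq_iff] at hspec
  obtain ⟨c, ha, hb, h⟩ := hspec
  rw [← hφ c _ ha, ← hφ c a hb, h]

/-- A compatible family of additive maps out of `Ext^i(R/𝔞, M)` induces an additive map out of
`H^i_T(M)`. -/
noncomputable def tDesc : (HTf T i).obj M →+ Q where
  toFun := tDescFun T i M φ
  map_zero' := by
    rw [← tMk_zero T i M (idl T ⊤ (by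
      rw [Submodule.top_coe, PrimeSpectrum.zeroLocus_univ]; exact Set.empty_subset _)),
      tDescFun_tMk T i M φ hφ, map_zero]
  map_add' y y' := by
    obtain ⟨a, x, rfl⟩ := tMk_surj T i M y
    obtain ⟨b, x', rfl⟩ := tMk_surj T i M y'
    rw [← tMk_res T i M (idlInf_le_left T a b) x, ← tMk_res T i M (idlInf_le_right T a b) x',
      ← tMk_add, tDescFun_tMk T i M φ hφ, tDescFun_tMk T i M φ hφ, tDescFun_tMk T i M φ hφ, map_add]

@[simp]
lemma tDesc_tMk (a : Dual2.IdealsIn T) (x : Abelian.Ext (quotObj a.obj) M i) :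
    tDesc T i M φ hφ (tMk T i M a x) = φ a x :=
  tDescFun_tMk T i M φ hφ a x

end desc

section descLinear

variable (i : ℕ) (M : ModuleCat.{u} R) {Q : Type*} [AddCommGroup Q] [Module R Q]
  (φ : ∀ a : Dual2.IdealsIn T, Abelian.Ext (quotObj a.obj) M i →ₗ[R] Q)
  (hφ : ∀ (a b : Dual2.IdealsIn T) (h : a.obj ≤ b.obj) (x : Abelian.Ext (quotObj b.obj) M i),
    φ a (qres h x) = φ b x)

include hφ in
lemma tDescₗ_aux (a b : Dual2.IdealsIn T) (h : a.obj ≤ b.obj)
    (x : Abelian.Ext (quotObj b.obj) M i) :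
    (φ a).toAddMonoidHom (qres h x) = (φ b).toAddMonoidHom x := hφ a b h x

/-- linear version of `tDesc`. -/
noncomputable def tDescₗ : (HTf T i).obj M →ₗ[R] Q where
  toFun := tDesc T i M (fun a => (φ a).toAddMonoidHom) (tDescₗ_aux T i M φ hφ)
  map_add' := map_add _
  map_smul' r y := by
    obtain ⟨a, x, rfl⟩ := tMk_surj T i M y
    rw [← tMk_smul, tDesc_tMk, tDesc_tMk]
    simp

@[simp]
lemma tDescₗ_tMk (a : Dual2.IdealsIn T) (x : Abelian.Ext (quotObj a.obj) M i) :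
    tDescₗ T i M φ hφ (tMk T i M a x) = φ a x :=
  tDesc_tMk T i M _ (tDescₗ_aux T i M φ hφ) a x

end descLinear

section postcomp

/-- `tMk` as a linear map. -/
noncomputable def tMkₗ (i : ℕ) (M : ModuleCat.{u} R) (a : Dual2.IdealsIn T) :
    Abelian.Ext (quotObj a.obj) M i →ₗ[R] (HTf T i).obj M where
  toFun := tMk T i M a
  map_add' := tMk_add T i M a
  map_smul' := tMk_smul T i M a

@[simp] lemma tMkₗ_apply (i : ℕ) (M : ModuleCat.{u} R) (a : Dual2.IdealsIn T)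
    (x : Abelian.Ext (quotObj a.obj) M i) : tMkₗ T i M a x = tMk T i M a x := rfl

/-- Post-composition with a class `e ∈ Ext^d(M, N)` induces `H^i_T(M) → H^{i+d}_T(N)`. -/
noncomputable def tPostcomp {M N : ModuleCat.{u} R} {d : ℕ} (e : Abelian.Ext M N d) (i j : ℕ)
    (h : i + d = j) : (HTf T i).obj M →ₗ[R] (HTf T j).obj N :=
  tDescₗ T i M (fun a => tMkₗ T j N a ∘ₗ e.postcompOfLinear R (quotObj a.obj) h)
    (by
      intro a b hab x
      simp only [LinearMap.coe_comp, Function.comp_apply, tMkₗ_apply, LinearMap.flip_apply,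
        Ext.bilinearCompOfLinear_apply_apply]
      rw [qres_comp, tMk_res])

@[simp]
lemma tPostcomp_tMk {M N : ModuleCat.{u} R} {d : ℕ} (e : Abelian.Ext M N d) (i j : ℕ)
    (h : i + d = j) (a : Dual2.IdealsIn T) (x : Abelian.Ext (quotObj a.obj) M i) :
    tPostcomp T e i j h (tMk T i M a x) = tMk T j N a (x.comp e h) := by
  unfold tPostcomp
  rw [tDescₗ_tMk]
  rfl

end postcomp

section LES

variable {S : ShortComplex (ModuleCat.{u} R)} (hS : S.ShortExact)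

/-- The connecting homomorphism `H^i_T(S.X₃) → H^{i+1}_T(S.X₁)` of a short exact sequence. -/
noncomputable def tDelta (i : ℕ) :
    (HTf T i).obj S.X₃ →ₗ[R] (HTf T (i + 1)).obj S.X₁ :=
  tPostcomp T hS.extClass i (i + 1) rfl

@[simp]
lemma tDelta_tMk (i : ℕ) (a : Dual2.IdealsIn T) (x : Abelian.Ext (quotObj a.obj) S.X₃ i) :
    tDelta T hS i (tMk T i S.X₃ a x) = tMk T (i + 1) S.X₁ a (x.comp hS.extClass rfl) :=
  tPostcomp_tMk T hS.extClass i (i + 1) rfl a x

include hS in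
/-- exactness at `H^i_T(S.X₂)`. -/
lemma t_exact₂ (i : ℕ) (y : (HTf T i).obj S.X₂) (hy : ((HTf T i).map S.g).hom y = 0) :
    ∃ y₁ : (HTf T i).obj S.X₁, ((HTf T i).map S.f).hom y₁ = y := by
  obtain ⟨a, x, rfl⟩ := tMk_surj T i S.X₂ y
  rw [tMap_tMk, tMk_eq_zero_iff] at hy
  obtain ⟨c, hc, h0⟩ := hy
  rw [← qres_comp] at h0
  obtain ⟨x₁, hx₁⟩ := Ext.covariant_sequence_exact₂ (quotObj c.obj) hS (qres hc x) h0
  refine ⟨tMk T i S.X₁ c x₁, ?_⟩
  rw [tMap_tMk, hx₁, tMk_res]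

/-- exactness at `H^i_T(S.X₃)`. -/
lemma t_exact₃ (i : ℕ) (y : (HTf T i).obj S.X₃) (hy : tDelta T hS i y = 0) :
    ∃ y₂ : (HTf T i).obj S.X₂, ((HTf T i).map S.g).hom y₂ = y := by
  obtain ⟨a, x, rfl⟩ := tMk_surj T i S.X₃ y
  rw [tDelta_tMk, tMk_eq_zero_iff] at hy
  obtain ⟨c, hc, h0⟩ := hy
  rw [← qres_comp] at h0
  obtain ⟨x₂, hx₂⟩ := Ext.covariant_sequence_exact₃ (quotObj c.obj) hS (qres hc x) rfl h0
  refine ⟨tMk T i S.X₂ c x₂, ?_⟩
  rw [tMap_tMk, hx₂, tMk_res]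

/-- exactness at `H^{i+1}_T(S.X₁)`. -/
lemma t_exact₁ (i : ℕ) (y : (HTf T (i + 1)).obj S.X₁)
    (hy : ((HTf T (i + 1)).map S.f).hom y = 0) :
    ∃ y₃ : (HTf T i).obj S.X₃, tDelta T hS i y₃ = y := by
  obtain ⟨a, x, rfl⟩ := tMk_surj T (i + 1) S.X₁ y
  rw [tMap_tMk, tMk_eq_zero_iff] at hy
  obtain ⟨c, hc, h0⟩ := hy
  rw [← qres_comp] at h0
  obtain ⟨x₃, hx₃⟩ := Ext.covariant_sequence_exact₁ (quotObj c.obj) hS (qres hc x) h0 rfl
  refine ⟨tMk T i S.X₃ c x₃, ?_⟩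
  rw [tDelta_tMk, hx₃, tMk_res]

lemma tDelta_comp_map (i : ℕ) (y : (HTf T i).obj S.X₂) :
    tDelta T hS i (((HTf T i).map S.g).hom y) = 0 := by
  obtain ⟨a, x, rfl⟩ := tMk_surj T i S.X₂ y
  rw [tMap_tMk, tDelta_tMk, Ext.comp_assoc _ _ _ (add_zero i) (zero_add 1) (by omega),
    hS.comp_extClass, Ext.comp_zero, tMk_zero]

lemma tMap_comp_delta (i : ℕ) (y : (HTf T i).obj S.X₃) :
    ((HTf T (i + 1)).map S.f).hom (tDelta T hS i y) = 0 := by
  obtain ⟨a, x, rfl⟩ := tMk_surj T i S.X₃ y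
  rw [tDelta_tMk, tMap_tMk, Ext.comp_assoc _ _ _ rfl (add_zero 1) (by omega),
    hS.extClass_comp, Ext.comp_zero, tMk_zero]

/-- the map induced on `H^i_T` by multiplication by `r` is multiplication by `r`. -/
lemma tMap_smul_id (i : ℕ) (M : ModuleCat.{u} R) (r : R) (y : (HTf T i).obj M) :
    ((HTf T i).map (r • 𝟙 M)).hom y = r • y := by
  obtain ⟨a, x, rfl⟩ := tMk_surj T i M y
  rw [tMap_tMk, Ext.mk₀_smul, Ext.comp_smul, Ext.comp_mk₀_id, tMk_smul]

end LES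

end Groth.Agent.Lib.Helper47.HTLib
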