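import Mathlib
import Groth.Prelude.Def_QuadSing
import Groth.Agent.Lib.Helper63.NodeQuad
import Groth.Agent.Lib.Helper58.MvPSComplete
import Groth.Agent.S8719

/-!
# 2-jets of power series along lines, and invariance of non-degeneracy of the quadratic part

* `jet v : k[[x]] →ₐ[k] k[[t]]`, restriction to the line `t ↦ t v`, with its coefficients in
  degrees `0, 1, 2`.
* `quadNondeg_of_algEquiv`: if `k[[x]]/(g) ≃ₐ[k] k[[x]]/(q)` with `g, q` without constant and linear
  terms and `q` with non-degenerate quadratic part, then the quadratic part of `g` is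
  non-degenerate.
-/

set_option autoImplicit false
universe u

namespace Groth.Agent.Lib.Helper47.QuadJet

section Part1

open MvPowerSeries Finsupp VanCyc IsLocalRing

variable {k : Type u} [Field k] {N : ℕ}

/-- Membership in powers of the maximal ideal of `k[[x]]`, by coefficients. -/
theorem mem_maximalIdeal_pow_iff {n : ℕ} {F : MvPowerSeries (Fin N) k} :
    F ∈ maximalIdeal (MvPowerSeries (Fin N) k) ^ n ↔
      ∀ d : Fin N →₀ ℕ, degree d < n → coeff d F = 0 := by
  rw [Groth.Agent.Lib.Helper58.MvPSComplete.mem_maximalIdeal_pow_iff]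
  have hbot : maximalIdeal k = ⊥ := IsLocalRing.maximalIdeal_eq_bot
  constructor
  · intro h d hd
    have := h d
    rw [hbot] at this
    have hpos : n - degree d ≠ 0 := by omega
    rw [Ideal.bot_pow hpos] at this
    exact this
  · intro h d
    by_cases hd : degree d < n
    · rw [h d hd]; exact zero_mem _
    · have : n - degree d = 0 := by omega
      rw [this, pow_zero, Ideal.one_eq_top]
      trivial

/-- The line `t ↦ t v`. -/
noncomputable def lineVec (v : Fin N → k) : Fin N → PowerSeries k :=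
  fun i => PowerSeries.C (v i) * PowerSeries.X

theorem hasSubst_lineVec (v : Fin N → k) : HasSubst (lineVec v) := by
  apply hasSubst_of_constantCoeff_zero
  intro i
  change PowerSeries.constantCoeff (PowerSeries.C (v i) * PowerSeries.X) = 0
  rw [map_mul, PowerSeries.constantCoeff_X, mul_zero]

/-- Restriction of a power series to the line `t ↦ t v`. -/
noncomputable def jet (v : Fin N → k) : MvPowerSeries (Fin N) k →ₐ[k] PowerSeries k :=
  substAlgHom (hasSubst_lineVec v)

theorem jet_X (v : Fin N → k) (i : Fin N) :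
    jet v (X i) = PowerSeries.C (v i) * PowerSeries.X :=
  substAlgHom_X (hasSubst_lineVec v) i

theorem jet_C (v : Fin N → k) (c : k) : jet v (C c) = PowerSeries.C c := by
  have h1 : (C c : MvPowerSeries (Fin N) k) = algebraMap k _ c := rfl
  rw [h1, AlgHom.commutes]
  rfl

theorem jet_mem (v : Fin N → k) (n : ℕ) (F : MvPowerSeries (Fin N) k)
    (hF : F ∈ maximalIdeal (MvPowerSeries (Fin N) k) ^ n) :
    ∀ m < n, PowerSeries.coeff m (jet v F) = 0 := by
  have hm : maximalIdeal (MvPowerSeries (Fin N) k) =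
      Ideal.span (Set.range fun i : Fin N => (X i : MvPowerSeries (Fin N) k)) := by
    ext G
    rw [← pow_one (maximalIdeal (MvPowerSeries (Fin N) k)), mem_maximalIdeal_pow_iff]
    constructor
    · intro h
      have h0 : constantCoeff G = 0 := by
        rw [← coeff_zero_eq_constantCoeff_apply]; exact h 0 (by simp)
      rw [Groth.Agent.Lib.Helper21.PSAdic.eq_C_add_sum G, h0, map_zero, zero_add]
      refine Ideal.sum_mem _ fun i _ => ?_
      exact Ideal.mul_mem_right _ _ (Ideal.subset_span ⟨i, rfl⟩)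
    · intro h d hd
      have hd0 : d = 0 := by rw [← Finsupp.degree_eq_zero_iff]; omega
      subst hd0
      rw [coeff_zero_eq_constantCoeff_apply]
      have : Ideal.span (Set.range fun i : Fin N => (X i : MvPowerSeries (Fin N) k)) ≤
          RingHom.ker (constantCoeff : MvPowerSeries (Fin N) k →+* k) := by
        rw [Ideal.span_le]
        rintro _ ⟨i, rfl⟩
        exact constantCoeff_X i
      exact this h
  have h1 : Ideal.map (jet v : MvPowerSeries (Fin N) k →+* PowerSeries k)
      (maximalIdeal (MvPowerSeries (Fin N) k)) ≤ Ideal.span {PowerSeries.X} := by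
    rw [hm, Ideal.map_span, Ideal.span_le]
    rintro _ ⟨_, ⟨i, rfl⟩, rfl⟩
    change jet v (X i) ∈ _
    rw [jet_X]
    exact Ideal.mul_mem_left _ _ (Ideal.subset_span rfl)
  have h2 : jet v F ∈ Ideal.span {(PowerSeries.X : PowerSeries k) ^ n} := by
    rw [← Ideal.span_singleton_pow]
    refine Ideal.pow_right_mono h1 n ?_
    rw [← Ideal.map_pow]
    exact Ideal.mem_map_of_mem _ hF
  rw [Ideal.mem_span_singleton] at h2
  exact PowerSeries.X_pow_dvd_iff.mp h2

end Part1

section Part2

open MvPowerSeries Finsupp VanCyc IsLocalRing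
open Groth.Agent.Lib.Helper63.MorseComplete Groth.Agent.Lib.Helper63.NodeQuad

variable {k : Type u} [Field k] {N : ℕ}

theorem sub_Fpol_mem (G : MvPowerSeries (Fin N) k) :
    G - ((Fpol (quadPart G) (fun i => coeff (single i 1) G) (constantCoeff G) :
      MvPolynomial (Fin N) k) : MvPowerSeries (Fin N) k) ∈
      maximalIdeal (MvPowerSeries (Fin N) k) ^ 3 := by
  rw [mem_maximalIdeal_pow_iff]
  intro d hd
  rw [map_sub, sub_eq_zero]
  exact coeff_eq_coeff_Fpol G d (by omega)

theorem jet_coe (v : Fin N → k) (p : MvPolynomial (Fin N) k) :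
    jet v (p : MvPowerSeries (Fin N) k) = MvPolynomial.aeval (lineVec v) p :=
  substAlgHom_coe (hasSubst_lineVec v) p

theorem jet_Fpol (v : Fin N → k) (q : Fin N → Fin N → k) (ℓ : Fin N → k) (a : k) :
    jet v ((Fpol q ℓ a : MvPolynomial (Fin N) k) : MvPowerSeries (Fin N) k) =
      PowerSeries.C a + PowerSeries.C (∑ i, ℓ i * v i) * PowerSeries.X +
        PowerSeries.C (quadEval q v) * PowerSeries.X ^ 2 := by
  rw [jet_coe]
  unfold Fpol quadPoly quadEval
  have h1 : ∀ c : k, algebraMap k (PowerSeries k) c = PowerSeries.C c := fun c => rfl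
  have h2 : ∀ i j : Fin N, MvPolynomial.aeval (lineVec v)
      (if i ≤ j then MvPolynomial.C (q i j) * MvPolynomial.X i * MvPolynomial.X j else 0) =
      PowerSeries.C (if i ≤ j then q i j * v i * v j else 0) * PowerSeries.X ^ 2 := by
    intro i j
    split_ifs
    · simp only [map_mul, MvPolynomial.aeval_C, MvPolynomial.aeval_X, h1, lineVec]
      ring
    · simp
  have h3 : ∀ i : Fin N, MvPolynomial.aeval (lineVec v)
      (MvPolynomial.C (ℓ i) * MvPolynomial.X i) =
      PowerSeries.C (ℓ i * v i) * PowerSeries.X := by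
    intro i
    simp only [map_mul, MvPolynomial.aeval_C, MvPolynomial.aeval_X, h1, lineVec]
    ring
  simp only [map_add, map_sum, h2, h3, MvPolynomial.aeval_C, h1, ← Finset.sum_mul]
  ring

/-- The 2-jet of a power series along the line `t v`. -/
theorem coeff_jet (v : Fin N → k) (G : MvPowerSeries (Fin N) k) (m : ℕ) (hm : m < 3) :
    PowerSeries.coeff m (jet v G) = PowerSeries.coeff m
      (PowerSeries.C (constantCoeff G) +
        PowerSeries.C (∑ i, coeff (single i 1) G * v i) * PowerSeries.X +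
        PowerSeries.C (quadEval (quadPart G) v) * PowerSeries.X ^ 2) := by
  have h1 := jet_mem v 3 _ (sub_Fpol_mem G) m hm
  rw [map_sub, map_sub, sub_eq_zero, jet_Fpol] at h1
  exact h1

theorem coeff_zero_jet (v : Fin N → k) (G : MvPowerSeries (Fin N) k) :
    PowerSeries.coeff 0 (jet v G) = constantCoeff G := by
  rw [coeff_jet v G 0 (by norm_num)]
  simp

theorem coeff_one_jet (v : Fin N → k) (G : MvPowerSeries (Fin N) k) :
    PowerSeries.coeff 1 (jet v G) = ∑ i, coeff (single i 1) G * v i := by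
  rw [coeff_jet v G 1 (by norm_num)]
  simp [PowerSeries.coeff_X_pow, PowerSeries.coeff_C]

theorem coeff_two_jet (v : Fin N → k) (G : MvPowerSeries (Fin N) k) :
    PowerSeries.coeff 2 (jet v G) = quadEval (quadPart G) v := by
  rw [coeff_jet v G 2 (by norm_num)]
  simp [PowerSeries.coeff_X_pow]

/-- If `F, G` have no constant terms then the degree-two coefficient of the jet of `F * G` is
the product of the linear ones. -/
theorem coeff_two_jet_mul (v : Fin N → k) (F G : MvPowerSeries (Fin N) k)
    (hF : constantCoeff F = 0) (hG : constantCoeff G = 0) :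
    PowerSeries.coeff 2 (jet v (F * G)) =
      PowerSeries.coeff 1 (jet v F) * PowerSeries.coeff 1 (jet v G) := by
  rw [map_mul, PowerSeries.coeff_mul]
  have h0F := coeff_zero_jet v F
  have h0G := coeff_zero_jet v G
  rw [hF] at h0F
  rw [hG] at h0G
  have : (Finset.HasAntidiagonal.antidiagonal 2 : Finset (ℕ × ℕ)) =
      {(0, 2), (1, 1), (2, 0)} := by decide
  rw [this]
  simp [h0F, h0G]

end Part2

section Part3

open VanCyc Matrix

variable {k : Type u} [Field k] {N : ℕ}

theorem polarMatrix_apply_eq (a : Fin N → Fin N → k) (i j : Fin N) :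
    polarMatrix a i j = (if i ≤ j then a i j else 0) + (if j ≤ i then a j i else 0) := by
  unfold polarMatrix
  rcases lt_trichotomy i j with h | h | h
  · rw [if_neg (ne_of_lt h), if_pos h, if_pos h.le, if_neg (not_le.mpr h), add_zero]
  · subst h
    rw [if_pos rfl, if_pos le_rfl, two_mul]
  · rw [if_neg (ne_of_gt h), if_neg (not_lt.mpr h.le), if_neg (not_le.mpr h), if_pos h.le, zero_add]

/-- The polar identity. -/
theorem quadEval_add (a : Fin N → Fin N → k) (u v : Fin N → k) :
    quadEval a (u + v) - quadEval a u - quadEval a v = u ⬝ᵥ (polarMatrix a *ᵥ v) := by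
  unfold quadEval
  simp only [dotProduct, mulVec, polarMatrix_apply_eq, Pi.add_apply]
  have h1 : ∀ i j : Fin N, ((if i ≤ j then a i j * (u i + v i) * (u j + v j) else 0) -
      (if i ≤ j then a i j * u i * u j else 0)) - (if i ≤ j then a i j * v i * v j else 0) =
      (if i ≤ j then a i j * u i * v j else 0) + (if i ≤ j then a i j * v i * u j else 0) := by
    intro i j
    split_ifs
    · ring
    · ring
  rw [← Finset.sum_sub_distrib, ← Finset.sum_sub_distrib]
  simp_rw [← Finset.sum_sub_distrib, h1, Finset.sum_add_distrib]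
  rw [Finset.sum_comm (f := fun i j => if i ≤ j then a i j * v i * u j else 0)]
  rw [← Finset.sum_add_distrib]
  refine Finset.sum_congr rfl fun i _ => ?_
  rw [Finset.mul_sum, ← Finset.sum_add_distrib]
  refine Finset.sum_congr rfl fun j _ => ?_
  split_ifs <;> ring

/-- If `Q_g ∘ T = c Q_q` as functions then `Tᵀ P_g T = c P_q`. -/
theorem transpose_mul_polar_mul (a b : Fin N → Fin N → k) (T : Matrix (Fin N) (Fin N) k) (c : k)
    (h : ∀ v, quadEval a (T *ᵥ v) = c * quadEval b v) :
    Tᵀ * polarMatrix a * T = c • polarMatrix b := by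
  have key : ∀ u v : Fin N → k, (T *ᵥ u) ⬝ᵥ (polarMatrix a *ᵥ (T *ᵥ v)) =
      c * (u ⬝ᵥ (polarMatrix b *ᵥ v)) := by
    intro u v
    rw [← quadEval_add, ← quadEval_add, ← Matrix.mulVec_add, h, h, h]
    ring
  ext i j
  have := key (Pi.single i 1) (Pi.single j 1)
  rw [Matrix.mulVec_single_one, Matrix.mulVec_single_one, Matrix.mulVec_single_one,
    single_one_dotProduct] at this
  have h2 : (c • polarMatrix b) i j = c * (polarMatrix b).col j i := rfl
  rw [h2, ← this, Matrix.mul_apply]
  simp only [Matrix.mul_apply, Matrix.transpose_apply, dotProduct, mulVec, Matrix.col_apply]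
  simp_rw [Finset.sum_mul, Finset.mul_sum]
  rw [Finset.sum_comm]
  refine Finset.sum_congr rfl fun x _ => ?_
  refine Finset.sum_congr rfl fun y _ => ?_
  ring

theorem quadNondeg_of_transform [NeZero N] (a b : Fin N → Fin N → k)
    (T T' : Matrix (Fin N) (Fin N) k)
    (c c' : k) (h : ∀ v, quadEval a (T *ᵥ v) = c * quadEval b v)
    (h' : ∀ v, quadEval b (T' *ᵥ v) = c' * quadEval a v)
    (hTT : ∀ v, T' *ᵥ (T *ᵥ v) = v) (hb : QuadNondeg b) : QuadNondeg a := by
  -- `Q_b` is not identically zero
  have hex : ∃ v, quadEval b v ≠ 0 := by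
    by_contra hne
    push Not at hne
    have hP : polarMatrix b = 0 := by
      ext i j
      have := quadEval_add b (Pi.single i 1) (Pi.single j 1)
      rw [hne, hne, hne, Matrix.mulVec_single_one, single_one_dotProduct] at this
      simpa using this.symm
    unfold QuadNondeg at hb
    haveI : Nonempty (Fin N) := ⟨⟨0, Nat.pos_of_ne_zero (NeZero.ne N)⟩⟩
    rw [hP, Matrix.det_zero] at hb
    exact not_isUnit_zero hb
  obtain ⟨v, hv⟩ := hex
  have hcc : c' * c = 1 := by
    have h1 : quadEval b v = c' * c * quadEval b v := by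
      conv_lhs => rw [← hTT v, h', h]
      ring
    have h2 : (1 - c' * c) * quadEval b v = 0 := by
      rw [sub_mul, one_mul, ← h1, sub_self]
    rcases mul_eq_zero.mp h2 with h3 | h3
    · exact (sub_eq_zero.mp h3).symm
    · exact absurd h3 hv
  have hc : c ≠ 0 := by
    rintro rfl
    rw [mul_zero] at hcc
    exact zero_ne_one hcc
  have hmat := transpose_mul_polar_mul a b T c h
  have hdet := congrArg Matrix.det hmat
  rw [Matrix.det_mul, Matrix.det_mul, Matrix.det_transpose, Matrix.det_smul] at hdet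
  unfold QuadNondeg at hb ⊢
  have hu : IsUnit (c ^ Fintype.card (Fin N) * (polarMatrix b).det) :=
    (isUnit_iff_ne_zero.mpr (pow_ne_zero _ hc)).mul hb
  rw [← hdet] at hu
  exact isUnit_of_mul_isUnit_right (isUnit_of_mul_isUnit_left hu)

end Part3

section Part4

open MvPowerSeries Finsupp VanCyc IsLocalRing Matrix
open Groth.Agent.Lib.Helper63.MorseComplete Groth.Agent.Lib.Helper63.NodeQuad

variable {k : Type u} [Field k] {N : ℕ}

theorem maximalIdeal_eq_span :
    maximalIdeal (MvPowerSeries (Fin N) k) =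
      Ideal.span (Set.range fun i : Fin N => (X i : MvPowerSeries (Fin N) k)) :=
  (Groth.Agent.S8719.maximalIdeal_eq_ker k N).trans (Groth.Agent.S8719.ker_eq_span k N)

theorem mem_maximalIdeal_iff' {F : MvPowerSeries (Fin N) k} :
    F ∈ maximalIdeal (MvPowerSeries (Fin N) k) ↔ constantCoeff F = 0 := by
  rw [Groth.Agent.S8719.maximalIdeal_eq_ker, RingHom.mem_ker]

theorem noLowTerms_mem_sq {q : MvPowerSeries (Fin N) k} (hq : NoLowTerms q) :
    q ∈ maximalIdeal (MvPowerSeries (Fin N) k) ^ 2 := by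
  rw [mem_maximalIdeal_pow_iff]
  intro d hd
  rcases Groth.Agent.S8719.degree_lt_two d hd with rfl | ⟨j, rfl⟩
  · rw [coeff_zero_eq_constantCoeff_apply]; exact hq.1
  · exact hq.2 j

/-- linear truncation -/
theorem sub_linear_mem_sq (F : MvPowerSeries (Fin N) k) (hF : constantCoeff F = 0) :
    F - ∑ b, C (coeff (single b 1) F) * X b ∈ maximalIdeal (MvPowerSeries (Fin N) k) ^ 2 := by
  classical
  rw [mem_maximalIdeal_pow_iff]
  intro d hd
  rcases Groth.Agent.S8719.degree_lt_two d hd with rfl | ⟨j, rfl⟩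
  · rw [coeff_zero_eq_constantCoeff_apply, map_sub, hF, map_sum, zero_sub, neg_eq_zero]
    refine Finset.sum_eq_zero fun b _ => ?_
    rw [map_mul, constantCoeff_X, mul_zero]
  · rw [map_sub, map_sum, Finset.sum_eq_single j, coeff_C_mul, coeff_X, if_pos rfl, mul_one,
      sub_self]
    · intro b _ hb
      rw [coeff_C_mul, coeff_X, if_neg, mul_zero]
      intro h
      apply hb
      have := DFunLike.congr_fun h j
      simp only [single_eq_same] at this
      by_contra hne
      rw [single_eq_of_ne (Ne.symm hne)] at this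
      exact one_ne_zero this
    · intro h; exact absurd (Finset.mem_univ _) h

theorem quadPoly_eq_Fpol {g : MvPowerSeries (Fin N) k} (hg : NoLowTerms g) :
    Fpol (quadPart g) (fun i => coeff (single i 1) g) (constantCoeff g) = quadPoly (quadPart g) := by
  unfold Fpol
  rw [hg.1]
  simp [hg.2]

theorem sub_quadPoly_mem {g : MvPowerSeries (Fin N) k} (hg : NoLowTerms g) :
    g - ((quadPoly (quadPart g) : MvPolynomial (Fin N) k) : MvPowerSeries (Fin N) k) ∈
      maximalIdeal (MvPowerSeries (Fin N) k) ^ 3 := by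
  have := sub_Fpol_mem g
  rwa [quadPoly_eq_Fpol hg] at this

/-- jets of elements of `𝔐²` -/
theorem coeff_one_jet_of_mem_sq (v : Fin N → k) {F : MvPowerSeries (Fin N) k}
    (hF : F ∈ maximalIdeal (MvPowerSeries (Fin N) k) ^ 2) : PowerSeries.coeff 1 (jet v F) = 0 :=
  jet_mem v 2 F hF 1 (by norm_num)

theorem coeff_zero_jet_of_mem_sq (v : Fin N → k) {F : MvPowerSeries (Fin N) k}
    (hF : F ∈ maximalIdeal (MvPowerSeries (Fin N) k) ^ 2) : PowerSeries.coeff 0 (jet v F) = 0 :=
  jet_mem v 2 F hF 0 (by norm_num)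

end Part4

section Part5

open MvPowerSeries Finsupp VanCyc IsLocalRing Matrix
open Groth.Agent.Lib.Helper63.MorseComplete Groth.Agent.Lib.Helper63.NodeQuad

variable {k : Type u} [Field k] {N : ℕ}

/-- Locality of algebra maps between quotients of power series rings. -/
theorem constantCoeff_eq_zero_of_hom (g q : MvPowerSeries (Fin N) k)
    (hq : constantCoeff q = 0)
    (θ : (MvPowerSeries (Fin N) k ⧸ Ideal.span {g}) →ₐ[k] (MvPowerSeries (Fin N) k ⧸ Ideal.span {q}))
    (F Z : MvPowerSeries (Fin N) k) (hF : constantCoeff F = 0)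
    (hZ : Ideal.Quotient.mk (Ideal.span {q}) Z = θ (Ideal.Quotient.mk (Ideal.span {g}) F)) :
    constantCoeff Z = 0 := by
  by_contra hc
  set c := constantCoeff Z with hcdef
  -- `F - C c` is a unit
  have hu : IsUnit (F - C c) := by
    rw [MvPowerSeries.isUnit_iff_constantCoeff, map_sub, hF, constantCoeff_C, zero_sub]
    exact (isUnit_iff_ne_zero.mpr hc).neg
  have hu2 : IsUnit (θ (Ideal.Quotient.mk (Ideal.span {g}) (F - C c))) :=
    (hu.map (Ideal.Quotient.mk (Ideal.span {g}))).map θ
  have hθC : θ (Ideal.Quotient.mk (Ideal.span {g}) (C c)) =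
      Ideal.Quotient.mk (Ideal.span {q}) (C c) := by
    have h1 : Ideal.Quotient.mk (Ideal.span {g}) (C c) =
        algebraMap k (MvPowerSeries (Fin N) k ⧸ Ideal.span {g}) c := rfl
    rw [h1, AlgHom.commutes]
    rfl
  rw [map_sub, map_sub, ← hZ, hθC, ← map_sub] at hu2
  obtain ⟨w, hw⟩ := hu2.exists_right_inv
  obtain ⟨W, rfl⟩ := Ideal.Quotient.mk_surjective w
  rw [← map_mul, ← map_one (Ideal.Quotient.mk (Ideal.span {q})), Ideal.Quotient.eq,
    Ideal.mem_span_singleton'] at hw
  obtain ⟨a, ha⟩ := hw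
  have h2 := congrArg constantCoeff ha
  rw [map_mul, hq, mul_zero, map_sub, map_mul, map_sub, constantCoeff_C, ← hcdef, sub_self,
    zero_mul, map_one, zero_sub] at h2
  exact one_ne_zero (neg_eq_zero.mp h2.symm)

/-- An algebra map maps `𝔐^n` into `𝔐^n`. -/
theorem exists_mem_pow_of_hom (g q : MvPowerSeries (Fin N) k)
    (hq : constantCoeff q = 0)
    (θ : (MvPowerSeries (Fin N) k ⧸ Ideal.span {g}) →ₐ[k] (MvPowerSeries (Fin N) k ⧸ Ideal.span {q}))
    (n : ℕ) (F : MvPowerSeries (Fin N) k)
    (hF : F ∈ maximalIdeal (MvPowerSeries (Fin N) k) ^ n) :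
    ∃ E ∈ maximalIdeal (MvPowerSeries (Fin N) k) ^ n,
      θ (Ideal.Quotient.mk (Ideal.span {g}) F) = Ideal.Quotient.mk (Ideal.span {q}) E := by
  set 𝔐 := maximalIdeal (MvPowerSeries (Fin N) k) with h𝔐
  set mkg := Ideal.Quotient.mk (Ideal.span {g}) with hmkg
  set mkq := Ideal.Quotient.mk (Ideal.span {q}) with hmkq
  have h1 : Ideal.map (θ : _ →+* _) (Ideal.map mkg 𝔐) ≤ Ideal.map mkq 𝔐 := by
    rw [Ideal.map_map, h𝔐, maximalIdeal_eq_span, Ideal.map_span, Ideal.span_le]
    rintro _ ⟨_, ⟨i, rfl⟩, rfl⟩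
    obtain ⟨Y, hY⟩ := Ideal.Quotient.mk_surjective (θ (mkg (X i)))
    have hY0 : constantCoeff Y = 0 :=
      constantCoeff_eq_zero_of_hom g q hq θ (X i) Y (constantCoeff_X i) hY
    change θ (mkg (X i)) ∈ _
    rw [← hY]
    apply Ideal.mem_map_of_mem
    rw [← maximalIdeal_eq_span]
    exact mem_maximalIdeal_iff'.mpr hY0
  have h2 : θ (mkg F) ∈ Ideal.map mkq (𝔐 ^ n) := by
    rw [Ideal.map_pow]
    refine Ideal.pow_right_mono h1 n ?_
    rw [← Ideal.map_pow, ← Ideal.map_pow]
    exact Ideal.mem_map_of_mem _ (Ideal.mem_map_of_mem _ hF)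
  obtain ⟨E, hE, hE2⟩ := (Ideal.mem_map_iff_of_surjective mkq Ideal.Quotient.mk_surjective).mp h2
  exact ⟨E, hE, hE2.symm⟩

end Part5

section Part6

open MvPowerSeries Finsupp VanCyc IsLocalRing Matrix
open Groth.Agent.Lib.Helper63.MorseComplete Groth.Agent.Lib.Helper63.NodeQuad

variable {k : Type u} [Field k] {N : ℕ}

theorem jet_C_mul (v : Fin N → k) (c : k) (F : MvPowerSeries (Fin N) k) (m : ℕ) :
    PowerSeries.coeff m (jet v (C c * F)) = c * PowerSeries.coeff m (jet v F) := by
  rw [map_mul, jet_C, PowerSeries.coeff_C_mul]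

/-- The linear and quadratic data of an algebra map `k[[x]]/(g) → k[[x]]/(q)`. -/
theorem hom_data (g q : MvPowerSeries (Fin N) k) (hg : NoLowTerms g) (hq : NoLowTerms q)
    (θ : (MvPowerSeries (Fin N) k ⧸ Ideal.span {g}) →ₐ[k]
      (MvPowerSeries (Fin N) k ⧸ Ideal.span {q})) :
    ∃ (T : Matrix (Fin N) (Fin N) k) (u0 : k),
      (∀ v, quadEval (quadPart g) (T *ᵥ v) = u0 * quadEval (quadPart q) v) ∧
      (∀ F Z : MvPowerSeries (Fin N) k, constantCoeff F = 0 →
        Ideal.Quotient.mk (Ideal.span {q}) Z = θ (Ideal.Quotient.mk (Ideal.span {g}) F) →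
        ∀ v, PowerSeries.coeff 1 (jet v Z) = ∑ b, coeff (single b 1) F * (T *ᵥ v) b) := by
  classical
  set 𝔐 := maximalIdeal (MvPowerSeries (Fin N) k) with h𝔐
  set mkg := Ideal.Quotient.mk (Ideal.span {g}) with hmkg
  set mkq := Ideal.Quotient.mk (Ideal.span {q}) with hmkq
  have hq2 : q ∈ 𝔐 ^ 2 := noLowTerms_mem_sq hq
  -- lifts of the images of the variables
  have hex : ∀ i : Fin N, ∃ Y : MvPowerSeries (Fin N) k, mkq Y = θ (mkg (X i)) :=
    fun i => Ideal.Quotient.mk_surjective _
  choose Y hY using hex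
  have hY0 : ∀ i, constantCoeff (Y i) = 0 := fun i =>
    constantCoeff_eq_zero_of_hom g q hq.1 θ (X i) (Y i) (constantCoeff_X i) (hY i)
  set T : Matrix (Fin N) (Fin N) k := Matrix.of fun i b => coeff (single b 1) (Y i) with hT
  have hTv : ∀ v i, (T *ᵥ v) i = PowerSeries.coeff 1 (jet v (Y i)) := by
    intro v i
    rw [coeff_one_jet]
    rfl
  -- polynomials
  have hpoly : ∀ p : MvPolynomial (Fin N) k,
      mkq (MvPolynomial.aeval Y p) = θ (mkg (p : MvPowerSeries (Fin N) k)) := by
    intro p
    have : ((Ideal.Quotient.mkₐ k (Ideal.span {q})).comp (MvPolynomial.aeval Y)) =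
        θ.comp ((Ideal.Quotient.mkₐ k (Ideal.span {g})).comp
          (MvPolynomial.coeToMvPowerSeries.algHom k)) := by
      apply MvPolynomial.algHom_ext
      intro i
      simp only [AlgHom.comp_apply, MvPolynomial.aeval_X, Ideal.Quotient.mkₐ_eq_mk,
        MvPolynomial.coeToMvPowerSeries.algHom_apply, MvPolynomial.coe_X]
      rw [MvPowerSeries.map_X]
      exact hY i
    exact AlgHom.congr_fun this p
  -- a general "difference is a multiple of q" principle
  have hdiff : ∀ A B : MvPowerSeries (Fin N) k, mkq A = mkq B → ∃ w, A - B = w * q := by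
    intro A B hAB
    rw [Ideal.Quotient.eq, Ideal.mem_span_singleton'] at hAB
    obtain ⟨w, hw⟩ := hAB
    exact ⟨w, hw.symm⟩
  have hwq1 : ∀ (w : MvPowerSeries (Fin N) k) v, PowerSeries.coeff 1 (jet v (w * q)) = 0 :=
    fun w v => coeff_one_jet_of_mem_sq v (Ideal.mul_mem_left _ _ hq2)
  -- the quadratic relation
  set pg := quadPoly (quadPart g) with hpg
  obtain ⟨E3, hE3, hE3'⟩ := exists_mem_pow_of_hom g q hq.1 θ 3 _ (sub_quadPoly_mem hg)
  have hmkg0 : mkg g = 0 := Ideal.Quotient.eq_zero_iff_mem.mpr (Ideal.subset_span rfl)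
  rw [map_sub, ← hmkg, hmkg0, zero_sub, map_neg, ← hpoly, ← map_neg] at hE3'
  obtain ⟨u, hu⟩ := hdiff _ _ hE3'
  refine ⟨T, - constantCoeff u, ?_, ?_⟩
  · intro v
    have h1 := congrArg (fun G => PowerSeries.coeff 2 (jet v G)) hu
    simp only [map_sub, map_neg] at h1
    rw [jet_mem v 3 E3 hE3 2 (by norm_num), sub_zero] at h1
    -- the left side
    have hL : PowerSeries.coeff 2 (jet v (MvPolynomial.aeval Y pg)) =
        quadEval (quadPart g) (T *ᵥ v) := by
      have hterm : ∀ i j : Fin N, MvPolynomial.aeval Y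
          (if i ≤ j then MvPolynomial.C (quadPart g i j) * MvPolynomial.X i * MvPolynomial.X j
            else 0) = if i ≤ j then C (quadPart g i j) * (Y i * Y j) else 0 := by
        intro i j
        split_ifs
        · rw [map_mul, map_mul, MvPolynomial.aeval_C, MvPolynomial.aeval_X,
            MvPolynomial.aeval_X, mul_assoc]
          rfl
        · exact map_zero _
      rw [hpg]
      unfold quadPoly quadEval
      rw [map_sum]
      simp_rw [map_sum, hterm]
      refine Finset.sum_congr rfl fun i _ => ?_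
      refine Finset.sum_congr rfl fun j _ => ?_
      split_ifs
      · rw [jet_C_mul, coeff_two_jet_mul v _ _ (hY0 i) (hY0 j), hTv, hTv, mul_assoc]
      · simp
    -- the right side
    have hR : PowerSeries.coeff 2 (jet v (u * q)) =
        constantCoeff u * quadEval (quadPart q) v := by
      rw [map_mul, PowerSeries.coeff_mul]
      have : (Finset.HasAntidiagonal.antidiagonal 2 : Finset (ℕ × ℕ)) =
          {(0, 2), (1, 1), (2, 0)} := by decide
      rw [this]
      have h0 := coeff_zero_jet_of_mem_sq v hq2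
      have h1' := coeff_one_jet_of_mem_sq v hq2
      simp [h0, h1', coeff_zero_jet, coeff_two_jet]
    rw [hL, hR] at h1
    rw [neg_mul, ← h1, neg_neg]
  · intro F Z hF hZ v
    obtain ⟨E2, hE2, hE2'⟩ := exists_mem_pow_of_hom g q hq.1 θ 2 _ (sub_linear_mem_sq F hF)
    set L : MvPolynomial (Fin N) k :=
      ∑ b, MvPolynomial.C (coeff (single b 1) F) * MvPolynomial.X b with hL
    have hLcoe : ((L : MvPolynomial (Fin N) k) : MvPowerSeries (Fin N) k) =
        ∑ b, C (coeff (single b 1) F) * X b := by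
      rw [hL, ← MvPolynomial.coeToMvPowerSeries.ringHom_apply, map_sum]
      simp
    rw [← hLcoe, map_sub, map_sub, ← hpoly, ← hZ, ← map_sub] at hE2'
    obtain ⟨w, hw⟩ := hdiff _ _ hE2'
    have h1 := congrArg (fun G => PowerSeries.coeff 1 (jet v G)) hw
    simp only [map_sub] at h1
    rw [hwq1, jet_mem v 2 E2 hE2 1 (by norm_num), sub_zero, sub_eq_zero] at h1
    have hLY : MvPolynomial.aeval Y L = ∑ b, C (coeff (single b 1) F) * Y b := by
      rw [hL, map_sum]
      refine Finset.sum_congr rfl fun b _ => ?_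
      rw [map_mul, MvPolynomial.aeval_C, MvPolynomial.aeval_X]
      rfl
    rw [h1, hLY, map_sum, map_sum]
    refine Finset.sum_congr rfl fun b _ => ?_
    rw [jet_C_mul, hTv]

end Part6

section Part7

open MvPowerSeries Finsupp VanCyc IsLocalRing Matrix

variable {k : Type u} [Field k]

/-- Non-degeneracy of the quadratic part is invariant under `k`-isomorphisms of `k[[x]]/(g)`. -/
theorem quadNondeg_of_algEquiv {n : ℕ} (g q : MvPowerSeries (Fin (n + 1)) k) (hg : NoLowTerms g)
    (hq : NondegQuadSeries q)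
    (θ : (MvPowerSeries (Fin (n + 1)) k ⧸ Ideal.span {g}) ≃ₐ[k]
      (MvPowerSeries (Fin (n + 1)) k ⧸ Ideal.span {q})) :
    QuadNondeg (quadPart g) := by
  classical
  obtain ⟨T, u0, hT1, hT2⟩ := hom_data g q hg hq.1 (θ : _ →ₐ[k] _)
  obtain ⟨T', u0', hT1', hT2'⟩ := hom_data q g hq.1 hg (θ.symm : _ →ₐ[k] _)
  refine quadNondeg_of_transform (quadPart g) (quadPart q) T T' u0 u0' hT1 hT1' ?_ hq.2
  intro v
  funext i
  obtain ⟨Z, hZ⟩ := Ideal.Quotient.mk_surjective
    (θ.symm (Ideal.Quotient.mk (Ideal.span {q}) (X i)))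
  have hZ0 : constantCoeff Z = 0 :=
    constantCoeff_eq_zero_of_hom q g hg.1 (θ.symm : _ →ₐ[k] _) (X i) Z (constantCoeff_X i) hZ
  have hA := hT2' (X i) Z (constantCoeff_X i) hZ (T *ᵥ v)
  have hB := hT2 Z (X i) hZ0 (by
    change _ = θ _
    rw [hZ, AlgEquiv.apply_symm_apply]) v
  rw [coeff_one_jet] at hA
  have hXi : ∀ b : Fin (n + 1), coeff (single b 1) (X i : MvPowerSeries (Fin (n + 1)) k) =
      if b = i then 1 else 0 := by
    intro b
    rw [coeff_X]
    by_cases hbi : b = i
    · rw [if_pos hbi, if_pos (by rw [hbi])]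
    · rw [if_neg hbi, if_neg]
      intro h
      apply hbi
      have := DFunLike.congr_fun h i
      simp only [single_eq_same] at this
      by_contra hne
      rw [single_eq_of_ne (Ne.symm hne)] at this
      exact one_ne_zero this.symm
  simp only [hXi, ite_mul, one_mul, zero_mul, Finset.sum_ite_eq', Finset.mem_univ, if_true] at hA
  rw [← hA, ← hB, coeff_one_jet]
  simp only [hXi, ite_mul, one_mul, zero_mul, Finset.sum_ite_eq', Finset.mem_univ, if_true]

end Part7

end Groth.Agent.Lib.Helper47.QuadJet
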