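import Mathlib
import Groth.Prelude.Def_QuadSing
import Groth.Agent.Lib.Helper47.QuadJet
import Groth.Agent.Lib.Helper47.ComplLocalIso
import Groth.Agent.Lib.Helper47.SmoothFlat

/-!
# A closed point of an affine hypersurface over an algebraically closed field (helper47)

For `f ∈ k[x_1..x_N]`, a point `a` with maximal ideal `P` of `B = k[x]/(f)`:

* `transl`, `taylor a : k[x] → k[[y]]` (Taylor expansion at `a`), `pderiv_taylor`,
  `noLowTerms_taylor`, `mem_pow_of_taylor_mem`, `exists_sub_taylor_mem`;
* `phi : B_P → k[[y]]/(f(y+a))`, local, injective and surjective modulo all powers of the maximal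
  ideals (`phi_mem_of_mem`, `mem_pow_of_phi_mem`, `exists_sub_phi_mem`);
* `nonempty_completion_equiv`: the completion of `B_P` is `k[[y]]/(f(y+a))`;
* `quadNondeg_of_span_eq`, `span_eq_of_quadNondeg`: the partials generate `m_{B_P}` iff the
  quadratic part of `f(y+a)` is non-degenerate (when `f` and its partials vanish at `a`).
-/

set_option autoImplicit false
universe u

namespace Groth.Agent.Lib.Helper47.HypPoint

section Part1

open MvPolynomial

variable {k : Type u} [Field k] {N : ℕ}

/-- Translation `x ↦ x + a` of polynomials. -/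
noncomputable def transl (a : Fin N → k) : MvPolynomial (Fin N) k →ₐ[k] MvPolynomial (Fin N) k :=
  aeval (fun i => X i + C (a i))

theorem transl_X (a : Fin N → k) (i : Fin N) : transl a (X i) = X i + C (a i) := by
  unfold transl; rw [aeval_X]

theorem transl_transl (a b : Fin N → k) (p : MvPolynomial (Fin N) k) :
    transl a (transl b p) = transl (a + b) p := by
  have : (transl a).comp (transl b) = transl (a + b) := by
    apply MvPolynomial.algHom_ext
    intro i
    rw [AlgHom.comp_apply, transl_X, map_add, transl_X, transl_X]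
    have : transl a (C (b i)) = C (b i) := by
      unfold transl; rw [aeval_C]; rfl
    rw [this, Pi.add_apply, map_add]
    ring
  exact AlgHom.congr_fun this p

theorem transl_zero (p : MvPolynomial (Fin N) k) : transl (0 : Fin N → k) p = p := by
  have : transl (0 : Fin N → k) = AlgHom.id k _ := by
    apply MvPolynomial.algHom_ext
    intro i
    rw [transl_X]
    simp
  rw [this]; rfl

theorem transl_neg_transl (a : Fin N → k) (p : MvPolynomial (Fin N) k) :
    transl (-a) (transl a p) = p := by
  rw [transl_transl, neg_add_cancel, transl_zero]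

theorem transl_transl_neg (a : Fin N → k) (p : MvPolynomial (Fin N) k) :
    transl a (transl (-a) p) = p := by
  rw [transl_transl, add_neg_cancel, transl_zero]

theorem eval_transl (a b : Fin N → k) (p : MvPolynomial (Fin N) k) :
    eval b (transl a p) = eval (b + a) p := by
  have : ((aeval b : MvPolynomial (Fin N) k →ₐ[k] k)).comp (transl a) = aeval (b + a) := by
    apply MvPolynomial.algHom_ext
    intro i
    rw [AlgHom.comp_apply, transl_X, map_add, aeval_X, aeval_X, aeval_C]
    rfl
  have h := AlgHom.congr_fun this p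
  rw [AlgHom.comp_apply] at h
  simpa [MvPolynomial.aeval_eq_eval] using h

theorem pderiv_transl (a : Fin N → k) (j : Fin N) (p : MvPolynomial (Fin N) k) :
    pderiv j (transl a p) = transl a (pderiv j p) := by
  classical
  induction p using MvPolynomial.induction_on with
  | C c =>
    have : transl a (C c) = C c := by unfold transl; rw [aeval_C]; rfl
    rw [this, pderiv_C, map_zero]
  | add p q hp hq => rw [map_add, map_add, hp, hq, map_add, map_add]
  | mul_X p i hp =>
    rw [map_mul, Derivation.leibniz, hp, transl_X, Derivation.leibniz, map_add (pderiv j),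
      pderiv_C, add_zero]
    simp only [smul_eq_mul, map_add, map_mul, transl_X]
    have hX : transl a (pderiv j (X i : MvPolynomial (Fin N) k)) = pderiv j (X i) := by
      rw [pderiv_X]
      by_cases hij : i = j
      · subst hij
        rw [Pi.single_eq_same, map_one]
      · rw [Pi.single_eq_of_ne hij, map_zero]
    rw [hX]

end Part1

section Part2

open MvPolynomial IsLocalRing Groth.Agent.Lib.Helper47.QuadJet

variable {k : Type u} [Field k] {N : ℕ}

/-- Taylor expansion at `a`, as a power series. -/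
noncomputable def taylor (a : Fin N → k) :
    MvPolynomial (Fin N) k →ₐ[k] MvPowerSeries (Fin N) k :=
  (MvPolynomial.coeToMvPowerSeries.algHom k).comp (transl a)

theorem taylor_apply (a : Fin N → k) (p : MvPolynomial (Fin N) k) :
    taylor a p = ((transl a p : MvPolynomial (Fin N) k) : MvPowerSeries (Fin N) k) := by
  unfold taylor
  rw [AlgHom.comp_apply, MvPolynomial.coeToMvPowerSeries.algHom_apply]
  simp

theorem constantCoeff_taylor (a : Fin N → k) (p : MvPolynomial (Fin N) k) :
    MvPowerSeries.constantCoeff (taylor a p) = eval a p := by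
  rw [taylor_apply, ← MvPowerSeries.coeff_zero_eq_constantCoeff_apply, MvPolynomial.coeff_coe,
    ← MvPolynomial.constantCoeff_eq]
  have h0 : constantCoeff (transl a p) = eval 0 (transl a p) := by
    have := MvPolynomial.eval₂Hom_zero_apply (RingHom.id k) (transl a p) (σ := Fin N)
    rw [RingHom.id_apply] at this
    exact this.symm
  rw [h0, eval_transl, zero_add]

theorem pderiv_taylor (a : Fin N → k) (j : Fin N) (p : MvPolynomial (Fin N) k) :
    MvPowerSeries.pderiv k j (taylor a p) = taylor a (pderiv j p) := by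
  rw [taylor_apply, taylor_apply, ← pderiv_transl, MvPowerSeries.pderiv_coe]

theorem coeff_single_taylor (a : Fin N → k) (i : Fin N) (p : MvPolynomial (Fin N) k) :
    MvPowerSeries.coeff (Finsupp.single i 1) (taylor a p) = eval a (pderiv i p) := by
  rw [← constantCoeff_taylor, ← pderiv_taylor, ← MvPowerSeries.coeff_zero_eq_constantCoeff_apply,
    MvPowerSeries.coeff_pderiv, zero_add]
  simp

theorem noLowTerms_taylor (a : Fin N → k) (f : MvPolynomial (Fin N) k) (h0 : eval a f = 0)
    (h1 : ∀ i, eval a (pderiv i f) = 0) : VanCyc.NoLowTerms (taylor a f) :=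
  ⟨(constantCoeff_taylor a f).trans h0, fun i => (coeff_single_taylor a i f).trans (h1 i)⟩

/-- A polynomial whose Taylor series at `a` has order `≥ n` lies in the `n`-th power of the
maximal ideal of `a`. -/
theorem mem_pow_of_taylor_mem (a : Fin N → k) (p : MvPolynomial (Fin N) k) (n : ℕ)
    (h : taylor a p ∈ maximalIdeal (MvPowerSeries (Fin N) k) ^ n) :
    p ∈ RingHom.ker (eval a : MvPolynomial (Fin N) k →+* k) ^ n := by
  rw [mem_maximalIdeal_pow_iff] at h
  have h1 : transl a p ∈ idealOfVars (Fin N) k ^ n := by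
    rw [mem_pow_idealOfVars_iff']
    intro d hd
    have := h d hd
    rwa [taylor_apply, MvPolynomial.coeff_coe] at this
  have h2 : Ideal.map (transl (-a) : MvPolynomial (Fin N) k →+* MvPolynomial (Fin N) k)
      (idealOfVars (Fin N) k) ≤ RingHom.ker (eval a : MvPolynomial (Fin N) k →+* k) := by
    rw [Ideal.map_span, Ideal.span_le]
    rintro _ ⟨_, ⟨i, rfl⟩, rfl⟩
    change transl (-a) (X i) ∈ RingHom.ker (eval a : MvPolynomial (Fin N) k →+* k)
    rw [RingHom.mem_ker, transl_X]
    simp
  have h3 := Ideal.mem_map_of_mem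
    (transl (-a) : MvPolynomial (Fin N) k →+* MvPolynomial (Fin N) k) h1
  rw [Ideal.map_pow] at h3
  have h4 := Ideal.pow_right_mono h2 n h3
  change transl (-a) (transl a p) ∈ _ at h4
  rwa [transl_neg_transl] at h4

/-- Every power series is, modulo `𝔐^n`, a Taylor series. -/
theorem exists_sub_taylor_mem (a : Fin N → k) (F : MvPowerSeries (Fin N) k) (n : ℕ) :
    ∃ p : MvPolynomial (Fin N) k,
      F - taylor a p ∈ maximalIdeal (MvPowerSeries (Fin N) k) ^ n := by
  refine ⟨transl (-a) (MvPowerSeries.truncTotal n F), ?_⟩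
  rw [taylor_apply, transl_transl_neg, mem_maximalIdeal_pow_iff]
  intro d hd
  rw [map_sub, MvPolynomial.coeff_coe, MvPowerSeries.coeff_truncTotal _ hd, sub_self]

end Part2

section Part3

open MvPolynomial IsLocalRing Groth.Agent.Lib.Helper47.QuadJet

variable {k : Type u} [Field k] {N : ℕ}

section Local

variable (f : MvPolynomial (Fin N) k) (a : Fin N → k)
  (P : Ideal (MvPolynomial (Fin N) k ⧸ Ideal.span {f})) [P.IsPrime]
  (hPa : ∀ p : MvPolynomial (Fin N) k, Ideal.Quotient.mk (Ideal.span {f}) p ∈ P ↔ eval a p = 0)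

/-- The map `k[x]/(f) → k[[y]]/(f(y + a))`. -/
noncomputable def phiBar : (MvPolynomial (Fin N) k ⧸ Ideal.span {f}) →ₐ[k]
    (MvPowerSeries (Fin N) k ⧸ Ideal.span {taylor a f}) :=
  Ideal.Quotient.liftₐ (Ideal.span {f})
    ((Ideal.Quotient.mkₐ k (Ideal.span {taylor a f})).comp (taylor a)) (by
      intro x hx
      rw [Ideal.mem_span_singleton'] at hx
      obtain ⟨c, rfl⟩ := hx
      rw [AlgHom.comp_apply, map_mul, map_mul]
      have : (Ideal.Quotient.mkₐ k (Ideal.span {taylor a f})) (taylor a f) = 0 :=
        Ideal.Quotient.eq_zero_iff_mem.mpr (Ideal.subset_span rfl)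
      rw [this, mul_zero])

theorem phiBar_mk (p : MvPolynomial (Fin N) k) :
    phiBar f a (Ideal.Quotient.mk (Ideal.span {f}) p) =
      Ideal.Quotient.mk (Ideal.span {taylor a f}) (taylor a p) := rfl

include hPa in
theorem isUnit_phiBar (y : P.primeCompl) : IsUnit (phiBar f a y) := by
  obtain ⟨p, hp⟩ := Ideal.Quotient.mk_surjective (y : MvPolynomial (Fin N) k ⧸ Ideal.span {f})
  rw [← hp, phiBar_mk]
  apply IsUnit.map
  rw [MvPowerSeries.isUnit_iff_constantCoeff, constantCoeff_taylor, isUnit_iff_ne_zero]
  intro h0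
  exact y.2 (hp ▸ (hPa p).mpr h0)

/-- The map `(k[x]/(f))_P → k[[y]]/(f(y + a))`. -/
noncomputable def phi : Localization.AtPrime P →ₐ[k]
    (MvPowerSeries (Fin N) k ⧸ Ideal.span {taylor a f}) :=
  IsLocalization.liftAlgHom (M := P.primeCompl) (f := phiBar f a) (isUnit_phiBar f a P hPa)

theorem phi_algebraMap (b : MvPolynomial (Fin N) k ⧸ Ideal.span {f}) :
    phi f a P hPa (algebraMap _ (Localization.AtPrime P) b) = phiBar f a b := by
  unfold phi
  rw [IsLocalization.liftAlgHom_apply, IsLocalization.lift_eq]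
  rfl

end Local

end Part3

section Part4

open MvPolynomial IsLocalRing Groth.Agent.Lib.Helper47.QuadJet

variable {k : Type u} [Field k] {N : ℕ}

section Local

variable (f : MvPolynomial (Fin N) k) (a : Fin N → k)
  (P : Ideal (MvPolynomial (Fin N) k ⧸ Ideal.span {f})) [P.IsPrime]
  (hPa : ∀ p : MvPolynomial (Fin N) k, Ideal.Quotient.mk (Ideal.span {f}) p ∈ P ↔ eval a p = 0)

/-- `φ` is local. -/
theorem phi_mem_of_mem (o : Localization.AtPrime P)
    (ho : o ∈ maximalIdeal (Localization.AtPrime P)) :
    phi f a P hPa o ∈ Ideal.map (Ideal.Quotient.mk (Ideal.span {taylor a f}))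
      (maximalIdeal (MvPowerSeries (Fin N) k)) := by
  have h1 : Ideal.map (algebraMap _ (Localization.AtPrime P)) P ≤
      Ideal.comap (phi f a P hPa : Localization.AtPrime P →+* _)
        (Ideal.map (Ideal.Quotient.mk (Ideal.span {taylor a f}))
          (maximalIdeal (MvPowerSeries (Fin N) k))) := by
    rw [Ideal.map_le_iff_le_comap]
    intro b hb
    obtain ⟨p, rfl⟩ := Ideal.Quotient.mk_surjective b
    rw [Ideal.mem_comap, Ideal.mem_comap]
    change phi f a P hPa (algebraMap _ _ _) ∈ _
    rw [phi_algebraMap, phiBar_mk]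
    apply Ideal.mem_map_of_mem
    rw [mem_maximalIdeal_iff', constantCoeff_taylor]
    exact (hPa p).mp hb
  rw [Localization.AtPrime.map_eq_maximalIdeal] at h1
  exact h1 ho

/-- Surjectivity modulo powers of the maximal ideal. -/
theorem exists_sub_phi_mem (n : ℕ)
    (c : MvPowerSeries (Fin N) k ⧸ Ideal.span {taylor a f}) :
    ∃ o : Localization.AtPrime P, c - phi f a P hPa o ∈
      Ideal.map (Ideal.Quotient.mk (Ideal.span {taylor a f}))
        (maximalIdeal (MvPowerSeries (Fin N) k) ^ n) := by
  obtain ⟨F, rfl⟩ := Ideal.Quotient.mk_surjective c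
  obtain ⟨p, hp⟩ := exists_sub_taylor_mem a F n
  refine ⟨algebraMap _ _ (Ideal.Quotient.mk (Ideal.span {f}) p), ?_⟩
  rw [phi_algebraMap, phiBar_mk, ← map_sub]
  exact Ideal.mem_map_of_mem _ hp

/-- Injectivity modulo powers of the maximal ideal. -/
theorem mem_pow_of_phi_mem (n : ℕ) (o : Localization.AtPrime P)
    (ho : phi f a P hPa o ∈ Ideal.map (Ideal.Quotient.mk (Ideal.span {taylor a f}))
      (maximalIdeal (MvPowerSeries (Fin N) k) ^ n)) :
    o ∈ maximalIdeal (Localization.AtPrime P) ^ n := by
  set 𝔐 := maximalIdeal (MvPowerSeries (Fin N) k) with h𝔐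
  set mkC := Ideal.Quotient.mk (Ideal.span {taylor a f}) with hmkC
  obtain ⟨⟨b, s⟩, rfl⟩ := IsLocalization.mk'_surjective P.primeCompl o
  simp only [Function.uncurry_apply_pair] at ho ⊢
  -- reduce to `b`
  have hb : phiBar f a b ∈ Ideal.map mkC (𝔐 ^ n) := by
    have h1 : phi f a P hPa (IsLocalization.mk' (Localization.AtPrime P) b s) *
        phi f a P hPa (algebraMap _ _ (s : MvPolynomial (Fin N) k ⧸ Ideal.span {f})) =
        phi f a P hPa (algebraMap _ _ b) := by
      rw [← map_mul, IsLocalization.mk'_spec]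
    rw [phi_algebraMap, phi_algebraMap] at h1
    rw [← h1]
    exact Ideal.mul_mem_right _ _ ho
  obtain ⟨p, rfl⟩ := Ideal.Quotient.mk_surjective b
  rw [phiBar_mk] at hb
  obtain ⟨E, hE, hE'⟩ := (Ideal.mem_map_iff_of_surjective mkC Ideal.Quotient.mk_surjective).mp hb
  rw [Ideal.Quotient.eq, Ideal.mem_span_singleton'] at hE'
  obtain ⟨G, hG⟩ := hE'
  obtain ⟨pG, hpG⟩ := exists_sub_taylor_mem a G n
  have h2 : taylor a (p + pG * f) ∈ 𝔐 ^ n := by
    have : taylor a (p + pG * f) = E - (G - taylor a pG) * taylor a f := by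
      rw [map_add, map_mul, sub_mul, hG]
      ring
    rw [this]
    exact Ideal.sub_mem _ hE (Ideal.mul_mem_right _ _ hpG)
  have h3 := mem_pow_of_taylor_mem a _ n h2
  have h4 : Ideal.map (Ideal.Quotient.mk (Ideal.span {f}))
      (RingHom.ker (eval a : MvPolynomial (Fin N) k →+* k)) ≤ P := by
    rw [Ideal.map_le_iff_le_comap]
    intro x hx
    exact (hPa x).mpr hx
  have h5 : Ideal.Quotient.mk (Ideal.span {f}) p ∈ P ^ n := by
    have h6 := Ideal.mem_map_of_mem (Ideal.Quotient.mk (Ideal.span {f})) h3
    rw [Ideal.map_pow] at h6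
    have h7 := Ideal.pow_right_mono h4 n h6
    have hf0 : Ideal.Quotient.mk (Ideal.span {f}) f = 0 :=
      Ideal.Quotient.eq_zero_iff_mem.mpr (Ideal.subset_span (Set.mem_singleton f))
    rwa [map_add, map_mul, hf0, mul_zero, add_zero] at h7
  rw [IsLocalization.mk'_eq_mul_mk'_one]
  apply Ideal.mul_mem_right
  rw [← Localization.AtPrime.map_eq_maximalIdeal, ← Ideal.map_pow]
  exact Ideal.mem_map_of_mem _ h5

end Local

end Part4

section Part5

open MvPolynomial IsLocalRing Groth.Agent.Lib.Helper47.QuadJet

variable {k : Type u} [Field k] {N : ℕ}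

section Quot

variable (g : MvPowerSeries (Fin N) k) (hg : MvPowerSeries.constantCoeff g = 0)

include hg in
theorem span_le_maximalIdeal :
    Ideal.span {g} ≤ maximalIdeal (MvPowerSeries (Fin N) k) := by
  rw [Ideal.span_singleton_le_iff_mem, mem_maximalIdeal_iff']
  exact hg

include hg in
theorem nontrivial_quot : Nontrivial (MvPowerSeries (Fin N) k ⧸ Ideal.span {g}) := by
  apply Ideal.Quotient.nontrivial_iff.mpr
  intro h
  have := span_le_maximalIdeal g hg
  rw [h] at this
  exact (Ideal.IsMaximal.ne_top (maximalIdeal.isMaximal _)) (top_le_iff.mp this)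

include hg in
theorem isLocalRing_quot : IsLocalRing (MvPowerSeries (Fin N) k ⧸ Ideal.span {g}) := by
  haveI := nontrivial_quot g hg
  exact IsLocalRing.of_surjective' (Ideal.Quotient.mk (Ideal.span {g}))
    Ideal.Quotient.mk_surjective

theorem maximalIdeal_quot_pow [IsLocalRing (MvPowerSeries (Fin N) k ⧸ Ideal.span {g})] (n : ℕ) :
    maximalIdeal (MvPowerSeries (Fin N) k ⧸ Ideal.span {g}) ^ n =
      Ideal.map (Ideal.Quotient.mk (Ideal.span {g}))
        (maximalIdeal (MvPowerSeries (Fin N) k) ^ n) := by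
  rw [Ideal.map_pow, IsLocalRing.map_maximalIdeal_of_surjective _ Ideal.Quotient.mk_surjective]

instance : IsAdicComplete (maximalIdeal k) k := by
  rw [IsLocalRing.maximalIdeal_eq_bot]
  infer_instance

theorem isAdicComplete_quot [IsLocalRing (MvPowerSeries (Fin N) k ⧸ Ideal.span {g})] :
    IsAdicComplete (maximalIdeal (MvPowerSeries (Fin N) k ⧸ Ideal.span {g}))
      (MvPowerSeries (Fin N) k ⧸ Ideal.span {g}) := by
  haveI : IsAdicComplete (maximalIdeal (MvPowerSeries (Fin N) k)) (MvPowerSeries (Fin N) k) :=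
    Groth.Agent.Lib.Helper58.MvPSComplete.isAdicComplete
  exact Groth.Agent.Lib.Helper47.SmoothFlat.isAdicComplete_of_surjective
    (Ideal.Quotient.mk (Ideal.span {g})) Ideal.Quotient.mk_surjective

end Quot

section Local

variable (f : MvPolynomial (Fin N) k) (a : Fin N → k)
  (P : Ideal (MvPolynomial (Fin N) k ⧸ Ideal.span {f})) [P.IsPrime]
  (hPa : ∀ p : MvPolynomial (Fin N) k, Ideal.Quotient.mk (Ideal.span {f}) p ∈ P ↔ eval a p = 0)

include hPa in
/-- The completion of the local ring of the hypersurface at `a` is `k[[y]]/(f(y + a))`. -/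
theorem nonempty_completion_equiv
    [IsLocalRing (MvPowerSeries (Fin N) k ⧸ Ideal.span {taylor a f})] :
    Nonempty (AdicCompletion (R := Localization.AtPrime P)
      (maximalIdeal (Localization.AtPrime P)) (Localization.AtPrime P)
      ≃ₐ[k] (MvPowerSeries (Fin N) k ⧸ Ideal.span {taylor a f})) := by
  haveI := isAdicComplete_quot (taylor a f)
  refine Groth.Agent.Lib.Helper47.ComplLocalIso.nonempty_algEquiv (phi f a P hPa) ?_ ?_ ?_
  · intro o ho
    have := phi_mem_of_mem f a P hPa o ho
    rwa [← pow_one (maximalIdeal (MvPowerSeries (Fin N) k)), ← maximalIdeal_quot_pow,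
      pow_one] at this
  · intro n o ho
    rw [maximalIdeal_quot_pow] at ho
    exact mem_pow_of_phi_mem f a P hPa n o ho
  · intro n c
    obtain ⟨o, ho⟩ := exists_sub_phi_mem f a P hPa n c
    exact ⟨o, by rwa [maximalIdeal_quot_pow]⟩

end Local

end Part5

section Part6

open MvPolynomial IsLocalRing Groth.Agent.Lib.Helper47.QuadJet VanCyc

variable {k : Type u} [Field k] {N : ℕ}

/-- The linear coefficients of the partial derivatives are the entries of the polar matrix. -/
theorem coeff_single_pderiv (g : MvPowerSeries (Fin N) k) (i j : Fin N) :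
    MvPowerSeries.coeff (Finsupp.single i 1) (MvPowerSeries.pderiv k j g) =
      polarMatrix (quadPart g) j i := by
  rw [MvPowerSeries.coeff_pderiv]
  by_cases hij : j = i
  · subst hij
    have hPii : polarMatrix (quadPart g) j j = 2 * MvPowerSeries.coeff (Finsupp.single j 2) g := by
      simp only [polarMatrix, quadPart, if_true]
    rw [hPii, Finsupp.single_eq_same, ← Finsupp.single_add]
    push_cast
    ring
  · rw [Finsupp.single_eq_of_ne hij]
    rcases lt_or_gt_of_ne hij with h | h
    · have hPij : polarMatrix (quadPart g) j i =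
          MvPowerSeries.coeff (Finsupp.single j 1 + Finsupp.single i 1) g := by
        simp only [polarMatrix, quadPart, if_neg hij, if_pos h]
      rw [hPij, add_comm (Finsupp.single i 1) (Finsupp.single j 1)]
      push_cast
      ring
    · have hPij : polarMatrix (quadPart g) j i =
          MvPowerSeries.coeff (Finsupp.single i 1 + Finsupp.single j 1) g := by
        simp only [polarMatrix, quadPart, if_neg hij, if_neg (not_lt.mpr h.le),
          if_neg (Ne.symm hij), if_pos h]
      rw [hPij]
      push_cast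
      ring

theorem constantCoeff_pderiv (g : MvPowerSeries (Fin N) k) (hg : NoLowTerms g) (j : Fin N) :
    MvPowerSeries.constantCoeff (MvPowerSeries.pderiv k j g) = 0 := by
  rw [← MvPowerSeries.coeff_zero_eq_constantCoeff_apply, MvPowerSeries.coeff_pderiv, zero_add,
    hg.2 j, zero_mul]

/-- The degree-one jet coefficient of a partial derivative. -/
theorem coeff_one_jet_pderiv (g : MvPowerSeries (Fin N) k) (v : Fin N → k) (j : Fin N) :
    PowerSeries.coeff 1 (jet v (MvPowerSeries.pderiv k j g)) =
      (polarMatrix (quadPart g)).mulVec v j := by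
  rw [coeff_one_jet]
  simp only [coeff_single_pderiv, Matrix.mulVec, dotProduct]

theorem coeff_one_jet_X (v : Fin N → k) (l : Fin N) :
    PowerSeries.coeff 1 (jet v (MvPowerSeries.X l : MvPowerSeries (Fin N) k)) = v l := by
  rw [jet_X, PowerSeries.coeff_C_mul, PowerSeries.coeff_one_X, mul_one]

/-- If `X_l ≡ Σ_j G_j ∂_j g` modulo `𝔐²` for all `l`, then the quadratic part of `g` is
non-degenerate. -/
theorem quadNondeg_of_X_mem (g : MvPowerSeries (Fin N) k) (hg : NoLowTerms g)
    (G : Fin N → Fin N → MvPowerSeries (Fin N) k)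
    (hG : ∀ l, (MvPowerSeries.X l : MvPowerSeries (Fin N) k) -
      ∑ j, G l j * MvPowerSeries.pderiv k j g ∈ maximalIdeal (MvPowerSeries (Fin N) k) ^ 2) :
    QuadNondeg (quadPart g) := by
  classical
  set Pm := polarMatrix (quadPart g) with hPm
  let Γ : Matrix (Fin N) (Fin N) k := fun l j => MvPowerSeries.constantCoeff (G l j)
  have key : ∀ v : Fin N → k, (Γ * Pm).mulVec v = v := by
    intro v
    funext l
    have h1 := coeff_one_jet_of_mem_sq v (hG l)
    rw [map_sub, map_sub, coeff_one_jet_X, map_sum, map_sum, sub_eq_zero] at h1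
    rw [← Matrix.mulVec_mulVec, h1]
    simp only [Matrix.mulVec, dotProduct]
    apply Finset.sum_congr rfl
    intro j _
    rw [map_mul, PowerSeries.coeff_mul]
    rw [show Finset.HasAntidiagonal.antidiagonal 1 = {(0, 1), (1, 0)} by decide]
    rw [Finset.sum_pair (by decide)]
    simp only
    rw [coeff_zero_jet, coeff_zero_jet, constantCoeff_pderiv g hg, mul_zero, add_zero,
      coeff_one_jet_pderiv]
    rfl
  have h1 : Γ * Pm = 1 := by
    apply Matrix.toLin'.injective
    apply LinearMap.ext
    intro v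
    rw [Matrix.toLin'_apply, key, Matrix.toLin'_one, LinearMap.id_apply]
  exact Matrix.isUnit_det_of_left_inverse h1

end Part6

section Part7

open MvPolynomial IsLocalRing Groth.Agent.Lib.Helper47.QuadJet VanCyc

variable {k : Type u} [Field k] {N : ℕ}

section Local

variable (f : MvPolynomial (Fin N) k) (a : Fin N → k)
  (P : Ideal (MvPolynomial (Fin N) k ⧸ Ideal.span {f})) [P.IsPrime]
  (hPa : ∀ p : MvPolynomial (Fin N) k, Ideal.Quotient.mk (Ideal.span {f}) p ∈ P ↔ eval a p = 0)

/-- the image of the class of `∂_j f` in the local ring -/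
noncomputable def uj (j : Fin N) : Localization.AtPrime P :=
  algebraMap _ (Localization.AtPrime P) (Ideal.Quotient.mk (Ideal.span {f}) (pderiv j f))

theorem phi_uj (j : Fin N) :
    phi f a P hPa (uj f P j) =
      Ideal.Quotient.mk (Ideal.span {taylor a f}) (MvPowerSeries.pderiv k j (taylor a f)) := by
  unfold uj
  rw [phi_algebraMap, phiBar_mk, pderiv_taylor]

theorem map_span_eq :
    Ideal.map (algebraMap (MvPolynomial (Fin N) k ⧸ Ideal.span {f}) (Localization.AtPrime P))
        (Ideal.span (Set.range fun j : Fin N =>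
          Ideal.Quotient.mk (Ideal.span {f}) (MvPolynomial.pderiv j f))) =
      Ideal.span (Set.range (uj f P)) := by
  rw [Ideal.map_span, ← Set.range_comp]
  rfl

include hPa in
/-- From `J·O = m_O` to non-degeneracy. -/
theorem quadNondeg_of_span_eq (hg : NoLowTerms (taylor a f))
    (h : Ideal.span (Set.range (uj f P)) = maximalIdeal (Localization.AtPrime P)) :
    QuadNondeg (quadPart (taylor a f)) := by
  classical
  set 𝔐 := maximalIdeal (MvPowerSeries (Fin N) k) with h𝔐
  set mkC := Ideal.Quotient.mk (Ideal.span {taylor a f}) with hmkC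
  have hgsq : Ideal.span {taylor a f} ≤ 𝔐 ^ 2 := by
    rw [Ideal.span_singleton_le_iff_mem]
    exact noLowTerms_mem_sq hg
  have hex : ∀ l : Fin N, ∃ G : Fin N → MvPowerSeries (Fin N) k,
      (MvPowerSeries.X l : MvPowerSeries (Fin N) k) -
        ∑ j, G j * MvPowerSeries.pderiv k j (taylor a f) ∈ 𝔐 ^ 2 := by
    intro l
    obtain ⟨o, ho⟩ := exists_sub_phi_mem f a P hPa 2 (mkC (MvPowerSeries.X l))
    have hXl : (MvPowerSeries.X l : MvPowerSeries (Fin N) k) ∈ 𝔐 := by
      rw [mem_maximalIdeal_iff', MvPowerSeries.constantCoeff_X]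
    have ho1 : phi f a P hPa o ∈ Ideal.map mkC (𝔐 ^ 1) := by
      rw [pow_one]
      have h1 : mkC (MvPowerSeries.X l) ∈ Ideal.map mkC 𝔐 := Ideal.mem_map_of_mem _ hXl
      have h2 : mkC (MvPowerSeries.X l) - phi f a P hPa o ∈ Ideal.map mkC 𝔐 :=
        Ideal.map_mono (Ideal.pow_le_self two_ne_zero) ho
      have := Ideal.sub_mem _ h1 h2
      rwa [sub_sub_cancel] at this
    have ho2 := mem_pow_of_phi_mem f a P hPa 1 o ho1
    rw [pow_one, ← h] at ho2
    obtain ⟨c, hc⟩ := (Ideal.mem_span_range_iff_exists_fun).mp ho2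
    choose G hG using fun j => Ideal.Quotient.mk_surjective (I := Ideal.span {taylor a f})
      (phi f a P hPa (c j))
    refine ⟨G, ?_⟩
    have h3 : phi f a P hPa o =
        mkC (∑ j, G j * MvPowerSeries.pderiv k j (taylor a f)) := by
      rw [← hc, map_sum, map_sum]
      apply Finset.sum_congr rfl
      intro j _
      rw [map_mul, map_mul, phi_uj, hG]
    rw [h3, ← map_sub] at ho
    obtain ⟨E, hE, hE'⟩ :=
      (Ideal.mem_map_iff_of_surjective mkC Ideal.Quotient.mk_surjective).mp ho
    rw [Ideal.Quotient.eq] at hE'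
    have h4 := Ideal.sub_mem _ hE (hgsq hE')
    rwa [sub_sub_cancel] at h4
  choose G hG using hex
  exact quadNondeg_of_X_mem (taylor a f) hg G hG

end Local

section Local'

variable {n : ℕ} (f : MvPolynomial (Fin (n + 1)) k) (a : Fin (n + 1) → k)
  (P : Ideal (MvPolynomial (Fin (n + 1)) k ⧸ Ideal.span {f})) [P.IsPrime]
  (hPa : ∀ p : MvPolynomial (Fin (n + 1)) k,
    Ideal.Quotient.mk (Ideal.span {f}) p ∈ P ↔ eval a p = 0)

include hPa in
/-- From non-degeneracy to `J·O = m_O`. -/
theorem span_eq_of_quadNondeg (hg : NoLowTerms (taylor a f))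
    (hnd : QuadNondeg (quadPart (taylor a f)))
    (hP : ∀ j, Ideal.Quotient.mk (Ideal.span {f}) (pderiv j f) ∈ P) :
    Ideal.span (Set.range (uj f P)) = maximalIdeal (Localization.AtPrime P) := by
  classical
  set 𝔐 := maximalIdeal (MvPowerSeries (Fin (n + 1)) k) with h𝔐
  set mkC := Ideal.Quotient.mk (Ideal.span {taylor a f}) with hmkC
  set mO := maximalIdeal (Localization.AtPrime P) with hmO
  have hS := Groth.Agent.S8719.result k n (taylor a f) ⟨hg, hnd⟩
  have hle : Ideal.span (Set.range (uj f P)) ≤ mO := by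
    rw [Ideal.span_le]
    rintro _ ⟨j, rfl⟩
    rw [hmO, ← Localization.AtPrime.map_eq_maximalIdeal]
    exact Ideal.mem_map_of_mem _ (hP j)
  apply le_antisymm hle
  refine Submodule.le_of_le_smul_of_le_jacobson_bot (R := Localization.AtPrime P)
    (M := Localization.AtPrime P) (I := mO) ?_ ?_ ?_
  · exact IsNoetherian.noetherian _
  · exact IsLocalRing.maximalIdeal_le_jacobson (R := Localization.AtPrime P) ⊥
  · intro o ho
    have h1 := phi_mem_of_mem f a P hPa o ho
    obtain ⟨F, hF, hF'⟩ :=
      (Ideal.mem_map_iff_of_surjective mkC Ideal.Quotient.mk_surjective).mp h1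
    rw [← hS] at hF
    obtain ⟨G, hG⟩ := (Ideal.mem_span_range_iff_exists_fun).mp hF
    choose oj hoj using fun j => exists_sub_phi_mem f a P hPa 1 (mkC (G j))
    have h2 : phi f a P hPa (o - ∑ j, oj j * uj f P j) ∈ Ideal.map mkC (𝔐 ^ 2) := by
      have : phi f a P hPa (o - ∑ j, oj j * uj f P j) =
          ∑ j, (mkC (G j) - phi f a P hPa (oj j)) *
            mkC (MvPowerSeries.pderiv k j (taylor a f)) := by
        rw [map_sub, ← hF', ← hG, map_sum, map_sum, ← Finset.sum_sub_distrib]
        apply Finset.sum_congr rfl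
        intro j _
        rw [map_mul, map_mul, phi_uj, sub_mul]
      rw [this, pow_two, Ideal.map_mul]
      refine Ideal.sum_mem _ fun j _ => Ideal.mul_mem_mul ?_ ?_
      · have := hoj j
        rwa [pow_one] at this
      · apply Ideal.mem_map_of_mem
        rw [h𝔐, mem_maximalIdeal_iff']
        exact constantCoeff_pderiv _ hg j
    have h3 := mem_pow_of_phi_mem f a P hPa 2 _ h2
    have h4 : o = ∑ j, oj j * uj f P j + (o - ∑ j, oj j * uj f P j) := by ring
    rw [h4]
    apply Submodule.add_mem
    · apply Submodule.mem_sup_left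
      exact Ideal.sum_mem _ fun j _ => Ideal.mul_mem_left _ _ (Ideal.subset_span ⟨j, rfl⟩)
    · apply Submodule.mem_sup_right
      rw [smul_eq_mul, ← pow_two]
      exact h3

end Local'

end Part7

end Groth.Agent.Lib.Helper47.HypPoint
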