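import Mathlib
import Groth.Prelude.Def_KZero
import Groth.Prelude.Def_DRing2
import Groth.Agent.Lib.Helper35.IndRep2
import Groth.Agent.Lib.Helper35.RegPerf
import Groth.Agent.Lib.Helper35.KoszulPerf
import Groth.Agent.S6292
import Groth.Agent.S15821

/-!
# K₀ of perfect complexes supported at the closed point of a regular local ring

`K0tr` lemmas (classes of isomorphic objects, shifts, triangles), the object property `PS`
(perfect + cohomology supported at the closed point) and its stability, the dévissage property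
`Pr H K := PS K ∧ [K] ∈ H` (an instance of helper35's `Devissage`), the finite-length induction,
and the final statement: if the maximal ideal is generated by a weakly regular sequence `fs` then
`K0tr PS` is generated by the class of the Koszul complex of `fs`.
-/

set_option autoImplicit false
universe v u
open CategoryTheory CategoryTheory.Limits Pretriangulated ZeroObject DerivedCategory
open Groth.Agent.Lib.Helper35.KL

attribute [local instance] HasDerivedCategory.standard

namespace Groth.Agent.Lib.Helper47.K0Koszul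

section K0tr

variable {D : Type u} [Category.{v} D] [Preadditive D] [HasZeroObject D] [HasShift D ℤ]
  [∀ n : ℤ, (shiftFunctor D n).Additive] [Pretriangulated D] (P : ObjectProperty D)

lemma clTr_of (X : D) (h : P X) :
    KZero.clTr P X = QuotientAddGroup.mk (FreeAbelianGroup.of ⟨X, h⟩) := dif_pos h

lemma clTr_triangle (T : Triangle D) (hT : T ∈ distTriang D) (h₁ : P T.obj₁) (h₂ : P T.obj₂)
    (h₃ : P T.obj₃) :
    KZero.clTr P T.obj₂ = KZero.clTr P T.obj₁ + KZero.clTr P T.obj₃ := by
  rw [clTr_of P _ h₁, clTr_of P _ h₂, clTr_of P _ h₃, ← QuotientAddGroup.mk_add,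
    QuotientAddGroup.eq_iff_sub_mem]
  apply AddSubgroup.subset_closure
  refine ⟨T, h₁, h₂, h₃, hT, ?_⟩
  abel

variable (hiso : ∀ X Y : D, (X ≅ Y) → P X → P Y) (h0 : P 0)

include h0 in
lemma clTr_zero : KZero.clTr P (0 : D) = 0 := by
  have hT : Triangle.mk (𝟙 (0 : D)) (0 : (0 : D) ⟶ 0) 0 ∈ distTriang D := contractible_distinguished 0
  have := clTr_triangle P _ hT h0 h0 h0
  simpa using this

include h0 in
lemma clTr_iso {X Y : D} (e : X ≅ Y) (hX : P X) (hY : P Y) :
    KZero.clTr P X = KZero.clTr P Y := by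
  have hT : Triangle.mk e.hom (0 : Y ⟶ 0) 0 ∈ distTriang D := by
    refine isomorphic_distinguished _ (contractible_distinguished X) _ ?_
    refine Triangle.isoMk _ _ (Iso.refl _) e.symm (Iso.refl _) ?_ ?_ ?_
    · change e.hom ≫ e.inv = 𝟙 X ≫ 𝟙 X
      simp
    · change (0 : Y ⟶ 0) ≫ 𝟙 0 = e.inv ≫ 0
      simp
    · change (0 : (0 : D) ⟶ X⟦(1 : ℤ)⟧) ≫ (shiftFunctor D (1 : ℤ)).map (𝟙 X) = 𝟙 0 ≫ 0
      simp
  have := clTr_triangle P _ hT hX hY h0
  change KZero.clTr P Y = KZero.clTr P X + KZero.clTr P 0 at this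
  rw [clTr_zero P h0, add_zero] at this
  exact this.symm

include h0 in
lemma clTr_shift_one {X : D} (hX : P X) (hX1 : P (X⟦(1 : ℤ)⟧)) :
    KZero.clTr P (X⟦(1 : ℤ)⟧) = - KZero.clTr P X := by
  have hT := rot_of_distTriang _ (contractible_distinguished X)
  have := clTr_triangle P _ hT hX h0 hX1
  change KZero.clTr P 0 = KZero.clTr P X + KZero.clTr P (X⟦(1 : ℤ)⟧) at this
  rw [clTr_zero P h0] at this
  exact (neg_eq_of_add_eq_zero_right this.symm).symm

end K0tr

section Supp

variable {R : Type u} [CommRing R]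

lemma support_subset_of_exact {M N Q : Type*} [AddCommGroup M] [Module R M] [AddCommGroup N]
    [Module R N] [AddCommGroup Q] [Module R Q] (f : M →ₗ[R] N) (g : N →ₗ[R] Q)
    (h : Function.Exact f g) :
    Module.support R N ⊆ Module.support R M ∪ Module.support R Q := by
  intro p hp
  by_contra hcon
  rw [Set.mem_union, not_or] at hcon
  obtain ⟨hM, hQ⟩ := hcon
  rw [Module.notMem_support_iff'] at hM hQ
  refine absurd hp ?_
  rw [Module.notMem_support_iff']
  intro x
  obtain ⟨r, hr, hrx⟩ := hQ (g x)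
  rw [← map_smul] at hrx
  obtain ⟨y, hy⟩ := (h (r • x)).mp hrx
  obtain ⟨s, hs, hsy⟩ := hM y
  refine ⟨s * r, p.asIdeal.primeCompl.mul_mem hs hr, ?_⟩
  rw [mul_smul, ← hy, ← map_smul, hsy, map_zero]

variable [IsLocalRing R]

/-- supported at the closed point -/
def SuppCl (R : Type u) [CommRing R] [IsLocalRing R] (M : Type u) [AddCommGroup M] [Module R M] : Prop :=
  Module.support R M ⊆ {IsLocalRing.closedPoint R}

lemma suppCl_of_linearEquiv {M N : Type u} [AddCommGroup M] [Module R M] [AddCommGroup N]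
    [Module R N] (e : M ≃ₗ[R] N) (h : SuppCl R M) : SuppCl R N := by
  unfold SuppCl at *
  rwa [← e.support_eq]

lemma suppCl_of_subsingleton (M : Type u) [AddCommGroup M] [Module R M] [Subsingleton M] :
    SuppCl R M := by
  unfold SuppCl
  rw [Module.support_eq_empty]
  exact Set.empty_subset _

lemma suppCl_of_exact {M N Q : Type u} [AddCommGroup M] [Module R M] [AddCommGroup N]
    [Module R N] [AddCommGroup Q] [Module R Q] (f : M →ₗ[R] N) (g : N →ₗ[R] Q)
    (h : Function.Exact f g) (hM : SuppCl R M) (hQ : SuppCl R Q) : SuppCl R N :=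
  (support_subset_of_exact f g h).trans (Set.union_subset hM hQ)

/-- the object property -/
def PS : ObjectProperty (Dual.D R) := fun K =>
  DRing.IsPerfect R K ∧ ∀ i : ℤ, Module.support R (Dual.HD R K i) ⊆ {IsLocalRing.closedPoint R}

lemma PS_iso {K K' : Dual.D R} (e : K ≅ K') (h : PS K) : PS K' := by
  refine ⟨isPerfect_of_iso e h.1, fun i => ?_⟩
  exact suppCl_of_linearEquiv
    ((homologyFunctor (ModuleCat.{u} R) i).mapIso e).toLinearEquiv (h.2 i)

lemma PS_zero {K : Dual.D R} (hK : IsZero K) : PS K := by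
  refine ⟨isPerfect_of_isZero hK, fun i => ?_⟩
  have hz : IsZero ((homologyFunctor (ModuleCat.{u} R) i).obj K) :=
    (homologyFunctor (ModuleCat.{u} R) i).map_isZero hK
  have := ModuleCat.subsingleton_of_isZero hz
  exact suppCl_of_subsingleton _

lemma PS_shift {K : Dual.D R} (h : PS K) (n : ℤ) : PS (K⟦n⟧) := by
  refine ⟨isPerfect_shift h.1 n, fun i => ?_⟩
  exact suppCl_of_linearEquiv
    (((homologyFunctor (ModuleCat.{u} R) 0).shiftIso n i (n + i) rfl).app K).toLinearEquiv.symm
    (h.2 (n + i))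

lemma PS_mid (T : Triangle (Dual.D R)) (hT : T ∈ distTriang _) (h₁ : PS T.obj₁) (h₃ : PS T.obj₃) :
    PS T.obj₂ := by
  refine ⟨(isPerfect_two_out_of_three T hT).2.1 h₁.1 h₃.1, fun i => ?_⟩
  have hex := HomologySequence.exact₂ T hT i
  rw [ShortComplex.ShortExact.moduleCat_exact_iff_function_exact] at hex
  exact suppCl_of_exact _ _ hex (h₁.2 i) (h₃.2 i)

end Supp

section Dev

variable {R : Type u} [CommRing R] [IsLocalRing R]

lemma PS0 : PS (R := R) (0 : Dual.D R) := PS_zero (isZero_zero _)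

variable (H : AddSubgroup (KZero.K0tr (PS (R := R))))

/-- the dévissage property -/
def Pr (K : Dual.D R) : Prop := PS K ∧ KZero.clTr PS K ∈ H

lemma Pr_iso {K K' : Dual.D R} (e : K ≅ K') (h : Pr H K) : Pr H K' :=
  ⟨PS_iso e h.1, by
    rw [← clTr_iso PS PS0 e h.1 (PS_iso e h.1)]
    exact h.2⟩

lemma Pr_shift_one {K : Dual.D R} (h : Pr H K) : Pr H (K⟦(1 : ℤ)⟧) :=
  ⟨PS_shift h.1 1, by
    rw [clTr_shift_one PS PS0 h.1 (PS_shift h.1 1)]
    exact H.neg_mem h.2⟩

lemma Pr_of_shift_one {K : Dual.D R} (hK : PS K) (h : Pr H (K⟦(1 : ℤ)⟧)) : Pr H K :=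
  ⟨hK, by
    have := clTr_shift_one PS PS0 hK h.1
    have h2 : KZero.clTr PS K = - KZero.clTr PS (K⟦(1 : ℤ)⟧) := by rw [this, neg_neg]
    rw [h2]
    exact H.neg_mem h.2⟩

lemma Pr_shift {K : Dual.D R} (h : Pr H K) (n : ℤ) : Pr H (K⟦n⟧) := by
  induction n using Int.induction_on with
  | zero => exact Pr_iso H ((shiftFunctorZero _ ℤ).app K).symm h
  | succ n ih =>
    exact Pr_iso H ((shiftFunctorAdd' _ (n : ℤ) 1 (n + 1) rfl).app K).symm (Pr_shift_one H ih)
  | pred n ih =>
    apply Pr_of_shift_one H (PS_shift h.1 _)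
    exact Pr_iso H ((shiftFunctorAdd' _ (-(n : ℤ) - 1) 1 (-(n : ℤ)) (by omega)).app K) ih

theorem devissage_Pr : Devissage (Pr H) where
  iso e h := Pr_iso H e h
  shift K n h := Pr_shift H h n
  mid T hT h₁ h₃ := ⟨PS_mid T hT h₁.1 h₃.1, by
    rw [clTr_triangle PS T hT h₁.1 (PS_mid T hT h₁.1 h₃.1) h₃.1]
    exact H.add_mem h₁.2 h₃.2⟩
  zero K hK := ⟨PS_zero hK, by
    rw [clTr_iso PS PS0 hK.isoZero (PS_zero hK) PS0, clTr_zero PS PS0]
    exact H.zero_mem⟩

end Dev

section FinLen

variable {R : Type u} [CommRing R] [IsLocalRing R]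
variable (H : AddSubgroup (KZero.K0tr (PS (R := R))))

/-- the single complex of a module -/
noncomputable abbrev sg (M : Type u) [AddCommGroup M] [Module R M] : Dual.D R :=
  (singleFunctor (ModuleCat.{u} R) 0).obj (ModuleCat.of R M)

lemma Pr_sg_of_linearEquiv {M N : Type u} [AddCommGroup M] [Module R M] [AddCommGroup N]
    [Module R N] (e : M ≃ₗ[R] N) (h : Pr H (sg M)) : Pr H (sg N) :=
  Pr_iso H ((singleFunctor (ModuleCat.{u} R) 0).mapIso e.toModuleIso) h

theorem Pr_sg_of_isFiniteLength
    (hk : Pr H (sg (R ⧸ IsLocalRing.maximalIdeal R)))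
    (M : Type u) [AddCommGroup M] [Module R M] (hM : IsFiniteLength R M) :
    Pr H (sg M) := by
  induction hM with
  | @of_subsingleton M _ _ _ =>
    apply (devissage_Pr H).zero
    apply (singleFunctor (ModuleCat.{u} R) 0).map_isZero
    exact ModuleCat.isZero_of_subsingleton _
  | @of_simple_quotient M _ _ N hsimple hN ih =>
    let S : ShortComplex (ModuleCat.{u} R) :=
      ShortComplex.mk (ModuleCat.ofHom N.subtype) (ModuleCat.ofHom N.mkQ) (by
        ext x
        simp)
    have hS : S.ShortExact := by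
      apply ModuleCat.shortComplex_shortExact
      · intro (x : M)
        change N.mkQ x = 0 ↔ x ∈ Set.range N.subtype
        simp
      · exact N.injective_subtype
      · exact N.mkQ_surjective
    have hT := hS.singleTriangle_distinguished
    obtain ⟨I, hI, ⟨e⟩⟩ := isSimpleModule_iff_quot_maximal.mp hsimple
    obtain rfl : I = IsLocalRing.maximalIdeal R := IsLocalRing.eq_maximalIdeal hI
    exact (devissage_Pr H).mid _ hT ih (Pr_sg_of_linearEquiv H e.symm hk)

end FinLen

section FL

variable {R : Type u} [CommRing R] [IsLocalRing R] [IsNoetherianRing R]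

theorem isFiniteLength_of_suppCl (M : Type u) [AddCommGroup M] [Module R M] [Module.Finite R M]
    (h : SuppCl R M) : IsFiniteLength R M := by
  unfold SuppCl at h
  rw [Module.support_eq_zeroLocus] at h
  have hrad : IsLocalRing.maximalIdeal R ≤ (Module.annihilator R M).radical := by
    rw [Ideal.radical_eq_sInf]
    refine le_sInf ?_
    rintro p ⟨hp, hpp⟩
    have hmem : (⟨p, hpp⟩ : PrimeSpectrum R) ∈ PrimeSpectrum.zeroLocus
        ((Module.annihilator R M : Ideal R) : Set R) := by
      rw [PrimeSpectrum.mem_zeroLocus]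
      exact hp
    have := h hmem
    rw [Set.mem_singleton_iff] at this
    have h2 : p = IsLocalRing.maximalIdeal R := congrArg PrimeSpectrum.asIdeal this
    rw [h2]
  obtain ⟨n, hn⟩ := Ideal.exists_pow_le_of_le_radical_of_fg hrad
    (IsNoetherian.noetherian (IsLocalRing.maximalIdeal R))
  refine Groth.Agent.S6292.result (IsLocalRing.maximalIdeal R)
    (IsNoetherian.noetherian (IsLocalRing.maximalIdeal R)) M n ?_
  rw [eq_bot_iff, Submodule.smul_le]
  intro r hr x _
  rw [Module.mem_annihilator.mp (hn hr) x]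
  exact Submodule.zero_mem _

end FL

section Main

variable {R : Type u} [CommRing R] [IsLocalRing R] [IsNoetherianRing R]

theorem eq_top_of_Pr_k (H : AddSubgroup (KZero.K0tr (PS (R := R))))
    (hk : Pr H (sg (R ⧸ IsLocalRing.maximalIdeal R))) : H = ⊤ := by
  rw [eq_top_iff]
  intro x hx
  clear hx
  obtain ⟨y, rfl⟩ := QuotientAddGroup.mk_surjective x
  induction y using FreeAbelianGroup.induction_on with
  | zero => exact H.zero_mem
  | of K =>
    have hPr : Pr H K.1 := by
      refine (devissage_Pr H).of_bounded_homology K.1 (bounded_homology_of_isPerfect K.1 K.2.1)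
        (fun i => ?_)
      have hfin := finite_homology_of_isPerfect K.1 K.2.1 i
      exact Pr_sg_of_isFiniteLength H hk _ (isFiniteLength_of_suppCl _ (K.2.2 i))
    have := hPr.2
    rw [clTr_of PS K.1 K.2] at this
    exact this
  | neg K ih =>
    rw [QuotientAddGroup.mk_neg]
    exact H.neg_mem ih
  | add a b ha hb =>
    rw [QuotientAddGroup.mk_add]
    exact H.add_mem ha hb

end Main

section Base

variable {R : Type u} [CommRing R] [IsLocalRing R] [IsNoetherianRing R]

lemma suppCl_quot_maximalIdeal : SuppCl R (R ⧸ IsLocalRing.maximalIdeal R) := by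
  unfold SuppCl
  rw [Module.support_eq_zeroLocus, Ideal.annihilator_quotient]
  intro p hp
  rw [PrimeSpectrum.mem_zeroLocus] at hp
  rw [Set.mem_singleton_iff]
  apply PrimeSpectrum.ext
  exact ((IsLocalRing.maximalIdeal.isMaximal R).eq_of_le p.2.ne_top hp).symm

variable (fs : List R) (hreg : RingTheory.Sequence.IsWeaklyRegular R fs)
  (hgen : Ideal.ofList fs = IsLocalRing.maximalIdeal R)

/-- homology of the image of a complex in the derived category -/
noncomputable def homIso (E : DRing.Cx R) (i : ℤ) :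
    (homologyFunctor (ModuleCat.{u} R) i).obj (DRing.toD E) ≅ E.homology i :=
  (homologyFunctorFactors (ModuleCat.{u} R) i).app E

include hreg hgen in
lemma PS_koszul : PS (DRing.toD (Koszul.koszul R fs)) := by
  obtain ⟨h1, ⟨e0⟩⟩ := Groth.Agent.S15821.result R fs hreg
  refine ⟨Groth.Agent.Lib.Helper35.KzP.isPerfect_koszul fs, fun i => ?_⟩
  by_cases hi : i = 0
  · subst hi
    have e : Dual.HD R (DRing.toD (Koszul.koszul R fs)) 0 ≃ₗ[R] (R ⧸ IsLocalRing.maximalIdeal R) :=
      (homIso (Koszul.koszul R fs) 0 ≪≫ e0).toLinearEquiv ≪≫ₗ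
        (Submodule.quotEquivOfEq _ _ hgen)
    exact suppCl_of_linearEquiv e.symm suppCl_quot_maximalIdeal
  · have hz : IsZero ((homologyFunctor (ModuleCat.{u} R) i).obj (DRing.toD (Koszul.koszul R fs))) :=
      (h1 i hi).of_iso (homIso (Koszul.koszul R fs) i)
    have := ModuleCat.subsingleton_of_isZero hz
    exact suppCl_of_subsingleton _

include hreg hgen in
lemma nonempty_iso_sg_koszul :
    Nonempty (DRing.toD (Koszul.koszul R fs) ≅ sg (R ⧸ IsLocalRing.maximalIdeal R)) := by
  obtain ⟨h1, ⟨e0⟩⟩ := Groth.Agent.S15821.result R fs hreg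
  set X := DRing.toD (Koszul.koszul R fs) with hX
  have hsub : ∀ i : ℤ, (i < 0 ∨ 0 < i) →
      Subsingleton ((homologyFunctor (ModuleCat.{u} R) i).obj X) := by
    intro i hi
    have hz : IsZero ((homologyFunctor (ModuleCat.{u} R) i).obj X) :=
      (h1 i (by omega)).of_iso (homIso (Koszul.koszul R fs) i)
    exact ModuleCat.subsingleton_of_isZero hz
  obtain ⟨hG, hL⟩ := isGE_and_isLE_of_subsingleton X 0 0 hsub
  obtain ⟨A, ⟨e⟩⟩ := exists_iso_singleFunctor_obj_of_isGE_of_isLE X 0
  have eA : A ≅ ModuleCat.of R (R ⧸ IsLocalRing.maximalIdeal R) :=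
    ((singleFunctorCompHomologyFunctorIso (ModuleCat.{u} R) 0).app A).symm ≪≫
      (homologyFunctor (ModuleCat.{u} R) 0).mapIso e.symm ≪≫
      homIso (Koszul.koszul R fs) 0 ≪≫ e0 ≪≫
      (Submodule.quotEquivOfEq _ _ hgen).toModuleIso
  exact ⟨e ≪≫ (singleFunctor (ModuleCat.{u} R) 0).mapIso eA⟩

include hreg hgen in
theorem closure_koszul_eq_top :
    AddSubgroup.closure {KZero.clTr (PS (R := R)) (DRing.toD (Koszul.koszul R fs))} = ⊤ := by
  apply eq_top_of_Pr_k
  obtain ⟨e⟩ := nonempty_iso_sg_koszul fs hreg hgen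
  refine Pr_iso _ e ⟨PS_koszul fs hreg hgen, ?_⟩
  exact AddSubgroup.subset_closure (Set.mem_singleton _)

end Base

end Groth.Agent.Lib.Helper47.K0Koszul
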