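import Mathlib
import Groth.Prelude.Def_DRing2
import Groth.Agent.Lib.Helper10.KoszulComp
import Groth.Agent.Lib.Helper10.KoszulPerm
import Groth.Agent.Lib.Helper10.KoszulFlat
import Groth.Agent.Lib.Helper12.KoszulLES
import Groth.Agent.Lib.Helper47.CechKoszul

/-!
# Koszul complexes on redundant generators

If `ys ⊆ (xs)`, the multiplications by the `y`'s are null-homotopic on `K(xs) ⊗ M`, hence the
iterated cones split on cohomology.
-/

set_option autoImplicit false

universe v u

namespace Groth.Agent.Lib.Helper47.KoszulSplit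

open CategoryTheory CategoryTheory.Limits CochainComplex HomComplex

section General

variable {C : Type u} [Category.{v} C] [Abelian C]
variable {K L : CochainComplex C ℤ} (φ : K ⟶ L)

/-- a null-homotopy of `φ` gives a retraction of `inr φ`. -/
noncomputable def retr (h : Homotopy φ 0) : mappingCone φ ⟶ L :=
  mappingCone.desc φ (Cochain.ofHomotopy h) (𝟙 L) (by simp [δ_ofHomotopy])

@[reassoc (attr := simp)]
lemma inr_retr (h : Homotopy φ 0) : mappingCone.inr φ ≫ retr φ h = 𝟙 L :=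
  mappingCone.inr_desc _ _ _ _

open Groth.Agent.Lib.Helper12.KoszulLES in
/-- the cohomology of the cone of a null-homotopic map splits. -/
theorem nonempty_homology_cone_iso (h : Homotopy φ 0) (m : ℤ) :
    Nonempty ((mappingCone φ).homology m ≅ L.homology m ⊞ K.homology (m + 1)) := by
  obtain ⟨δ, w₃, w₁, h3, h1⟩ := cone_exact₃₁ φ m
  have hz : (HomologicalComplex.homologyFunctor C (ComplexShape.up ℤ) (m + 1)).map φ = 0 := by
    have := h.homologyMap_eq (m + 1)
    rw [HomologicalComplex.homologyMap_zero] at this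
    exact this
  haveI : Epi δ := h1.epi_f hz
  let S : ShortComplex C := ShortComplex.mk _ _ w₃
  have hr : S.f ≫ (HomologicalComplex.homologyFunctor C (ComplexShape.up ℤ) m).map (retr φ h) =
      𝟙 _ := by
    change (HomologicalComplex.homologyFunctor C (ComplexShape.up ℤ) m).map (mappingCone.inr φ) ≫ _ = _
    rw [← Functor.map_comp, inr_retr, CategoryTheory.Functor.map_id]
  haveI : Epi S.g := ‹Epi δ›
  exact ⟨(ShortComplex.Splitting.ofExactOfRetraction S h3 _ hr ‹_›).isoBinaryBiproduct⟩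

end General

section NullH

variable {A : Type u} [CommRing A]

lemma ofHom_smul {K L : CochainComplex (ModuleCat.{u} A) ℤ} (a : A) (f : K ⟶ L) :
    Cochain.ofHom (a • f) = a • Cochain.ofHom f := by
  ext p
  simp

/-- multiplication by `a` is null-homotopic on `W`. -/
def NullH (a : A) (W : CochainComplex (ModuleCat.{u} A) ℤ) : Prop :=
  ∃ z : Cochain W W (-1), δ (-1) 0 z = Cochain.ofHom (a • 𝟙 W)

variable (W : CochainComplex (ModuleCat.{u} A) ℤ)

lemma nullH_iff (a : A) : NullH a W ↔ Nonempty (Homotopy (a • 𝟙 W) 0) := by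
  constructor
  · rintro ⟨z, hz⟩
    exact ⟨(Cochain.equivHomotopy (a • 𝟙 W) 0).symm ⟨z, by simp [hz]⟩⟩
  · rintro ⟨h⟩
    exact ⟨Cochain.ofHomotopy h, by simp [δ_ofHomotopy]⟩

lemma nullH_zero : NullH (0 : A) W := ⟨0, by simp⟩

lemma nullH_add {a b : A} (ha : NullH a W) (hb : NullH b W) : NullH (a + b) W := by
  obtain ⟨z, hz⟩ := ha
  obtain ⟨z', hz'⟩ := hb
  exact ⟨z + z', by rw [δ_add, hz, hz', add_smul, Cochain.ofHom_add]⟩

lemma nullH_mul (c : A) {a : A} (ha : NullH a W) : NullH (c * a) W := by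
  obtain ⟨z, hz⟩ := ha
  exact ⟨c • z, by rw [δ_smul, hz, ofHom_smul, ofHom_smul, mul_smul]⟩

/-- the elements acting null-homotopically form an ideal. -/
def nullIdeal : Ideal A where
  carrier := {a | NullH a W}
  add_mem' := nullH_add W
  zero_mem' := nullH_zero W
  smul_mem' c _ ha := nullH_mul W c ha

lemma mem_nullIdeal (a : A) : a ∈ nullIdeal W ↔ NullH a W := Iff.rfl

/-- `a` is null-homotopic on the cone of `a`. -/
lemma nullH_cone_self (a : A) : NullH a (mappingCone (a • 𝟙 W)) := by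
  refine ⟨mappingCone.descCochain (a • 𝟙 W) (0 : Cochain W _ (-2)) (mappingCone.inl (a • 𝟙 W))
    (by norm_num), ?_⟩
  rw [mappingCone.δ_descCochain _ _ _ _ 0 (by norm_num)]
  simp only [δ_zero, zero_add, Int.negOnePow_zero, one_smul, mappingCone.δ_inl, ofHom_smul,
    Cochain.smul_comp, Cochain.id_comp, Cochain.comp_smul, Cochain.ofHom_comp]
  rw [← mappingCone.id (a • 𝟙 W), smul_add]

/-- null-homotopies pass to cones of multiplications. -/
lemma nullH_cone {a : A} (b : A) (ha : NullH a W) : NullH a (mappingCone (b • 𝟙 W)) := by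
  obtain ⟨z, hz⟩ := ha
  refine ⟨mappingCone.descCochain (b • 𝟙 W)
    (-(z.comp (mappingCone.inl (b • 𝟙 W)) (show (-1 : ℤ) + (-1) = -2 by norm_num)))
    (z.comp (Cochain.ofHom (mappingCone.inr (b • 𝟙 W))) (add_zero (-1))) (by norm_num), ?_⟩
  rw [mappingCone.δ_descCochain _ _ _ _ 0 (by norm_num)]
  rw [δ_neg, δ_comp z (mappingCone.inl (b • 𝟙 W)) (show (-1 : ℤ) + (-1) = -2 by norm_num) 0 0 (-1)
    (by norm_num) (by norm_num) (by norm_num), δ_comp_ofHom, hz]
  simp only [Int.negOnePow_zero, one_smul, mappingCone.δ_inl, ofHom_smul,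
    Cochain.smul_comp, Cochain.id_comp, Cochain.comp_smul, Cochain.ofHom_comp]
  rw [← mappingCone.id (b • 𝟙 W), smul_add]
  simp

end NullH

section Tensor

open Groth.Agent.Lib.Helper10.KoszulComp Groth.Agent.Lib.Helper10.KoszulFlat
open Groth.Agent.Lib.Helper47.CechKoszul MonoidalCategory

variable {A : Type u} [CommRing A] (M : ModuleCat.{u} A)

/-- the termwise tensor functor. -/
noncomputable abbrev T : CochainComplex (ModuleCat.{u} A) ℤ ⥤ CochainComplex (ModuleCat.{u} A) ℤ :=
  (tensorRight M).mapHomologicalComplex (ComplexShape.up ℤ)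

lemma T_obj (K : CochainComplex (ModuleCat.{u} A) ℤ) : (T M).obj K = DRing.tensorCx K M := rfl

lemma T_map_smul_id (K : CochainComplex (ModuleCat.{u} A) ℤ) (a : A) :
    (T M).map (a • 𝟙 K) = a • 𝟙 ((T M).obj K) := by
  ext i : 1
  change (tensorRight M).map (a • 𝟙 (K.X i)) = a • 𝟙 _
  rw [Functor.map_smul, CategoryTheory.Functor.map_id]
  rfl

/-- the termwise tensor product commutes with iterated cones. -/
noncomputable def tensorCCIso (K : CochainComplex (ModuleCat.{u} A) ℤ) : ∀ l : List A,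
    ((T M).obj (CC l K) ≅ CC l ((T M).obj K))
  | [] => Iso.refl _
  | f :: l =>
      mappingCone.mapHomologicalComplexIso (f • 𝟙 (CC l K)) (tensorRight M) ≪≫
      coneCongr (T_map_smul_id M (CC l K) f) ≪≫
      coneIso f (tensorCCIso K l)

/-- null-homotopies pass to the termwise tensor product. -/
lemma nullH_T {a : A} (K : CochainComplex (ModuleCat.{u} A) ℤ) (h : NullH a K) :
    NullH a ((T M).obj K) := by
  rw [nullH_iff] at h ⊢
  obtain ⟨h⟩ := h
  have h' := (tensorRight M).mapHomotopy h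
  rw [Functor.map_zero] at h'
  exact ⟨(Homotopy.ofEq (T_map_smul_id M K a).symm).trans h'⟩

end Tensor

section Comb

variable (A : Type u) [CommRing A]

/-- transport along an equality of indices. -/
def castLE (G : ℕ → Type u) [∀ k, AddCommGroup (G k)] [∀ k, Module A (G k)] {a b : ℕ}
    (h : a = b) : G a ≃ₗ[A] G b := by
  subst h
  exact LinearEquiv.refl _ _

theorem exists_equiv_of_card_fiber {ι κ : Type} [Fintype ι] [Fintype κ] [DecidableEq ι]
    [DecidableEq κ] (d : ι → ℕ) (d' : κ → ℕ)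
    (hcard : ∀ k : ℕ, Fintype.card {i // d i = k} = Fintype.card {j // d' j = k}) :
    ∃ e : ι ≃ κ, ∀ i, d' (e i) = d i := by
  let e : ι ≃ κ := (Equiv.sigmaFiberEquiv d).symm.trans
    ((Equiv.sigmaCongrRight fun k => Fintype.equivOfCardEq (hcard k)).trans
      (Equiv.sigmaFiberEquiv d'))
  refine ⟨e, fun i => ?_⟩
  exact ((Fintype.equivOfCardEq (hcard (d i))) ⟨i, rfl⟩).2

theorem nonempty_pi_of_card_fiber {ι κ : Type} [Fintype ι] [Fintype κ] [DecidableEq ι]
    [DecidableEq κ] (G : ℕ → Type u) [∀ k, AddCommGroup (G k)] [∀ k, Module A (G k)]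
    (d : ι → ℕ) (d' : κ → ℕ)
    (hcard : ∀ k : ℕ, Fintype.card {i // d i = k} = Fintype.card {j // d' j = k}) :
    Nonempty ((Π i, G (d i)) ≃ₗ[A] (Π j, G (d' j))) := by
  obtain ⟨e, he⟩ := exists_equiv_of_card_fiber d d' hcard
  refine ⟨(LinearEquiv.piCongrLeft' A (fun i => G (d i)) e).trans
    (LinearEquiv.piCongrRight fun j => castLE A G ?_)⟩
  rw [← he (e.symm j), Equiv.apply_symm_apply]

/-- index type -/
abbrev κ (r : ℕ) := Σ j : Fin (r + 1), Fin (r.choose j)

lemma card_fiber_κ (r n : ℕ) : Fintype.card {p : κ r // (p.1 : ℕ) = n} = r.choose n := by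
  by_cases hn : n < r + 1
  · have e : {p : κ r // (p.1 : ℕ) = n} ≃ Fin (r.choose n) :=
      (Equiv.subtypeEquivRight (fun p => by
        constructor
        · intro h
          exact Fin.ext h
        · intro h
          rw [h])).trans (Equiv.sigmaSubtype (β := fun j : Fin (r + 1) => Fin (r.choose j))
            (⟨n, hn⟩ : Fin (r + 1)))
    rw [Fintype.card_congr e, Fintype.card_fin]
  · have : IsEmpty {p : κ r // (p.1 : ℕ) = n} := ⟨fun ⟨p, hp⟩ => hn (hp ▸ p.1.2)⟩
    rw [Fintype.card_eq_zero, Nat.choose_eq_zero_of_lt (by omega)]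

lemma card_fiber_κ_succ (r n : ℕ) :
    Fintype.card {p : κ r // (p.1 : ℕ) + 1 = n} = if n = 0 then 0 else r.choose (n - 1) := by
  rcases n with _ | n
  · have : IsEmpty {p : κ r // (p.1 : ℕ) + 1 = 0} := ⟨fun ⟨p, hp⟩ => by omega⟩
    rw [Fintype.card_eq_zero]
    simp
  · rw [if_neg (by omega), Nat.add_sub_cancel, ← card_fiber_κ r n]
    exact Fintype.card_congr (Equiv.subtypeEquivRight (fun p => by omega))

theorem nonempty_step (G : ℕ → Type u) [∀ k, AddCommGroup (G k)] [∀ k, Module A (G k)] (r : ℕ) :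
    Nonempty ((((j : Fin (r + 1)) → Fin (r.choose j) → G j) ×
        ((j : Fin (r + 1)) → Fin (r.choose j) → G (j + 1))) ≃ₗ[A]
      ((j : Fin (r + 1 + 1)) → Fin ((r + 1).choose j) → G j)) := by
  classical
  let d : κ r ⊕ κ r → ℕ := Sum.elim (fun p => (p.1 : ℕ)) (fun p => (p.1 : ℕ) + 1)
  let d' : κ (r + 1) → ℕ := fun p => (p.1 : ℕ)
  have hcard : ∀ k : ℕ, Fintype.card {i // d i = k} = Fintype.card {j // d' j = k} := by
    intro k
    rw [Fintype.card_congr (Equiv.subtypeSum (p := fun i => d i = k)), Fintype.card_sum]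
    change Fintype.card {p : κ r // (p.1 : ℕ) = k} + Fintype.card {p : κ r // (p.1 : ℕ) + 1 = k} =
      Fintype.card {p : κ (r + 1) // (p.1 : ℕ) = k}
    rw [card_fiber_κ, card_fiber_κ_succ, card_fiber_κ]
    rcases k with _ | k
    · simp
    · rw [if_neg (by omega), Nat.add_sub_cancel, Nat.choose_succ_succ, add_comm]
  obtain ⟨e⟩ := nonempty_pi_of_card_fiber A G d d' hcard
  let e₁ : ((j : Fin (r + 1)) → Fin (r.choose j) → G j) ≃ₗ[A] (Π p : κ r, G (p.1 : ℕ)) :=
    (LinearEquiv.piCurry A (fun (j : Fin (r + 1)) (_ : Fin (r.choose j)) => G j)).symm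
  let e₂ : ((j : Fin (r + 1)) → Fin (r.choose j) → G (j + 1)) ≃ₗ[A]
      (Π p : κ r, G ((p.1 : ℕ) + 1)) :=
    (LinearEquiv.piCurry A (fun (j : Fin (r + 1)) (_ : Fin (r.choose j)) => G (j + 1))).symm
  let e₃ : (Π s : κ r ⊕ κ r, G (d s)) ≃ₗ[A]
      ((Π p : κ r, G (p.1 : ℕ)) × (Π p : κ r, G ((p.1 : ℕ) + 1))) :=
    LinearEquiv.sumPiEquivProdPi A (κ r) (κ r) (fun s => G (d s))
  let e₄ : ((j : Fin (r + 1 + 1)) → Fin ((r + 1).choose j) → G j) ≃ₗ[A]
      (Π p : κ (r + 1), G (d' p)) :=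
    (LinearEquiv.piCurry A (fun (j : Fin (r + 1 + 1)) (_ : Fin ((r + 1).choose j)) => G j)).symm
  exact ⟨((e₁.prodCongr e₂).trans e₃.symm).trans (e.trans e₄.symm)⟩

end Comb

section Main

open Groth.Agent.Lib.Helper10.KoszulComp Groth.Agent.Lib.Helper10.KoszulFlat
open Groth.Agent.Lib.Helper47.CechKoszul MonoidalCategory

variable {A : Type u} [CommRing A]

lemma nullH_CC {a : A} (W : CochainComplex (ModuleCat.{u} A) ℤ) (h : NullH a W) :
    ∀ l : List A, NullH a (CC l W)
  | [] => h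
  | b :: l => nullH_cone (CC l W) b (nullH_CC W h l)

lemma nullH_CC_of_mem (W : CochainComplex (ModuleCat.{u} A) ℤ) {a : A} :
    ∀ l : List A, a ∈ l → NullH a (CC l W)
  | b :: l, h => by
    rcases List.mem_cons.mp h with rfl | h'
    · exact nullH_cone_self (CC l W) a
    · exact nullH_cone (CC l W) b (nullH_CC_of_mem W l h')

lemma nullH_CC_of_mem_span (W : CochainComplex (ModuleCat.{u} A) ℤ) (xs : List A) (y : A)
    (hy : y ∈ Ideal.span {a | a ∈ xs}) : NullH y (CC xs W) := by
  have hle : Ideal.span {a | a ∈ xs} ≤ nullIdeal (CC xs W) :=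
    Ideal.span_le.mpr (fun a ha => nullH_CC_of_mem W xs ha)
  exact hle hy

/-- transport of cohomology along an equality of degrees. -/
noncomputable def homologyCast (W : CochainComplex (ModuleCat.{u} A) ℤ) {a b : ℤ} (h : a = b) :
    W.homology a ≃ₗ[A] W.homology b := by
  subst h
  exact LinearEquiv.refl _ _

/-- the cohomology of iterated cones of null-homotopic multiplications. -/
theorem nonempty_homology_CC_iso (W : CochainComplex (ModuleCat.{u} A) ℤ) (l : List A)
    (hl : ∀ y ∈ l, NullH y W) (m : ℤ) :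
    Nonempty ((CC l W).homology m ≅ ModuleCat.of A ((j : Fin (l.length + 1)) →
      Fin (l.length.choose j) → W.homology (m + j))) := by
  induction l generalizing m with
  | nil =>
    let e₁ : ((j : Fin 1) → Fin (Nat.choose 0 j) → W.homology (m + j)) ≃ₗ[A]
        (Fin 1 → W.homology (m + ((0 : Fin 1) : ℕ))) :=
      LinearEquiv.piUnique A (fun j : Fin 1 => Fin (Nat.choose 0 j) → W.homology (m + j))
    let e₂ : (Fin 1 → W.homology (m + ((0 : Fin 1) : ℕ))) ≃ₗ[A] W.homology (m + ((0 : Fin 1) : ℕ)) :=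
      LinearEquiv.funUnique (Fin 1) A _
    let e₃ : W.homology (m + ((0 : Fin 1) : ℕ)) ≃ₗ[A] W.homology m := homologyCast W (by simp)
    exact ⟨(((e₁.trans e₂).trans e₃).symm).toModuleIso⟩
  | cons y l ih =>
    have hl' : ∀ y ∈ l, NullH y W := fun b hb => hl b (List.mem_cons_of_mem _ hb)
    have hy : NullH y (CC l W) := nullH_CC W (hl y List.mem_cons_self) l
    obtain ⟨h⟩ := (nullH_iff _ _).mp hy
    obtain ⟨e₀⟩ := nonempty_homology_cone_iso (y • 𝟙 (CC l W)) h m
    obtain ⟨e₁⟩ := ih hl' m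
    obtain ⟨e₂⟩ := ih hl' (m + 1)
    obtain ⟨e₃⟩ := nonempty_step A (fun k : ℕ => W.homology (m + k)) l.length
    let c : ((j : Fin (l.length + 1)) → Fin (l.length.choose j) → W.homology (m + 1 + j)) ≃ₗ[A]
        ((j : Fin (l.length + 1)) → Fin (l.length.choose j) → W.homology (m + ((j + 1 : ℕ) : ℕ))) :=
      LinearEquiv.piCongrRight fun j => LinearEquiv.piCongrRight fun _ =>
        homologyCast W (by push_cast; ring)
    exact ⟨e₀ ≪≫ biprod.mapIso e₁ e₂ ≪≫ ModuleCat.biprodIsoProd _ _ ≪≫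
      (((LinearEquiv.refl A _).prodCongr c).trans e₃).toModuleIso⟩

end Main

end Groth.Agent.Lib.Helper47.KoszulSplit
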