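import Mathlib
import Groth.Prelude.Def_DRing4
import Groth.Agent.Lib.Helper28.TensCx
import Groth.Agent.Lib.Helper10.KoszulFlat
import Groth.Prelude.Def_Koszul

/-!
# Tensoring cochains with a complex; the tensor product commutes with mapping cones
-/

set_option autoImplicit false

universe u

namespace Groth.Agent.Lib.Helper47.KoszulTensor

open CategoryTheory CategoryTheory.Limits Category MonoidalCategory CochainComplex HomComplex
open Groth.Agent.Lib.Helper28.TensCx

variable {R : Type u} [CommRing R]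

section WR

variable {K K' K'' : DRing.Cx R} (L : DRing.Cx R)

/-- tensoring a cochain on the right with a complex. -/
noncomputable def wr {n : ℤ} (z : Cochain K K' n) : Cochain (K ⊗ L) (K' ⊗ L) n :=
  Cochain.mk (fun _ N' hN => HomologicalComplex.mapBifunctorDesc (fun p q hpq =>
    (z.v p (p + n) rfl ▷ L.X q) ≫ ι K' L (p + n) q N'
      (by have h : p + q = _ := hpq; omega)))

@[reassoc]
lemma ι_wr_v {n : ℤ} (z : Cochain K K' n) (p q N p' N' : ℤ) (hpq : p + q = N) (hp' : p + n = p')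
    (hN : N + n = N') :
    ι K L p q N hpq ≫ (wr L z).v N N' hN =
      (z.v p p' hp' ▷ L.X q) ≫ ι K' L p' q N' (by omega) := by
  subst hp'
  dsimp only [wr, ι]
  rw [Cochain.mk_v]
  erw [HomologicalComplex.ι_mapBifunctorDesc]

lemma wr_ext {n : ℤ} {z z' : Cochain (K ⊗ L) K'' n}
    (h : ∀ (p q N N' : ℤ) (hpq : p + q = N) (hN : N + n = N'),
      ι K L p q N hpq ≫ z.v N N' hN = ι K L p q N hpq ≫ z'.v N N' hN) : z = z' := by
  apply Cochain.ext
  intro N N' hN
  exact hom_ext K L (fun p q hpq => h p q N N' hpq hN)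

@[simp]
lemma wr_zero {n : ℤ} : wr L (0 : Cochain K K' n) = 0 := by
  refine wr_ext L (fun p q N N' hpq hN => ?_)
  rw [ι_wr_v L _ p q N (p + n) N' hpq rfl hN]
  simp

lemma wr_add {n : ℤ} (z z' : Cochain K K' n) : wr L (z + z') = wr L z + wr L z' := by
  refine wr_ext L (fun p q N N' hpq hN => ?_)
  rw [ι_wr_v L _ p q N (p + n) N' hpq rfl hN, Cochain.add_v (wr L z) (wr L z'),
    Preadditive.comp_add,
    ι_wr_v L _ p q N (p + n) N' hpq rfl hN, ι_wr_v L _ p q N (p + n) N' hpq rfl hN,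
    Cochain.add_v, MonoidalPreadditive.add_whiskerRight, Preadditive.add_comp]

lemma wr_neg {n : ℤ} (z : Cochain K K' n) : wr L (-z) = -wr L z := by
  have h := wr_add L z (-z)
  rw [add_neg_cancel, wr_zero] at h
  exact (neg_eq_of_add_eq_zero_right h.symm).symm

lemma wr_ofHom (f : K ⟶ K') : wr L (Cochain.ofHom f) = Cochain.ofHom (f ▷ L) := by
  refine wr_ext L (fun p q N N' hpq hN => ?_)
  obtain rfl : N = N' := by omega
  rw [ι_wr_v L _ p q N p N hpq (add_zero p) hN, Cochain.ofHom_v, Cochain.ofHom_v]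
  dsimp only [ι]
  erw [HomologicalComplex.ι_mapBifunctorMap]
  simp

lemma wr_comp {n₁ n₂ n₁₂ : ℤ} (z₁ : Cochain K K' n₁) (z₂ : Cochain K' K'' n₂)
    (h : n₁ + n₂ = n₁₂) :
    wr L (z₁.comp z₂ h) = (wr L z₁).comp (wr L z₂) h := by
  refine wr_ext L (fun p q N N' hpq hN => ?_)
  rw [ι_wr_v L _ p q N (p + n₁₂) N' hpq rfl hN,
    Cochain.comp_v (wr L z₁) (wr L z₂) h N (N + n₁) N' rfl (by omega),
    ι_wr_v_assoc L z₁ p q N (p + n₁) (N + n₁) hpq rfl rfl,
    ι_wr_v L z₂ (p + n₁) q (N + n₁) (p + n₁₂) N' (by omega) (by omega) (by omega),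
    Cochain.comp_v z₁ z₂ h p (p + n₁) (p + n₁₂) rfl (by omega), comp_whiskerRight, assoc]

lemma ι_d_assoc' (K L : DRing.Cx R) (p p' q q' n n' : ℤ) (h : p + q = n) (hn' : n + 1 = n')
    (hp' : p + 1 = p') (hq' : q + 1 = q') {Z : ModuleCat.{u} R} (g : (K ⊗ L).X n' ⟶ Z) :
    ι K L p q n h ≫ (K ⊗ L).d n n' ≫ g =
      (K.d p p' ▷ L.X q) ≫ ι K L p' q n' (by omega) ≫ g +
        p.negOnePow • ((K.X p ◁ L.d q q') ≫ ι K L p q' n' (by omega) ≫ g) := by
  rw [← assoc, ι_d K L p p' q q' n n' h hn' hp' hq', Preadditive.add_comp, assoc,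
    Linear.units_smul_comp, assoc]

lemma units_smul_whiskerRight (u : ℤˣ) {X Y : ModuleCat.{u} R} (f : X ⟶ Y) (Z : ModuleCat.{u} R) :
    (u • f) ▷ Z = u • (f ▷ Z) := by
  rcases Int.units_eq_one_or u with rfl | rfl
  · simp
  · have h : (-f) ▷ Z = -(f ▷ Z) := (tensorRight Z).map_neg (f := f)
    simp [h]

lemma δ_wr {n m : ℤ} (hnm : n + 1 = m) (z : Cochain K K' n) :
    δ n m (wr L z) = wr L (δ n m z) := by
  refine wr_ext L (fun p q N N' hpq hN => ?_)
  rw [ι_wr_v L _ p q N (p + m) N' hpq rfl hN,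
    δ_v n m hnm (wr L z) N N' hN (N + n) (N + 1) (by omega) rfl,
    δ_v n m hnm z p (p + m) rfl (p + n) (p + 1) (by omega) rfl,
    Preadditive.comp_add, Linear.comp_units_smul,
    ι_wr_v_assoc L z p q N (p + n) (N + n) hpq rfl rfl,
    ι_d K' L (p + n) (p + m) q (q + 1) (N + n) N' (by omega) (by omega) (by omega) rfl,
    ι_d_assoc' K L p (p + 1) q (q + 1) N (N + 1) hpq rfl rfl rfl,
    ι_wr_v L z (p + 1) q (N + 1) (p + m) N' (by omega) (by omega) (by omega),
    ι_wr_v L z p (q + 1) (N + 1) (p + n) N' (by omega) rfl (by omega)]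
  have hex : K.X p ◁ L.d q (q + 1) ≫ z.v p (p + n) rfl ▷ L.X (q + 1) =
      z.v p (p + n) rfl ▷ L.X q ≫ K'.X (p + n) ◁ L.d q (q + 1) := whisker_exchange _ _
  rw [reassoc_of% hex]
  simp only [Preadditive.comp_add, Preadditive.add_comp, Linear.comp_units_smul,
    Linear.units_smul_comp, MonoidalPreadditive.add_whiskerRight, comp_whiskerRight, assoc,
    smul_add, smul_smul, units_smul_whiskerRight]
  have hu : m.negOnePow * p.negOnePow = -(p + n).negOnePow := by
    subst hnm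
    rw [Int.negOnePow_succ, Int.negOnePow_add, neg_mul, mul_comm]
  rw [hu, Units.neg_smul]
  abel

end WR

section Cone

variable {K K' : DRing.Cx R} (φ : K ⟶ K') (L : DRing.Cx R)

/-- the map `cone(φ) ⊗ L ⟶ cone(φ ⊗ L)`. -/
noncomputable def coneTensorHom : mappingCone φ ⊗ L ⟶ mappingCone (φ ▷ L) :=
  mappingCone.lift (φ ▷ L)
    (Cocycle.mk (wr L (mappingCone.fst φ).1) 2 (by norm_num)
      (by rw [δ_wr L (by norm_num), Cocycle.δ_eq_zero, wr_zero]))
    (wr L (mappingCone.snd φ))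
    (by
      rw [δ_wr L (by norm_num), mappingCone.δ_snd, wr_neg, wr_comp, wr_ofHom]
      simp)

/-- the map `cone(φ ⊗ L) ⟶ cone(φ) ⊗ L`. -/
noncomputable def coneTensorInv : mappingCone (φ ▷ L) ⟶ mappingCone φ ⊗ L :=
  mappingCone.desc (φ ▷ L) (wr L (mappingCone.inl φ)) (mappingCone.inr φ ▷ L)
    (by rw [δ_wr L (by norm_num), mappingCone.δ_inl, wr_ofHom, comp_whiskerRight])

lemma coneTensorHom_inv : coneTensorHom φ L ≫ coneTensorInv φ L = 𝟙 _ := by
  ext n : 1
  rw [HomologicalComplex.comp_f, coneTensorHom, coneTensorInv,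
    mappingCone.lift_desc_f _ _ _ _ _ _ _ n (n + 1) rfl]
  have h := congr_arg (wr L) (mappingCone.id φ)
  rw [wr_add, wr_comp, wr_comp, wr_ofHom, wr_ofHom] at h
  have h' := Cochain.congr_v h n n (add_zero n)
  rw [Cochain.add_v, Cochain.comp_v _ _ (add_neg_cancel 1) n (n + 1) n rfl (by omega),
    Cochain.comp_v _ _ (add_zero 0) n n n (add_zero n) (add_zero n), Cochain.ofHom_v,
    Cochain.ofHom_v] at h'
  simpa using h'

lemma wr_inl_fst_v (n n' : ℤ) (h : n + 1 = n') :
    (wr L (mappingCone.inl φ)).v n' n (by omega) ≫ (wr L (mappingCone.fst φ).1).v n n' h = 𝟙 _ := by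
  have h0 := congr_arg (wr L) (mappingCone.inl_fst φ)
  rw [wr_comp, wr_ofHom] at h0
  have h' := Cochain.congr_v h0 n' n' (add_zero n')
  rw [Cochain.comp_v _ _ (neg_add_cancel 1) n' n n' (by omega) h, Cochain.ofHom_v] at h'
  simpa using h'

lemma wr_inl_snd_v (n n' : ℤ) (h : n + 1 = n') :
    (wr L (mappingCone.inl φ)).v n' n (by omega) ≫ (wr L (mappingCone.snd φ)).v n n (add_zero n) =
      0 := by
  have h0 := congr_arg (wr L) (mappingCone.inl_snd φ)
  rw [wr_comp, wr_zero] at h0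
  have h' := Cochain.congr_v h0 n' n (by omega)
  rw [Cochain.comp_v _ _ (add_zero (-1)) n' n n (by omega) (add_zero n)] at h'
  simpa using h'

lemma wr_inr_fst_v (n n' : ℤ) (h : n + 1 = n') :
    (mappingCone.inr φ ▷ L).f n ≫ (wr L (mappingCone.fst φ).1).v n n' h = 0 := by
  have h0 := congr_arg (wr L) (mappingCone.inr_fst φ)
  rw [wr_comp, wr_zero, wr_ofHom] at h0
  have h' := Cochain.congr_v h0 n n' h
  rw [Cochain.comp_v _ _ (zero_add 1) n n n' (add_zero n) h, Cochain.ofHom_v] at h'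
  simpa using h'

lemma wr_inr_snd_v (n : ℤ) :
    (mappingCone.inr φ ▷ L).f n ≫ (wr L (mappingCone.snd φ)).v n n (add_zero n) = 𝟙 _ := by
  have h0 := congr_arg (wr L) (mappingCone.inr_snd φ)
  rw [wr_comp, wr_ofHom, wr_ofHom] at h0
  have h' := Cochain.congr_v h0 n n (add_zero n)
  rw [Cochain.comp_v _ _ (zero_add 0) n n n (add_zero n) (add_zero n), Cochain.ofHom_v,
    Cochain.ofHom_v] at h'
  simpa using h'

lemma coneTensorInv_hom : coneTensorInv φ L ≫ coneTensorHom φ L = 𝟙 _ := by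
  ext n : 1
  rw [mappingCone.ext_from_iff _ (n + 1) n rfl]
  constructor
  · rw [mappingCone.ext_to_iff _ n (n + 1) rfl]
    constructor
    · simp [coneTensorInv, coneTensorHom, wr_inl_fst_v]
    · simp [coneTensorInv, coneTensorHom, wr_inl_snd_v]
  · rw [mappingCone.ext_to_iff _ n (n + 1) rfl]
    constructor
    · simp [coneTensorInv, coneTensorHom, wr_inr_fst_v]
    · simp [coneTensorInv, coneTensorHom, wr_inr_snd_v]

/-- **the tensor product commutes with mapping cones.** -/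
noncomputable def coneTensorIso : mappingCone φ ⊗ L ≅ mappingCone (φ ▷ L) where
  hom := coneTensorHom φ L
  inv := coneTensorInv φ L
  hom_inv_id := coneTensorHom_inv φ L
  inv_hom_id := coneTensorInv_hom φ L

end Cone

section Koszul

open Groth.Agent.Lib.Helper10.KoszulFlat

variable {A : Type u} [CommRing A]

lemma smul_id_whiskerRight (a : A) (K L : DRing.Cx A) : (a • 𝟙 K) ▷ L = a • 𝟙 (K ⊗ L) := by
  ext n : 1
  refine hom_ext K L (fun p q hpq => ?_)
  dsimp only [ι]
  erw [HomologicalComplex.ι_mapBifunctorMap]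
  simp

/-- the cone of a multiplication commutes with the tensor product. -/
noncomputable def coneSmulTensorIso (a : A) (K L : DRing.Cx A) :
    mappingCone (a • 𝟙 K) ⊗ L ≅ mappingCone (a • 𝟙 (K ⊗ L)) :=
  coneTensorIso (a • 𝟙 K) L ≪≫ coneCongr (smul_id_whiskerRight a K L)

/-- `K(f) ⊗ K(g) ≅ K(f ++ g)`. -/
theorem nonempty_koszul_tensor_iso (f g : List A) :
    Nonempty ((MonoidalCategoryStruct.tensorObj (C := DRing.Cx A) (Koszul.koszul A f)
      (Koszul.koszul A g)) ≅ Koszul.koszul A (f ++ g)) := by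
  induction f with
  | nil => exact ⟨λ_ (Koszul.koszul A g)⟩
  | cons a f ih =>
    obtain ⟨e⟩ := ih
    exact ⟨coneSmulTensorIso a (Koszul.koszul A f) (Koszul.koszul A g) ≪≫ coneIso a e⟩

end Koszul

end Groth.Agent.Lib.Helper47.KoszulTensor
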