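import Groth.Agent.Lib.Helper47.LocExact
import Mathlib.Algebra.Homology.DerivedCategory.HomologySequence

/-!
# Homology commutes with localisation (naturality), and the long exact sequence of a mapping cocone
-/

set_option autoImplicit false
universe u

open CategoryTheory CategoryTheory.Limits

namespace Groth.Agent.Lib.Helper47

variable {R : Type u} [CommRing R]

/-- The localisation map of a short complex. -/
noncomputable def scUnit (S : Submonoid R) (T : ShortComplex (ModuleCat.{u} R)) :
    T ⟶ T.map (DerCA.locFunctor S) where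
  τ₁ := (DerCA.locUnit S).app T.X₁
  τ₂ := (DerCA.locUnit S).app T.X₂
  τ₃ := (DerCA.locUnit S).app T.X₃
  comm₁₂ := ((DerCA.locUnit S).naturality T.f).symm
  comm₂₃ := ((DerCA.locUnit S).naturality T.g).symm

/-- The left homology map data of the localisation map `T ⟶ T_S`. -/
noncomputable def scUnitLeftHomologyMapData (S : Submonoid R) (T : ShortComplex (ModuleCat.{u} R))
    (hl : T.LeftHomologyData) :
    ShortComplex.LeftHomologyMapData (scUnit S T) hl (hl.map (DerCA.locFunctor S)) where
  φK := (DerCA.locUnit S).app hl.K
  φH := (DerCA.locUnit S).app hl.H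
  commi := ((DerCA.locUnit S).naturality hl.i).symm
  commf' := by
    rw [ShortComplex.LeftHomologyData.map_f']
    exact (DerCA.locUnit S).naturality hl.f'
  commπ := (DerCA.locUnit S).naturality hl.π

theorem homologyMap_scUnit_comp (S : Submonoid R) (T : ShortComplex (ModuleCat.{u} R)) :
    ShortComplex.homologyMap (scUnit S T) ≫ (T.mapHomologyIso (DerCA.locFunctor S)).hom =
      (DerCA.locUnit S).app T.homology := by
  have h1 := (scUnitLeftHomologyMapData S T T.homologyData.left).homologyMap_comm
  have h2 : (T.mapHomologyIso (DerCA.locFunctor S)).hom =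
      (T.homologyData.left.map (DerCA.locFunctor S)).homologyIso.hom ≫
        (DerCA.locFunctor S).map T.homologyData.left.homologyIso.inv := by
    rw [T.homologyData.left.mapHomologyIso_eq (DerCA.locFunctor S)]
    rfl
  obtain ⟨e', h1', h2'⟩ : ∃ e' : (T.map (DerCA.locFunctor S)).homology ≅
        (DerCA.locFunctor S).obj T.homologyData.left.H,
      ShortComplex.homologyMap (scUnit S T) ≫ e'.hom = T.homologyData.left.homologyIso.hom ≫
        (DerCA.locUnit S).app T.homologyData.left.H ∧
      (T.mapHomologyIso (DerCA.locFunctor S)).hom =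
        e'.hom ≫ (DerCA.locFunctor S).map T.homologyData.left.homologyIso.inv :=
    ⟨(T.homologyData.left.map (DerCA.locFunctor S)).homologyIso, h1, h2⟩
  have h3 := (DerCA.locUnit S).naturality T.homologyData.left.homologyIso.inv
  rw [h2', ← Category.assoc, h1', Category.assoc, ← h3]
  simp

/-- Under `locCxHomologyIso`, the map induced on cohomology by `K ⟶ K_S` is the localisation map
of the cohomology of `K`. -/
theorem homologyMap_locCxUnit_comp (S : Submonoid R) (K : DRing.Cx R) (q : ℤ) :
    HomologicalComplex.homologyMap (DerCA.locCxUnit S K) q ≫ (locCxHomologyIso S K q).hom =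
      (DerCA.locUnit S).app (K.homology q) :=
  homologyMap_scUnit_comp S (K.sc q)

/-- The kernel of `H^q(K) ⟶ H^q(K_S)` is the `S`-torsion. -/
theorem homologyMap_locCxUnit_apply_eq_zero_iff (S : Submonoid R) (K : DRing.Cx R) (q : ℤ)
    (x : K.homology q) :
    (HomologicalComplex.homologyMap (DerCA.locCxUnit S K) q).hom x = 0 ↔
      ∃ s : S, (s : R) • x = 0 := by
  have h := homologyMap_locCxUnit_comp S K q
  have h1 : (locCxHomologyIso S K q).hom.hom
      ((HomologicalComplex.homologyMap (DerCA.locCxUnit S K) q).hom x) =
      LocalizedModule.mkLinearMap S (K.homology q) x := by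
    rw [← ModuleCat.comp_apply, h]
    rfl
  have h2 : LocalizedModule.mkLinearMap S (K.homology q) x = 0 ↔ ∃ s : S, (s : R) • x = 0 :=
    IsLocalizedModule.eq_zero_iff S (LocalizedModule.mkLinearMap S (K.homology q))
  rw [← h2, ← h1]
  have hinj : Function.Injective (locCxHomologyIso S K q).hom.hom :=
    ((ConcreteCategory.isIso_iff_bijective _).mp inferInstance).1
  constructor
  · intro h0
    exact (congrArg _ h0).trans (map_zero _)
  · intro h0
    exact hinj (h0.trans (map_zero _).symm)

/-- Every class in `H^q(K_S)` becomes, after multiplication by some `s ∈ S`, the image of a class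
in `H^q(K)`. -/
theorem exists_smul_eq_homologyMap_locCxUnit (S : Submonoid R) (K : DRing.Cx R) (q : ℤ)
    (y : ((DerCA.locCx S).obj K).homology q) :
    ∃ (s : S) (x : K.homology q),
      (s : R) • y = (HomologicalComplex.homologyMap (DerCA.locCxUnit S K) q).hom x := by
  have h := homologyMap_locCxUnit_comp S K q
  obtain ⟨⟨x, s⟩, hx⟩ := IsLocalizedModule.surj S (LocalizedModule.mkLinearMap S (K.homology q))
    ((locCxHomologyIso S K q).hom.hom y)
  refine ⟨s, x, ?_⟩
  have hinj : Function.Injective (locCxHomologyIso S K q).hom.hom :=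
    ((ConcreteCategory.isIso_iff_bijective _).mp inferInstance).1
  apply hinj
  rw [map_smul, ← ModuleCat.comp_apply, h]
  exact hx

section LES

attribute [local instance] HasDerivedCategory.standard

open CochainComplex HomologicalComplex

variable {K L : DRing.Cx R} (φ : K ⟶ L)

/-- Exactness of `H^n(cocone φ) ⟶ H^n(K) ⟶ H^n(L)`. -/
theorem mappingCocone_exact₂ (n : ℤ) (x : K.homology n)
    (hx : (homologyMap φ n).hom x = 0) :
    ∃ y : (mappingCocone φ).homology n, (homologyMap (mappingCocone.fst φ) n).hom y = x := by
  have h := homologyMap_exact₂_of_distTriang (mappingCocone.triangle φ)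
    (DerivedCategory.mappingCocone_triangle_distinguished φ) n
  rw [ShortComplex.ShortExact.moduleCat_exact_iff_function_exact] at h
  exact (h x).mp hx

theorem mappingCocone_fst_comp (n : ℤ) (y : (mappingCocone φ).homology n) :
    (homologyMap φ n).hom ((homologyMap (mappingCocone.fst φ) n).hom y) = 0 := by
  have h := homologyMap_comp_eq_zero_of_distTriang (mappingCocone.triangle φ)
    (DerivedCategory.mappingCocone_triangle_distinguished φ) n
  have := congrArg (fun g => g.hom y) h
  exact this

/-- If `H^{n-1}(L) = 0`, then `H^n(cocone φ) ⟶ H^n(K)` is injective. -/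
theorem mappingCocone_fst_injective (n₀ n₁ : ℤ) (h01 : n₀ + 1 = n₁)
    (hL : IsZero (L.homology n₀)) :
    Function.Injective (homologyMap (mappingCocone.fst φ) n₁).hom := by
  have h := homologyMap_exact₁_of_distTriang (mappingCocone.triangle φ)
    (DerivedCategory.mappingCocone_triangle_distinguished φ) n₀ n₁ h01
  have hm : Mono (homologyMap (mappingCocone.fst φ) n₁) :=
    h.mono_g (hL.eq_of_src _ _)
  exact (ModuleCat.mono_iff_injective _).mp hm

/-- If `H^{n}(K) = 0`, then `H^{n-1}(L) ⟶ H^n(cocone φ)` is surjective. -/
theorem mappingCocone_δ_surjective (n₀ n₁ : ℤ) (h01 : n₀ + 1 = n₁)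
    (hK : IsZero (K.homology n₁)) :
    Function.Surjective (homologyδOfTriangle (mappingCocone.triangle φ) n₀ n₁ h01).hom := by
  have h := homologyMap_exact₁_of_distTriang (mappingCocone.triangle φ)
    (DerivedCategory.mappingCocone_triangle_distinguished φ) n₀ n₁ h01
  have hm : Epi (homologyδOfTriangle (mappingCocone.triangle φ) n₀ n₁ h01) :=
    h.epi_f (hK.eq_of_tgt _ _)
  exact (ModuleCat.epi_iff_surjective _).mp hm

end LES

end Groth.Agent.Lib.Helper47
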