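import Mathlib.RingTheory.LocalRing.Module
import Mathlib.Algebra.Module.SpanRankOperations
import Mathlib.LinearAlgebra.LinearIndependent.Lemmas
import Mathlib.LinearAlgebra.Dimension.Constructions
import Mathlib.LinearAlgebra.Dimension.Finite

/-!
# Choosing a minimal system of generators inside a given generating set (local rings)
-/

set_option autoImplicit false

open TensorProduct IsLocalRing

namespace Groth.Agent.Lib.Helper47

/-- Over a local ring, a finitely generated ideal generated by a set `G` is generated by
at most `spanFinrank` many elements of `G`. -/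
theorem exists_finset_subset_span_eq_of_isLocalRing {R : Type*} [CommRing R] [IsLocalRing R]
    (I : Ideal R) (hI : I.FG) (G : Set R) (hG : Ideal.span G = I) :
    ∃ t : Finset R, (t : Set R) ⊆ G ∧ t.card ≤ I.spanFinrank ∧ Ideal.span (t : Set R) = I := by
  classical
  let k := ResidueField R
  have hfin : Module.Finite R I := Module.Finite.iff_fg.mpr hI
  let G' : Set I := Subtype.val ⁻¹' G
  have hG' : Submodule.span R G' = ⊤ := by
    subst hG
    exact Submodule.span_span_coe_preimage
  let φ : I →ₗ[R] k ⊗[R] I := TensorProduct.mk R k I 1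
  let T : Set (k ⊗[R] I) := φ '' G'
  have hT : Submodule.span k T = ⊤ := by
    have h1 : (Submodule.span R G').map φ = ⊤ := by
      rw [hG']
      exact (IsLocalRing.map_tensorProduct_mk_eq_top (R := R) (M := I)).mpr rfl
    rw [Submodule.map_span] at h1
    rw [← Submodule.restrictScalars_eq_top_iff R,
      Submodule.restrictScalars_span R k Ideal.Quotient.mk_surjective]
    exact h1
  obtain ⟨b, hbT, hbspan, hbli⟩ := exists_linearIndependent k T
  rw [hT] at hbspan
  have hbfin : b.Finite := hbli.setFinite
  let B : Module.Basis b k (k ⊗[R] I) := Module.Basis.mk hbli (by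
    rw [Subtype.range_coe_subtype]
    exact hbspan.ge)
  have hcard : hbfin.toFinset.card = I.spanFinrank := by
    have h1 : Module.finrank k (k ⊗[R] I) = hbfin.toFinset.card := by
      have := hbfin.fintype
      rw [Module.finrank_eq_card_basis B, Set.Finite.card_toFinset]
    rw [← h1, Module.finrank_eq_spanFinrank_of_free,
      TensorProduct.spanFinrank_top_eq_of_residueField I hI]
  choose! g hgG hg using fun β (hβ : β ∈ b) => hbT hβ
  let t' : Finset I := hbfin.toFinset.image g
  have ht'G : ∀ y ∈ t', y ∈ G' := by
    intro y hy
    obtain ⟨β, hβ, rfl⟩ := Finset.mem_image.mp hy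
    exact hgG β (hbfin.mem_toFinset.mp hβ)
  have ht'span : Submodule.span R (t' : Set I) = ⊤ := by
    rw [← IsLocalRing.map_tensorProduct_mk_eq_top (R := R) (M := I), Submodule.map_span]
    have himg : (TensorProduct.mk R (ResidueField R) I 1) '' (t' : Set I) = b := by
      ext β
      constructor
      · rintro ⟨y, hy, rfl⟩
        obtain ⟨β', hβ', rfl⟩ := Finset.mem_image.mp (Finset.mem_coe.mp hy)
        have hβ'b := hbfin.mem_toFinset.mp hβ'
        have := hg β' hβ'b
        change φ (g β') ∈ b
        rw [this]; exact hβ'b
      · intro hβ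
        refine ⟨g β, ?_, hg β hβ⟩
        exact Finset.mem_coe.mpr (Finset.mem_image.mpr ⟨β, hbfin.mem_toFinset.mpr hβ, rfl⟩)
    rw [himg, ← Submodule.restrictScalars_span R k Ideal.Quotient.mk_surjective, hbspan]
    rfl
  refine ⟨t'.image Subtype.val, ?_, ?_, ?_⟩
  · intro x hx
    obtain ⟨y, hy, rfl⟩ := Finset.mem_image.mp (Finset.mem_coe.mp hx)
    exact ht'G y hy
  · exact (Finset.card_image_le.trans Finset.card_image_le).trans hcard.le
  · have h2 := congrArg (Submodule.map I.subtype) ht'span
    rw [Submodule.map_span, Submodule.map_subtype_top] at h2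
    rw [Finset.coe_image]
    exact h2

end Groth.Agent.Lib.Helper47
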