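import Groth.Prelude.Def_CAlgX
import Mathlib.LinearAlgebra.Matrix.ToLin
import Mathlib.LinearAlgebra.Matrix.Adjugate
import Mathlib.RingTheory.Ideal.Maps

/-!
# McCoy's theorem for matrices, in terms of `CAlgX.minorIdeal`
-/

set_option autoImplicit false
universe u

open Matrix

namespace Groth.Agent.Lib.Helper47

variable {R : Type u} [CommRing R]

/-- A square "minor" with a non-injective column selection vanishes. -/
theorem det_submatrix_eq_zero_of_not_injective {n m r : ℕ} (M : Matrix (Fin n) (Fin m) R)
    (f : Fin r → Fin n) (g : Fin r → Fin m) (hg : ¬ Function.Injective g) :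
    (M.submatrix f g).det = 0 := by
  simp only [Function.Injective, not_forall] at hg
  obtain ⟨i, j, hij, hne⟩ := hg
  exact Matrix.det_zero_of_column_eq hne (fun k => by simp [Matrix.submatrix_apply, hij])

/-- Minor ideals of size bigger than the number of columns vanish. -/
theorem minorIdeal_eq_bot_of_lt {n m r : ℕ} (M : Matrix (Fin n) (Fin m) R) (h : m < r) :
    CAlgX.minorIdeal M r = ⊥ := by
  rw [CAlgX.minorIdeal, Ideal.span_eq_bot]
  rintro _ ⟨⟨f, g⟩, rfl⟩
  apply det_submatrix_eq_zero_of_not_injective
  intro hg
  have := Fintype.card_le_of_injective g hg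
  simp at this
  omega

/-- The key step of McCoy's theorem: the kernel vector given by a cofactor expansion. -/
theorem exists_ne_zero_mulVec_eq_zero {n m r : ℕ} (M : Matrix (Fin n) (Fin m) R) (a : R)
    (hr : r < m) (f : Fin r → Fin n) (g : Fin r → Fin m)
    (hne : a * (M.submatrix f g).det ≠ 0)
    (hzero : ∀ (f' : Fin (r + 1) → Fin n) (g' : Fin (r + 1) → Fin m),
      a * (M.submatrix f' g').det = 0) :
    ∃ v : Fin m → R, v ≠ 0 ∧ M.mulVec v = 0 := by
  classical
  have hg : Function.Injective g := by
    by_contra hg
    exact hne (by rw [det_submatrix_eq_zero_of_not_injective M f g hg, mul_zero])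
  -- a column not used by `g`
  obtain ⟨j₀, hj₀⟩ : ∃ j₀ : Fin m, j₀ ∉ Set.range g := by
    by_contra hcon
    push Not at hcon
    have hsurj : Function.Surjective g := fun j => hcon j
    have := Fintype.card_le_of_surjective g hsurj
    simp at this
    omega
  let g' : Fin (r + 1) → Fin m := Fin.cons j₀ g
  have hg' : Function.Injective g' := by
    rw [Fin.cons_injective_iff]
    exact ⟨hj₀, hg⟩
  let w : Fin (r + 1) → R := fun k =>
    a * ((-1) ^ (k : ℕ) * (M.submatrix f (g' ∘ k.succAbove)).det)
  let v : Fin m → R := fun j => ∑ k : Fin (r + 1), if g' k = j then w k else 0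
  refine ⟨v, ?_, ?_⟩
  · intro hv
    have hv0 : v j₀ = 0 := by rw [hv]; rfl
    have : v j₀ = w 0 := by
      change (∑ k : Fin (r + 1), if g' k = j₀ then w k else 0) = w 0
      rw [Finset.sum_eq_single 0]
      · simp [g']
      · intro k _ hk
        rw [if_neg]
        intro hk'
        exact hk (hg' (by simpa [g'] using hk'))
      · simp
    rw [this] at hv0
    apply hne
    have hw0 : w 0 = a * (M.submatrix f g).det := by
      change a * ((-1) ^ ((0 : Fin (r + 1)) : ℕ) *
        (M.submatrix f (g' ∘ (0 : Fin (r + 1)).succAbove)).det) = _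
      have : g' ∘ (0 : Fin (r + 1)).succAbove = g := by
        funext k
        simp [g', Fin.succAbove_zero]
      rw [this]
      simp
    rw [← hw0]; exact hv0
  · funext i
    have h1 : (M.mulVec v) i = ∑ k : Fin (r + 1), M i (g' k) * w k := by
      change ∑ j, M i j * v j = _
      simp only [v, Finset.mul_sum]
      rw [Finset.sum_comm]
      refine Finset.sum_congr rfl fun k _ => ?_
      simp
    have h2 : ∑ k : Fin (r + 1), M i (g' k) * w k =
        a * (M.submatrix (Fin.cons i f : Fin (r + 1) → Fin n) g').det := by
      rw [Matrix.det_succ_row_zero, Finset.mul_sum]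
      refine Finset.sum_congr rfl fun k _ => ?_
      have : (M.submatrix (Fin.cons i f : Fin (r + 1) → Fin n) g').submatrix Fin.succ
          k.succAbove = M.submatrix f (g' ∘ k.succAbove) := by
        ext p q
        simp [Matrix.submatrix_apply]
      rw [this]
      simp only [w, Matrix.submatrix_apply, Fin.cons_zero]
      ring
    rw [h1, h2, hzero]
    rfl

/-- If `M v = 0` then every maximal minor kills every entry of `v`. -/
theorem det_submatrix_mul_eq_zero_of_mulVec_eq_zero {n m : ℕ} (M : Matrix (Fin n) (Fin m) R)
    (v : Fin m → R) (hv : M.mulVec v = 0) (f : Fin m → Fin n) (g : Fin m → Fin m) (j : Fin m) :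
    (M.submatrix f g).det * v j = 0 := by
  classical
  set N : Matrix (Fin m) (Fin m) R := M.submatrix f id with hN
  have hNv : N.mulVec v = 0 := by
    funext i
    have := congrFun hv (f i)
    simpa [Matrix.mulVec, dotProduct, hN] using this
  have hdet : N.det • v = 0 := by
    have h1 : (N.adjugate * N).mulVec v = 0 := by
      rw [← Matrix.mulVec_mulVec, hNv, Matrix.mulVec_zero]
    rw [Matrix.adjugate_mul, Matrix.smul_mulVec, Matrix.one_mulVec] at h1
    exact h1
  have hfac : M.submatrix f g = N * (1 : Matrix (Fin m) (Fin m) R).submatrix id g := by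
    have := Matrix.mul_submatrix_one (Equiv.refl (Fin m)) g N
    simp only [Equiv.coe_refl, Equiv.refl_symm, Function.id_comp] at this
    rw [this, hN]
    rfl
  rw [hfac, Matrix.det_mul]
  have := congrFun hdet j
  simp only [Pi.smul_apply, smul_eq_mul, Pi.zero_apply] at this
  rw [mul_comm N.det, mul_assoc, this, mul_zero]

/-- McCoy's theorem: over a nontrivial commutative ring, a matrix gives an injective map iff its
rank equals the number of columns and the ideal of maximal minors has zero annihilator. -/
theorem mulVecLin_injective_iff [Nontrivial R] {n m : ℕ} (M : Matrix (Fin n) (Fin m) R) :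
    Function.Injective (Matrix.mulVecLin M) ↔
      CAlgX.matrixRank M = m ∧ (CAlgX.detIdeal M).annihilator = ⊥ := by
  constructor
  · intro hinj
    have claim : ∀ a : R, a ≠ 0 → ∀ r : ℕ, r ≤ m →
        ∃ (f : Fin r → Fin n) (g : Fin r → Fin m), a * (M.submatrix f g).det ≠ 0 := by
      intro a ha r
      induction r with
      | zero =>
        intro _
        refine ⟨Fin.elim0, Fin.elim0, ?_⟩
        rw [Matrix.det_isEmpty, mul_one]
        exact ha
      | succ r ih =>
        intro hr
        obtain ⟨f, g, hfg⟩ := ih (by omega)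
        by_contra hcon
        push Not at hcon
        obtain ⟨v, hv, hMv⟩ := exists_ne_zero_mulVec_eq_zero M a (by omega) f g hfg hcon
        apply hv
        apply hinj
        rw [map_zero]
        exact hMv
    have hmem : CAlgX.minorIdeal M m ≠ ⊥ := by
      obtain ⟨f, g, hfg⟩ := claim 1 one_ne_zero m le_rfl
      rw [one_mul] at hfg
      intro hbot
      apply hfg
      have : (M.submatrix f g).det ∈ CAlgX.minorIdeal M m :=
        Ideal.subset_span ⟨(f, g), rfl⟩
      rw [hbot] at this
      exact this
    have hrank : CAlgX.matrixRank M = m := by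
      apply IsGreatest.csSup_eq
      refine ⟨hmem, ?_⟩
      intro r hr
      by_contra hlt
      exact hr (minorIdeal_eq_bot_of_lt M (by omega))
    refine ⟨hrank, ?_⟩
    rw [eq_bot_iff]
    intro a ha
    rw [Submodule.mem_bot]
    by_contra ha0
    obtain ⟨f, g, hfg⟩ := claim a ha0 m le_rfl
    apply hfg
    have hdet : (M.submatrix f g).det ∈ CAlgX.detIdeal M := by
      rw [CAlgX.detIdeal, hrank]
      exact Ideal.subset_span ⟨(f, g), rfl⟩
    exact (Submodule.mem_annihilator.mp ha) _ hdet
  · rintro ⟨hrank, hann⟩
    rw [injective_iff_map_eq_zero]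
    intro v hv
    have hMv : M.mulVec v = 0 := hv
    funext j
    have : v j ∈ (CAlgX.detIdeal M).annihilator := by
      rw [CAlgX.detIdeal, hrank, CAlgX.minorIdeal, Ideal.span, Submodule.mem_annihilator_span]
      rintro ⟨_, ⟨⟨f, g⟩, rfl⟩⟩
      change v j * (M.submatrix f g).det = 0
      rw [mul_comm]
      exact det_submatrix_mul_eq_zero_of_mulVec_eq_zero M v hMv f g j
    rw [hann] at this
    exact this

end Groth.Agent.Lib.Helper47
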