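import Mathlib
import Groth.Prelude.Def_Formal2

set_option autoImplicit false
universe u
open CategoryTheory CategoryTheory.Limits Opposite

namespace Groth.Agent.Lib.Helper47.MilnorSeq

section Dict

variable (C : HomologicalComplex Ab.{u} (ComplexShape.up ℤ))

lemma exists_cycles (p p' : ℤ) (hp : p + 1 = p') (z : C.X p) (hz : C.d p p' z = 0) :
    ∃ c : C.cycles p, C.iCycles p c = z := by
  have hex : (ShortComplex.mk (C.iCycles p) (C.d p p') (by simp)).Exact :=
    ShortComplex.exact_of_f_is_kernel _ (C.cyclesIsKernel p p' (by simp [hp]))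
  rw [ShortComplex.ab_exact_iff] at hex
  exact hex z hz

lemma iCycles_injective (p : ℤ) : Function.Injective (C.iCycles p) :=
  (AddCommGrpCat.mono_iff_injective _).mp inferInstance

lemma homologyπ_surjective (p : ℤ) : Function.Surjective (C.homologyπ p) :=
  (AddCommGrpCat.epi_iff_surjective _).mp inferInstance

lemma homologyπ_eq_zero_iff (q p : ℤ) (hq : q + 1 = p) (c : C.cycles p) :
    C.homologyπ p c = 0 ↔ ∃ y : C.X q, C.d q p y = C.iCycles p c := by
  have hex : (ShortComplex.mk (C.toCycles q p) (C.homologyπ p) (by simp)).Exact :=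
    ShortComplex.exact_of_g_is_cokernel _ (C.homologyIsCokernel q p (by simp [← hq]))
  rw [ShortComplex.ab_exact_iff] at hex
  constructor
  · intro h
    obtain ⟨y, hy⟩ := hex c h
    refine ⟨y, ?_⟩
    rw [← hy]
    change _ = (C.toCycles q p ≫ C.iCycles p) y
    rw [C.toCycles_i]
  · rintro ⟨y, hy⟩
    have : C.toCycles q p y = c := by
      apply iCycles_injective C p
      change (C.toCycles q p ≫ C.iCycles p) y = _
      rw [C.toCycles_i, hy]
    rw [← this]
    change (C.toCycles q p ≫ C.homologyπ p) y = 0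
    rw [C.toCycles_comp_homologyπ]
    rfl

end Dict

section Tower

variable (F : ℕᵒᵖ ⥤ Ab.{u}) (c : Cone F) (hc : IsLimit c)

lemma map_eq_of_succ (s : ∀ n, F.obj (op n))
    (hs : ∀ n, F.map (homOfLE (Nat.le_succ n)).op (s (n + 1)) = s n) :
    ∀ (m k : ℕ), F.map (homOfLE (Nat.le_add_right m k)).op (s (m + k)) = s m := by
  intro m k
  induction k with
  | zero =>
    change (F.map (𝟙 (op m))) (s m) = s m
    rw [CategoryTheory.Functor.map_id]
    rfl
  | succ k ih =>
    have : (homOfLE (Nat.le_add_right m (k + 1))).op =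
        (homOfLE (Nat.le_succ (m + k))).op ≫ (homOfLE (Nat.le_add_right m k)).op := rfl
    rw [this, F.map_comp]
    change F.map _ (F.map _ (s (m + k + 1))) = _
    rw [hs (m + k), ih]

include hc in
lemma tower_ext (x y : c.pt) (h : ∀ n, c.π.app (op n) x = c.π.app (op n) y) : x = y :=
  Concrete.isLimit_ext F hc x y (fun j => h j.unop)

include hc in
lemma tower_exists (s : ∀ n, F.obj (op n))
    (hs : ∀ n, F.map (homOfLE (Nat.le_succ n)).op (s (n + 1)) = s n) :
    ∃ x : c.pt, ∀ n, c.π.app (op n) x = s n := by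
  have hc' := isLimitOfPreserves (forget Ab.{u}) hc
  let sec : (F ⋙ forget Ab.{u}).sections :=
    ⟨fun j => s j.unop, by
      intro j j' f
      obtain ⟨n⟩ := j
      obtain ⟨m⟩ := j'
      have hle : m ≤ n := leOfHom f.unop
      obtain ⟨k, rfl⟩ := Nat.exists_eq_add_of_le hle
      have hf : f = (homOfLE (Nat.le_add_right m k)).op := rfl
      rw [hf]
      exact map_eq_of_succ F s hs m k⟩
  refine ⟨(Types.isLimitEquivSections hc').symm sec, fun n => ?_⟩
  exact Types.isLimitEquivSections_symm_apply hc' sec (op n)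

end Tower

section Main

variable (K : ℕᵒᵖ ⥤ HomologicalComplex Ab.{u} (ComplexShape.up ℤ))

/-- the `n`-th complex of the tower. -/
abbrev A (n : ℕ) : HomologicalComplex Ab.{u} (ComplexShape.up ℤ) := K.obj (op n)

/-- the transition maps. -/
abbrev t (n : ℕ) : A K (n + 1) ⟶ A K n := K.map (homOfLE (Nat.le_succ n)).op

/-- the projections of the limit. -/
noncomputable abbrev π (n : ℕ) : limit K ⟶ A K n := limit.π K (op n)

lemma π_t (n : ℕ) : π K (n + 1) ≫ t K n = π K n := limit.w K _

lemma π_t_apply (n : ℕ) (i : ℤ) (x : (limit K).X i) :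
    (t K n).f i ((π K (n + 1)).f i x) = (π K n).f i x := by
  rw [← π_t K n]
  rfl

lemma L_ext (i : ℤ) (x y : (limit K).X i) (h : ∀ n, (π K n).f i x = (π K n).f i y) : x = y :=
  tower_ext (K ⋙ HomologicalComplex.eval _ _ i) _
    (isLimitOfPreserves (HomologicalComplex.eval _ _ i) (limit.isLimit K)) x y h

lemma L_exists (i : ℤ) (s : ∀ n, (A K n).X i) (hs : ∀ n, (t K n).f i (s (n + 1)) = s n) :
    ∃ x : (limit K).X i, ∀ n, (π K n).f i x = s n :=
  tower_exists (K ⋙ HomologicalComplex.eval _ _ i) _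
    (isLimitOfPreserves (HomologicalComplex.eval _ _ i) (limit.isLimit K)) s hs

lemma exists_seq (i : ℤ) (hK : ∀ n, Function.Surjective ((t K n).f i))
    (g : ∀ n, (A K n).X i → (A K n).X i) :
    ∃ u : ∀ n, (A K n).X i, ∀ n, (t K n).f i (u (n + 1)) = g n (u n) := by
  let u : ∀ n, (A K n).X i := fun n => Nat.rec (motive := fun n => (A K n).X i) 0
    (fun n un => Classical.choose (hK n (g n un))) n
  refine ⟨u, fun n => ?_⟩
  exact Classical.choose_spec (hK n (g n (u n)))

/-- the homology functor in degree `p`. -/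
noncomputable abbrev H (p : ℤ) := HomologicalComplex.homologyFunctor Ab.{u} (ComplexShape.up ℤ) p

lemma post_π_apply (p : ℤ) (n : ℕ) (η : (limit K).homology p) :
    limit.π (K ⋙ H p) (op n) ((limit.post K (H p)) η) =
      (HomologicalComplex.homologyMap (π K n) p) η := by
  change (limit.post K (H p) ≫ limit.π (K ⋙ H p) (op n)) η = _
  rw [limit.post_π]
  rfl

lemma homologyMap_homologyπ {C D : HomologicalComplex Ab.{u} (ComplexShape.up ℤ)} (f : C ⟶ D)
    (p : ℤ) (c : C.cycles p) :
    (HomologicalComplex.homologyMap f p) (C.homologyπ p c) =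
      D.homologyπ p (HomologicalComplex.cyclesMap f p c) := by
  change (C.homologyπ p ≫ HomologicalComplex.homologyMap f p) c = _
  rw [HomologicalComplex.homologyπ_naturality]
  rfl

lemma iCycles_cyclesMap {C D : HomologicalComplex Ab.{u} (ComplexShape.up ℤ)} (f : C ⟶ D)
    (p : ℤ) (c : C.cycles p) :
    D.iCycles p (HomologicalComplex.cyclesMap f p c) = f.f p (C.iCycles p c) := by
  change (HomologicalComplex.cyclesMap f p ≫ D.iCycles p) c = _
  rw [HomologicalComplex.cyclesMap_i]
  rfl

lemma d_iCycles (C : HomologicalComplex Ab.{u} (ComplexShape.up ℤ)) (p p' : ℤ) (c : C.cycles p) :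
    C.d p p' (C.iCycles p c) = 0 := by
  change (C.iCycles p ≫ C.d p p') c = 0
  rw [C.iCycles_d]
  rfl

lemma comm_apply {C D : HomologicalComplex Ab.{u} (ComplexShape.up ℤ)} (f : C ⟶ D)
    (i j : ℤ) (x : C.X i) : f.f j (C.d i j x) = D.d i j (f.f i x) := by
  change (C.d i j ≫ f.f j) x = (f.f i ≫ D.d i j) x
  rw [f.comm]

lemma d_d_apply (C : HomologicalComplex Ab.{u} (ComplexShape.up ℤ)) (i j k : ℤ) (x : C.X i) :
    C.d j k (C.d i j x) = 0 := by
  change (C.d i j ≫ C.d j k) x = 0
  rw [C.d_comp_d]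
  rfl

/-- two cycles with the same class differ by a boundary. -/
lemma exists_d_eq_sub (C : HomologicalComplex Ab.{u} (ComplexShape.up ℤ)) (q p : ℤ)
    (hq : q + 1 = p) (c c' : C.cycles p) (h : C.homologyπ p c = C.homologyπ p c') :
    ∃ y : C.X q, C.d q p y = C.iCycles p c - C.iCycles p c' := by
  have h0 : C.homologyπ p (c - c') = 0 := by rw [map_sub, h, sub_self]
  obtain ⟨y, hy⟩ := (homologyπ_eq_zero_iff C q p hq _).mp h0
  exact ⟨y, by rw [hy, map_sub]⟩

lemma homologyπ_eq_of_d_eq_sub (C : HomologicalComplex Ab.{u} (ComplexShape.up ℤ)) (q p : ℤ)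
    (hq : q + 1 = p) (c c' : C.cycles p) (y : C.X q)
    (hy : C.d q p y = C.iCycles p c - C.iCycles p c') : C.homologyπ p c = C.homologyπ p c' := by
  have h0 : C.homologyπ p (c - c') = 0 :=
    (homologyπ_eq_zero_iff C q p hq _).mpr ⟨y, by rw [hy, map_sub]⟩
  rw [map_sub] at h0
  exact sub_eq_zero.mp h0

/-- **surjectivity** of `H^p(lim A_n) → lim H^p(A_n)`. -/
theorem post_surjective (p q : ℤ) (hqp : q + 1 = p)
    (hK : ∀ (n : ℕ) (i : ℤ), Function.Surjective ((t K n).f i)) :
    Function.Surjective (limit.post K (H p)) := by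
  intro ξ
  -- classes and representatives
  have hc : ∀ n, ∃ zc : (A K n).cycles p,
      (A K n).homologyπ p zc = limit.π (K ⋙ H p) (op n) ξ :=
    fun n => homologyπ_surjective _ p _
  choose zc hzc using hc
  have hcompat : ∀ n, (HomologicalComplex.homologyMap (t K n) p)
      (limit.π (K ⋙ H p) (op (n + 1)) ξ) = limit.π (K ⋙ H p) (op n) ξ := by
    intro n
    have := limit.w (K ⋙ H p) (homOfLE (Nat.le_succ n)).op
    rw [← this]
    rfl
  have hb : ∀ n, ∃ b : (A K n).X q, (A K n).d q p b =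
      (t K n).f p ((A K (n + 1)).iCycles p (zc (n + 1))) - (A K n).iCycles p (zc n) := by
    intro n
    have h1 : (A K n).homologyπ p (HomologicalComplex.cyclesMap (t K n) p (zc (n + 1))) =
        (A K n).homologyπ p (zc n) := by
      rw [← homologyMap_homologyπ, hzc, hzc, hcompat]
    obtain ⟨y, hy⟩ := exists_d_eq_sub _ q p hqp _ _ h1
    exact ⟨y, by rw [hy, iCycles_cyclesMap]⟩
  choose b hb using hb
  obtain ⟨u, hu⟩ := exists_seq K q (fun n => hK n q) (fun n un => un - b n)
  -- the corrected cycles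
  let z' : ∀ n, (A K n).X p := fun n => (A K n).iCycles p (zc n) + (A K n).d q p (u n)
  have hz' : ∀ n, (t K n).f p (z' (n + 1)) = z' n := by
    intro n
    simp only [z', map_add]
    rw [comm_apply, hu n, map_sub, hb n]
    abel
  obtain ⟨x, hx⟩ := L_exists K p z' hz'
  have hdx : (limit K).d p (p + 1) x = 0 := by
    apply L_ext K (p + 1)
    intro n
    rw [comm_apply, hx n, map_zero]
    simp only [z', map_add]
    rw [d_iCycles, d_d_apply, add_zero]
  obtain ⟨xc, hxc⟩ := exists_cycles (limit K) p (p + 1) rfl x hdx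
  refine ⟨(limit K).homologyπ p xc, ?_⟩
  apply tower_ext (K ⋙ H p) _ (limit.isLimit _)
  intro n
  change limit.π (K ⋙ H p) (op n) _ = limit.π (K ⋙ H p) (op n) ξ
  rw [post_π_apply, homologyMap_homologyπ, ← hzc n]
  refine homologyπ_eq_of_d_eq_sub _ q p hqp _ _ (u n) ?_
  rw [iCycles_cyclesMap, hxc, hx n]
  simp only [z']
  abel

section Kernel

variable (p q : ℤ) (hqp : q + 1 = p)

/-- the tower of cohomology groups in degree `q`. -/
abbrev G (n : ℕ) : Type u := (A K n).homology q

/-- its transition maps. -/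
noncomputable abbrev tH (n : ℕ) : G K q (n + 1) →+ G K q n :=
  (HomologicalComplex.homologyMap (t K n) q).hom

/-- the relation between classes in `H^p(lim)` and representatives of classes in `lim¹`. -/
def Rel (η : (limit K).homology p) (ρ : ∀ n, G K q n) : Prop :=
  ∃ (xc : (limit K).cycles p) (y : ∀ n, (A K n).X q) (w : ∀ n, (A K n).cycles q),
    (limit K).homologyπ p xc = η ∧
    (∀ n, (A K n).d q p (y n) = (π K n).f p ((limit K).iCycles p xc)) ∧
    (∀ n, (A K n).iCycles q (w n) = y n - (t K n).f q (y (n + 1))) ∧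
    ρ = fun n => (A K n).homologyπ q (w n)

include hqp in
lemma rel_of_mem_ker (η : (limit K).homology p) (hη : (limit.post K (H p)) η = 0) :
    ∃ ρ, Rel K p q η ρ := by
  obtain ⟨xc, hxc⟩ := homologyπ_surjective (limit K) p η
  have hy : ∀ n, ∃ y : (A K n).X q,
      (A K n).d q p y = (π K n).f p ((limit K).iCycles p xc) := by
    intro n
    have h0 : (A K n).homologyπ p (HomologicalComplex.cyclesMap (π K n) p xc) = 0 := by
      rw [← homologyMap_homologyπ, hxc, ← post_π_apply, hη, map_zero]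
      rfl
    obtain ⟨y, hy⟩ := (homologyπ_eq_zero_iff _ q p hqp _).mp h0
    exact ⟨y, by rw [hy, iCycles_cyclesMap]⟩
  choose y hy using hy
  have hw : ∀ n, ∃ w : (A K n).cycles q,
      (A K n).iCycles q w = y n - (t K n).f q (y (n + 1)) := by
    intro n
    apply exists_cycles _ q p hqp
    rw [map_sub, ← comm_apply, hy n, hy (n + 1), π_t_apply, sub_self]
  choose w hw using hw
  exact ⟨_, xc, y, w, hxc, hy, hw, rfl⟩

include hqp in
lemma mem_ker_of_rel (η : (limit K).homology p) (ρ : ∀ n, G K q n) (h : Rel K p q η ρ) :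
    (limit.post K (H p)) η = 0 := by
  obtain ⟨xc, y, w, hxc, hy, hw, rfl⟩ := h
  apply tower_ext (K ⋙ H p) _ (limit.isLimit _)
  intro n
  change limit.π (K ⋙ H p) (op n) _ = limit.π (K ⋙ H p) (op n) 0
  rw [post_π_apply, map_zero, ← hxc, homologyMap_homologyπ]
  exact (homologyπ_eq_zero_iff _ q p hqp _).mpr ⟨y n, by rw [hy n, iCycles_cyclesMap]⟩

lemma rel_add (η η' : (limit K).homology p) (ρ ρ' : ∀ n, G K q n) (h : Rel K p q η ρ)
    (h' : Rel K p q η' ρ') : Rel K p q (η + η') (ρ + ρ') := by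
  obtain ⟨xc, y, w, hxc, hy, hw, rfl⟩ := h
  obtain ⟨xc', y', w', hxc', hy', hw', rfl⟩ := h'
  refine ⟨xc + xc', fun n => y n + y' n, fun n => w n + w' n, ?_, ?_, ?_, ?_⟩
  · rw [map_add, hxc, hxc']
  · intro n
    simp only [map_add]
    rw [hy n, hy' n]
  · intro n
    simp only [map_add]
    rw [hw n, hw' n]
    abel
  · funext n
    simp only [Pi.add_apply, map_add]

include hqp in
lemma rel_unique (η : (limit K).homology p) (ρ ρ' : ∀ n, G K q n) (h : Rel K p q η ρ)
    (h' : Rel K p q η ρ') : ρ - ρ' ∈ (Formal2.towerDiff (G K q) (tH K q)).range := by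
  obtain ⟨xc, y, w, hxc, hy, hw, rfl⟩ := h
  obtain ⟨xc', y', w', hxc', hy', hw', rfl⟩ := h'
  obtain ⟨v, hv⟩ := exists_d_eq_sub (limit K) q p hqp xc xc' (hxc.trans hxc'.symm)
  have he : ∀ n, ∃ ec : (A K n).cycles q,
      (A K n).iCycles q ec = y n - y' n - (π K n).f q v := by
    intro n
    apply exists_cycles _ q p hqp
    rw [map_sub, map_sub, hy n, hy' n, ← comm_apply, hv, map_sub, sub_self]
  choose ec hec using he
  refine ⟨fun n => (A K n).homologyπ q (ec n), ?_⟩
  funext n
  change (A K n).homologyπ q (ec n) - (HomologicalComplex.homologyMap (t K n) q)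
    ((A K (n + 1)).homologyπ q (ec (n + 1))) = (A K n).homologyπ q (w n) - (A K n).homologyπ q (w' n)
  rw [homologyMap_homologyπ, ← map_sub, ← map_sub]
  congr 1
  apply iCycles_injective
  rw [map_sub, map_sub, iCycles_cyclesMap, hec n, hec (n + 1), hw n, hw' n]
  simp only [map_sub]
  rw [π_t_apply]
  abel

include hqp in
lemma eq_zero_of_rel (hK : ∀ (n : ℕ) (i : ℤ), Function.Surjective ((t K n).f i))
    (η : (limit K).homology p) (ρ : ∀ n, G K q n) (h : Rel K p q η ρ)
    (hρ : ρ ∈ (Formal2.towerDiff (G K q) (tH K q)).range) : η = 0 := by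
  obtain ⟨xc, y, w, hxc, hy, hw, rfl⟩ := h
  obtain ⟨h, hh⟩ := hρ
  have hc : ∀ n, ∃ c : (A K n).cycles q, (A K n).homologyπ q c = h n :=
    fun n => homologyπ_surjective _ q _
  choose c hc using hc
  -- the difference is a boundary
  have he : ∀ n, ∃ e : (A K n).X (q - 1), (A K n).d (q - 1) q e =
      (y n - (A K n).iCycles q (c n)) -
        (t K n).f q (y (n + 1) - (A K (n + 1)).iCycles q (c (n + 1))) := by
    intro n
    have h1 : (A K n).homologyπ q (w n) =
        (A K n).homologyπ q (c n - HomologicalComplex.cyclesMap (t K n) q (c (n + 1))) := by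
      have := congr_fun hh n
      change h n - (HomologicalComplex.homologyMap (t K n) q) (h (n + 1)) =
        (A K n).homologyπ q (w n) at this
      rw [← this, map_sub, ← homologyMap_homologyπ, hc, hc]
    obtain ⟨e, he⟩ := exists_d_eq_sub _ (q - 1) q (by ring) _ _ h1
    refine ⟨e, ?_⟩
    rw [he, hw n, map_sub, iCycles_cyclesMap]
    simp only [map_sub]
    abel
  choose e he using he
  obtain ⟨s, hs⟩ := exists_seq K (q - 1) (fun n => hK n (q - 1)) (fun n sn => sn + e n)
  let y'' : ∀ n, (A K n).X q := fun n =>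
    y n - (A K n).iCycles q (c n) + (A K n).d (q - 1) q (s n)
  have hy'' : ∀ n, (t K n).f q (y'' (n + 1)) = y'' n := by
    intro n
    simp only [y'']
    rw [map_add, comm_apply, hs n, map_add, he n]
    abel
  obtain ⟨Y, hY⟩ := L_exists K q y'' hy''
  have hdY : (limit K).d q p Y = (limit K).iCycles p xc := by
    apply L_ext K p
    intro n
    rw [comm_apply, hY n, ← hy n]
    simp only [y'', map_add, map_sub]
    rw [d_iCycles, d_d_apply]
    abel
  rw [← hxc]
  exact (homologyπ_eq_zero_iff _ q p hqp _).mpr ⟨Y, hdY⟩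

include hqp in
lemma exists_rel (hK : ∀ (n : ℕ) (i : ℤ), Function.Surjective ((t K n).f i))
    (ρ : ∀ n, G K q n) : ∃ η, Rel K p q η ρ := by
  have hc : ∀ n, ∃ c : (A K n).cycles q, (A K n).homologyπ q c = ρ n :=
    fun n => homologyπ_surjective _ q _
  choose w hw using hc
  obtain ⟨y, hy⟩ := exists_seq K q (fun n => hK n q)
    (fun n yn => yn - (A K n).iCycles q (w n))
  let x' : ∀ n, (A K n).X p := fun n => (A K n).d q p (y n)
  have hx' : ∀ n, (t K n).f p (x' (n + 1)) = x' n := by
    intro n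
    simp only [x']
    rw [comm_apply, hy n, map_sub, d_iCycles, sub_zero]
  obtain ⟨x, hx⟩ := L_exists K p x' hx'
  have hdx : (limit K).d p (p + 1) x = 0 := by
    apply L_ext K (p + 1)
    intro n
    rw [comm_apply, hx n, map_zero]
    simp only [x']
    rw [d_d_apply]
  obtain ⟨xc, hxc⟩ := exists_cycles (limit K) p (p + 1) rfl x hdx
  refine ⟨(limit K).homologyπ p xc, xc, y, w, rfl, ?_, ?_, ?_⟩
  · intro n
    rw [hxc, hx n]
  · intro n
    rw [hy n]
    abel
  · funext n
    exact (hw n).symm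

include hqp in
/-- **the kernel** of `H^p(lim A_n) → lim H^p(A_n)` is `lim¹ H^{p-1}(A_n)`. -/
theorem nonempty_ker_equiv_limOne
    (hK : ∀ (n : ℕ) (i : ℤ), Function.Surjective ((t K n).f i)) :
    Nonempty ((limit.post K (H p)).hom.ker ≃+
      Formal2.limOne (G K q) (tH K q)) := by
  classical
  have hex : ∀ η : (limit.post K (H p)).hom.ker, ∃ ρ, Rel K p q η.1 ρ :=
    fun η => rel_of_mem_ker K p q hqp η.1 η.2
  choose r hr using hex
  let Ψ : (limit.post K (H p)).hom.ker →+ Formal2.limOne (G K q) (tH K q) :=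
    AddMonoidHom.mk' (fun η => QuotientAddGroup.mk (r η)) (by
      intro η η'
      rw [← QuotientAddGroup.mk_add, QuotientAddGroup.eq_iff_sub_mem]
      exact rel_unique K p q hqp _ _ _ (hr (η + η')) (rel_add K p q _ _ _ _ (hr η) (hr η')))
  refine ⟨AddEquiv.ofBijective Ψ ⟨?_, ?_⟩⟩
  · rw [injective_iff_map_eq_zero]
    intro η hη
    have h0 : r η ∈ (Formal2.towerDiff (G K q) (tH K q)).range :=
      (QuotientAddGroup.eq_zero_iff _).mp hη
    exact Subtype.ext (eq_zero_of_rel K p q hqp hK _ _ (hr η) h0)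
  · intro ρbar
    obtain ⟨ρ, rfl⟩ := QuotientAddGroup.mk_surjective ρbar
    obtain ⟨η, hη⟩ := exists_rel K p q hqp hK ρ
    refine ⟨⟨η, mem_ker_of_rel K p q hqp η ρ hη⟩, ?_⟩
    change QuotientAddGroup.mk (r _) = QuotientAddGroup.mk ρ
    rw [QuotientAddGroup.eq_iff_sub_mem]
    exact rel_unique K p q hqp _ _ _ (hr _) hη

end Kernel

end Main

end Groth.Agent.Lib.Helper47.MilnorSeq
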