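import Groth.Agent.Lib.Helper47.MinPrimeFree

/-!
# Universal form of generic freeness at a minimal prime of an ideal
-/

set_option autoImplicit false
universe u

open TensorProduct Pointwise

namespace Groth.Agent.Lib.Helper47.MinPrimeFree

section MinPrime

variable {R : Type*} [CommRing R]

/-- At a minimal prime `p` of `I`, every element of `p` has a power in `I` up to an element
outside `p`. -/
theorem exists_mul_pow_mem_of_mem_minimalPrimes {I p : Ideal R} (hp : p ∈ I.minimalPrimes)
    {x : R} (hx : x ∈ p) : ∃ s : R, s ∉ p ∧ ∃ n : ℕ, s * x ^ n ∈ I := by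
  haveI := hp.1.1
  have h1 := IsLocalization.AtPrime.radical_map_of_mem_minimalPrimes
    (A := Localization.AtPrime p) p I hp
  have h2 : algebraMap R (Localization.AtPrime p) x ∈
      (I.map (algebraMap R (Localization.AtPrime p))).radical := by
    rw [h1]; exact Ideal.mem_map_of_mem _ hx
  obtain ⟨n, hn⟩ := h2
  rw [← map_pow, IsLocalization.mem_map_algebraMap_iff p.primeCompl] at hn
  obtain ⟨⟨a, b⟩, hab⟩ := hn
  rw [← map_mul, IsLocalization.eq_iff_exists p.primeCompl] at hab
  obtain ⟨t, ht⟩ := hab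
  refine ⟨t.1 * b.1, fun h => (t * b).2 h, n, ?_⟩
  have : t.1 * b.1 * x ^ n = t.1 * a.1 := by
    simp only at ht
    rw [← ht]; ring
  rw [this]
  exact I.mul_mem_left _ a.2

/-- Finite version. -/
theorem exists_forall_mul_pow_mem_of_mem_minimalPrimes {I p : Ideal R} (hp : p ∈ I.minimalPrimes)
    (s : Finset R) (hs : ∀ x ∈ s, x ∈ p) :
    ∃ g : R, g ∉ p ∧ ∃ n : ℕ, ∀ x ∈ s, g * x ^ n ∈ I := by
  classical
  haveI := hp.1.1
  induction s using Finset.induction_on with
  | empty => exact ⟨1, (Ideal.ne_top_iff_one p).mp (Ideal.IsPrime.ne_top inferInstance), 0, by simp⟩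
  | insert a s _ ih =>
    obtain ⟨g, hg, n, hgn⟩ := ih (fun x hx => hs x (Finset.mem_insert_of_mem hx))
    obtain ⟨g', hg', m, hgm⟩ :=
      exists_mul_pow_mem_of_mem_minimalPrimes hp (hs a (Finset.mem_insert_self a s))
    refine ⟨g * g', fun h => (Ideal.IsPrime.mem_or_mem inferInstance h).elim hg hg', n + m, ?_⟩
    intro x hx
    rcases Finset.mem_insert.mp hx with rfl | hx
    · have : g * g' * x ^ (n + m) = (g * x ^ n) * (g' * x ^ m) := by ring
      rw [this]
      exact I.mul_mem_left _ hgm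
    · have : g * g' * x ^ (n + m) = (g' * x ^ m) * (g * x ^ n) := by ring
      rw [this]
      exact I.mul_mem_left _ (hgn x hx)

end MinPrime

section CoreUniv

/-- **Core, universal form**: let `p` be a minimal prime of an ideal `𝔞` of `A`, `S` a finitely
presented `A`-algebra and `N` a finitely presented `S`-module, flat over `A`.  Then there is
`t ∉ p` such that `T ⊗_A N` is free over `T` for every `A`-algebra `T` killed by `𝔞` in which `t`
becomes invertible. -/
theorem exists_forall_free_tensor {A : Type u} [CommRing A] (𝔞 p : Ideal A)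
    (hp : p ∈ 𝔞.minimalPrimes)
    (S : Type u) [CommRing S] [Algebra A S] [Algebra.FinitePresentation A S]
    (N : Type u) [AddCommGroup N] [Module S N] [Module A N] [IsScalarTower A S N]
    [Module.FinitePresentation S N] [Module.Flat A N] :
    ∃ t : A, t ∉ p ∧ ∀ (T : Type u) [CommRing T] [Algebra A T],
      (∀ a ∈ 𝔞, algebraMap A T a = 0) → IsUnit (algebraMap A T t) →
      Module.Free T (T ⊗[A] N) := by
  classical
  haveI hpprime : p.IsPrime := hp.1.1
  obtain ⟨R₀, i1, i2, S₀, i3, i4, i5, i6, i7, i8, M₀, i9, i10, i11, i12, i13, i14, f, hZ, hS₀,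
    hfin, -, hpo, hbc⟩ := Groth.Agent.H76.FlatModel.exists_flat_model A S N
  haveI : IsNoetherianRing R₀ := Algebra.FiniteType.isNoetherianRing ℤ R₀
  letI modR₀N : Module R₀ N := Module.compHom N (algebraMap R₀ A)
  haveI towR₀AN : IsScalarTower R₀ A N := IsScalarTower.of_compHom _ _ _
  haveI towR₀S₀N : IsScalarTower R₀ S₀ N := by
    refine ⟨fun r s n => ?_⟩
    change (r • s) • n = (algebraMap R₀ A r) • (s • n)
    rw [Algebra.smul_def, mul_smul, ← algebraMap_smul S (algebraMap R₀ S₀ r) (s • n),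
      ← IsScalarTower.algebraMap_apply R₀ S₀ S, IsScalarTower.algebraMap_apply R₀ A S,
      algebraMap_smul]
  have hf' : IsBaseChange A (f.restrictScalars R₀) := isBaseChange_of_isPushout f hbc
  set p₀ := p.comap (algebraMap R₀ A) with hp₀
  obtain ⟨gens, hgens⟩ := (IsNoetherian.noetherian p₀ : p₀.FG)
  obtain ⟨g, hg, n, hgn⟩ := exists_forall_mul_pow_mem_of_mem_minimalPrimes hp
    (gens.image (algebraMap R₀ A)) (by
      intro x hx
      obtain ⟨y, hy, rfl⟩ := Finset.mem_image.mp hx
      have : y ∈ p₀ := hgens ▸ Ideal.subset_span hy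
      exact this)
  obtain ⟨t₀, ht₀, hfree⟩ := exists_free_tensor_quotient S₀ (M₀ := M₀) p₀
  refine ⟨g * algebraMap R₀ A t₀, fun h => (Ideal.IsPrime.mem_or_mem inferInstance h).elim hg ht₀,
    ?_⟩
  intro T _ _ h𝔞 hunit
  rw [map_mul] at hunit
  have hgT : IsUnit (algebraMap A T g) := isUnit_of_mul_isUnit_left hunit
  have ht₀T' : IsUnit (algebraMap A T (algebraMap R₀ A t₀)) := isUnit_of_mul_isUnit_right hunit
  letI algR₀T : Algebra R₀ T := ((algebraMap A T).comp (algebraMap R₀ A)).toAlgebra
  haveI towR₀AT : IsScalarTower R₀ A T := IsScalarTower.of_algebraMap_eq fun _ => rfl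
  set J := p₀.map (algebraMap R₀ T) with hJ
  have hJnil : IsNilpotent J := by
    have hJfg : J.FG := Ideal.FG.map (IsNoetherian.noetherian p₀ : p₀.FG) _
    rw [hJfg.isNilpotent_iff_le_nilradical, hJ, ← hgens, Ideal.map_span, Ideal.span_le]
    rintro _ ⟨y, hy, rfl⟩
    refine ⟨n, ?_⟩
    have h1 := h𝔞 _ (hgn (algebraMap R₀ A y) (Finset.mem_image_of_mem _ hy))
    rw [map_mul, map_pow] at h1
    exact (hgT.mul_right_eq_zero).mp h1
  -- the chain of base changes
  have hμ : IsBaseChange T (TensorProduct.mk A T N 1) := TensorProduct.isBaseChange A N T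
  have hπ : IsBaseChange (T ⧸ J) ((J • (⊤ : Submodule T (T ⊗[A] N))).mkQ) :=
    isBaseChange_mkQ_smul_top J
  have hδ := (hf'.comp hμ).comp hπ
  have hp₀T : ∀ a ∈ p₀, algebraMap R₀ (T ⧸ J) a = 0 := by
    intro a ha
    rw [IsScalarTower.algebraMap_apply R₀ T (T ⧸ J), Ideal.Quotient.algebraMap_eq,
      Ideal.Quotient.eq_zero_iff_mem]
    exact Ideal.mem_map_of_mem _ ha
  have ht₀T : IsUnit (algebraMap R₀ (T ⧸ J) t₀) := by
    rw [IsScalarTower.algebraMap_apply R₀ T (T ⧸ J)]
    exact IsUnit.map _ ht₀T'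
  haveI : Module.Free (T ⧸ J) ((T ⊗[A] N) ⧸ (J • (⊤ : Submodule T (T ⊗[A] N)))) :=
    free_of_isBaseChange_of_free_tensor p₀ t₀ (T ⧸ J) hfree hp₀T ht₀T _ hδ
  exact free_of_flat_of_free_quotient J hJnil

end CoreUniv

section Strat

theorem span_cons {R : Type*} [CommRing R] (t : R) (l : List R) :
    Ideal.span {a | a ∈ t :: l} = Ideal.span {t} ⊔ Ideal.span {a | a ∈ l} := by
  have : {a | a ∈ t :: l} = insert t {a | a ∈ l} := by
    ext a; simp [List.mem_cons]
  rw [this, Ideal.span_insert]

/-- **Principal stratification with free pieces**, Noetherian base, universal form. -/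
theorem exists_list_forall_free {R : Type u} [CommRing R] [IsNoetherianRing R]
    (S : Type u) [CommRing S] [Algebra R S] [Algebra.FiniteType R S]
    (M : Type u) [AddCommGroup M] [Module S M] [Module R M] [IsScalarTower R S M]
    [Module.Finite S M] [Module.Flat R M] (𝔞 : Ideal R) :
    ∃ l : List R, 𝔞 ⊔ Ideal.span {a | a ∈ l} = ⊤ ∧
      ∀ (i : ℕ) (hi : i < l.length) (T : Type u) [CommRing T] [Algebra R T],
        (∀ a ∈ 𝔞 ⊔ Ideal.span {a | a ∈ l.take i}, algebraMap R T a = 0) →
        IsUnit (algebraMap R T l[i]) → Module.Free T (T ⊗[R] M) := by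
  haveI : Algebra.FinitePresentation R S := Algebra.FinitePresentation.of_finiteType.mp inferInstance
  haveI : IsNoetherianRing S := Algebra.FiniteType.isNoetherianRing R S
  haveI : Module.FinitePresentation S M := Module.finitePresentation_of_finite S M
  induction 𝔞 using IsNoetherian.induction with
  | hgt 𝔞 ih =>
    by_cases htop : 𝔞 = ⊤
    · refine ⟨[], by rw [htop, top_sup_eq], ?_⟩
      intro i hi
      exact absurd hi (by simp)
    · obtain ⟨⟨p, hp⟩⟩ := Ideal.nonempty_minimalPrimes htop
      obtain ⟨t, ht, huniv⟩ := exists_forall_free_tensor 𝔞 p hp S M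
      have ht𝔞 : t ∉ 𝔞 := fun h => ht (hp.1.2 h)
      have hlt : 𝔞 < 𝔞 ⊔ Ideal.span {t} := by
        refine lt_of_le_of_ne le_sup_left (fun h => ht𝔞 ?_)
        rw [h]
        exact Ideal.mem_sup_right (Ideal.mem_span_singleton_self t)
      obtain ⟨l', h1, h2⟩ := ih _ hlt
      refine ⟨t :: l', ?_, ?_⟩
      · rw [span_cons, ← sup_assoc, h1]
      · intro i hi T _ _ hz hu
        cases i with
        | zero =>
          refine huniv T (fun a ha => hz a ?_) hu
          exact Ideal.mem_sup_left ha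
        | succ i =>
          have hi' : i < l'.length := by simpa using hi
          refine h2 i hi' T (fun a ha => hz a ?_) (by simpa using hu)
          rw [List.take_succ_cons, span_cons, ← sup_assoc]
          exact ha

end Strat

end Groth.Agent.Lib.Helper47.MinPrimeFree
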