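import Mathlib.RingTheory.FiniteType
import Mathlib.RingTheory.Artinian.Ring
import Mathlib.RingTheory.HopkinsLevitzki
import Mathlib.RingTheory.LocalRing.ResidueField.Basic
import Mathlib.Tactic.Algebraize

/-!
# Finite type descends along nilpotent finitely generated thickenings
-/

set_option autoImplicit false

namespace Groth.Agent.Lib.Helper47

/-- If `A → Q` is surjective with nilpotent finitely generated kernel and `Q` is of finite type
over `R`, then so is `A`. -/
theorem finiteType_of_surjective_of_isNilpotent_ker {R A Q : Type*} [CommRing R] [CommRing A]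
    [CommRing Q] [Algebra R A] [Algebra R Q] [Algebra A Q] [IsScalarTower R A Q]
    (hsurj : Function.Surjective (algebraMap A Q))
    (hfg : (RingHom.ker (algebraMap A Q)).FG)
    (hnil : IsNilpotent (RingHom.ker (algebraMap A Q))) [h : Algebra.FiniteType R Q] :
    Algebra.FiniteType R A := by
  classical
  set I := RingHom.ker (algebraMap A Q) with hI
  obtain ⟨t, ht⟩ := h.out
  obtain ⟨u, hu⟩ := hfg
  obtain ⟨n, hn⟩ := hnil
  choose lift hlift using hsurj
  let B : Subalgebra R A := Algebra.adjoin R (↑(t.image lift) ∪ ↑u)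
  have hB : B.FG := ⟨t.image lift ∪ u, by simp [B]⟩
  have huB : ∀ x ∈ u, x ∈ B := fun x hx => Algebra.subset_adjoin (Or.inr (Finset.mem_coe.mpr hx))
  have step0 : ∀ q ∈ Algebra.adjoin R (↑t : Set Q), ∃ b ∈ B, algebraMap A Q b = q := by
    intro q hq
    induction hq using Algebra.adjoin_induction with
    | mem x hx =>
      exact ⟨lift x, Algebra.subset_adjoin (Or.inl (Finset.mem_coe.mpr
        (Finset.mem_image_of_mem _ (Finset.mem_coe.mp hx)))), hlift x⟩
    | algebraMap r =>
      exact ⟨algebraMap R A r, B.algebraMap_mem r, (IsScalarTower.algebraMap_apply R A Q r).symm⟩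
    | add x y _ _ hx hy =>
      obtain ⟨b, hb, rfl⟩ := hx
      obtain ⟨c, hc, rfl⟩ := hy
      exact ⟨b + c, B.add_mem hb hc, map_add _ _ _⟩
    | mul x y _ _ hx hy =>
      obtain ⟨b, hb, rfl⟩ := hx
      obtain ⟨c, hc, rfl⟩ := hy
      exact ⟨b * c, B.mul_mem hb hc, map_mul _ _ _⟩
  have step1 : ∀ a : A, ∃ b ∈ B, a - b ∈ I := by
    intro a
    obtain ⟨b, hb, hab⟩ := step0 (algebraMap A Q a) (by rw [ht]; trivial)
    refine ⟨b, hb, ?_⟩
    rw [hI, RingHom.mem_ker, map_sub, hab, sub_self]
  have step2 : ∀ k : ℕ, ∀ y ∈ I ^ k, ∃ b ∈ B, y - b ∈ I ^ (k + 1) := by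
    intro k
    induction k with
    | zero =>
      intro y _
      obtain ⟨b, hb, hyb⟩ := step1 y
      exact ⟨b, hb, by simpa using hyb⟩
    | succ k ih =>
      have inner : ∀ z ∈ Ideal.span (↑u : Set A), ∀ m ∈ I ^ k,
          ∃ b ∈ B, m * z - b ∈ I ^ (k + 1 + 1) := by
        intro z hz
        induction hz using Submodule.span_induction with
        | mem x hx =>
          intro m hm
          obtain ⟨b, hb, hmb⟩ := ih m hm
          refine ⟨b * x, B.mul_mem hb (huB x (Finset.mem_coe.mp hx)), ?_⟩
          have hxI : x ∈ I := by rw [← hu]; exact Ideal.subset_span hx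
          have : m * x - b * x = (m - b) * x := by ring
          rw [this, pow_succ (I) (k + 1)]
          exact Ideal.mul_mem_mul hmb hxI
        | zero =>
          intro m _
          exact ⟨0, B.zero_mem, by simp⟩
        | add z₁ z₂ _ _ h₁ h₂ =>
          intro m hm
          obtain ⟨b₁, hb₁, hm₁⟩ := h₁ m hm
          obtain ⟨b₂, hb₂, hm₂⟩ := h₂ m hm
          refine ⟨b₁ + b₂, B.add_mem hb₁ hb₂, ?_⟩
          have : m * (z₁ + z₂) - (b₁ + b₂) = (m * z₁ - b₁) + (m * z₂ - b₂) := by ring
          rw [this]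
          exact Ideal.add_mem _ hm₁ hm₂
        | smul c z _ hz =>
          intro m hm
          obtain ⟨b, hb, hmb⟩ := hz (m * c) (Ideal.mul_mem_right _ _ hm)
          refine ⟨b, hb, ?_⟩
          have : m * (c • z) - b = m * c * z - b := by rw [smul_eq_mul]; ring
          rw [this]
          exact hmb
      intro y hy
      rw [pow_succ] at hy
      refine Submodule.mul_induction_on hy ?_ ?_
      · intro m hm z hz
        exact inner z (by rw [hu]; exact hz) m hm
      · rintro x y ⟨b₁, hb₁, hm₁⟩ ⟨b₂, hb₂, hm₂⟩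
        refine ⟨b₁ + b₂, B.add_mem hb₁ hb₂, ?_⟩
        have : x + y - (b₁ + b₂) = (x - b₁) + (y - b₂) := by ring
        rw [this]
        exact Ideal.add_mem _ hm₁ hm₂
  have main : ∀ k : ℕ, ∀ a : A, ∃ b ∈ B, a - b ∈ I ^ k := by
    intro k
    induction k with
    | zero => intro a; exact ⟨0, B.zero_mem, by simp⟩
    | succ k ih =>
      intro a
      obtain ⟨b, hb, hab⟩ := ih a
      obtain ⟨b', hb', hab'⟩ := step2 k (a - b) hab
      refine ⟨b + b', B.add_mem hb hb', ?_⟩
      have : a - (b + b') = a - b - b' := by ring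
      rw [this]; exact hab'
  have htop : B = ⊤ := by
    rw [eq_top_iff]
    intro a _
    obtain ⟨b, hb, hab⟩ := main n a
    rw [hn, Ideal.zero_eq_bot, Ideal.mem_bot, sub_eq_zero] at hab
    rw [hab]; exact hb
  exact ⟨htop ▸ hB⟩

/-- Ring hom version. -/
theorem _root_.RingHom.FiniteType.of_comp_of_isNilpotent_ker {R A Q : Type*} [CommRing R]
    [CommRing A] [CommRing Q] (φ : R →+* A) (π : A →+* Q) (hsurj : Function.Surjective π)
    (hfg : (RingHom.ker π).FG) (hnil : IsNilpotent (RingHom.ker π))
    (h : (π.comp φ).FiniteType) : φ.FiniteType := by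
  algebraize [φ, π, π.comp φ]
  exact finiteType_of_surjective_of_isNilpotent_ker (R := R) (A := A) (Q := Q) hsurj hfg hnil

/-- For an Artinian local ring `A`, a ring hom `R → A` is of finite type as soon as the
composite `R → A → κ` to the residue field is. -/
theorem _root_.RingHom.FiniteType.of_comp_residue {R A : Type*} [CommRing R] [CommRing A]
    [IsLocalRing A] [IsArtinianRing A] (φ : R →+* A)
    (h : ((IsLocalRing.residue A).comp φ).FiniteType) : φ.FiniteType := by
  have hker : RingHom.ker (IsLocalRing.residue A) = IsLocalRing.maximalIdeal A :=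
    IsLocalRing.ker_residue
  refine RingHom.FiniteType.of_comp_of_isNilpotent_ker φ (IsLocalRing.residue A)
    IsLocalRing.residue_surjective ?_ ?_ h
  · rw [hker]
    exact (isNoetherianRing_iff_ideal_fg A).mp inferInstance _
  · rw [hker, ← IsLocalRing.jacobson_eq_maximalIdeal ⊥ bot_ne_top]
    exact IsArtinianRing.isNilpotent_jacobson_bot

end Groth.Agent.Lib.Helper47
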