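import Mathlib.RingTheory.Invariant.Basic
import Mathlib.Algebra.MvPolynomial.Eval
import Mathlib.Algebra.Polynomial.Monic
import Mathlib.RingTheory.Ideal.Quotient.Operations
import Mathlib.LinearAlgebra.Finsupp.LinearCombination

/-!
# The norm polynomial `∏ (T - σ x)` for `x ∈ J R` has coefficients in `J`
-/

set_option autoImplicit false
universe u

open Polynomial

namespace Groth.Agent.Lib.Helper47

/-- The value of a multivariate polynomial at a point with coordinates in an ideal `J` is
congruent to its constant coefficient modulo `J`. -/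
theorem eval_sub_constantCoeff_mem {A : Type*} [CommRing A] {ι : Type*} (J : Ideal A)
    (j : ι → A) (hj : ∀ k, j k ∈ J) (p : MvPolynomial ι A) :
    MvPolynomial.eval j p - MvPolynomial.constantCoeff p ∈ J := by
  rw [← Ideal.Quotient.eq]
  have h1 := MvPolynomial.eval₂_comp (Ideal.Quotient.mk J) j p
  have h2 : (Ideal.Quotient.mk J) ∘ j = 0 :=
    funext fun k => Ideal.Quotient.eq_zero_iff_mem.mpr (hj k)
  rw [h1, h2, MvPolynomial.eval₂_zero_apply]

/-- A monic polynomial of the shape `X^n + ∑_{i<n} a_i X^i`. -/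
noncomputable def monicOfCoeffs {A : Type*} [CommRing A] (n : ℕ) (a : ℕ → A) : A[X] :=
  X ^ n + ∑ i ∈ Finset.range n, C (a i) * X ^ i

theorem degree_sum_range_lt {A : Type*} [CommRing A] (n : ℕ) (a : ℕ → A) :
    (∑ i ∈ Finset.range n, C (a i) * X ^ i : A[X]).degree < n := by
  rw [← Fin.sum_univ_eq_sum_range (fun i => (C (a i) * X ^ i : A[X])) n]
  exact Polynomial.degree_sum_fin_lt (fun i : Fin n => a i)

theorem monicOfCoeffs_monic {A : Type*} [CommRing A] (n : ℕ) (a : ℕ → A) :
    (monicOfCoeffs n a).Monic :=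
  Polynomial.monic_X_pow_add (degree_sum_range_lt n a)

theorem monicOfCoeffs_natDegree_le {A : Type*} [CommRing A] (n : ℕ) (a : ℕ → A) :
    (monicOfCoeffs n a).natDegree ≤ n := by
  refine Polynomial.natDegree_add_le_of_degree_le (Polynomial.natDegree_X_pow_le n) ?_
  exact Polynomial.natDegree_le_of_degree_le (degree_sum_range_lt n a).le

theorem monicOfCoeffs_coeff {A : Type*} [CommRing A] (n : ℕ) (a : ℕ → A) (i : ℕ) (hi : i < n) :
    (monicOfCoeffs n a).coeff i = a i := by
  rw [monicOfCoeffs, Polynomial.coeff_add, Polynomial.coeff_X_pow, if_neg hi.ne, zero_add,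
    Polynomial.finsetSum_coeff]
  rw [Finset.sum_eq_single i]
  · simp
  · intro k _ hk
    rw [Polynomial.coeff_C_mul_X_pow, if_neg (Ne.symm hk)]
  · intro h
    exact (h (Finset.mem_range.mpr hi)).elim

theorem map_monicOfCoeffs {A R : Type*} [CommRing A] [CommRing R] (f : A →+* R) (n : ℕ)
    (a : ℕ → A) : (monicOfCoeffs n a).map f = monicOfCoeffs n (fun i => f (a i)) := by
  simp [monicOfCoeffs, Polynomial.map_sum]

theorem eq_monicOfCoeffs_of_monic {R : Type*} [CommRing R] (T : R[X]) (hT : T.Monic) :
    T = monicOfCoeffs T.natDegree T.coeff :=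
  hT.as_sum

section Main

variable (A R G : Type u) [CommRing A] [CommRing R] [Algebra A R] [Group G] [Fintype G]
  [MulSemiringAction G R] [SMulCommClass G A R] [Algebra.IsInvariant A R G]

theorem exists_monic_lift_prod_conj (J : Ideal A) (x : R)
    (hx : x ∈ Ideal.map (algebraMap A R) J) :
    ∃ P : Polynomial A, P.Monic ∧ P.natDegree ≤ Fintype.card G ∧
      (∀ i : ℕ, i < Fintype.card G → P.coeff i ∈ J) ∧
      Polynomial.map (algebraMap A R) P = ∏ σ : G, (Polynomial.X - Polynomial.C (σ • x)) := by
  classical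
  rw [Ideal.map, Ideal.span, Submodule.mem_span_set'] at hx
  obtain ⟨m, r, g, rfl⟩ := hx
  choose j hjJ hj using fun k => (g k).2
  set n := Fintype.card G with hn
  let act : G → (R →+* R) := fun σ => MulSemiringAction.toRingHom G R σ
  let L : G → MvPolynomial (Fin m) R :=
    fun σ => ∑ k, MvPolynomial.C (σ • r k) * MvPolynomial.X k
  let Q : (MvPolynomial (Fin m) R)[X] := ∏ σ : G, (X - C (L σ))
  -- (a) invariance of `Q`
  have hL : ∀ σ τ : G, MvPolynomial.map (act σ) (L τ) = L (σ * τ) := by
    intro σ τ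
    simp only [L, map_sum, map_mul, MvPolynomial.map_C, MvPolynomial.map_X]
    refine Finset.sum_congr rfl fun k _ => ?_
    congr 2
    change σ • τ • r k = (σ * τ) • r k
    rw [mul_smul]
  have hmap : ∀ σ : G, Q.map (MvPolynomial.map (act σ)) = Q := by
    intro σ
    simp only [Q, Polynomial.map_prod, Polynomial.map_sub, Polynomial.map_X, Polynomial.map_C, hL]
    exact Fintype.prod_equiv (Equiv.mulLeft σ) _ _ (fun τ => rfl)
  have hinv : ∀ (i : ℕ) (d : Fin m →₀ ℕ) (σ : G),
      σ • MvPolynomial.coeff d (Q.coeff i) = MvPolynomial.coeff d (Q.coeff i) := by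
    intro i d σ
    have := congrArg (fun q => MvPolynomial.coeff d (q.coeff i)) (hmap σ)
    simpa [Polynomial.coeff_map, MvPolynomial.coeff_map, act] using this
  -- (e) lifts of the coefficients
  have hlift : ∀ i : ℕ, ∃ p : MvPolynomial (Fin m) A,
      MvPolynomial.map (algebraMap A R) p = Q.coeff i := by
    intro i
    apply MvPolynomial.mem_range_map_iff_coeffs_subset.mpr
    intro c hc
    obtain ⟨d, -, rfl⟩ := MvPolynomial.mem_coeffs_iff.mp (Finset.mem_coe.mp hc)
    exact Algebra.IsInvariant.isInvariant (G := G) _ (fun σ => hinv i d σ)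
  choose p hp using hlift
  let a : ℕ → A := fun i => MvPolynomial.eval j (p i) - MvPolynomial.constantCoeff (p i)
  have haJ : ∀ i, a i ∈ J := fun i => eval_sub_constantCoeff_mem J j hjJ (p i)
  -- (c) constant coefficients
  have hccL : ∀ σ, MvPolynomial.constantCoeff (L σ) = 0 := by
    intro σ
    simp [L]
  have hcc : Q.map (MvPolynomial.constantCoeff (σ := Fin m) (R := R)) = X ^ n := by
    simp only [Q, Polynomial.map_prod, Polynomial.map_sub, Polynomial.map_X, Polynomial.map_C,
      hccL, map_zero, sub_zero, Finset.prod_const, Finset.card_univ, hn]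
  -- (d) evaluation
  let ev : MvPolynomial (Fin m) R →+* R := MvPolynomial.eval (fun k => algebraMap A R (j k))
  have hevL : ∀ σ : G, ev (L σ) = σ • ∑ i, r i • (g i : R) := by
    intro σ
    simp only [ev, L, map_sum, map_mul, MvPolynomial.eval_C, MvPolynomial.eval_X,
      Finset.smul_sum]
    refine Finset.sum_congr rfl fun k _ => ?_
    rw [← hj k, smul_eq_mul, smul_mul', smul_algebraMap]
  have hev : Q.map ev = ∏ σ : G, (X - C (σ • ∑ i, r i • (g i : R))) := by
    simp only [Q, Polynomial.map_prod, Polynomial.map_sub, Polynomial.map_X, Polynomial.map_C,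
      hevL]
  set T : R[X] := ∏ σ : G, (X - C (σ • ∑ i, r i • (g i : R))) with hT
  have hTmonic : T.Monic := Polynomial.monic_prod_of_monic _ _ fun σ _ => Polynomial.monic_X_sub_C _
  refine ⟨monicOfCoeffs n a, monicOfCoeffs_monic n a, monicOfCoeffs_natDegree_le n a,
    fun i hi => by rw [monicOfCoeffs_coeff n a i hi]; exact haJ i, ?_⟩
  rcases subsingleton_or_nontrivial R with hR | hR
  · exact Subsingleton.elim _ _
  have hTdeg : T.natDegree = n := by
    rw [hT, Polynomial.natDegree_prod_of_monic _ _ fun σ _ => Polynomial.monic_X_sub_C _]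
    simp [hn]
  rw [map_monicOfCoeffs, eq_monicOfCoeffs_of_monic T hTmonic, hTdeg]
  unfold monicOfCoeffs
  congr 1
  refine Finset.sum_congr rfl fun i hi => ?_
  have hi' : i < n := Finset.mem_range.mp hi
  congr 2
  -- `algebraMap (a i) = T.coeff i`
  have h1 : algebraMap A R (MvPolynomial.eval j (p i)) = ev (Q.coeff i) := by
    rw [← hp i]
    change _ = MvPolynomial.eval _ (MvPolynomial.map _ _)
    rw [MvPolynomial.eval_map, MvPolynomial.eval₂_comp]
    rfl
  have h2 : algebraMap A R (MvPolynomial.constantCoeff (p i)) = 0 := by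
    rw [← MvPolynomial.constantCoeff_map, hp i]
    have := congrArg (fun q => q.coeff i) hcc
    simp only [Polynomial.coeff_map, Polynomial.coeff_X_pow, if_neg hi'.ne] at this
    exact this
  have h3 : ev (Q.coeff i) = T.coeff i := by
    rw [← hev, Polynomial.coeff_map]
  change algebraMap A R (MvPolynomial.eval j (p i) - MvPolynomial.constantCoeff (p i)) = _
  rw [map_sub, h1, h2, sub_zero, h3]

end Main

end Groth.Agent.Lib.Helper47
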