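import Groth.Agent.Lib.Helper47.McCoy
import Mathlib.RingTheory.Finiteness.Projective
import Mathlib.Algebra.Module.Projective
import Mathlib.LinearAlgebra.Pi
import Mathlib.LinearAlgebra.TensorProduct.Finiteness
import Mathlib.LinearAlgebra.TensorProduct.RightExactness
import Mathlib.LinearAlgebra.Finsupp.Defs

/-!
# Rings in which every proper finitely generated ideal has a nonzero annihilator

Injective maps between finite projective modules over such a ring are split.
-/

set_option autoImplicit false
universe u

open Matrix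

namespace Groth.Agent.Lib.Helper47

variable {R : Type u} [CommRing R]

/-- If the maximal minors of a matrix generate the unit ideal, it has a left inverse. -/
theorem exists_mul_eq_one_of_minorIdeal_eq_top {n m : ℕ} (M : Matrix (Fin n) (Fin m) R)
    (h : CAlgX.minorIdeal M m = ⊤) : ∃ L : Matrix (Fin m) (Fin n) R, L * M = 1 := by
  classical
  have key : ∀ x ∈ CAlgX.minorIdeal M m, ∃ L : Matrix (Fin m) (Fin n) R, L * M = x • 1 := by
    intro x hx
    rw [CAlgX.minorIdeal] at hx
    induction hx using Submodule.span_induction with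
    | mem x hx =>
      obtain ⟨⟨f, g⟩, rfl⟩ := hx
      set N : Matrix (Fin m) (Fin m) R := M.submatrix f id with hN
      set P : Matrix (Fin m) (Fin m) R := (1 : Matrix (Fin m) (Fin m) R).submatrix id g with hP
      set E : Matrix (Fin m) (Fin n) R := (1 : Matrix (Fin n) (Fin n) R).submatrix f id with hE
      have hEM : E * M = N := by
        have := Matrix.one_submatrix_mul f (Equiv.refl (Fin n)) M
        simpa using this
      have hfac : M.submatrix f g = N * P := by
        have := Matrix.mul_submatrix_one (Equiv.refl (Fin m)) g N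
        simp only [Equiv.coe_refl, Equiv.refl_symm, Function.id_comp] at this
        rw [hP, this, hN]
        rfl
      refine ⟨P.det • (N.adjugate * E), ?_⟩
      change _ = (M.submatrix f g).det • (1 : Matrix (Fin m) (Fin m) R)
      rw [Matrix.smul_mul, Matrix.mul_assoc, hEM, Matrix.adjugate_mul, hfac, Matrix.det_mul,
        smul_smul, mul_comm]
    | zero => exact ⟨0, by simp⟩
    | add x y _ _ hx hy =>
      obtain ⟨L₁, h₁⟩ := hx
      obtain ⟨L₂, h₂⟩ := hy
      exact ⟨L₁ + L₂, by rw [Matrix.add_mul, h₁, h₂, add_smul]⟩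
    | smul c x _ hx =>
      obtain ⟨L, hL⟩ := hx
      exact ⟨c • L, by rw [Matrix.smul_mul, hL, smul_smul, smul_eq_mul]⟩
  obtain ⟨L, hL⟩ := key 1 (by rw [h]; trivial)
  exact ⟨L, by rw [hL, one_smul]⟩

/-- Property (P): every proper finitely generated ideal has a nonzero annihilator. -/
def PropertyP (R : Type u) [CommRing R] : Prop :=
  ∀ I : Ideal R, I.FG → I ≠ ⊤ → I.annihilator ≠ ⊥

/-- Over a ring with property (P), an injective map of finite free modules has a left inverse. -/
theorem exists_leftInverse_of_injective_free (hP : PropertyP R) {n m : ℕ}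
    (u : (Fin m → R) →ₗ[R] (Fin n → R)) (hu : Function.Injective u) :
    ∃ v : (Fin n → R) →ₗ[R] (Fin m → R), v ∘ₗ u = LinearMap.id := by
  classical
  rcases subsingleton_or_nontrivial R with hR | hR
  · exact ⟨0, LinearMap.ext fun x => Subsingleton.elim _ _⟩
  set A : Matrix (Fin n) (Fin m) R := LinearMap.toMatrix' u with hA
  have hAu : A.mulVecLin = u := by
    rw [← Matrix.toLin'_apply', hA, Matrix.toLin'_toMatrix']
  have hinj : Function.Injective A.mulVecLin := by rw [hAu]; exact hu
  obtain ⟨hrank, hann⟩ := (mulVecLin_injective_iff A).mp hinj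
  have htop : CAlgX.minorIdeal A m = ⊤ := by
    by_contra hne
    have hfg : (CAlgX.minorIdeal A m).FG := by
      rw [CAlgX.minorIdeal]
      exact Submodule.fg_span (Set.finite_range _)
    apply hP _ hfg hne
    rw [CAlgX.detIdeal, hrank] at hann
    exact hann
  obtain ⟨L, hL⟩ := exists_mul_eq_one_of_minorIdeal_eq_top A htop
  refine ⟨L.mulVecLin, ?_⟩
  rw [← hAu, ← Matrix.mulVecLin_mul, hL, Matrix.mulVecLin_one]

/-- Over a ring with property (P), an injective map of finite projective modules has a left
inverse. -/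
theorem exists_leftInverse_of_injective_of_finite_projective (hP : PropertyP R)
    {N M : Type*} [AddCommGroup N] [Module R N] [Module.Finite R N] [Module.Projective R N]
    [AddCommGroup M] [Module R M] [Module.Finite R M] [Module.Projective R M]
    (u : N →ₗ[R] M) (hu : Function.Injective u) :
    ∃ v : M →ₗ[R] N, v ∘ₗ u = LinearMap.id := by
  obtain ⟨a, pN, iN, -, hiN, hN⟩ := Module.Finite.exists_comp_eq_id_of_projective R N
  obtain ⟨b, pM, iM, -, hiM, hM⟩ := Module.Finite.exists_comp_eq_id_of_projective R M
  have hN' : ∀ x, pN (iN x) = x := fun x => LinearMap.congr_fun hN x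
  let e : (Fin (b + a) → R) ≃ₗ[R] (Fin b → R) × (Fin a → R) :=
    (LinearEquiv.funCongrLeft R R finSumFinEquiv).trans
      (LinearEquiv.sumArrowLequivProdArrow (Fin b) (Fin a) R R)
  let u₀ : (Fin a → R) →ₗ[R] (Fin b → R) × (Fin a → R) :=
    LinearMap.prod (iM ∘ₗ u ∘ₗ pN) (LinearMap.id - iN ∘ₗ pN)
  have hu₀ : Function.Injective u₀ := by
    rw [injective_iff_map_eq_zero]
    intro z hz
    have h1 : iM (u (pN z)) = 0 := congrArg Prod.fst hz
    have h2 : z - iN (pN z) = 0 := congrArg Prod.snd hz
    have h3 : pN z = 0 := by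
      apply hu
      apply hiM
      rw [h1, map_zero, map_zero]
    rw [h3, map_zero, sub_zero] at h2
    exact h2
  let u₁ : (Fin a → R) →ₗ[R] (Fin (b + a) → R) := e.symm.toLinearMap ∘ₗ u₀
  have hu₁ : Function.Injective u₁ := e.symm.injective.comp hu₀
  obtain ⟨v₁, hv₁⟩ := exists_leftInverse_of_injective_free hP u₁ hu₁
  refine ⟨pN ∘ₗ v₁ ∘ₗ e.symm.toLinearMap ∘ₗ LinearMap.inl R _ _ ∘ₗ iM, ?_⟩
  ext x
  have h4 : u₀ (iN x) = (iM (u x), 0) := by
    change (iM (u (pN (iN x))), iN x - iN (pN (iN x))) = _
    rw [hN' x, sub_self]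
  have h5 : v₁ (e.symm (iM (u x), 0)) = iN x := by
    rw [← h4]
    exact LinearMap.congr_fun hv₁ (iN x)
  change pN (v₁ (e.symm (iM (u x), 0))) = x
  rw [h5, hN']

/-- Over a ring with property (P), the cokernel of an injective map of finite projective modules
is projective. -/
theorem projective_quotient_range_of_injective (hP : PropertyP R)
    {N M : Type*} [AddCommGroup N] [Module R N] [Module.Finite R N] [Module.Projective R N]
    [AddCommGroup M] [Module R M] [Module.Finite R M] [Module.Projective R M]
    (u : N →ₗ[R] M) (hu : Function.Injective u) :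
    Module.Projective R (M ⧸ LinearMap.range u) := by
  obtain ⟨v, hv⟩ := exists_leftInverse_of_injective_of_finite_projective hP u hu
  have hv' : ∀ x, v (u x) = x := fun x => LinearMap.congr_fun hv x
  let i : (M ⧸ LinearMap.range u) →ₗ[R] M :=
    (LinearMap.range u).liftQ (LinearMap.id - u ∘ₗ v) (by
      rintro _ ⟨x, rfl⟩
      change u x - u (v (u x)) = 0
      rw [hv', sub_self])
  refine Module.Projective.of_split i (LinearMap.range u).mkQ ?_
  ext m
  change Submodule.Quotient.mk (m - u (v m)) = Submodule.Quotient.mk m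
  rw [Submodule.Quotient.mk_sub]
  have : (Submodule.Quotient.mk (u (v m)) : M ⧸ LinearMap.range u) = 0 :=
    (Submodule.Quotient.mk_eq_zero _).mpr ⟨v m, rfl⟩
  rw [this, sub_zero]

section UniversallyInjective

open TensorProduct

/-- Free case: over a ring with property (P), an injective map of free modules stays injective
after any tensor product. -/
theorem rTensor_injective_of_injective_free (hP : PropertyP R) {ι κ : Type*}
    (u : (ι →₀ R) →ₗ[R] (κ →₀ R)) (hu : Function.Injective u)
    (Q : Type*) [AddCommGroup Q] [Module R Q] : Function.Injective (u.rTensor Q) := by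
  classical
  rw [injective_iff_map_eq_zero]
  intro t ht
  obtain ⟨S, rfl⟩ := TensorProduct.exists_finset t
  let s : Finset ι := S.biUnion (fun p => p.1.support)
  let j : (↥(s : Set ι) →₀ R) →ₗ[R] (ι →₀ R) := Finsupp.lmapDomain R R Subtype.val
  let s' : Finset κ := s.biUnion (fun i => (u (Finsupp.single i 1)).support)
  let r : (κ →₀ R) →ₗ[R] (↥(s' : Set κ) →₀ R) := Finsupp.lsubtypeDomain (s' : Set κ)
  have hj : Function.Injective j := Finsupp.mapDomain_injective Subtype.val_injective
  have hsupp : ∀ z, (u (j z)).support ⊆ s' := by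
    intro z
    induction z using Finsupp.induction_linear with
    | zero => simp
    | add a b ha hb =>
      rw [map_add, map_add]
      exact (Finsupp.support_add).trans (Finset.union_subset ha hb)
    | single i c =>
      have h1 : j (Finsupp.single i c) = c • Finsupp.single (i : ι) (1 : R) := by
        change Finsupp.mapDomain Subtype.val (Finsupp.single i c) = _
        rw [Finsupp.mapDomain_single, Finsupp.smul_single, smul_eq_mul, mul_one]
      rw [h1, map_smul]
      refine (Finsupp.support_smul).trans ?_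
      exact Finset.subset_biUnion_of_mem (fun i => (u (Finsupp.single i 1)).support)
        (Finset.mem_coe.mp i.2)
  have hu₀ : Function.Injective (r ∘ₗ u ∘ₗ j) := by
    rw [injective_iff_map_eq_zero]
    intro z hz
    apply hj
    apply hu
    rw [map_zero, map_zero]
    ext k
    by_cases hk : k ∈ s'
    · have := DFunLike.congr_fun hz ⟨k, Finset.mem_coe.mpr hk⟩
      exact this
    · have : k ∉ (u (j z)).support := fun h => hk (hsupp z h)
      simpa using this
  obtain ⟨v, hv⟩ := exists_leftInverse_of_injective_of_finite_projective hP (r ∘ₗ u ∘ₗ j) hu₀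
  let t₀ : (↥(s : Set ι) →₀ R) ⊗[R] Q :=
    ∑ p ∈ S, (Finsupp.subtypeDomain (fun x => x ∈ (s : Set ι)) p.1) ⊗ₜ[R] p.2
  have ht₀ : j.rTensor Q t₀ = ∑ p ∈ S, p.1 ⊗ₜ[R] p.2 := by
    rw [map_sum]
    refine Finset.sum_congr rfl fun p hp => ?_
    rw [LinearMap.rTensor_tmul]
    congr 1
    change Finsupp.mapDomain Subtype.val _ = _
    have hsub : ∀ a ∈ p.1.support, a ∈ (s : Set ι) := fun a ha =>
      Finset.mem_coe.mpr (Finset.mem_biUnion.mpr ⟨p, hp, ha⟩)
    have := Finsupp.extendDomain_subtypeDomain p.1 hsub
    rw [Finsupp.extendDomain_eq_embDomain_subtype, Finsupp.embDomain_eq_mapDomain] at this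
    exact this
  have h0 : t₀ = 0 := by
    have h1 : ((v ∘ₗ r ∘ₗ u ∘ₗ j).rTensor Q) t₀ = t₀ := by
      rw [hv, LinearMap.rTensor_id, LinearMap.id_apply]
    rw [← h1, LinearMap.rTensor_comp, LinearMap.rTensor_comp, LinearMap.rTensor_comp]
    simp only [LinearMap.comp_apply]
    rw [ht₀, ht, map_zero, map_zero]
  rw [← ht₀, h0, map_zero]

/-- Over a ring with property (P), an injective map of projective modules is universally
injective. -/
theorem rTensor_injective_of_injective_of_projective (hP : PropertyP R)
    {N M : Type*} [AddCommGroup N] [Module R N] [Module.Projective R N]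
    [AddCommGroup M] [Module R M] [Module.Projective R M]
    (u : N →ₗ[R] M) (hu : Function.Injective u)
    (Q : Type*) [AddCommGroup Q] [Module R Q] : Function.Injective (u.rTensor Q) := by
  obtain ⟨iN, hN⟩ := Module.projective_def'.mp (inferInstance : Module.Projective R N)
  obtain ⟨iM, hM⟩ := Module.projective_def'.mp (inferInstance : Module.Projective R M)
  set pN : (N →₀ R) →ₗ[R] N := Finsupp.linearCombination R id with hpN
  set pM : (M →₀ R) →ₗ[R] M := Finsupp.linearCombination R id with hpM
  have hN' : ∀ x, pN (iN x) = x := fun x => LinearMap.congr_fun hN x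
  have hM' : ∀ x, pM (iM x) = x := fun x => LinearMap.congr_fun hM x
  have hiM : Function.Injective iM := Function.LeftInverse.injective hM'
  let e : ((M ⊕ N) →₀ R) ≃ₗ[R] (M →₀ R) × (N →₀ R) := Finsupp.sumFinsuppLEquivProdFinsupp R
  let u₀ : (N →₀ R) →ₗ[R] (M →₀ R) × (N →₀ R) :=
    LinearMap.prod (iM ∘ₗ u ∘ₗ pN) (LinearMap.id - iN ∘ₗ pN)
  have hu₀ : Function.Injective u₀ := by
    rw [injective_iff_map_eq_zero]
    intro z hz
    have h1 : iM (u (pN z)) = 0 := congrArg Prod.fst hz
    have h2 : z - iN (pN z) = 0 := congrArg Prod.snd hz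
    have h3 : pN z = 0 := by
      apply hu
      apply hiM
      rw [h1, map_zero, map_zero]
    rw [h3, map_zero, sub_zero] at h2
    exact h2
  let u₁ : (N →₀ R) →ₗ[R] ((M ⊕ N) →₀ R) := e.symm.toLinearMap ∘ₗ u₀
  have hu₁ : Function.Injective u₁ := e.symm.injective.comp hu₀
  have key := rTensor_injective_of_injective_free hP u₁ hu₁ Q
  -- `u₁ ∘ iN = e.symm ∘ inl ∘ iM ∘ u`
  have hcomp : u₁ ∘ₗ iN = (e.symm.toLinearMap ∘ₗ LinearMap.inl R _ _ ∘ₗ iM) ∘ₗ u := by
    ext x : 1
    change e.symm (iM (u (pN (iN x))), iN x - iN (pN (iN x))) = e.symm (iM (u x), 0)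
    rw [hN' x, sub_self]
  rw [injective_iff_map_eq_zero]
  intro t ht
  have h1 : (u₁.rTensor Q) ((iN.rTensor Q) t) = 0 := by
    rw [← LinearMap.comp_apply, ← LinearMap.rTensor_comp, hcomp, LinearMap.rTensor_comp,
      LinearMap.comp_apply, ht, map_zero]
  have h2 : (iN.rTensor Q) t = 0 := key (by rw [h1, map_zero])
  have h3 : ((pN ∘ₗ iN).rTensor Q) t = t := by
    rw [hN, LinearMap.rTensor_id, LinearMap.id_apply]
  rw [← h3, LinearMap.rTensor_comp, LinearMap.comp_apply, h2, map_zero]

end UniversallyInjective

end Groth.Agent.Lib.Helper47
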