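import Mathlib
import Groth.Prelude.Def_Found
import Groth.Prelude.Def_CAlgX
import Groth.Agent.Lib.Helper47.SmoothFlat
import Groth.Agent.Lib.Helper47.FlatFibreSmooth
import Groth.Agent.Lib.Helper90.GeomRegBridge

/-!
# Regular homomorphisms and formal smoothness of the local homomorphisms `A_p → B_q` (helper47)
-/

set_option autoImplicit false
universe u
open IsLocalRing TensorProduct

namespace Groth.Agent.Lib.Helper47.RegularLocal

variable {A B : Type u} [CommRing A] [CommRing B] [Algebra A B]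

/-- Formal smoothness of `A_p → B_q` for the adic topology of `B_q`. -/
def FS (p : Ideal A) [p.IsPrime] (q : Ideal B) [q.IsPrime] [q.LiesOver p] : Prop :=
  letI := Localization.AtPrime.algebraOfLiesOver p q
  CAlgX.IsAdicFormallySmooth (Localization.AtPrime p) (Localization.AtPrime q)
    (maximalIdeal (Localization.AtPrime q))

/-- Flatness of `A_p → B_q`. -/
def FL (p : Ideal A) [p.IsPrime] (q : Ideal B) [q.IsPrime] [q.LiesOver p] : Prop :=
  letI := Localization.AtPrime.algebraOfLiesOver p q
  Module.Flat (Localization.AtPrime p) (Localization.AtPrime q)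

theorem fs_congr (p p' : Ideal A) [p.IsPrime] [p'.IsPrime] (q : Ideal B) [q.IsPrime]
    [h : q.LiesOver p] [h' : q.LiesOver p'] : FS p q ↔ FS p' q := by
  have : p = p' := by rw [h.over, h'.over]
  subst this
  exact Iff.rfl

/-- Transport of adic formal smoothness along compatible ring isomorphisms, as an equivalence. -/
theorem isAdicFormallySmooth_ringEquiv_iff {k₁ k₂ A₁ A₂ : Type u} [CommRing k₁] [CommRing k₂]
    [CommRing A₁] [CommRing A₂] [Algebra k₁ A₁] [Algebra k₂ A₂] (σ : k₁ ≃+* k₂) (e : A₁ ≃+* A₂)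
    (hσe : ∀ x, e (algebraMap k₁ A₁ x) = algebraMap k₂ A₂ (σ x))
    (𝔫₁ : Ideal A₁) (𝔫₂ : Ideal A₂) (h𝔫 : 𝔫₁.map (e : A₁ →+* A₂) = 𝔫₂) :
    CAlgX.IsAdicFormallySmooth k₁ A₁ 𝔫₁ ↔ CAlgX.IsAdicFormallySmooth k₂ A₂ 𝔫₂ := by
  constructor
  · exact Groth.Agent.Lib.Helper47.SmoothFlat.isAdicFormallySmooth_of_ringEquiv σ e hσe 𝔫₁ 𝔫₂ h𝔫.le
  · have hσe' : ∀ y, e.symm (algebraMap k₂ A₂ y) = algebraMap k₁ A₁ (σ.symm y) := by
      intro y
      rw [RingEquiv.symm_apply_eq, hσe, RingEquiv.apply_symm_apply]
    refine Groth.Agent.Lib.Helper47.SmoothFlat.isAdicFormallySmooth_of_ringEquiv σ.symm e.symm hσe'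
      𝔫₂ 𝔫₁ ?_
    rw [← h𝔫, Ideal.map_map]
    have : (e.symm : A₂ →+* A₁).comp (e : A₁ →+* A₂) = RingHom.id A₁ := by
      ext x; simp
    rw [this, Ideal.map_id]

/-- Variant of `isAdicFormallySmooth_ringEquiv_iff` with a pointwise hypothesis on the ideals. -/
theorem isAdicFormallySmooth_ringEquiv_iff' {k₁ k₂ A₁ A₂ : Type u} [CommRing k₁] [CommRing k₂]
    [CommRing A₁] [CommRing A₂] [Algebra k₁ A₁] [Algebra k₂ A₂] (σ : k₁ ≃+* k₂) (e : A₁ ≃+* A₂)
    (hσe : ∀ x, e (algebraMap k₁ A₁ x) = algebraMap k₂ A₂ (σ x))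
    (𝔫₁ : Ideal A₁) (𝔫₂ : Ideal A₂) (h𝔫 : ∀ x, x ∈ 𝔫₁ ↔ e x ∈ 𝔫₂) :
    CAlgX.IsAdicFormallySmooth k₁ A₁ 𝔫₁ ↔ CAlgX.IsAdicFormallySmooth k₂ A₂ 𝔫₂ := by
  apply isAdicFormallySmooth_ringEquiv_iff σ e hσe
  apply le_antisymm
  · rw [Ideal.map_le_iff_le_comap]
    intro x hx
    exact (h𝔫 x).mp hx
  · intro y hy
    have h1 : e.symm y ∈ 𝔫₁ := by
      rw [h𝔫, RingEquiv.apply_symm_apply]
      exact hy
    have h2 := Ideal.mem_map_of_mem (e : A₁ →+* A₂) h1
    simpa using h2

/-- In a quotient of a local ring by a proper ideal, the image of the maximal ideal consists of the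
non-units. -/
theorem mem_map_mk_maximalIdeal_iff {S : Type*} [CommRing S] [IsLocalRing S] (I : Ideal S)
    (hI : I ≤ maximalIdeal S) (x : S ⧸ I) :
    x ∈ (maximalIdeal S).map (Ideal.Quotient.mk I) ↔ ¬ IsUnit x := by
  have hmk : Function.Surjective (Ideal.Quotient.mk I) := Ideal.Quotient.mk_surjective
  constructor
  · intro hx hu
    obtain ⟨b, hb, rfl⟩ := (Ideal.mem_map_iff_of_surjective _ hmk).mp hx
    obtain ⟨c, hc⟩ := hu.exists_right_inv
    obtain ⟨c', rfl⟩ := hmk c
    rw [← map_mul, ← map_one (Ideal.Quotient.mk I), Ideal.Quotient.eq] at hc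
    have h2 : b * c' - 1 ∈ maximalIdeal S := hI hc
    have h3 : b * c' ∈ maximalIdeal S := Ideal.mul_mem_right _ _ hb
    have h4 : (1 : S) ∈ maximalIdeal S := by
      have := Ideal.sub_mem _ h3 h2
      simpa using this
    exact (Ideal.ne_top_iff_one _).mp (Ideal.IsPrime.ne_top inferInstance) h4
  · intro hx
    obtain ⟨b, rfl⟩ := hmk x
    apply Ideal.mem_map_of_mem
    rw [mem_maximalIdeal, mem_nonunits_iff]
    intro hu
    exact hx (hu.map (Ideal.Quotient.mk I))

section core

variable [IsNoetherianRing A] [IsNoetherianRing B]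

/-- local-ring version of EGA 0_IV 19.7.1 -/
theorem isAdicFormallySmooth_iff_flat_and_fibre {R S : Type u} [CommRing R] [IsLocalRing R]
    [IsNoetherianRing R] [CommRing S] [IsLocalRing S] [IsNoetherianRing S] [Algebra R S]
    [IsLocalHom (algebraMap R S)] :
    CAlgX.IsAdicFormallySmooth R S (maximalIdeal S) ↔
      Module.Flat R S ∧ CAlgX.IsAdicFormallySmooth (R ⧸ maximalIdeal R)
        (S ⧸ (maximalIdeal R).map (algebraMap R S))
        ((maximalIdeal S).map (Ideal.Quotient.mk ((maximalIdeal R).map (algebraMap R S)))) := by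
  constructor
  · intro h
    haveI : Module.Flat R S := Groth.Agent.Lib.Helper47.SmoothFlat.flat_of_isAdicFormallySmooth h
    exact ⟨inferInstance, Groth.Agent.Lib.Helper47.isAdicFormallySmooth_fibre_of_flat h⟩
  · rintro ⟨hfl, h⟩
    haveI := hfl
    exact Groth.Agent.Lib.Helper47.isAdicFormallySmooth_of_flat_of_fibre h

set_option linter.style.haveILetI false in
theorem fs_iff_aux (p : Ideal A) [p.IsPrime]
    (Q : Ideal (p.Fiber B)) [Q.IsPrime] :
    FS p (Q.comap (Algebra.TensorProduct.includeRight : B →ₐ[A] p.Fiber B)) ↔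
      FL p (Q.comap (Algebra.TensorProduct.includeRight : B →ₐ[A] p.Fiber B)) ∧
      CAlgX.IsAdicFormallySmooth p.ResidueField (Localization.AtPrime Q)
        (maximalIdeal (Localization.AtPrime Q)) := by
  set q := Q.comap (Algebra.TensorProduct.includeRight : B →ₐ[A] p.Fiber B) with hq
  letI alg := Localization.AtPrime.algebraOfLiesOver p q
  haveI : Localization.AtPrime.IsLiesOverAlgebra p q := ⟨rfl⟩
  let e := Ideal.Fiber.localizationAlgEquivQuotient p Q
  haveI : IsLocalHom (algebraMap (Localization.AtPrime p) (Localization.AtPrime q)) := by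
    change IsLocalHom (Localization.localRingHom p q (algebraMap A B) _)
    infer_instance
  unfold FS FL
  rw [isAdicFormallySmooth_iff_flat_and_fibre]
  refine and_congr Iff.rfl ?_
  set I₁ := (maximalIdeal (Localization.AtPrime p)).map
    (algebraMap (Localization.AtPrime p) (Localization.AtPrime q)) with hI₁
  have hI : I₁ = p.map (algebraMap A (Localization.AtPrime q)) := by
    rw [hI₁, ← Localization.AtPrime.map_eq_maximalIdeal, Ideal.map_map,
      ← IsScalarTower.algebraMap_eq]
  let E : (Localization.AtPrime q ⧸ I₁) ≃+* Localization.AtPrime Q :=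
    (Ideal.quotEquivOfEq hI).trans e.symm.toRingEquiv
  let σ : (Localization.AtPrime p ⧸ maximalIdeal (Localization.AtPrime p)) ≃+* p.ResidueField :=
    RingEquiv.refl _
  have hI₁le : I₁ ≤ maximalIdeal (Localization.AtPrime q) :=
    IsLocalRing.map_maximalIdeal_le _
  have h𝔫 : ∀ x, x ∈ (maximalIdeal (Localization.AtPrime q)).map (Ideal.Quotient.mk I₁) ↔
      E x ∈ maximalIdeal (Localization.AtPrime Q) := by
    intro x
    rw [mem_map_mk_maximalIdeal_iff I₁ hI₁le, mem_maximalIdeal, mem_nonunits_iff, not_iff_not]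
    exact (isUnit_map_iff E x).symm
  have hσE : ∀ x, E (algebraMap _ _ x) = algebraMap p.ResidueField (Localization.AtPrime Q) (σ x) := by
    intro x
    obtain ⟨a, rfl⟩ := Ideal.Quotient.mk_surjective x
    have h1 : algebraMap (Localization.AtPrime p ⧸ maximalIdeal (Localization.AtPrime p))
        (Localization.AtPrime q ⧸ I₁) (Ideal.Quotient.mk _ a) =
        Ideal.Quotient.mk I₁ (algebraMap (Localization.AtPrime p) (Localization.AtPrime q) a) := rfl
    rw [h1]
    change e.symm (Ideal.Quotient.mk _ (algebraMap (Localization.AtPrime p) (Localization.AtPrime q) a)) = _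
    have h2 : Ideal.Quotient.mk (p.map (algebraMap A (Localization.AtPrime q)))
        (algebraMap (Localization.AtPrime p) (Localization.AtPrime q) a) =
        algebraMap (Localization.AtPrime p) (Localization.AtPrime q ⧸ p.map (algebraMap A (Localization.AtPrime q))) a := rfl
    rw [h2, AlgEquiv.commutes]
    rw [IsScalarTower.algebraMap_apply (Localization.AtPrime p) p.ResidueField (Localization.AtPrime Q)]
    rfl
  exact isAdicFormallySmooth_ringEquiv_iff'
    (k₁ := Localization.AtPrime p ⧸ maximalIdeal (Localization.AtPrime p))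
    (k₂ := p.ResidueField) (A₁ := Localization.AtPrime q ⧸ I₁) (A₂ := Localization.AtPrime Q)
    σ E hσE _ _ h𝔫

theorem fs_iff (p : Ideal A) [p.IsPrime] (Q : Ideal (p.Fiber B)) [Q.IsPrime]
    (q : Ideal B) [q.IsPrime] [q.LiesOver p]
    (hq : Q.comap (Algebra.TensorProduct.includeRight : B →ₐ[A] p.Fiber B) = q) :
    FS p q ↔ FL p q ∧ CAlgX.IsAdicFormallySmooth p.ResidueField (Localization.AtPrime Q)
        (maximalIdeal (Localization.AtPrime Q)) := by
  subst hq
  exact fs_iff_aux p Q

omit [IsNoetherianRing A] in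
/-- The fibre ring of a Noetherian algebra is Noetherian. -/
theorem isNoetherianRing_fiber (p : Ideal A) [p.IsPrime] : IsNoetherianRing (p.Fiber B) := by
  have h1 : IsNoetherianRing (B ⊗[A] p.ResidueField) :=
    Algebra.EssFiniteType.isNoetherianRing B _
  exact isNoetherianRing_of_ringEquiv _
    (Algebra.TensorProduct.comm A B p.ResidueField).toRingEquiv

omit [IsNoetherianRing A] [IsNoetherianRing B] in
theorem fl_of_flat [Module.Flat A B] (p : Ideal A) [p.IsPrime] (q : Ideal B) [q.IsPrime]
    [q.LiesOver p] : FL p q := by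
  unfold FL
  letI alg := Localization.AtPrime.algebraOfLiesOver p q
  haveI : Localization.AtPrime.IsLiesOverAlgebra p q := ⟨rfl⟩
  infer_instance

theorem fl_of_fs (p : Ideal A) [p.IsPrime] (q : Ideal B) [q.IsPrime] [q.LiesOver p]
    (h : FS p q) : FL p q := by
  unfold FS at h
  unfold FL
  letI alg := Localization.AtPrime.algebraOfLiesOver p q
  haveI : IsLocalHom (algebraMap (Localization.AtPrime p) (Localization.AtPrime q)) := by
    change IsLocalHom (Localization.localRingHom p q (algebraMap A B) _)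
    infer_instance
  exact Groth.Agent.Lib.Helper47.SmoothFlat.flat_of_isAdicFormallySmooth h

/-- **Regularity is local**: `A → B` (Noetherian rings) is a regular homomorphism iff all
`A_p → B_q` are formally smooth for the adic topologies. -/
theorem isRegularHom_iff_forall_fs :
    CAlg.IsRegularHom A B ↔ ∀ (q : Ideal B) [q.IsPrime], FS (q.under A) q := by
  constructor
  · rintro ⟨hflat, hfib⟩ q _
    haveI := hflat
    set p := q.under A with hp
    obtain ⟨hN, hG⟩ := hfib p
    haveI := hN
    -- the prime of the fibre corresponding to `q`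
    let Q' := PrimeSpectrum.preimageEquivFiber A B ⟨p, inferInstance⟩ ⟨⟨q, inferInstance⟩, rfl⟩
    haveI : Q'.asIdeal.IsPrime := Q'.2
    have hQ : Q'.asIdeal.comap (Algebra.TensorProduct.includeRight : B →ₐ[A] p.Fiber B) = q := by
      have h1 := (PrimeSpectrum.preimageEquivFiber A B ⟨p, inferInstance⟩).symm_apply_apply
        ⟨⟨q, inferInstance⟩, rfl⟩
      have h2 := congrArg (fun x => x.1.asIdeal) h1
      exact h2
    refine (fs_iff p Q'.asIdeal q hQ).mpr ⟨fl_of_flat p q, ?_⟩
    exact (Groth.Agent.Lib.Helper90.GeomRegBridge.isGeometricallyRegular_iff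
      (k := p.ResidueField) (S := p.Fiber B)).mp hG Q'.asIdeal
  · intro h
    refine ⟨?_, ?_⟩
    · rw [← RingHom.flat_algebraMap_iff]
      apply RingHom.Flat.ofLocalizationPrime
      intro J hJ
      haveI := hJ
      exact fl_of_fs (J.under A) J (h J)
    · intro p _
      haveI hN : IsNoetherianRing (p.Fiber B) := isNoetherianRing_fiber p
      refine ⟨hN, ?_⟩
      rw [Groth.Agent.Lib.Helper90.GeomRegBridge.isGeometricallyRegular_iff]
      intro Q _
      have h1 := h (Q.comap (Algebra.TensorProduct.includeRight : B →ₐ[A] p.Fiber B))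
      have h2 : FS p (Q.comap (Algebra.TensorProduct.includeRight : B →ₐ[A] p.Fiber B)) :=
        (fs_congr _ _ _).mp h1
      exact ((fs_iff_aux p Q).mp h2).2

end core

end Groth.Agent.Lib.Helper47.RegularLocal
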