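import Groth.Agent.Lib.Helper47.RegularLocal

/-!
# Regularity of a ring map is local (helper47)

Continuation of `RegularLocal`: no Noetherian hypothesis on the base.
-/

set_option autoImplicit false
set_option linter.style.haveILetI false
universe u
open IsLocalRing TensorProduct

namespace Groth.Agent.Lib.Helper47.RegularLocal

variable {A B : Type u} [CommRing A] [CommRing B] [Algebra A B]

theorem fl_congr (p p' : Ideal A) [p.IsPrime] [p'.IsPrime] (q : Ideal B) [q.IsPrime]
    [h : q.LiesOver p] [h' : q.LiesOver p'] : FL p q ↔ FL p' q := by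
  have : p = p' := by rw [h.over, h'.over]
  subst this
  exact Iff.rfl

theorem fs_congr' (p p' : Ideal A) [p.IsPrime] [p'.IsPrime] (q q' : Ideal B) [q.IsPrime]
    [q'.IsPrime] [q.LiesOver p] [q'.LiesOver p'] (hq : q = q') : FS p q ↔ FS p' q' := by
  subst hq
  exact fs_congr p p' q

theorem fl_congr' (p p' : Ideal A) [p.IsPrime] [p'.IsPrime] (q q' : Ideal B) [q.IsPrime]
    [q'.IsPrime] [q.LiesOver p] [q'.LiesOver p'] (hq : q = q') : FL p q ↔ FL p' q' := by
  subst hq
  exact fl_congr p p' q

/-- The closed fibre of `A_p → B_q` is the local ring of the fibre `κ(p) ⊗ B` at `q`; formal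
smoothness over the residue field transfers. -/
theorem fibre_iff (p : Ideal A) [p.IsPrime] (Q : Ideal (p.Fiber B)) [Q.IsPrime] :
    letI alg := Localization.AtPrime.algebraOfLiesOver p
      (Q.comap (Algebra.TensorProduct.includeRight : B →ₐ[A] p.Fiber B))
    CAlgX.IsAdicFormallySmooth (Localization.AtPrime p ⧸ maximalIdeal (Localization.AtPrime p))
        (Localization.AtPrime (Q.comap (Algebra.TensorProduct.includeRight : B →ₐ[A] p.Fiber B)) ⧸
          (maximalIdeal (Localization.AtPrime p)).map (algebraMap (Localization.AtPrime p)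
            (Localization.AtPrime
              (Q.comap (Algebra.TensorProduct.includeRight : B →ₐ[A] p.Fiber B)))))
        ((maximalIdeal (Localization.AtPrime
          (Q.comap (Algebra.TensorProduct.includeRight : B →ₐ[A] p.Fiber B)))).map
            (Ideal.Quotient.mk _)) ↔
      CAlgX.IsAdicFormallySmooth p.ResidueField (Localization.AtPrime Q)
        (maximalIdeal (Localization.AtPrime Q)) := by
  set q := Q.comap (Algebra.TensorProduct.includeRight : B →ₐ[A] p.Fiber B) with hq
  letI alg := Localization.AtPrime.algebraOfLiesOver p q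
  haveI : Localization.AtPrime.IsLiesOverAlgebra p q := ⟨rfl⟩
  let e := Ideal.Fiber.localizationAlgEquivQuotient p Q
  haveI : IsLocalHom (algebraMap (Localization.AtPrime p) (Localization.AtPrime q)) := by
    change IsLocalHom (Localization.localRingHom p q (algebraMap A B) _)
    infer_instance
  set I₁ := (maximalIdeal (Localization.AtPrime p)).map
    (algebraMap (Localization.AtPrime p) (Localization.AtPrime q)) with hI₁
  have hI : I₁ = p.map (algebraMap A (Localization.AtPrime q)) := by
    rw [hI₁, ← Localization.AtPrime.map_eq_maximalIdeal, Ideal.map_map,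
      ← IsScalarTower.algebraMap_eq]
  let E : (Localization.AtPrime q ⧸ I₁) ≃+* Localization.AtPrime Q :=
    (Ideal.quotEquivOfEq hI).trans e.symm.toRingEquiv
  let σ : (Localization.AtPrime p ⧸ maximalIdeal (Localization.AtPrime p)) ≃+* p.ResidueField :=
    RingEquiv.refl _
  have hI₁le : I₁ ≤ maximalIdeal (Localization.AtPrime q) :=
    IsLocalRing.map_maximalIdeal_le _
  have h𝔫 : ∀ x, x ∈ (maximalIdeal (Localization.AtPrime q)).map (Ideal.Quotient.mk I₁) ↔
      E x ∈ maximalIdeal (Localization.AtPrime Q) := by
    intro x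
    rw [mem_map_mk_maximalIdeal_iff I₁ hI₁le, mem_maximalIdeal, mem_nonunits_iff, not_iff_not]
    exact (isUnit_map_iff E x).symm
  have hσE : ∀ x, E (algebraMap _ _ x) =
      algebraMap p.ResidueField (Localization.AtPrime Q) (σ x) := by
    intro x
    obtain ⟨a, rfl⟩ := Ideal.Quotient.mk_surjective x
    have h1 : algebraMap (Localization.AtPrime p ⧸ maximalIdeal (Localization.AtPrime p))
        (Localization.AtPrime q ⧸ I₁) (Ideal.Quotient.mk _ a) =
        Ideal.Quotient.mk I₁ (algebraMap (Localization.AtPrime p) (Localization.AtPrime q) a) := rfl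
    rw [h1]
    change e.symm (Ideal.Quotient.mk _
      (algebraMap (Localization.AtPrime p) (Localization.AtPrime q) a)) = _
    have h2 : Ideal.Quotient.mk (p.map (algebraMap A (Localization.AtPrime q)))
        (algebraMap (Localization.AtPrime p) (Localization.AtPrime q) a) =
        algebraMap (Localization.AtPrime p)
          (Localization.AtPrime q ⧸ p.map (algebraMap A (Localization.AtPrime q))) a := rfl
    rw [h2, AlgEquiv.commutes]
    rw [IsScalarTower.algebraMap_apply (Localization.AtPrime p) p.ResidueField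
      (Localization.AtPrime Q)]
    rfl
  exact isAdicFormallySmooth_ringEquiv_iff'
    (k₁ := Localization.AtPrime p ⧸ maximalIdeal (Localization.AtPrime p))
    (k₂ := p.ResidueField) (A₁ := Localization.AtPrime q ⧸ I₁) (A₂ := Localization.AtPrime Q)
    σ E hσE _ _ h𝔫

variable [IsNoetherianRing B]

theorem fs_iff_of_fl (p : Ideal A) [p.IsPrime] (Q : Ideal (p.Fiber B)) [Q.IsPrime]
    (hfl : FL p (Q.comap (Algebra.TensorProduct.includeRight : B →ₐ[A] p.Fiber B))) :
    FS p (Q.comap (Algebra.TensorProduct.includeRight : B →ₐ[A] p.Fiber B)) ↔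
      CAlgX.IsAdicFormallySmooth p.ResidueField (Localization.AtPrime Q)
        (maximalIdeal (Localization.AtPrime Q)) := by
  rw [← fibre_iff p Q]
  set q := Q.comap (Algebra.TensorProduct.includeRight : B →ₐ[A] p.Fiber B) with hq
  letI alg := Localization.AtPrime.algebraOfLiesOver p q
  haveI : IsLocalHom (algebraMap (Localization.AtPrime p) (Localization.AtPrime q)) := by
    change IsLocalHom (Localization.localRingHom p q (algebraMap A B) _)
    infer_instance
  haveI : Module.Flat (Localization.AtPrime p) (Localization.AtPrime q) := hfl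
  constructor
  · intro h
    exact Groth.Agent.Lib.Helper47.isAdicFormallySmooth_fibre_of_flat h
  · intro h
    exact Groth.Agent.Lib.Helper47.isAdicFormallySmooth_of_flat_of_fibre h

theorem fs_iff_of_fl' (p : Ideal A) [p.IsPrime] (Q : Ideal (p.Fiber B)) [Q.IsPrime]
    (q : Ideal B) [q.IsPrime] [q.LiesOver p]
    (hq : Q.comap (Algebra.TensorProduct.includeRight : B →ₐ[A] p.Fiber B) = q)
    (hfl : FL p q) :
    FS p q ↔ CAlgX.IsAdicFormallySmooth p.ResidueField (Localization.AtPrime Q)
        (maximalIdeal (Localization.AtPrime Q)) := by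
  subst hq
  exact fs_iff_of_fl p Q hfl

/-- **Regularity is local** (base not necessarily Noetherian). -/
theorem isRegularHom_iff_forall_fl_fs :
    CAlg.IsRegularHom A B ↔
      ∀ (q : Ideal B) [q.IsPrime], FL (q.under A) q ∧ FS (q.under A) q := by
  constructor
  · rintro ⟨hflat, hfib⟩ q _
    haveI := hflat
    set p := q.under A with hp
    obtain ⟨hN, hG⟩ := hfib p
    haveI := hN
    let Q' := PrimeSpectrum.preimageEquivFiber A B ⟨p, inferInstance⟩ ⟨⟨q, inferInstance⟩, rfl⟩
    haveI : Q'.asIdeal.IsPrime := Q'.2
    have hQ : Q'.asIdeal.comap (Algebra.TensorProduct.includeRight : B →ₐ[A] p.Fiber B) = q := by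
      have h1 := (PrimeSpectrum.preimageEquivFiber A B ⟨p, inferInstance⟩).symm_apply_apply
        ⟨⟨q, inferInstance⟩, rfl⟩
      have h2 := congrArg (fun x => x.1.asIdeal) h1
      exact h2
    have hfl : FL p q := fl_of_flat p q
    refine ⟨hfl, (fs_iff_of_fl' p Q'.asIdeal q hQ hfl).mpr ?_⟩
    exact (Groth.Agent.Lib.Helper90.GeomRegBridge.isGeometricallyRegular_iff
      (k := p.ResidueField) (S := p.Fiber B)).mp hG Q'.asIdeal
  · intro h
    refine ⟨?_, ?_⟩
    · rw [← RingHom.flat_algebraMap_iff]
      apply RingHom.Flat.ofLocalizationPrime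
      intro J hJ
      haveI := hJ
      exact (h J).1
    · intro p _
      haveI hN : IsNoetherianRing (p.Fiber B) := isNoetherianRing_fiber p
      refine ⟨hN, ?_⟩
      rw [Groth.Agent.Lib.Helper90.GeomRegBridge.isGeometricallyRegular_iff]
      intro Q _
      have h1 := h (Q.comap (Algebra.TensorProduct.includeRight : B →ₐ[A] p.Fiber B))
      have h2 : FS p (Q.comap (Algebra.TensorProduct.includeRight : B →ₐ[A] p.Fiber B)) :=
        (fs_congr _ _ _).mp h1.2
      have h3 : FL p (Q.comap (Algebra.TensorProduct.includeRight : B →ₐ[A] p.Fiber B)) :=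
        (fl_congr _ _ _).mp h1.1
      exact (fs_iff_of_fl p Q h3).mp h2

end Groth.Agent.Lib.Helper47.RegularLocal
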