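import Mathlib
import Groth.Agent.Lib.Helper47.FibreChartField
import Groth.Agent.Lib.Helper47.GeomRegTransport
import Groth.Agent.Lib.Helper47.GeomRegStalk

/-!
# Regular morphisms: affine-local form versus flat with geometrically regular fibres (helper47)
-/

set_option autoImplicit false
set_option linter.style.haveILetI false
universe u
open AlgebraicGeometry CategoryTheory Limits TopologicalSpace TensorProduct Opposite
open Groth.Agent.Lib.Helper69 Groth.Agent.Lib.Helper13.GenFibre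

namespace Groth.Agent.Lib.Helper47.RegularMorFibres

open FibreChartField GeomRegTransport GeomRegStalk

variable {X Y : Scheme.{u}} (f : X ⟶ Y) {V : Y.Opens} (hV : IsAffineOpen V) {U : X.Opens}
  (hU : IsAffineOpen U) (e : U ≤ f ⁻¹ᵁ V) (z : Spec Γ(Y, V))

include hU e in
theorem isAffineOpen_chart : IsAffineOpen ((f.fiberι (hV.fromSpec z)) ⁻¹ᵁ U) := by
  have h1 : IsAffineOpen (fibChart f hV hU e z).opensRange := isAffineOpen_opensRange _
  have h2 : (fibChart f hV hU e z).opensRange = (f.fiberι (hV.fromSpec z)) ⁻¹ᵁ U := by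
    apply Opens.ext
    exact range_fibChart f hV hU e z
  rwa [h2] at h1

/-- The residue field comparison as a ring isomorphism. -/
noncomputable def σ : ↑(Y.residueField (hV.fromSpec z)) ≃+* z.asIdeal.ResidueField :=
  (asIso (resFieldHom hV z)).commRingCatIsoToRingEquiv

/-- The chart as a ring isomorphism. -/
noncomputable def θ :
    letI : Algebra Γ(Y, V) Γ(X, U) := (f.appLE V U e).hom.toAlgebra
    ↑Γ(f.fiber (hV.fromSpec z), (f.fiberι (hV.fromSpec z)) ⁻¹ᵁ U) ≃+*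
      z.asIdeal.Fiber Γ(X, U) :=
  letI : Algebra Γ(Y, V) Γ(X, U) := (f.appLE V U e).hom.toAlgebra
  (asIso (fibChartRingHom f hV hU e z)).commRingCatIsoToRingEquiv

theorem θ_algebraMap (c : ↑(Y.residueField (hV.fromSpec z))) :
    letI : Algebra Γ(Y, V) Γ(X, U) := (f.appLE V U e).hom.toAlgebra
    θ f hV hU e z ((fibreStructureHom f (hV.fromSpec z) ((f.fiberι (hV.fromSpec z)) ⁻¹ᵁ U)).hom c) =
      algebraMap z.asIdeal.ResidueField (z.asIdeal.Fiber Γ(X, U)) (σ hV z c) := by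
  letI : Algebra Γ(Y, V) Γ(X, U) := (f.appLE V U e).hom.toAlgebra
  have h := fibreStructureHom_comp_fibChartRingHom f hV hU e z
  exact congrArg (fun ψ => ψ.hom c) h

include hU in
/-- The fibre ring of the affine chart versus the coordinate ring of the chart of the fibre. -/
theorem chart_iff :
    letI : Algebra Γ(Y, V) Γ(X, U) := (f.appLE V U e).hom.toAlgebra
    letI : Algebra ↑(Y.residueField (hV.fromSpec z))
        ↑Γ(f.fiber (hV.fromSpec z), (f.fiberι (hV.fromSpec z)) ⁻¹ᵁ U) :=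
      (fibreStructureHom f (hV.fromSpec z) ((f.fiberι (hV.fromSpec z)) ⁻¹ᵁ U)).hom.toAlgebra
    (IsNoetherianRing ↑Γ(f.fiber (hV.fromSpec z), (f.fiberι (hV.fromSpec z)) ⁻¹ᵁ U) ∧
      CAlg.IsGeometricallyRegular ↑(Y.residueField (hV.fromSpec z))
        ↑Γ(f.fiber (hV.fromSpec z), (f.fiberι (hV.fromSpec z)) ⁻¹ᵁ U)) ↔
    (IsNoetherianRing (z.asIdeal.Fiber Γ(X, U)) ∧
      CAlg.IsGeometricallyRegular z.asIdeal.ResidueField (z.asIdeal.Fiber Γ(X, U))) := by
  letI : Algebra Γ(Y, V) Γ(X, U) := (f.appLE V U e).hom.toAlgebra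
  letI : Algebra ↑(Y.residueField (hV.fromSpec z))
      ↑Γ(f.fiber (hV.fromSpec z), (f.fiberι (hV.fromSpec z)) ⁻¹ᵁ U) :=
    (fibreStructureHom f (hV.fromSpec z) ((f.fiberι (hV.fromSpec z)) ⁻¹ᵁ U)).hom.toAlgebra
  have hθ := θ_algebraMap f hV hU e z
  constructor
  · rintro ⟨h1, h2⟩
    exact ⟨isNoetherianRing_of_ringEquiv _ (θ f hV hU e z),
      isGeometricallyRegular_of_semilinear (σ hV z) (θ f hV hU e z) hθ h2⟩
  · rintro ⟨h1, h2⟩
    refine ⟨isNoetherianRing_of_ringEquiv _ (θ f hV hU e z).symm,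
      isGeometricallyRegular_of_semilinear (σ hV z).symm (θ f hV hU e z).symm ?_ h2⟩
    intro c
    obtain ⟨c', rfl⟩ := (σ hV z).surjective c
    rw [RingEquiv.symm_apply_apply, RingEquiv.symm_apply_eq]
    exact (hθ c').symm

section main

variable {X Y : Scheme.{u}} (f : X ⟶ Y)

theorem fiberι_mem_preimage {V : Y.Opens} (y : Y) (hy : y ∈ V) (x : f.fiber y) :
    f.fiberι y x ∈ f ⁻¹ᵁ V := by
  have h1 : f.fiberι y x ∈ Set.range (f.fiberι y) := ⟨x, rfl⟩
  rw [f.range_fiberι y] at h1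
  have h2 : f (f.fiberι y x) = y := h1
  change f (f.fiberι y x) ∈ V
  rw [h2]; exact hy

theorem exists_affine_nhd (Z : Scheme.{u}) (W : Z.Opens) (x : Z) (hx : x ∈ W) :
    ∃ U : Z.Opens, IsAffineOpen U ∧ x ∈ U ∧ U ≤ W := by
  obtain ⟨U, hU, hxU, hUW⟩ := Opens.isBasis_iff_nbhd.mp Z.isBasis_affineOpens hx
  exact ⟨U, hU, hxU, hUW⟩

theorem regular_iff (hN : ∀ y : Y, IsLocallyNoetherian (f.fiber y)) :
    (∀ (U : X.Opens) (V : Y.Opens) (hU : IsAffineOpen U) (hV : IsAffineOpen V) (hUV : U ≤ f ⁻¹ᵁ V),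
        letI := (f.appLE V U hUV).hom.toAlgebra
        CAlg.IsRegularHom Γ(Y, V) Γ(X, U)) ↔
      Flat f ∧ ∀ (y : Y) (W : (f.fiber y).Opens), IsAffineOpen W →
        letI : Algebra ↑(Y.residueField y) ↑Γ(f.fiber y, W) :=
          ((Scheme.ΓSpecIso (Y.residueField y)).inv ≫ (f.fiberToSpecResidueField y).appTop ≫
          (f.fiber y).presheaf.map (homOfLE le_top).op).hom.toAlgebra
        IsNoetherianRing ↑Γ(f.fiber y, W) ∧
          CAlg.IsGeometricallyRegular ↑(Y.residueField y) ↑Γ(f.fiber y, W) := by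
  constructor
  · intro H
    refine ⟨⟨fun {V} hV {U} hU e => (H U V hU hV e).1⟩, ?_⟩
    intro y W hW
    haveI := hN y
    have hNW : IsNoetherianRing Γ(f.fiber y, W) :=
      IsLocallyNoetherian.component_noetherian ⟨W, hW⟩
    refine ⟨hNW, ?_⟩
    let φ : ↑(Y.residueField y) →+* Γ(f.fiber y, ⊤) :=
      ((Scheme.ΓSpecIso (Y.residueField y)).inv ≫ (f.fiberToSpecResidueField y).appTop).hom
    refine (isGeometricallyRegular_iff_stalkSmooth φ hW hNW).mpr ?_
    intro x hx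
    obtain ⟨V, hV, hyV, -⟩ := exists_affine_nhd Y ⊤ y trivial
    obtain ⟨z, rfl⟩ : ∃ z, hV.fromSpec z = y :=
      ⟨hV.primeIdealOf ⟨y, hyV⟩, hV.fromSpec_primeIdealOf _⟩
    obtain ⟨U, hU, hxU, hUV⟩ := exists_affine_nhd X (f ⁻¹ᵁ V) _
      (fiberι_mem_preimage f _ hyV x)
    have hW₁ := isAffineOpen_chart f hV hU hUV z
    have hreg := (H U V hU hV hUV).2 z.asIdeal
    have h2 := (chart_iff f hV hU hUV z).mpr hreg
    exact (isGeometricallyRegular_iff_stalkSmooth φ hW₁ h2.1).mp h2.2 x hxU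
  · rintro ⟨hflat, hfib⟩ U V hU hV hUV
    refine ⟨hflat.flat_appLE hV hU hUV, fun p hp => ?_⟩
    have hW₁ := isAffineOpen_chart f hV hU hUV ⟨p, hp⟩
    have h1 := hfib (hV.fromSpec ⟨p, hp⟩) _ hW₁
    exact (chart_iff f hV hU hUV ⟨p, hp⟩).mp h1

end main

end Groth.Agent.Lib.Helper47.RegularMorFibres
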