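import Mathlib
import Groth.Agent.Lib.Helper47.ComplLocalIso
import Groth.Agent.Lib.Helper47.ComplMapFinite
import Groth.Agent.Lib.Helper44.AdicQuot
import Groth.Agent.S0543

/-!
# Quotients of an adic completion with conormal module killed by a power of the ideal

Let `B` be a Noetherian ring, `𝔞` an ideal, `B^` the `𝔞`-adic completion and `π : B^ → C` a
surjection with kernel `J` such that `𝔞^c J ⊆ J²`. Then `C` is the completion of a finite type
`B`-algebra (`main`).

Outline: the determinant trick gives `g_i` killing `J` with `g_i ≡ q_i := f_i^{N_i}` mod `J`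
(`exists_killer`); flatness of `B → B^` approximates `g_i = b_i + q_i h` with `b_i ∈ B`, `h ∈ 𝔞 B^`
(`exists_approx`, `exists_data`); `D₂ = B[X, X⁻¹]/(q_i X - b_i)` maps to `C` by `X ↦ 1 - π h`, and the
kernel of `D₂^ → C` is killed by the `q_i q_j`; such elements come from `D₂` (`exists_of_killed`),
so `C` is the completion of a quotient of `D₂` (`exists_ringEquiv_completion`).
-/

set_option autoImplicit false
universe u

open Groth.Agent.Lib.Helper47.ComplLocalIso

namespace Groth.Agent.Lib.Helper47.RigClosedAlg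

section Part1
open Groth.Agent.Lib.Helper47.ComplLocalIso

section tools

variable {O C : Type*} [CommRing O] [CommRing C]

theorem eq_of_forall_mk_eq' (𝔐 : Ideal C) [IsHausdorff 𝔐 C] (x y : C)
    (h : ∀ n, x - y ∈ 𝔐 ^ n) : x = y := by
  rw [← sub_eq_zero]
  apply IsHausdorff.haus (inferInstance : IsHausdorff 𝔐 C)
  intro n
  rw [SModEq.sub_mem, sub_zero, smul_eq_mul, Ideal.mul_top]
  exact h n

/-- density of a ring in its adic completion -/
theorem dense_of (m : Ideal O) (hm : m.FG) (n : ℕ) (z : AdicCompletion m O) :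
    ∃ o : O, z - algebraMap O (AdicCompletion m O) o ∈
      (m ^ n).map (algebraMap O (AdicCompletion m O)) := by
  obtain ⟨o, ho⟩ := Ideal.Quotient.mk_surjective (AdicCompletion.evalₐ m n z)
  refine ⟨o, ?_⟩
  apply Groth.Agent.Lib.Helper47.ComplMap.mem_map_pow_of_evalₐ_eq_zero m hm n
  rw [map_sub, ← ho]
  change _ - AdicCompletion.evalₐ m n (AdicCompletion.of m O o) = 0
  rw [AdicCompletion.evalₐ_of, sub_self]

theorem evalₐ_eq_zero_of_mem (m : Ideal O) (n : ℕ) (z : AdicCompletion m O)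
    (hz : z ∈ (m ^ n).map (algebraMap O (AdicCompletion m O))) :
    AdicCompletion.evalₐ m n z = 0 := by
  have : (m ^ n).map (algebraMap O (AdicCompletion m O)) ≤
      RingHom.ker (AdicCompletion.evalₐ m n).toRingHom := by
    rw [Ideal.map_le_iff_le_comap]
    intro o ho
    rw [Ideal.mem_comap, RingHom.mem_ker]
    change AdicCompletion.evalₐ m n (AdicCompletion.of m O o) = 0
    rw [AdicCompletion.evalₐ_of]
    exact Ideal.Quotient.eq_zero_iff_mem.mpr ho
  exact this hz

/-- strictness of a ring in its adic completion -/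
theorem strict_of (m : Ideal O) (n : ℕ) (o : O)
    (ho : algebraMap O (AdicCompletion m O) o ∈ (m ^ n).map (algebraMap O (AdicCompletion m O))) :
    o ∈ m ^ n := by
  have h := evalₐ_eq_zero_of_mem m n _ ho
  change AdicCompletion.evalₐ m n (AdicCompletion.of m O o) = 0 at h
  rw [AdicCompletion.evalₐ_of] at h
  exact Ideal.Quotient.eq_zero_iff_mem.mp h

/-- Universal property of the adic completion. -/
theorem exists_lift (m : Ideal O) (𝔐 : Ideal C) [IsAdicComplete 𝔐 C] (φ : O →+* C)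
    (h1 : m.map φ ≤ 𝔐) :
    ∃ Ψ : AdicCompletion m O →+* C, ∀ o, Ψ (algebraMap O (AdicCompletion m O) o) = φ o := by
  have hle : ∀ n : ℕ, m ^ n ≤ (𝔐 ^ n).comap φ := by
    intro n
    rw [← Ideal.map_le_iff_le_comap, Ideal.map_pow]
    exact Ideal.pow_right_mono h1 n
  let f : (n : ℕ) → AdicCompletion m O →+* C ⧸ 𝔐 ^ n := fun n =>
    (Ideal.quotientMap (𝔐 ^ n) φ (hle n)).comp
      (AdicCompletion.evalₐ m n : AdicCompletion m O →+* O ⧸ m ^ n)
  have hfmk : ∀ (n : ℕ) (z : AdicCompletion m O) (a : O),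
      AdicCompletion.evalₐ m n z = Ideal.Quotient.mk _ a → f n z = Ideal.Quotient.mk _ (φ a) := by
    intro n z a ha
    change Ideal.quotientMap (𝔐 ^ n) φ (hle n) (AdicCompletion.evalₐ m n z) = _
    rw [ha, Ideal.quotientMap_mk]
  have hf : ∀ {a b : ℕ} (hab : a ≤ b),
      (Ideal.Quotient.factorPow 𝔐 hab).comp (f b) = f a := by
    intro a b hab
    ext z
    obtain ⟨o, ho⟩ := Ideal.Quotient.mk_surjective (AdicCompletion.evalₐ m b z)
    have ho' : AdicCompletion.evalₐ m a z = Ideal.Quotient.mk _ o := by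
      rw [← factor_evalₐ m hab z, ← ho, Ideal.Quotient.factor_mk]
    rw [RingHom.comp_apply, hfmk b z o ho.symm, hfmk a z o ho']
    rfl
  let Ψ : AdicCompletion m O →+* C := IsAdicComplete.liftRingHom 𝔐 f hf
  have hΨ : ∀ n z, Ideal.Quotient.mk (𝔐 ^ n) (Ψ z) = f n z :=
    fun n z => IsAdicComplete.mk_liftRingHom 𝔐 f hf n z
  refine ⟨Ψ, fun o => ?_⟩
  refine eq_of_forall_mk_eq' 𝔐 _ _ fun n => ?_
  rw [← Ideal.Quotient.eq, hΨ n]
  exact hfmk n _ o (AdicCompletion.evalₐ_of m n o)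

/-- Ring maps out of an adic completion into a separated ring are determined on the ring. -/
theorem ringHom_ext_of_dense (m : Ideal O) (hm : m.FG) (𝔐 : Ideal C) [IsHausdorff 𝔐 C]
    (ψ₁ ψ₂ : AdicCompletion m O →+* C)
    (h1 : m.map (ψ₁.comp (algebraMap O (AdicCompletion m O))) ≤ 𝔐)
    (h : ∀ o, ψ₁ (algebraMap O _ o) = ψ₂ (algebraMap O _ o)) : ψ₁ = ψ₂ := by
  have h2 : m.map (ψ₂.comp (algebraMap O (AdicCompletion m O))) ≤ 𝔐 := by
    have : ψ₂.comp (algebraMap O (AdicCompletion m O)) =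
        ψ₁.comp (algebraMap O (AdicCompletion m O)) := RingHom.ext fun o => (h o).symm
    rwa [this]
  have key : ∀ (ψ : AdicCompletion m O →+* C),
      m.map (ψ.comp (algebraMap O (AdicCompletion m O))) ≤ 𝔐 → ∀ n z,
      z ∈ (m ^ n).map (algebraMap O (AdicCompletion m O)) → ψ z ∈ 𝔐 ^ n := by
    intro ψ hψ n z hz
    have h3 : ψ z ∈ ((m ^ n).map (algebraMap O (AdicCompletion m O))).map ψ :=
      Ideal.mem_map_of_mem ψ hz
    rw [Ideal.map_map, Ideal.map_pow] at h3
    exact Ideal.pow_right_mono hψ n h3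
  ext z
  refine eq_of_forall_mk_eq' 𝔐 _ _ fun n => ?_
  obtain ⟨o, ho⟩ := dense_of m hm n z
  have e : ψ₁ z - ψ₂ z = ψ₁ (z - algebraMap O _ o) - ψ₂ (z - algebraMap O _ o) := by
    rw [map_sub, map_sub, h o]; ring
  rw [e]
  exact Ideal.sub_mem _ (key ψ₁ h1 n _ ho) (key ψ₂ h2 n _ ho)

/-- A map to a complete ring which is strict and has dense image identifies the target with the
completion of the source. -/
theorem exists_ringEquiv_completion (m : Ideal O) (𝔐 : Ideal C) [IsAdicComplete 𝔐 C] (φ : O →+* C)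
    (h1 : m.map φ ≤ 𝔐)
    (h2 : ∀ (n : ℕ) (o : O), φ o ∈ 𝔐 ^ n → o ∈ m ^ n)
    (h3 : ∀ (n : ℕ) (c : C), ∃ o : O, c - φ o ∈ 𝔐 ^ n) :
    ∃ Ψ : AdicCompletion m O ≃+* C, ∀ o, Ψ (algebraMap O (AdicCompletion m O) o) = φ o := by
  have hle : ∀ n : ℕ, m ^ n ≤ (𝔐 ^ n).comap φ := by
    intro n
    rw [← Ideal.map_le_iff_le_comap, Ideal.map_pow]
    exact Ideal.pow_right_mono h1 n
  let f : (n : ℕ) → AdicCompletion m O →+* C ⧸ 𝔐 ^ n := fun n =>
    (Ideal.quotientMap (𝔐 ^ n) φ (hle n)).comp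
      (AdicCompletion.evalₐ m n : AdicCompletion m O →+* O ⧸ m ^ n)
  have hfmk : ∀ (n : ℕ) (z : AdicCompletion m O) (a : O),
      AdicCompletion.evalₐ m n z = Ideal.Quotient.mk _ a → f n z = Ideal.Quotient.mk _ (φ a) := by
    intro n z a ha
    change Ideal.quotientMap (𝔐 ^ n) φ (hle n) (AdicCompletion.evalₐ m n z) = _
    rw [ha, Ideal.quotientMap_mk]
  have hf : ∀ {a b : ℕ} (hab : a ≤ b),
      (Ideal.Quotient.factorPow 𝔐 hab).comp (f b) = f a := by
    intro a b hab
    ext z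
    obtain ⟨o, ho⟩ := Ideal.Quotient.mk_surjective (AdicCompletion.evalₐ m b z)
    have ho' : AdicCompletion.evalₐ m a z = Ideal.Quotient.mk _ o := by
      rw [← factor_evalₐ m hab z, ← ho, Ideal.Quotient.factor_mk]
    rw [RingHom.comp_apply, hfmk b z o ho.symm, hfmk a z o ho']
    rfl
  let Ψ : AdicCompletion m O →+* C := IsAdicComplete.liftRingHom 𝔐 f hf
  have hΨ : ∀ n z, Ideal.Quotient.mk (𝔐 ^ n) (Ψ z) = f n z :=
    fun n z => IsAdicComplete.mk_liftRingHom 𝔐 f hf n z
  have hinj : Function.Injective Ψ := by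
    rw [injective_iff_map_eq_zero]
    intro z hz
    refine AdicCompletion.ext_evalₐ fun n => ?_
    obtain ⟨o, ho⟩ := Ideal.Quotient.mk_surjective (AdicCompletion.evalₐ m n z)
    have h4 := hΨ n z
    rw [hz, map_zero, hfmk n z o ho.symm] at h4
    have h5 : o ∈ m ^ n := h2 n o (Ideal.Quotient.eq_zero_iff_mem.mp h4.symm)
    rw [← ho, map_zero]
    exact Ideal.Quotient.eq_zero_iff_mem.mpr h5
  have hsurj : Function.Surjective Ψ := by
    intro c
    choose a ha using fun n => h3 n c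
    have hcauchy : ∀ n, a n ≡ a (n + 1) [SMOD (m ^ n • ⊤ : Submodule O O)] := by
      intro n
      rw [SModEq.sub_mem, smul_eq_mul, Ideal.mul_top]
      apply h2 n
      have h6 : φ (a n - a (n + 1)) = (c - φ (a (n + 1))) - (c - φ (a n)) := by
        rw [map_sub]; ring
      rw [h6]
      exact Ideal.sub_mem _ (Ideal.pow_le_pow_right (Nat.le_succ n) (ha (n + 1))) (ha n)
    let z : AdicCompletion m O :=
      AdicCompletion.mk _ O (AdicCompletion.AdicCauchySequence.mk _ O a hcauchy)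
    refine ⟨z, eq_of_forall_mk_eq' 𝔐 _ _ fun n => ?_⟩
    have h6 : AdicCompletion.evalₐ m n z = Ideal.Quotient.mk _ (a n) := by
      rw [AdicCompletion.evalₐ_mk]; rfl
    rw [← Ideal.Quotient.eq, hΨ n z, hfmk n z (a n) h6, Ideal.Quotient.eq]
    have := ha n
    rw [← neg_sub]
    exact neg_mem this
  refine ⟨RingEquiv.ofBijective Ψ ⟨hinj, hsurj⟩, fun o => ?_⟩
  change Ψ (AdicCompletion.of m O o) = φ o
  refine eq_of_forall_mk_eq' 𝔐 _ _ fun n => ?_
  rw [← Ideal.Quotient.eq, hΨ n]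
  exact hfmk n _ o (AdicCompletion.evalₐ_of m n o)

end tools

end Part1

section Part2
section flat

variable {D S : Type*} [CommRing D] [CommRing S] [Algebra D S] [Module.Flat D S]

/-- Elements of a flat algebra killed by finitely many elements of the base come from the base, as
soon as the base is dense modulo these elements. -/
theorem exists_of_killed {ι : Type*} [Fintype ι] (m : ι → D)
    (hdense : ∀ z : S, ∃ d : D, z - algebraMap D S d ∈
      Ideal.span (Set.range (fun j => algebraMap D S (m j))))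
    (z : S) (hz : ∀ j, algebraMap D S (m j) * z = 0) :
    ∃ t : D, algebraMap D S t = z ∧ ∀ j, m j * t = 0 := by
  classical
  let f : (ι →₀ D) →ₗ[D] D := Finsupp.linearCombination D m
  let x : D →ₗ[D] S := LinearMap.toSpanSingleton D S z
  have hxf : x ∘ₗ f = 0 := by
    apply Finsupp.lhom_ext
    intro j d
    simp only [LinearMap.comp_apply, LinearMap.zero_apply, f, x,
      Finsupp.linearCombination_single, LinearMap.toSpanSingleton_apply]
    rw [smul_eq_mul, mul_smul, Algebra.smul_def (m j) z, hz j, smul_zero]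
  obtain ⟨k, a, y, hxy, haf⟩ := Module.Flat.exists_factorization_of_comp_eq_zero_of_free hxf
  -- coefficients
  have ha : ∀ j (t : Fin k), m j * a 1 t = 0 := by
    intro j t
    have h1 : a (f (Finsupp.single j 1)) = 0 := by
      have := LinearMap.congr_fun haf (Finsupp.single j 1)
      simpa using this
    simp only [f, Finsupp.linearCombination_single, one_smul] at h1
    have h2 : a (m j) = m j • a 1 := by
      rw [← map_smul, smul_eq_mul, mul_one]
    rw [h2] at h1
    have := DFunLike.congr_fun h1 t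
    simpa using this
  have hz' : z = ∑ t, algebraMap D S (a 1 t) * y (Finsupp.single t 1) := by
    have h1 : z = x 1 := by simp [x]
    rw [h1, hxy, LinearMap.comp_apply]
    conv_lhs => rw [← Finsupp.univ_sum_single (a 1)]
    rw [map_sum]
    refine Finset.sum_congr rfl fun t _ => ?_
    have : Finsupp.single t (a 1 t) = (a 1 t) • Finsupp.single t (1 : D) := by
      rw [Finsupp.smul_single, smul_eq_mul, mul_one]
    rw [this, map_smul, Algebra.smul_def]
  choose y' hy' using fun t => hdense (y (Finsupp.single t 1))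
  have hy'' : ∀ t, ∃ w : ι → S, ∑ j, w j * algebraMap D S (m j) =
      y (Finsupp.single t 1) - algebraMap D S (y' t) := by
    intro t
    exact (Ideal.mem_span_range_iff_exists_fun).mp (hy' t)
  choose w hw using hy''
  refine ⟨∑ t, a 1 t * y' t, ?_, ?_⟩
  · rw [map_sum, hz']
    refine Finset.sum_congr rfl fun t _ => ?_
    have h3 : y (Finsupp.single t 1) = algebraMap D S (y' t) +
        ∑ j, w t j * algebraMap D S (m j) := by rw [hw t]; ring
    rw [h3, mul_add, map_mul, Finset.mul_sum]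
    have h4 : ∀ j, algebraMap D S (a 1 t) * (w t j * algebraMap D S (m j)) = 0 := by
      intro j
      have : algebraMap D S (a 1 t) * algebraMap D S (m j) = 0 := by
        rw [← map_mul, mul_comm, ha j t, map_zero]
      calc algebraMap D S (a 1 t) * (w t j * algebraMap D S (m j))
          = w t j * (algebraMap D S (a 1 t) * algebraMap D S (m j)) := by ring
        _ = 0 := by rw [this, mul_zero]
    rw [Finset.sum_eq_zero (fun j _ => h4 j), add_zero]
  · intro j
    rw [Finset.mul_sum]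
    refine Finset.sum_eq_zero fun t _ => ?_
    rw [← mul_assoc, ha j t, zero_mul]

/-- Approximation of a compatible family. -/
theorem exists_approx {r : ℕ} (q : Fin r → D)
    (hdense : ∀ z : S, ∃ d : D, z - algebraMap D S d ∈
      Ideal.span (Set.range (fun j => algebraMap D S (q j))))
    (g : Fin r → S) (hg : ∀ i j, algebraMap D S (q j) * g i = algebraMap D S (q i) * g j) :
    ∃ (b : Fin r → D) (h : S), ∀ i, g i = algebraMap D S (b i) + algebraMap D S (q i) * h := by
  classical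
  let e : Fin r → (Fin r → D) := fun i => Pi.single i 1
  let f : ((Fin r × Fin r) →₀ D) →ₗ[D] (Fin r → D) :=
    Finsupp.linearCombination D (fun p : Fin r × Fin r => q p.2 • e p.1 - q p.1 • e p.2)
  let x : (Fin r → D) →ₗ[D] S := Fintype.linearCombination D g
  have hxe : ∀ i, x (e i) = g i := by
    intro i
    simp only [x, e, Fintype.linearCombination_apply_single, one_smul]
  have hxf : x ∘ₗ f = 0 := by
    apply Finsupp.lhom_ext
    intro p d
    simp only [LinearMap.comp_apply, LinearMap.zero_apply, f,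
      Finsupp.linearCombination_single]
    rw [map_smul, map_sub, map_smul, map_smul, hxe, hxe, Algebra.smul_def (q p.2),
      Algebra.smul_def (q p.1), hg p.1 p.2, sub_self, smul_zero]
  obtain ⟨k, a, y, hxy, haf⟩ := Module.Flat.exists_factorization_of_comp_eq_zero_of_free hxf
  have ha : ∀ i j (t : Fin k), q j * a (e i) t = q i * a (e j) t := by
    intro i j t
    have h1 : a (f (Finsupp.single (i, j) 1)) = 0 := by
      have := LinearMap.congr_fun haf (Finsupp.single (i, j) 1)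
      simpa using this
    simp only [f, Finsupp.linearCombination_single, one_smul] at h1
    rw [map_sub, map_smul, map_smul, sub_eq_zero] at h1
    have := DFunLike.congr_fun h1 t
    simpa using this
  have hgi : ∀ i, g i = ∑ t, algebraMap D S (a (e i) t) * y (Finsupp.single t 1) := by
    intro i
    rw [← hxe i, hxy, LinearMap.comp_apply]
    conv_lhs => rw [← Finsupp.univ_sum_single (a (e i))]
    rw [map_sum]
    refine Finset.sum_congr rfl fun t _ => ?_
    have : Finsupp.single t (a (e i) t) = (a (e i) t) • Finsupp.single t (1 : D) := by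
      rw [Finsupp.smul_single, smul_eq_mul, mul_one]
    rw [this, map_smul, Algebra.smul_def]
  choose y' hy' using fun t => hdense (y (Finsupp.single t 1))
  have hy'' : ∀ t, ∃ w : Fin r → S, ∑ j, w j * algebraMap D S (q j) =
      y (Finsupp.single t 1) - algebraMap D S (y' t) := by
    intro t
    exact (Ideal.mem_span_range_iff_exists_fun).mp (hy' t)
  choose w hw using hy''
  refine ⟨fun i => ∑ t, a (e i) t * y' t,
    ∑ t, ∑ j, algebraMap D S (a (e j) t) * w t j, fun i => ?_⟩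
  rw [hgi i, map_sum, Finset.mul_sum, ← Finset.sum_add_distrib]
  refine Finset.sum_congr rfl fun t _ => ?_
  have h3 : y (Finsupp.single t 1) = algebraMap D S (y' t) +
      ∑ j, w t j * algebraMap D S (q j) := by rw [hw t]; ring
  rw [h3, mul_add, map_mul, Finset.mul_sum, Finset.mul_sum]
  congr 1
  refine Finset.sum_congr rfl fun j _ => ?_
  have h5 : algebraMap D S (a (e i) t) * algebraMap D S (q j) =
      algebraMap D S (q i) * algebraMap D S (a (e j) t) := by
    rw [← map_mul, ← map_mul, mul_comm, ha i j t]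
  calc algebraMap D S (a (e i) t) * (w t j * algebraMap D S (q j))
      = w t j * (algebraMap D S (a (e i) t) * algebraMap D S (q j)) := by ring
    _ = algebraMap D S (q i) * (algebraMap D S (a (e j) t) * w t j) := by rw [h5]; ring

end flat

section det

variable {R : Type*} [CommRing R]

/-- Determinant trick: if `a J ⊆ J²` for a finitely generated ideal `J`, then some `g` kills `J`
and is congruent to a power of `a` modulo `J`. -/
theorem exists_killer (J : Ideal R) (hJ : J.FG) (a : R) (ha : ∀ y ∈ J, a * y ∈ J * J) :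
    ∃ (n : ℕ) (g : R), (∀ y ∈ J, g * y = 0) ∧ a ^ n - g ∈ J := by
  haveI : Module.Finite R J := Module.Finite.iff_fg.mpr hJ
  let φ : Module.End R J := algebraMap R (Module.End R J) a
  have hφ : LinearMap.range φ ≤ J • (⊤ : Submodule R J) := by
    rintro _ ⟨y, rfl⟩
    rw [Submodule.mem_smul_top_iff]
    change ((a • y : J) : R) ∈ J • J
    rw [Submodule.coe_smul, smul_eq_mul, smul_eq_mul]
    exact ha y y.2
  obtain ⟨p, hp1, -, hp2, hp3⟩ :=
    LinearMap.exists_monic_and_natDegree_eq_and_coeff_mem_pow_and_aeval_eq_zero R φ J hφ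
  refine ⟨p.natDegree, p.eval a, ?_, ?_⟩
  · intro y hy
    have h1 : Polynomial.aeval φ p = algebraMap R (Module.End R J) (p.eval a) := by
      rw [Polynomial.aeval_algebraMap_apply, Polynomial.coe_aeval_eq_eval]
    rw [h1] at hp3
    have h2 := LinearMap.congr_fun hp3 ⟨y, hy⟩
    rw [Module.algebraMap_end_apply, LinearMap.zero_apply] at h2
    have h3 := congrArg (Subtype.val) h2
    simpa using h3
  · rw [Polynomial.eval_eq_sum_range, Finset.sum_range_succ, hp1.coeff_natDegree, one_mul,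
      sub_add_cancel_right]
    apply neg_mem
    refine Ideal.sum_mem _ fun k hk => ?_
    apply Ideal.mul_mem_right
    have hk' : k < p.natDegree := Finset.mem_range.mp hk
    have : p.natDegree - k ≠ 0 := by omega
    exact Ideal.pow_le_self this (hp2 k)

end det

end Part2

section Part3
theorem exists_data {B : Type u} [CommRing B] [IsNoetherianRing B] (𝔞 : Ideal B)
    (J : Ideal (AdicCompletion 𝔞 B)) (c : ℕ)
    (hJ : (𝔞.map (algebraMap B (AdicCompletion 𝔞 B))) ^ c * J ≤ J ^ 2) :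
    ∃ (r : ℕ) (q : Fin r → B) (k : ℕ) (b : Fin r → B) (h : AdicCompletion 𝔞 B),
      𝔞 ^ k ≤ Ideal.span (Set.range q) ∧ h ∈ 𝔞.map (algebraMap B (AdicCompletion 𝔞 B)) ∧
      (∀ i, algebraMap B (AdicCompletion 𝔞 B) (q i) -
        (algebraMap B (AdicCompletion 𝔞 B) (b i) +
          algebraMap B (AdicCompletion 𝔞 B) (q i) * h) ∈ J) ∧
      (∀ i, ∀ y ∈ J, (algebraMap B (AdicCompletion 𝔞 B) (b i) +
          algebraMap B (AdicCompletion 𝔞 B) (q i) * h) * y = 0) := by
  haveI : IsNoetherianRing (AdicCompletion 𝔞 B) := Groth.Agent.S0543.result B 𝔞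
  have hfg : 𝔞.FG := IsNoetherian.noetherian 𝔞
  obtain ⟨r, f, hf⟩ := Submodule.fg_iff_exists_fin_generating_family.mp hfg
  set ι := algebraMap B (AdicCompletion 𝔞 B) with hι
  have hJfg : J.FG := IsNoetherian.noetherian J
  have ha : ∀ i, ∀ y ∈ J, ι (f i) ^ c * y ∈ J * J := by
    intro i y hy
    rw [← pow_two]
    apply hJ
    apply Ideal.mul_mem_mul _ hy
    apply Ideal.pow_mem_pow
    apply Ideal.mem_map_of_mem
    rw [← hf]
    exact Submodule.subset_span ⟨i, rfl⟩
  choose n g hg1 hg2 using fun i => exists_killer J hJfg (ι (f i) ^ c) (ha i)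
  let q : Fin r → B := fun i => f i ^ (c * n i)
  have hq : ∀ i, ι (q i) = (ι (f i) ^ c) ^ n i := by
    intro i
    simp only [q, map_pow, pow_mul]
  have hrad : 𝔞 ≤ (Ideal.span (Set.range q)).radical := by
    rw [← hf]
    change Ideal.span _ ≤ _
    rw [Ideal.span_le]
    rintro _ ⟨i, rfl⟩
    exact ⟨c * n i, Ideal.subset_span ⟨i, rfl⟩⟩
  obtain ⟨k, hk⟩ := Ideal.exists_pow_le_of_le_radical_of_fg hrad hfg
  have hdense : ∀ z : AdicCompletion 𝔞 B, ∃ d : B, z - ι d ∈
      Ideal.span (Set.range (fun j => ι (q j))) := by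
    intro z
    obtain ⟨d, hd⟩ := dense_of 𝔞 hfg k z
    refine ⟨d, ?_⟩
    have h1 : (𝔞 ^ k).map ι ≤ Ideal.span (Set.range (fun j => ι (q j))) := by
      refine (Ideal.map_mono hk).trans ?_
      rw [Ideal.map_span, ← Set.range_comp]
      rfl
    exact h1 hd
  have hg : ∀ i j, ι (q j) * g i = ι (q i) * g j := by
    intro i j
    have h1 := hg1 i _ (hg2 j)
    have h2 := hg1 j _ (hg2 i)
    rw [← hq] at h1 h2
    have h3 : ι (q j) * g i = g i * g j := by
      have : g i * (ι (q j) - g j) = g i * ι (q j) - g i * g j := by ring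
      rw [this, sub_eq_zero] at h1
      rw [mul_comm, h1]
    have h4 : ι (q i) * g j = g j * g i := by
      have : g j * (ι (q i) - g i) = g j * ι (q i) - g j * g i := by ring
      rw [this, sub_eq_zero] at h2
      rw [mul_comm, h2]
    rw [h3, h4, mul_comm]
  obtain ⟨b', h', hb'⟩ := exists_approx q hdense g hg
  obtain ⟨h0, hh0⟩ := dense_of 𝔞 hfg 1 h'
  rw [pow_one] at hh0
  have hgi : ∀ i, g i = ι (b' i + q i * h0) + ι (q i) * (h' - ι h0) := by
    intro i
    rw [hb' i, map_add, map_mul]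
    ring
  refine ⟨r, q, k, fun i => b' i + q i * h0, h' - ι h0, hk, hh0, fun i => ?_, fun i y hy => ?_⟩
  · rw [← hgi i, hq i]
    exact hg2 i
  · rw [← hgi i]
    exact hg1 i y hy

end Part3

section Part4
/-- A surjective image of a complete Noetherian ring is complete. -/
theorem isAdicComplete_of_surjective {R C : Type*} [CommRing R] [IsNoetherianRing R] [CommRing C]
    (𝔯 : Ideal R) [IsAdicComplete 𝔯 R] (π : R →+* C) (hπ : Function.Surjective π) :
    IsAdicComplete (𝔯.map π) C := by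
  let e : R ⧸ RingHom.ker π ≃+* C := RingHom.quotientKerEquivOfSurjective hπ
  have h1 := Groth.Agent.Lib.Helper44.isAdicComplete_quotient_ring 𝔯 (RingHom.ker π)
  have h2 := (IsAdicComplete.congr_ringEquiv
    (𝔯.map (algebraMap R (R ⧸ RingHom.ker π))) e).mpr h1
  have h3 : (𝔯.map (algebraMap R (R ⧸ RingHom.ker π))).map e = 𝔯.map π := by
    change (𝔯.map (algebraMap R (R ⧸ RingHom.ker π))).map (e : _ →+* C) = _
    rw [Ideal.map_map]
    congr 1
  rwa [h3] at h2

noncomputable section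

variable {B : Type u} [CommRing B] {r : ℕ} (q b : Fin r → B)

/-- relations defining the auxiliary algebra `B[X, X⁻¹]/(q_i X - b_i)` -/
def rel : Ideal (MvPolynomial (Fin 2) B) :=
  Ideal.span (Set.range (fun i => MvPolynomial.C (q i) * MvPolynomial.X 0 - MvPolynomial.C (b i)) ∪
    {MvPolynomial.X 0 * MvPolynomial.X 1 - 1})

/-- the auxiliary algebra -/
abbrev D2 : Type u := MvPolynomial (Fin 2) B ⧸ rel q b

def X0 : D2 q b := Ideal.Quotient.mk _ (MvPolynomial.X 0)
def X1 : D2 q b := Ideal.Quotient.mk _ (MvPolynomial.X 1)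

theorem algebraMap_D2 (x : B) :
    algebraMap B (D2 q b) x = Ideal.Quotient.mk _ (MvPolynomial.C x) := rfl

theorem X0_mul_X1 : X0 q b * X1 q b = 1 := by
  unfold X0 X1
  rw [← map_mul, ← sub_eq_zero, ← map_one (Ideal.Quotient.mk (rel q b)), ← map_sub,
    Ideal.Quotient.eq_zero_iff_mem]
  exact Ideal.subset_span (Or.inr rfl)

theorem q_mul_X0 (i : Fin r) : algebraMap B (D2 q b) (q i) * X0 q b = algebraMap B (D2 q b) (b i) := by
  unfold X0
  rw [algebraMap_D2, algebraMap_D2, ← map_mul, ← sub_eq_zero, ← map_sub,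
    Ideal.Quotient.eq_zero_iff_mem]
  exact Ideal.subset_span (Or.inl ⟨i, rfl⟩)

variable {q b}

/-- maps out of the auxiliary algebra -/
def lift {T : Type*} [CommRing T] (φ : B →+* T) (u v : T) (huv : u * v = 1)
    (hq : ∀ i, φ (q i) * u = φ (b i)) : D2 q b →+* T :=
  Ideal.Quotient.lift (rel q b) (MvPolynomial.eval₂Hom φ ![u, v]) (by
    intro p hp
    have : rel q b ≤ RingHom.ker (MvPolynomial.eval₂Hom φ ![u, v]) := by
      unfold rel
      rw [Ideal.span_le]
      rintro _ (⟨i, rfl⟩ | rfl)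
      · simp only [SetLike.mem_coe, RingHom.mem_ker, map_sub, map_mul,
          MvPolynomial.eval₂Hom_C, MvPolynomial.eval₂Hom_X']
        simp [hq i]
      · simp only [SetLike.mem_coe, RingHom.mem_ker, map_sub, map_mul,
          MvPolynomial.eval₂Hom_X', map_one]
        simp [huv]
    exact this hp)

theorem lift_algebraMap {T : Type*} [CommRing T] (φ : B →+* T) (u v : T) (huv : u * v = 1)
    (hq : ∀ i, φ (q i) * u = φ (b i)) (x : B) :
    lift φ u v huv hq (algebraMap B (D2 q b) x) = φ x := by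
  rw [algebraMap_D2]
  unfold lift
  rw [Ideal.Quotient.lift_mk, MvPolynomial.eval₂Hom_C]

theorem lift_X0 {T : Type*} [CommRing T] (φ : B →+* T) (u v : T) (huv : u * v = 1)
    (hq : ∀ i, φ (q i) * u = φ (b i)) :
    lift φ u v huv hq (X0 q b) = u := by
  unfold lift X0
  rw [Ideal.Quotient.lift_mk, MvPolynomial.eval₂Hom_X']
  rfl

theorem lift_X1 {T : Type*} [CommRing T] (φ : B →+* T) (u v : T) (huv : u * v = 1)
    (hq : ∀ i, φ (q i) * u = φ (b i)) :
    lift φ u v huv hq (X1 q b) = v := by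
  unfold lift X1
  rw [Ideal.Quotient.lift_mk, MvPolynomial.eval₂Hom_X']
  rfl

/-- induction principle -/
theorem mem_subring_of {T : Type*} [CommRing T] (θ : D2 q b →+* T) (𝒮 : Subring T)
    (h1 : ∀ x : B, θ (algebraMap B (D2 q b) x) ∈ 𝒮) (h2 : θ (X0 q b) ∈ 𝒮) (h3 : θ (X1 q b) ∈ 𝒮)
    (d : D2 q b) : θ d ∈ 𝒮 := by
  obtain ⟨p, rfl⟩ := Ideal.Quotient.mk_surjective d
  induction p using MvPolynomial.induction_on with
  | C a => exact h1 a
  | add p p' hp hp' =>
    rw [map_add, map_add]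
    exact 𝒮.add_mem hp hp'
  | mul_X p i hp =>
    rw [map_mul, map_mul]
    refine 𝒮.mul_mem hp ?_
    fin_cases i
    · exact h2
    · exact h3

instance : Algebra.FiniteType B (D2 q b) :=
  Algebra.FiniteType.of_surjective (Ideal.Quotient.mkₐ B (rel q b))
    (Ideal.Quotient.mkₐ_surjective B (rel q b))

end

end Part4

section Part5
section main

variable {B : Type u} [CommRing B] [IsNoetherianRing B] (𝔞 : Ideal B) {C : Type u} [CommRing C]
  (π : AdicCompletion 𝔞 B →+* C) (hπ : Function.Surjective π)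
  {r : ℕ} (q b : Fin r → B) (k : ℕ) (h : AdicCompletion 𝔞 B)
  (hk : 𝔞 ^ k ≤ Ideal.span (Set.range q))
  (hh : h ∈ 𝔞.map (algebraMap B (AdicCompletion 𝔞 B)))
  (h1 : ∀ i, algebraMap B (AdicCompletion 𝔞 B) (q i) -
        (algebraMap B (AdicCompletion 𝔞 B) (b i) +
          algebraMap B (AdicCompletion 𝔞 B) (q i) * h) ∈ RingHom.ker π)
  (h2 : ∀ i, ∀ y ∈ RingHom.ker π, (algebraMap B (AdicCompletion 𝔞 B) (b i) +
          algebraMap B (AdicCompletion 𝔞 B) (q i) * h) * y = 0)

include hπ hk hh h1 h2 in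
theorem main_aux :
    ∃ (ρ : D2 q b →+* C),
      (∀ x : B, ρ (algebraMap B (D2 q b) x) = π (algebraMap B _ x)) ∧
      ∀ (n : ℕ) (d : D2 q b), ρ d ∈ ((𝔞.map (algebraMap B (AdicCompletion 𝔞 B))).map π) ^ n →
        ∃ t : D2 q b, ρ t = 0 ∧
          (∀ i j, algebraMap B (D2 q b) (q i * q j) * t = 0) ∧
          d - t ∈ (𝔞.map (algebraMap B (D2 q b))) ^ n := by
  classical
  set ι := algebraMap B (AdicCompletion 𝔞 B) with hι
  haveI : IsNoetherianRing (AdicCompletion 𝔞 B) := Groth.Agent.S0543.result B 𝔞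
  have hfg : 𝔞.FG := IsNoetherian.noetherian 𝔞
  set 𝔞R := 𝔞.map ι with h𝔞R
  haveI hcR : IsAdicComplete 𝔞R (AdicCompletion 𝔞 B) := by
    have := AdicCompletion.isAdicComplete (I := 𝔞) (M := B) hfg
    exact (IsAdicComplete.map_algebraMap_iff 𝔞 _).mpr this
  set 𝔠 := 𝔞R.map π with h𝔠
  haveI hcC : IsAdicComplete 𝔠 C := isAdicComplete_of_surjective 𝔞R π hπ
  -- the unit
  have hπh : π h ∈ 𝔠 := Ideal.mem_map_of_mem π hh
  have hu : IsUnit (1 - π h) := by
    have := Ideal.mem_jacobson_bot.mp (IsAdicComplete.le_jacobson_bot 𝔠 hπh) (-1)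
    convert this using 1
    ring
  obtain ⟨v, hv⟩ := isUnit_iff_exists_inv.mp hu
  have hrel : ∀ i, (π.comp ι) (q i) * (1 - π h) = (π.comp ι) (b i) := by
    intro i
    have := h1 i
    rw [RingHom.mem_ker, map_sub, map_add, map_mul, sub_eq_zero] at this
    simp only [RingHom.comp_apply]
    linear_combination this
  set ρ : D2 q b →+* C := lift (π.comp ι) (1 - π h) v hv hrel with hρ
  have hρB : ∀ x : B, ρ (algebraMap B (D2 q b) x) = π (ι x) :=
    fun x => lift_algebraMap _ _ _ hv hrel x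
  refine ⟨ρ, hρB, ?_⟩
  -- the completion of D2
  set 𝔞2 := 𝔞.map (algebraMap B (D2 q b)) with h𝔞2
  have hfg2 : 𝔞2.FG := IsNoetherian.noetherian _
  haveI : IsNoetherianRing (AdicCompletion 𝔞2 (D2 q b)) := Groth.Agent.S0543.result _ 𝔞2
  set κ := algebraMap (D2 q b) (AdicCompletion 𝔞2 (D2 q b)) with hκ
  set 𝔰 := 𝔞2.map κ with h𝔰
  haveI hcS : IsAdicComplete 𝔰 (AdicCompletion 𝔞2 (D2 q b)) := by
    have := AdicCompletion.isAdicComplete (I := 𝔞2) (M := D2 q b) hfg2
    exact (IsAdicComplete.map_algebraMap_iff 𝔞2 _).mpr this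
  have hρ𝔠 : 𝔞2.map ρ ≤ 𝔠 := by
    rw [h𝔞2, Ideal.map_map, h𝔠, h𝔞R, Ideal.map_map]
    apply le_of_eq
    congr 1
    ext x
    exact hρB x
  obtain ⟨ρh, hρh⟩ := exists_lift 𝔞2 𝔠 ρ hρ𝔠
  obtain ⟨α, hα⟩ := exists_lift 𝔞 𝔰 (κ.comp (algebraMap B (D2 q b)))
    (by rw [← Ideal.map_map])
  have hαι : α.comp ι = κ.comp (algebraMap B (D2 q b)) := RingHom.ext hα
  have hραι : (ρh.comp α).comp ι = π.comp ι := by
    ext o
    simp only [RingHom.comp_apply]
    rw [hα, RingHom.comp_apply, hρh, hρB]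
  have hρα : ρh.comp α = π := by
    apply ringHom_ext_of_dense 𝔞 hfg 𝔠
    · rw [hραι, ← Ideal.map_map]
    · intro o
      exact RingHom.congr_fun hραι o
  set x := κ (X0 q b) + α h with hx
  have hρx : ρh x = 1 := by
    rw [hx, map_add, hρh, ← RingHom.comp_apply ρh α, hρα, hρ, lift_X0]
    ring
  have hαh : α h ∈ 𝔰 := by
    have := Ideal.mem_map_of_mem α hh
    rw [h𝔞R, Ideal.map_map, hαι, ← Ideal.map_map] at this
    exact this
  have hX : κ (X0 q b) * κ (X1 q b) = 1 := by rw [← map_mul, X0_mul_X1, map_one]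
  have hxu : IsUnit x := by
    have h3 := Ideal.mem_jacobson_bot.mp (IsAdicComplete.le_jacobson_bot 𝔰 hαh) (κ (X1 q b))
    have : x = κ (X0 q b) * (α h * κ (X1 q b) + 1) := by
      rw [hx]
      linear_combination (-(α h)) * hX
    rw [this]
    exact (isUnit_iff_exists_inv.mpr ⟨_, hX⟩).mul h3
  set Q : Fin r → AdicCompletion 𝔞2 (D2 q b) :=
    fun i => κ (algebraMap B (D2 q b) (q i)) with hQ
  have hgx : ∀ i, α (ι (b i) + ι (q i) * h) = Q i * x := by
    intro i
    rw [map_add, map_mul, hα, hα, hx, mul_add]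
    simp only [RingHom.comp_apply, hQ]
    rw [← q_mul_X0, map_mul]
  have hkill : ∀ y ∈ RingHom.ker π, ∀ i, Q i * α y = 0 := by
    intro y hy i
    have h3 := congrArg α (h2 i y hy)
    rw [map_mul, map_zero, hgx i] at h3
    have h4 : (Q i * α y) * x = 0 := by rw [← h3]; ring
    exact (hxu.mul_left_eq_zero).mp h4
  have hstar : ∀ i j, Q i * (Q j * (1 - x)) = 0 := by
    intro i j
    have := hkill _ (h1 j) i
    rw [map_sub, hgx j, hα] at this
    simp only [RingHom.comp_apply] at this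
    rw [← this]
    simp only [hQ]
    ring
  -- the inverse of `1 - h`
  have huR : IsUnit (1 - h) := by
    have := Ideal.mem_jacobson_bot.mp (IsAdicComplete.le_jacobson_bot 𝔞R hh) (-1)
    convert this using 1
    ring
  obtain ⟨w, hw⟩ := isUnit_iff_exists_inv.mp huR
  -- Key lemma
  have hK0 : ∀ s : AdicCompletion 𝔞2 (D2 q b), ∃ z : AdicCompletion 𝔞 B,
      s - α z ∈ 𝔰 ⊔ Ideal.span {x - 1} := by
    set 𝔱 := 𝔰 ⊔ Ideal.span {x - 1} with h𝔱
    set 𝒮 : Subring (AdicCompletion 𝔞2 (D2 q b) ⧸ 𝔱) :=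
      ((Ideal.Quotient.mk 𝔱).comp α).range with h𝒮
    have hx1 : Ideal.Quotient.mk 𝔱 (κ (X0 q b)) = Ideal.Quotient.mk 𝔱 (α (1 - h)) := by
      rw [Ideal.Quotient.eq]
      have : κ (X0 q b) - α (1 - h) = x - 1 := by
        rw [hx, map_sub, map_one]; ring
      rw [this]
      exact Ideal.mem_sup_right (Ideal.subset_span rfl)
    have hD : ∀ d : D2 q b, ((Ideal.Quotient.mk 𝔱).comp κ) d ∈ 𝒮 := by
      apply mem_subring_of
      · intro o
        refine ⟨ι o, ?_⟩
        simp only [RingHom.comp_apply]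
        rw [hα]
        rfl
      · exact ⟨1 - h, hx1.symm⟩
      · refine ⟨w, ?_⟩
        simp only [RingHom.comp_apply]
        have e1 : Ideal.Quotient.mk 𝔱 (κ (X0 q b)) * Ideal.Quotient.mk 𝔱 (κ (X1 q b)) = 1 := by
          rw [← map_mul, hX, map_one]
        have e2 : Ideal.Quotient.mk 𝔱 (α (1 - h)) * Ideal.Quotient.mk 𝔱 (α w) = 1 := by
          rw [← map_mul, ← map_mul, hw, map_one, map_one]
        rw [hx1] at e1
        calc Ideal.Quotient.mk 𝔱 (α w)
            = Ideal.Quotient.mk 𝔱 (α w) * (Ideal.Quotient.mk 𝔱 (α (1 - h)) *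
                Ideal.Quotient.mk 𝔱 (κ (X1 q b))) := by rw [e1, mul_one]
          _ = (Ideal.Quotient.mk 𝔱 (α (1 - h)) * Ideal.Quotient.mk 𝔱 (α w)) *
                Ideal.Quotient.mk 𝔱 (κ (X1 q b)) := by ring
          _ = Ideal.Quotient.mk 𝔱 (κ (X1 q b)) := by rw [e2, one_mul]
    intro s
    obtain ⟨d, hd⟩ := dense_of 𝔞2 hfg2 1 s
    rw [pow_one] at hd
    obtain ⟨z, hz⟩ := hD d
    refine ⟨z, ?_⟩
    simp only [RingHom.comp_apply] at hz
    have h3 : κ d - α z ∈ 𝔱 := by
      rw [← Ideal.Quotient.eq, hz]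
    have h4 : s - α z = (s - κ d) + (κ d - α z) := by ring
    rw [h4]
    exact Ideal.add_mem _ (Ideal.mem_sup_left hd) h3
  have hK : ∀ s : AdicCompletion 𝔞2 (D2 q b), ∃ (z : AdicCompletion 𝔞 B)
      (s' : AdicCompletion 𝔞2 (D2 q b)), s = α z + (x - 1) * s' := by
    set mkE := Ideal.Quotient.mk (Ideal.span {x - 1} : Ideal (AdicCompletion 𝔞2 (D2 q b)))
      with hmkE
    set αE := mkE.comp α with hαE
    have e𝔞 : 𝔞R.map αE = 𝔰.map mkE := by
      rw [hαE, ← Ideal.map_map, h𝔞R, Ideal.map_map (f := ι) (g := α), hαι, ← Ideal.map_map]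
    have hsurj : Function.Surjective αE := by
      haveI : IsHausdorff (𝔞R.map αE) (AdicCompletion 𝔞2 (D2 q b) ⧸ Ideal.span {x - 1}) := by
        have hc := Groth.Agent.Lib.Helper44.isAdicComplete_quotient_ring 𝔰 (Ideal.span {x - 1})
        rw [e𝔞]
        exact hc.toIsHausdorff
      apply surjective_of_mk_map_comp_surjective (I := 𝔞R) αE
      intro e'
      obtain ⟨e, rfl⟩ := Ideal.Quotient.mk_surjective e'
      obtain ⟨s, rfl⟩ := Ideal.Quotient.mk_surjective e
      obtain ⟨z, hz⟩ := hK0 s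
      refine ⟨z, ?_⟩
      rw [RingHom.comp_apply, Ideal.Quotient.eq, e𝔞]
      obtain ⟨s1, hs1, s2, hs2, hs12⟩ := Submodule.mem_sup.mp hz
      have h3 : αE z - mkE s = - mkE s1 := by
        have e1 : α z - s = -(s1 + s2) := by rw [hs12]; ring
        have e2 : mkE s2 = 0 := Ideal.Quotient.eq_zero_iff_mem.mpr hs2
        rw [hαE, RingHom.comp_apply, ← map_sub, e1, map_neg, map_add, e2, add_zero]
      rw [h3]
      exact neg_mem (Ideal.mem_map_of_mem mkE hs1)
    intro s
    obtain ⟨z, hz⟩ := hsurj (mkE s)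
    have h3 : s - α z ∈ Ideal.span {x - 1} := by
      rw [← Ideal.Quotient.eq]
      exact hz.symm
    obtain ⟨s', hs'⟩ := Ideal.mem_span_singleton'.mp h3
    exact ⟨z, s', by rw [mul_comm, hs']; ring⟩
  have hker : ∀ s, ρh s = 0 → ∀ i j, Q i * (Q j * s) = 0 := by
    intro s hs i j
    obtain ⟨z, s', rfl⟩ := hK s
    have hz : z ∈ RingHom.ker π := by
      rw [RingHom.mem_ker, ← hρα, RingHom.comp_apply]
      rw [map_add, map_mul, map_sub, hρx, map_one, sub_self, zero_mul, add_zero] at hs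
      exact hs
    have h3 := hkill z hz j
    have h4 := hstar i j
    calc Q i * (Q j * (α z + (x - 1) * s'))
        = Q i * (Q j * α z) - (Q i * (Q j * (1 - x))) * s' := by ring
      _ = 0 := by rw [h3, h4]; ring
  -- density modulo the products `q i * q j`
  have hpow : 𝔞 ^ (2 * k) ≤ Ideal.span (Set.range (fun p : Fin r × Fin r => q p.1 * q p.2)) := by
    rw [pow_mul', pow_two]
    refine (Ideal.mul_mono hk hk).trans ?_
    rw [Ideal.span_mul_span']
    apply Ideal.span_mono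
    rintro _ ⟨_, ⟨i, rfl⟩, _, ⟨j, rfl⟩, rfl⟩
    exact ⟨(i, j), rfl⟩
  have hdense2 : ∀ z : AdicCompletion 𝔞2 (D2 q b), ∃ d : D2 q b, z - κ d ∈
      Ideal.span (Set.range (fun p : Fin r × Fin r =>
        κ (algebraMap B (D2 q b) (q p.1 * q p.2)))) := by
    intro z
    obtain ⟨d, hd⟩ := dense_of 𝔞2 hfg2 (2 * k) z
    refine ⟨d, ?_⟩
    have h3 : (𝔞2 ^ (2 * k)).map κ ≤ Ideal.span (Set.range (fun p : Fin r × Fin r =>
        κ (algebraMap B (D2 q b) (q p.1 * q p.2)))) := by
      rw [← Ideal.map_pow, Ideal.map_map]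
      refine (Ideal.map_mono hpow).trans ?_
      rw [Ideal.map_span, ← Set.range_comp]
      rfl
    exact h3 hd
  have hT : ∀ s, ρh s = 0 → ∃ t : D2 q b, κ t = s ∧
      ∀ i j, algebraMap B (D2 q b) (q i * q j) * t = 0 := by
    intro s hs
    obtain ⟨t, ht1, ht2⟩ := exists_of_killed (D := D2 q b) (S := AdicCompletion 𝔞2 (D2 q b))
      (ι := Fin r × Fin r) (fun p => algebraMap B (D2 q b) (q p.1 * q p.2)) hdense2 s
      (fun p => by
        have := hker s hs p.1 p.2
        rw [← this]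
        simp only [hQ, map_mul]
        ring)
    exact ⟨t, ht1, fun i j => ht2 (i, j)⟩
  intro n d hd
  rw [← Ideal.map_pow] at hd
  obtain ⟨z, hz, hzd⟩ := (Ideal.mem_map_iff_of_surjective π hπ).mp hd
  have hs : ρh (κ d - α z) = 0 := by
    rw [map_sub, hρh, ← RingHom.comp_apply ρh α, hρα, hzd, sub_self]
  obtain ⟨t, ht1, ht2⟩ := hT _ hs
  refine ⟨t, ?_, ht2, ?_⟩
  · rw [← hρh, ht1, hs]
  · apply strict_of 𝔞2 n
    rw [map_sub, ht1, sub_sub_cancel]
    have := Ideal.mem_map_of_mem α hz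
    rw [h𝔞R, ← Ideal.map_pow, Ideal.map_map, hαι, ← Ideal.map_map, Ideal.map_pow] at this
    exact this

end main

section finish

variable {B : Type u} [CommRing B] [IsNoetherianRing B] (𝔞 : Ideal B) {C : Type u} [CommRing C]
  (π : AdicCompletion 𝔞 B →+* C) (hπ : Function.Surjective π)
  {r : ℕ} (q : Fin r → B)
  {D' : Type u} [CommRing D'] [Algebra B D'] [Algebra.FiniteType B D']
  (ρ : D' →+* C)
  (hρB : ∀ x : B, ρ (algebraMap B D' x) = π (algebraMap B _ x))
  (hρ : ∀ (n : ℕ) (d : D'), ρ d ∈ ((𝔞.map (algebraMap B (AdicCompletion 𝔞 B))).map π) ^ n →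
        ∃ t : D', ρ t = 0 ∧
          (∀ i j, algebraMap B D' (q i * q j) * t = 0) ∧
          d - t ∈ (𝔞.map (algebraMap B D')) ^ n)

include hπ hρB hρ in
theorem finish :
    ∃ (D : Type u) (_ : CommRing D) (_ : Algebra B D), Algebra.FiniteType B D ∧
      ∀ 𝔡 : Ideal D, 𝔡 = 𝔞.map (algebraMap B D) →
        ∃ e : C ≃+* AdicCompletion 𝔡 D,
          ∀ x : B, e (π (algebraMap B _ x)) = algebraMap D _ (algebraMap B D x) := by
  set ι := algebraMap B (AdicCompletion 𝔞 B) with hι
  haveI : IsNoetherianRing (AdicCompletion 𝔞 B) := Groth.Agent.S0543.result B 𝔞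
  have hfg : 𝔞.FG := IsNoetherian.noetherian 𝔞
  set 𝔞R := 𝔞.map ι with h𝔞R
  haveI hcR : IsAdicComplete 𝔞R (AdicCompletion 𝔞 B) := by
    have := AdicCompletion.isAdicComplete (I := 𝔞) (M := B) hfg
    exact (IsAdicComplete.map_algebraMap_iff 𝔞 _).mpr this
  set 𝔠 := 𝔞R.map π with h𝔠
  haveI hcC : IsAdicComplete 𝔠 C := isAdicComplete_of_surjective 𝔞R π hπ
  set 𝔪 : Ideal D' := Ideal.span (Set.range (fun p : Fin r × Fin r =>
    algebraMap B D' (q p.1 * q p.2))) with h𝔪
  set 𝔧 : Ideal D' := 𝔪.annihilator ⊓ RingHom.ker ρ with h𝔧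
  refine ⟨D' ⧸ 𝔧, (inferInstance : CommRing (D' ⧸ 𝔧)),
    (inferInstance : Algebra B (D' ⧸ 𝔧)), ?_, ?_⟩
  · exact Algebra.FiniteType.of_surjective (Ideal.Quotient.mkₐ B 𝔧)
      (Ideal.Quotient.mkₐ_surjective B 𝔧)
  · rintro 𝔡 rfl
    set φ : D' ⧸ 𝔧 →+* C := Ideal.Quotient.lift 𝔧 ρ (fun t ht => ht.2) with hφ
    have hφB : ∀ x : B, φ (algebraMap B (D' ⧸ 𝔧) x) = π (ι x) := by
      intro x
      rw [IsScalarTower.algebraMap_apply B D' (D' ⧸ 𝔧), Ideal.Quotient.algebraMap_eq,
        hφ, Ideal.Quotient.lift_mk, hρB]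
    have hcomp : φ.comp (algebraMap B (D' ⧸ 𝔧)) = π.comp ι := RingHom.ext hφB
    have H1 : (𝔞.map (algebraMap B (D' ⧸ 𝔧))).map φ ≤ 𝔠 := by
      rw [Ideal.map_map, hcomp, ← Ideal.map_map]
    have H3 : ∀ (n : ℕ) (c : C), ∃ o : D' ⧸ 𝔧, c - φ o ∈ 𝔠 ^ n := by
      intro n c
      obtain ⟨z, rfl⟩ := hπ c
      obtain ⟨o, ho⟩ := dense_of 𝔞 hfg n z
      refine ⟨algebraMap B (D' ⧸ 𝔧) o, ?_⟩
      rw [hφB, ← map_sub, h𝔠, ← Ideal.map_pow, h𝔞R, ← Ideal.map_pow]
      exact Ideal.mem_map_of_mem π ho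
    have H2 : ∀ (n : ℕ) (o : D' ⧸ 𝔧), φ o ∈ 𝔠 ^ n →
        o ∈ (𝔞.map (algebraMap B (D' ⧸ 𝔧))) ^ n := by
      intro n o ho
      obtain ⟨d, rfl⟩ := Ideal.Quotient.mk_surjective o
      rw [hφ, Ideal.Quotient.lift_mk] at ho
      obtain ⟨t, ht0, ht1, ht2⟩ := hρ n d ho
      have ht : t ∈ 𝔧 := by
        refine ⟨?_, ht0⟩
        rw [h𝔪]
        change t ∈ (Submodule.span D' _).annihilator
        rw [Submodule.mem_annihilator_span]
        rintro ⟨_, p, rfl⟩
        rw [smul_eq_mul, mul_comm]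
        exact ht1 p.1 p.2
      have e1 : Ideal.Quotient.mk 𝔧 d = Ideal.Quotient.mk 𝔧 (d - t) := by
        rw [map_sub, Ideal.Quotient.eq_zero_iff_mem.mpr ht, sub_zero]
      rw [e1]
      have e2 : algebraMap B (D' ⧸ 𝔧) = (Ideal.Quotient.mk 𝔧).comp (algebraMap B D') :=
        rfl
      rw [e2, ← Ideal.map_map, ← Ideal.map_pow]
      exact Ideal.mem_map_of_mem _ ht2
    obtain ⟨Ψ, hΨ⟩ := exists_ringEquiv_completion (𝔞.map (algebraMap B (D' ⧸ 𝔧))) 𝔠 φ H1 H2 H3
    refine ⟨Ψ.symm, fun x => ?_⟩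
    rw [RingEquiv.symm_apply_eq, hΨ, hφB]

end finish

section main2

variable {B : Type u} [CommRing B] [IsNoetherianRing B] (𝔞 : Ideal B) {C : Type u} [CommRing C]
  (π : AdicCompletion 𝔞 B →+* C) (hπ : Function.Surjective π) (c : ℕ)
  (hJ : (𝔞.map (algebraMap B (AdicCompletion 𝔞 B))) ^ c * RingHom.ker π ≤ RingHom.ker π ^ 2)

include hπ hJ in
theorem main :
    ∃ (D : Type u) (_ : CommRing D) (_ : Algebra B D), Algebra.FiniteType B D ∧
      ∀ 𝔡 : Ideal D, 𝔡 = 𝔞.map (algebraMap B D) →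
        ∃ e : C ≃+* AdicCompletion 𝔡 D,
          ∀ x : B, e (π (algebraMap B _ x)) = algebraMap D _ (algebraMap B D x) := by
  obtain ⟨r, q, k, b, h, hk, hh, h1, h2⟩ := exists_data 𝔞 (RingHom.ker π) c hJ
  obtain ⟨ρ, hρB, hρ⟩ := main_aux 𝔞 π hπ q b k h hk hh h1 h2
  exact finish 𝔞 π hπ q ρ hρB hρ

end main2

end Part5

end Groth.Agent.Lib.Helper47.RigClosedAlg
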