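import Mathlib

/-!
# Simplicial abelian groups: homotopy equivalences of underlying simplicial sets are quasi-isos

A homomorphism `f : X ⟶ Y` of simplicial abelian groups whose underlying map of simplicial sets
is a homotopy equivalence induces a quasi-isomorphism on alternating face map complexes.
Proof: `ℤ[U f]` is a chain homotopy equivalence (Mathlib: simplicial homotopies give chain
homotopies), and `H_n(K X)` is a natural (set-theoretic) retract of `H_n(K ℤ[U X])` through the
"Hurewicz" map `u ↦ [u] - [0]` on normalized cycles (`PInfty`) and the counit `ℤ[U X] ⟶ X`.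
-/

set_option autoImplicit false
universe u
open CategoryTheory CategoryTheory.Limits Opposite AlgebraicTopology Simplicial
open AlgebraicTopology.DoldKan

namespace Groth.Agent.Lib.Helper47.SimpAb

section Dict

variable {ι : Type*} {c : ComplexShape ι} (C : HomologicalComplex Ab.{u} c)

lemma exists_cycles (p : ι) (z : C.X p) (hz : C.d p (c.next p) z = 0) :
    ∃ cyc : C.cycles p, C.iCycles p cyc = z := by
  have hex : (ShortComplex.mk (C.iCycles p) (C.d p (c.next p)) (by simp)).Exact :=
    ShortComplex.exact_of_f_is_kernel _ (C.cyclesIsKernel p (c.next p) rfl)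
  rw [ShortComplex.ab_exact_iff] at hex
  exact hex z hz

lemma iCycles_injective (p : ι) : Function.Injective (C.iCycles p) :=
  (AddCommGrpCat.mono_iff_injective _).mp inferInstance

lemma homologyπ_surjective (p : ι) : Function.Surjective (C.homologyπ p) :=
  (AddCommGrpCat.epi_iff_surjective _).mp inferInstance

lemma d_iCycles (p q : ι) (z : C.cycles p) : C.d p q (C.iCycles p z) = 0 := by
  change (C.iCycles p ≫ C.d p q) z = 0
  rw [C.iCycles_d]
  rfl

lemma homologyπ_eq_zero_iff (p : ι) (z : C.cycles p) :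
    C.homologyπ p z = 0 ↔ ∃ y : C.X (c.prev p), C.d (c.prev p) p y = C.iCycles p z := by
  have hex : (ShortComplex.mk (C.toCycles (c.prev p) p) (C.homologyπ p) (by simp)).Exact :=
    ShortComplex.exact_of_g_is_cokernel _ (C.homologyIsCokernel (c.prev p) p rfl)
  rw [ShortComplex.ab_exact_iff] at hex
  constructor
  · intro h
    obtain ⟨y, hy⟩ := hex z h
    refine ⟨y, ?_⟩
    rw [← hy]
    change _ = (C.toCycles (c.prev p) p ≫ C.iCycles p) y
    rw [C.toCycles_i]
  · rintro ⟨y, hy⟩
    have : C.toCycles (c.prev p) p y = z := by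
      apply iCycles_injective C p
      change (C.toCycles (c.prev p) p ≫ C.iCycles p) y = _
      rw [C.toCycles_i, hy]
    rw [← this]
    change (C.toCycles (c.prev p) p ≫ C.homologyπ p) y = 0
    rw [C.toCycles_comp_homologyπ]
    rfl

lemma homologyπ_eq_zero_of_d (q p : ι) (y : C.X q) (z : C.cycles p)
    (h : C.d q p y = C.iCycles p z) : C.homologyπ p z = 0 := by
  by_cases hr : c.Rel q p
  · obtain rfl : c.prev p = q := c.prev_eq' hr
    exact (homologyπ_eq_zero_iff C p z).mpr ⟨y, h⟩
  · rw [C.shape _ _ hr] at h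
    have : z = 0 := by
      apply iCycles_injective C p
      rw [← h, map_zero]
      rfl
    rw [this, map_zero]

variable {C} {D : HomologicalComplex Ab.{u} c} (φ : C ⟶ D)

lemma homologyMap_homologyπ (p : ι) (z : C.cycles p) :
    HomologicalComplex.homologyMap φ p (C.homologyπ p z) =
      D.homologyπ p (HomologicalComplex.cyclesMap φ p z) := by
  change (C.homologyπ p ≫ HomologicalComplex.homologyMap φ p) z = _
  rw [HomologicalComplex.homologyπ_naturality]
  rfl

lemma iCycles_cyclesMap (p : ι) (z : C.cycles p) :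
    D.iCycles p (HomologicalComplex.cyclesMap φ p z) = φ.f p (C.iCycles p z) := by
  change (HomologicalComplex.cyclesMap φ p ≫ D.iCycles p) z = _
  rw [HomologicalComplex.cyclesMap_i]
  rfl

lemma comm_apply (p q : ι) (x : C.X p) : φ.f q (C.d p q x) = D.d p q (φ.f p x) := by
  change (C.d p q ≫ φ.f q) x = (φ.f p ≫ D.d p q) x
  rw [φ.comm]

end Dict

section Main

/-- the functor `ℤ[-]` on simplicial sets -/
noncomputable abbrev W : SSet.{u} ⥤ SimplicialObject Ab.{u} :=
  (SimplicialObject.whiskering (Type u) Ab.{u}).obj AddCommGrpCat.free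

/-- underlying simplicial set -/
abbrev U (X : SimplicialObject Ab.{u}) : SSet.{u} := X ⋙ forget Ab.{u}

variable (X Y : SimplicialObject Ab.{u})

/-- `ℤ[U X]`. -/
noncomputable abbrev ZU : SimplicialObject Ab.{u} := W.obj (U X)

/-- the counit `ℤ[U X] ⟶ X`. -/
noncomputable def eps : ZU X ⟶ X where
  app n := AddCommGrpCat.ofHom (FreeAbelianGroup.lift (fun x : X.obj n => x))
  naturality n m θ := by
    apply AddCommGrpCat.hom_ext
    apply FreeAbelianGroup.lift_ext
    intro x
    change FreeAbelianGroup.lift (fun x : X.obj m => x)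
      (FreeAbelianGroup.map (X.map θ) (FreeAbelianGroup.of x)) =
      X.map θ (FreeAbelianGroup.lift (fun x : X.obj n => x) (FreeAbelianGroup.of x))
    rw [FreeAbelianGroup.map_of_apply, FreeAbelianGroup.lift_apply_of,
      FreeAbelianGroup.lift_apply_of]

variable {X Y}

/-- the bracket `[x] - [0]`. -/
noncomputable def br {n : SimplexCategoryᵒᵖ} (x : X.obj n) : (ZU X).obj n :=
  (FreeAbelianGroup.of x - FreeAbelianGroup.of (0 : X.obj n) : FreeAbelianGroup (X.obj n))

lemma eps_br {n : SimplexCategoryᵒᵖ} (x : X.obj n) : (eps X).app n (br x) = x := by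
  change FreeAbelianGroup.lift (fun x : X.obj n => x) (FreeAbelianGroup.of x - FreeAbelianGroup.of 0) = x
  rw [map_sub, FreeAbelianGroup.lift_apply_of, FreeAbelianGroup.lift_apply_of, sub_zero]

lemma br_zero {n : SimplexCategoryᵒᵖ} : br (0 : X.obj n) = 0 := by
  exact sub_self _

lemma ZU_map_br {n m : SimplexCategoryᵒᵖ} (θ : n ⟶ m) (x : X.obj n) :
    (ZU X).map θ (br x) = br (X.map θ x) := by
  change FreeAbelianGroup.map (X.map θ) (FreeAbelianGroup.of x - FreeAbelianGroup.of 0) = _
  rw [map_sub, FreeAbelianGroup.map_of_apply, FreeAbelianGroup.map_of_apply, map_zero]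
  rfl

lemma W_map_br (f : X ⟶ Y) {n : SimplexCategoryᵒᵖ} (x : X.obj n) :
    (W.map (Functor.whiskerRight f (forget Ab.{u}))).app n (br x) = br (f.app n x) := by
  change FreeAbelianGroup.map (f.app n) (FreeAbelianGroup.of x - FreeAbelianGroup.of 0) = _
  rw [map_sub, FreeAbelianGroup.map_of_apply, FreeAbelianGroup.map_of_apply, map_zero]
  rfl

lemma W_map_eps (f : X ⟶ Y) :
    W.map (Functor.whiskerRight f (forget Ab.{u})) ≫ eps Y = eps X ≫ f := by
  ext n : 2
  apply FreeAbelianGroup.lift_ext
  intro x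
  change FreeAbelianGroup.lift (fun x : Y.obj n => x)
      (FreeAbelianGroup.map (f.app n) (FreeAbelianGroup.of x)) =
      f.app n (FreeAbelianGroup.lift (fun x : X.obj n => x) (FreeAbelianGroup.of x))
  rw [FreeAbelianGroup.map_of_apply, FreeAbelianGroup.lift_apply_of,
      FreeAbelianGroup.lift_apply_of]

end Main

section Diff

/-- evaluation at an element as an additive map on hom groups -/
def evalHom {M N : Ab.{u}} (x : M) : (M ⟶ N) →+ N where
  toFun φ := φ x
  map_zero' := rfl
  map_add' _ _ := rfl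

variable {X Y : SimplicialObject Ab.{u}}

lemma d_apply (m : ℕ) (w : X _⦋m + 1⦌) :
    (AlternatingFaceMapComplex.obj X).d (m + 1) m w =
      ∑ i : Fin (m + 2), ((-1 : ℤ) ^ (i : ℕ)) • (X.δ i w) := by
  rw [AlternatingFaceMapComplex.obj_d_eq]
  change evalHom w _ = _
  rw [map_sum]
  refine Finset.sum_congr rfl (fun i _ => ?_)
  rw [map_zsmul]
  rfl

lemma d_eq_δ0 (m : ℕ) (w : X _⦋m + 1⦌) (hw : ∀ j : Fin (m + 1), X.δ j.succ w = 0) :
    (AlternatingFaceMapComplex.obj X).d (m + 1) m w = X.δ 0 w := by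
  rw [d_apply, Fin.sum_univ_succ]
  simp [hw]

lemma d_br (m : ℕ) (w : X _⦋m + 1⦌) (hw : ∀ j : Fin (m + 1), X.δ j.succ w = 0) :
    (AlternatingFaceMapComplex.obj (ZU X)).d (m + 1) m (br w) =
      br ((AlternatingFaceMapComplex.obj X).d (m + 1) m w) := by
  rw [d_eq_δ0 m w hw, d_apply, Fin.sum_univ_succ]
  have h0 : (ZU X).δ 0 (br w) = br (X.δ 0 w) := ZU_map_br _ w
  have hj : ∀ j : Fin (m + 1), (ZU X).δ j.succ (br w) = 0 := by
    intro j
    have : (ZU X).δ j.succ (br w) = br (X.δ j.succ w) := ZU_map_br _ w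
    rw [this, hw j, br_zero]
  rw [Finset.sum_eq_zero (fun j _ => by rw [hj j, smul_zero]), add_zero, h0, Fin.val_zero,
    pow_zero, one_smul]

end Diff

section MainThm

variable {X Y : SimplicialObject Ab.{u}}

/-- the alternating face map complex -/
abbrev K (X : SimplicialObject Ab.{u}) : ChainComplex Ab.{u} ℕ := AlternatingFaceMapComplex.obj X

/-- the alternating face map complex on maps -/
abbrev Kmap (f : X ⟶ Y) : K X ⟶ K Y := AlternatingFaceMapComplex.map f

/-- higher faces vanish on an element -/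
def HV (n : ℕ) (w : X _⦋n⦌) : Prop :=
  match n, w with
  | 0, _ => True
  | (m + 1), w => ∀ j : Fin (m + 1), X.δ j.succ w = 0

lemma HV_PInfty (n : ℕ) (y : X _⦋n⦌) : HV n ((PInfty.f n : X _⦋n⦌ ⟶ X _⦋n⦌) y) := by
  cases n with
  | zero => trivial
  | succ m =>
    intro j
    have h := HigherFacesVanish.of_P (X := X) (m + 1) m
    rw [← PInfty_f] at h
    have := h j (by omega)
    change (PInfty.f (m + 1) ≫ X.δ j.succ) y = 0
    rw [this]
    rfl

lemma d_br' (n q : ℕ) (w : X _⦋n⦌) (hw : HV n w) :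
    (K (ZU X)).d n q (br w) = br ((K X).d n q w) := by
  by_cases h : (ComplexShape.down ℕ).Rel n q
  · have h' : q + 1 = n := h
    subst h'
    exact d_br q w hw
  · rw [HomologicalComplex.shape _ _ _ h, HomologicalComplex.shape _ _ _ h]
    exact br_zero.symm

lemma homologyMap_PInfty (n : ℕ) :
    HomologicalComplex.homologyMap (PInfty : K X ⟶ K X) n = 𝟙 _ := by
  rw [(homotopyPInftyToId X).homologyMap_eq n, HomologicalComplex.homologyMap_id]

lemma exists_good_rep (n : ℕ) (a : (K X).homology n) :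
    ∃ z : (K X).cycles n, (K X).homologyπ n z = a ∧ HV n ((K X).iCycles n z) ∧
      (PInfty.f n : (K X).X n ⟶ (K X).X n) ((K X).iCycles n z) = (K X).iCycles n z := by
  obtain ⟨z0, hz0⟩ := homologyπ_surjective (K X) n a
  refine ⟨HomologicalComplex.cyclesMap (PInfty : K X ⟶ K X) n z0, ?_, ?_, ?_⟩
  · rw [← homologyMap_homologyπ, hz0, homologyMap_PInfty]
    rfl
  · rw [iCycles_cyclesMap]
    exact HV_PInfty n _
  · rw [iCycles_cyclesMap]
    change ((PInfty.f n : (K X).X n ⟶ (K X).X n) ≫ PInfty.f n) _ = _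
    rw [PInfty_f_idem]

lemma exists_br_cycle (n : ℕ) (z : (K X).cycles n) (hz : HV n ((K X).iCycles n z)) :
    ∃ z' : (K (ZU X)).cycles n, (K (ZU X)).iCycles n z' = br ((K X).iCycles n z) := by
  apply exists_cycles
  rw [d_br' _ _ _ hz, d_iCycles, br_zero]

lemma Kmap_eps_br (n : ℕ) (x : X _⦋n⦌) : (Kmap (eps X)).f n (br x) = x := eps_br x

lemma homologyMap_eps (n : ℕ) (z : (K X).cycles n) (z' : (K (ZU X)).cycles n)
    (h : (K (ZU X)).iCycles n z' = br ((K X).iCycles n z)) :
    HomologicalComplex.homologyMap (Kmap (eps X)) n ((K (ZU X)).homologyπ n z') =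
      (K X).homologyπ n z := by
  rw [homologyMap_homologyπ]
  congr 1
  apply iCycles_injective
  rw [iCycles_cyclesMap, h, Kmap_eps_br]

/-- the map `ℤ[U f]`. -/
noncomputable abbrev Zf (f : X ⟶ Y) : ZU X ⟶ ZU Y := W.map (Functor.whiskerRight f (forget Ab.{u}))

lemma Kmap_Zf_br (f : X ⟶ Y) (n : ℕ) (x : X _⦋n⦌) :
    (Kmap (Zf f)).f n (br x) = br ((Kmap f).f n x) := W_map_br f x

lemma homologyMap_comm (f : X ⟶ Y) (n : ℕ) (e : (K (ZU X)).homology n) :
    HomologicalComplex.homologyMap (Kmap (eps Y)) n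
      (HomologicalComplex.homologyMap (Kmap (Zf f)) n e) =
    HomologicalComplex.homologyMap (Kmap f) n
      (HomologicalComplex.homologyMap (Kmap (eps X)) n e) := by
  change (HomologicalComplex.homologyMap (Kmap (Zf f)) n ≫
    HomologicalComplex.homologyMap (Kmap (eps Y)) n) e =
    (HomologicalComplex.homologyMap (Kmap (eps X)) n ≫
      HomologicalComplex.homologyMap (Kmap f) n) e
  rw [← HomologicalComplex.homologyMap_comp, ← HomologicalComplex.homologyMap_comp]
  have : Kmap (Zf f) ≫ Kmap (eps Y) = Kmap (eps X) ≫ Kmap f := by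
    change (alternatingFaceMapComplex Ab.{u}).map _ ≫ (alternatingFaceMapComplex Ab.{u}).map _ =
      (alternatingFaceMapComplex Ab.{u}).map _ ≫ (alternatingFaceMapComplex Ab.{u}).map _
    rw [← Functor.map_comp, ← Functor.map_comp, W_map_eps]
  rw [this]

theorem bijective_of_bijective (f : X ⟶ Y) (n : ℕ)
    (hb : Function.Bijective (HomologicalComplex.homologyMap (Kmap (Zf f)) n)) :
    Function.Bijective (HomologicalComplex.homologyMap (Kmap f) n) := by
  constructor
  · -- injectivity
    rw [injective_iff_map_eq_zero]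
    intro a ha
    obtain ⟨z, rfl, hz, hPz⟩ := exists_good_rep n a
    obtain ⟨z', hz'⟩ := exists_br_cycle n z hz
    rw [homologyMap_homologyπ, homologyπ_eq_zero_iff] at ha
    obtain ⟨w, hw⟩ := ha
    rw [iCycles_cyclesMap] at hw
    generalize (ComplexShape.down ℕ).prev n = p at w hw
    have hdv : (K Y).d p n ((PInfty.f p : (K Y).X p ⟶ (K Y).X p) w) =
        (Kmap f).f n ((K X).iCycles n z) := by
      rw [← comm_apply (PInfty : K Y ⟶ K Y) p n w, hw]
      change ((Kmap f).f n ≫ PInfty.f n) _ = _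
      have := PInfty_f_naturality n f
      change (Kmap f).f n ≫ PInfty.f n = PInfty.f n ≫ (Kmap f).f n at this
      rw [this]
      change (Kmap f).f n ((PInfty.f n : (K X).X n ⟶ (K X).X n) _) = _
      rw [hPz]
    have hbr : (K (ZU Y)).d p n (br ((PInfty.f p : (K Y).X p ⟶ (K Y).X p) w)) =
        (Kmap (Zf f)).f n (br ((K X).iCycles n z)) := by
      rw [d_br' p n _ (HV_PInfty p w), hdv, Kmap_Zf_br]
    have h0 : HomologicalComplex.homologyMap (Kmap (Zf f)) n ((K (ZU X)).homologyπ n z') = 0 := by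
      rw [homologyMap_homologyπ]
      apply homologyπ_eq_zero_of_d _ p n (br ((PInfty.f p : (K Y).X p ⟶ (K Y).X p) w))
      rw [iCycles_cyclesMap, hz', hbr]
    rw [← map_zero (HomologicalComplex.homologyMap (Kmap (Zf f)) n).hom] at h0
    have h1 := hb.1 h0
    rw [homologyπ_eq_zero_iff] at h1
    obtain ⟨t, ht⟩ := h1
    apply homologyπ_eq_zero_of_d _ _ n ((Kmap (eps X)).f _ t)
    rw [← comm_apply, ht, hz', Kmap_eps_br]
  · intro c
    obtain ⟨z, rfl, hz, -⟩ := exists_good_rep n c
    obtain ⟨z', hz'⟩ := exists_br_cycle n z hz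
    obtain ⟨e, he⟩ := hb.2 ((K (ZU Y)).homologyπ n z')
    refine ⟨HomologicalComplex.homologyMap (Kmap (eps X)) n e, ?_⟩
    rw [← homologyMap_comm, he, homologyMap_eps n z z' hz']

end MainThm

section Final

variable {S T : SSet.{u}}

lemma homologyMap_W_eq (a b : S ⟶ T) (h : Nonempty (SSet.Homotopy a b) ∨ Nonempty (SSet.Homotopy b a))
    (n : ℕ) :
    HomologicalComplex.homologyMap ((alternatingFaceMapComplex Ab.{u}).map (W.map a)) n =
      HomologicalComplex.homologyMap ((alternatingFaceMapComplex Ab.{u}).map (W.map b)) n := by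
  rcases h with ⟨⟨H⟩⟩ | ⟨⟨H⟩⟩
  · exact (H.toSimplicialObjectHomotopy.whiskerRight AddCommGrpCat.free).map_homology_eq n
  · exact ((H.toSimplicialObjectHomotopy.whiskerRight AddCommGrpCat.free).map_homology_eq n).symm

variable {X Y : SimplicialObject Ab.{u}}

theorem quasiIso_of_homotopyEquiv (f : X ⟶ Y) (g : U Y ⟶ U X)
    (hX : Nonempty (SSet.Homotopy (Functor.whiskerRight f (forget Ab.{u}) ≫ g) (𝟙 _)) ∨
      Nonempty (SSet.Homotopy (𝟙 _) (Functor.whiskerRight f (forget Ab.{u}) ≫ g)))
    (hY : Nonempty (SSet.Homotopy (g ≫ Functor.whiskerRight f (forget Ab.{u})) (𝟙 _)) ∨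
      Nonempty (SSet.Homotopy (𝟙 _) (g ≫ Functor.whiskerRight f (forget Ab.{u})))) :
    QuasiIso ((alternatingFaceMapComplex Ab.{u}).map f) := by
  rw [quasiIso_iff]
  intro n
  rw [quasiIsoAt_iff_isIso_homologyMap]
  have hb : Function.Bijective (HomologicalComplex.homologyMap (Kmap (Zf f)) n) := by
    have h1 := homologyMap_W_eq _ _ hX n
    have h2 := homologyMap_W_eq _ _ hY.symm n
    rw [Functor.map_comp, Functor.map_comp, HomologicalComplex.homologyMap_comp,
      CategoryTheory.Functor.map_id, CategoryTheory.Functor.map_id,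
      HomologicalComplex.homologyMap_id] at h1
    rw [Functor.map_comp, Functor.map_comp, HomologicalComplex.homologyMap_comp,
      CategoryTheory.Functor.map_id, CategoryTheory.Functor.map_id,
      HomologicalComplex.homologyMap_id] at h2
    have : IsIso (HomologicalComplex.homologyMap (Kmap (Zf f)) n) :=
      ⟨_, h1, h2.symm⟩
    exact (ConcreteCategory.isIso_iff_bijective _).mp this
  exact (ConcreteCategory.isIso_iff_bijective _).mpr (bijective_of_bijective f n hb)

end Final

end Groth.Agent.Lib.Helper47.SimpAb
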