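/-
Helper library (helper47): adic formal smoothness can be tested on small extensions of Artinian
local rings (Stacks 15.37 / EGA 0_IV 19.3): m-adic dévissage of the square-zero ideal, and a
product/retraction argument for ideals killed by the maximal ideal.
-/
import Mathlib
import Groth.Agent.Lib.Helper47.FormallyProjective

set_option autoImplicit false
set_option linter.style.haveILetI false
universe u
open IsLocalRing

namespace Groth.Agent.Lib.Helper47

/-- The lifting property along small extensions of Artinian local rings. -/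
def SmallLift (R S : Type u) [CommRing R] [CommRing S] [IsLocalRing R] [IsLocalRing S]
    [Algebra R S] : Prop :=
  ∀ (A : Type u) [CommRing A] [IsLocalRing A] [IsArtinianRing A] [Algebra R A]
    [IsLocalHom (algebraMap R A)] (J : Ideal A), J ^ 2 = ⊥ → Module.length A J = 1 →
    ∀ [IsLocalRing (A ⧸ J)] (ψ : S →ₐ[R] A ⧸ J) [IsLocalHom ψ.toRingHom],
      Function.Bijective (ResidueField.map ψ.toRingHom) →
      ∃ χ : S →ₐ[R] A, (Ideal.Quotient.mkₐ R J).comp χ = ψ

section Semisimple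

variable {A : Type*} [CommRing A] (𝔪 : Ideal A) [𝔪.IsMaximal]

/-- A module killed by a maximal ideal is semisimple. -/
theorem isSemisimpleModule_of_torsion {M : Type*} [AddCommGroup M] [Module A M]
    (hM : ∀ a ∈ 𝔪, ∀ x : M, a • x = 0) : IsSemisimpleModule A M := by
  letI : Field (A ⧸ 𝔪) := Ideal.Quotient.field 𝔪
  have hM' : Module.IsTorsionBySet A M 𝔪 := fun x a => hM a.1 a.2 x
  letI : Module (A ⧸ 𝔪) M := hM'.module
  exact hM'.isSemisimpleModule_iff.mp inferInstance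

end Semisimple

section Simple

variable {A : Type*} [CommRing A]

/-- For a maximal submodule `m` of an ideal `J`, with image `Hm` in `A`, the image of `J` in
`A ⧸ Hm` is a simple `A`-module. -/
theorem isSimpleModule_map_of_isCoatom (J : Ideal A) (m : Submodule A J) (hm : IsCoatom m) :
    IsSimpleModule A
      ↥(J.map (Ideal.Quotient.mk (Submodule.map (Submodule.subtype J) m : Ideal A))) := by
  set Hm : Ideal A := Submodule.map (Submodule.subtype J) m with hHm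
  let f : ↥J →ₗ[A] ↥(J.map (Ideal.Quotient.mk Hm)) :=
    { toFun := fun j => ⟨Ideal.Quotient.mk Hm j.1, Ideal.mem_map_of_mem _ j.2⟩
      map_add' := fun x y => rfl
      map_smul' := fun a x => rfl }
  have hf : Function.Surjective f := by
    rintro ⟨y, hy⟩
    obtain ⟨j, hj, rfl⟩ := (Ideal.mem_map_iff_of_surjective _ Ideal.Quotient.mk_surjective).mp hy
    exact ⟨⟨j, hj⟩, rfl⟩
  have hker : LinearMap.ker f = m := by
    ext j
    rw [LinearMap.mem_ker]
    constructor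
    · intro h
      have h1 : Ideal.Quotient.mk Hm j.1 = 0 := congrArg Subtype.val h
      have h2 : j.1 ∈ Hm := Ideal.Quotient.eq_zero_iff_mem.mp h1
      obtain ⟨j', hj', hjj⟩ := h2
      have : j' = j := Subtype.ext hjj
      rwa [this] at hj'
    · intro h
      apply Subtype.ext
      change Ideal.Quotient.mk Hm j.1 = 0
      exact Ideal.Quotient.eq_zero_iff_mem.mpr ⟨j, h, rfl⟩
  have h1 : IsSimpleModule A (↥J ⧸ LinearMap.ker f) := by
    rw [isSimpleModule_iff_isCoatom, hker]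
    exact hm
  exact (LinearMap.quotKerEquivOfSurjective f hf).isSimpleModule_iff.mp h1

end Simple

section Coatom

variable {R S : Type u} [CommRing R] [CommRing S] [IsLocalRing R] [IsLocalRing S] [Algebra R S]
  [IsLocalHom (algebraMap R S)]
variable {A : Type u} [CommRing A] [IsLocalRing A] [Algebra R A] [IsLocalHom (algebraMap R A)]

/-- A square-zero ideal of a nontrivial ring is proper. -/
theorem ne_top_of_sq_eq_bot (J : Ideal A) (hJ : J ^ 2 = ⊥) : J ≠ ⊤ := by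
  intro h
  rw [h, Ideal.top_pow] at hJ
  exact top_ne_bot hJ

/-- Lifting along the quotient by an ideal `H ≤ J` with `J/H` simple, given the lifting property
for small extensions. -/
theorem exists_lift_of_simple (H : SmallLift R S) (J : Ideal A) (hJ : J ^ 2 = ⊥)
    [IsArtinianRing (A ⧸ J)] (ψ : S →ₐ[R] A ⧸ J) (hψ : Function.Surjective ψ)
    (Hm : Ideal A) (hHJ : Hm ≤ J)
    (hsimple : IsSimpleModule A ↥(J.map (Ideal.Quotient.mk Hm))) :
    ∃ χm : S →ₐ[R] A ⧸ Hm, ∀ (s : S) (a : A), Ideal.Quotient.mk J a = ψ s →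
      χm s - Ideal.Quotient.mk Hm a ∈ J.map (Ideal.Quotient.mk Hm) := by
  have hJtop : J ≠ ⊤ := ne_top_of_sq_eq_bot J hJ
  have hHtop : Hm ≠ ⊤ := fun h => hJtop (top_le_iff.mp (h ▸ hHJ))
  haveI : Nontrivial (A ⧸ Hm) := Ideal.Quotient.nontrivial_iff.mpr hHtop
  haveI : IsLocalRing (A ⧸ Hm) :=
    IsLocalRing.of_surjective' (Ideal.Quotient.mk Hm) Ideal.Quotient.mk_surjective
  set Jm : Ideal (A ⧸ Hm) := J.map (Ideal.Quotient.mk Hm) with hJm
  have hJm2 : Jm ^ 2 = ⊥ := by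
    rw [hJm, ← Ideal.map_pow, hJ, Ideal.map_bot]
  -- Artinian
  haveI : IsArtinianRing (A ⧸ Hm) := by
    haveI : IsSimpleModule A ↥Jm := hsimple
    haveI : IsArtinian A ↥Jm := inferInstance
    haveI : IsArtinian A (A ⧸ J) :=
      isArtinian_of_surjective_algebraMap (R := A ⧸ J) (M := A ⧸ J) (S := A)
        Ideal.Quotient.mk_surjective
    let f₁ : ↥Jm →ₗ[A] A ⧸ Hm := Jm.subtype.restrictScalars A
    let g₁ : (A ⧸ Hm) →ₗ[A] A ⧸ J := (Ideal.Quotient.factorₐ A hHJ).toLinearMap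
    have hfg : LinearMap.range f₁ = LinearMap.ker g₁ := by
      ext x
      constructor
      · rintro ⟨y, rfl⟩
        obtain ⟨j, hj, hjy⟩ := (Ideal.mem_map_iff_of_surjective _
          Ideal.Quotient.mk_surjective).mp y.2
        rw [LinearMap.mem_ker]
        change Ideal.Quotient.factorₐ A hHJ (y : A ⧸ Hm) = 0
        rw [← hjy, Ideal.Quotient.factorₐ_apply_mk]
        exact Ideal.Quotient.eq_zero_iff_mem.mpr hj
      · intro hx
        obtain ⟨a, rfl⟩ := Ideal.Quotient.mk_surjective x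
        rw [LinearMap.mem_ker] at hx
        change Ideal.Quotient.factorₐ A hHJ (Ideal.Quotient.mk Hm a) = 0 at hx
        rw [Ideal.Quotient.factorₐ_apply_mk] at hx
        have ha : a ∈ J := Ideal.Quotient.eq_zero_iff_mem.mp hx
        exact ⟨⟨Ideal.Quotient.mk Hm a, Ideal.mem_map_of_mem _ ha⟩, rfl⟩
    haveI : IsArtinian A (A ⧸ Hm) := isArtinian_of_range_eq_ker f₁ g₁ hfg
    exact isArtinian_of_tower A (inferInstance : IsArtinian A (A ⧸ Hm))
  -- local structure map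
  have hmkH : IsLocalHom (Ideal.Quotient.mk Hm) :=
    IsLocalHom.of_surjective _ Ideal.Quotient.mk_surjective
  haveI hRA : IsLocalHom (algebraMap R (A ⧸ Hm)) := by
    have : algebraMap R (A ⧸ Hm) = (Ideal.Quotient.mk Hm).comp (algebraMap R A) := rfl
    rw [this]
    exact RingHom.isLocalHom_comp _ _
  -- length one
  have hlen : Module.length (A ⧸ Hm) ↥Jm = 1 := by
    rw [Module.length_eq_one_iff]
    exact (isSimpleModule_iff_isSimpleModule_of_algebraMap_surjective (R := A) (S := A ⧸ Hm)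
      (M := ↥Jm) Ideal.Quotient.mk_surjective).mp hsimple
  -- the quotient
  let e : ((A ⧸ Hm) ⧸ Jm) ≃ₐ[R] A ⧸ J := DoubleQuot.quotQuotEquivQuotOfLEₐ R hHJ
  haveI : Nontrivial ((A ⧸ Hm) ⧸ Jm) :=
    Ideal.Quotient.nontrivial_iff.mpr (ne_top_of_sq_eq_bot Jm hJm2)
  haveI : IsLocalRing ((A ⧸ Hm) ⧸ Jm) :=
    IsLocalRing.of_surjective' (Ideal.Quotient.mk Jm) Ideal.Quotient.mk_surjective
  let ψm : S →ₐ[R] (A ⧸ Hm) ⧸ Jm := (e.symm : (A ⧸ J) →ₐ[R] _).comp ψ
  have hψm : Function.Surjective ψm := e.symm.surjective.comp hψ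
  haveI hψmlocal : IsLocalHom ψm.toRingHom :=
    IsLocalHom.of_surjective (R := S) (S := (A ⧸ Hm) ⧸ Jm) ψm.toRingHom hψm
  have hbij : Function.Bijective (ResidueField.map (R := S) (S := (A ⧸ Hm) ⧸ Jm)
      ψm.toRingHom) := by
    refine ⟨RingHom.injective _, fun y => ?_⟩
    obtain ⟨a, rfl⟩ := IsLocalRing.residue_surjective y
    obtain ⟨s, rfl⟩ := hψm a
    exact ⟨IsLocalRing.residue S s, rfl⟩
  obtain ⟨χm, hχm⟩ := H (A ⧸ Hm) Jm hJm2 hlen ψm hbij
  refine ⟨χm, fun s a ha => ?_⟩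
  rw [← Ideal.Quotient.eq]
  have h1 : Ideal.Quotient.mk Jm (χm s) = ψm s := AlgHom.congr_fun hχm s
  rw [h1]
  change e.symm (ψ s) = _
  rw [← ha, AlgEquiv.symm_apply_eq]
  rfl

end Coatom

section Level0

variable {R S : Type u} [CommRing R] [CommRing S] [IsLocalRing R] [IsLocalRing S] [Algebra R S]
  [IsLocalHom (algebraMap R S)]
variable {A : Type u} [CommRing A] [IsLocalRing A] [Algebra R A] [IsLocalHom (algebraMap R A)]

/-- Level 0: a square-zero ideal killed by the maximal ideal, with Artinian quotient.  The lifts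
along all the simple quotients of `J` are assembled into a lift to `A` by a retraction argument. -/
theorem exists_lift_of_smallLift_of_torsion (H : SmallLift R S) (J : Ideal A) (hJ : J ^ 2 = ⊥)
    (hmJ : ∀ a ∈ maximalIdeal A, ∀ j ∈ J, a * j = 0) [IsArtinianRing (A ⧸ J)]
    (ψ : S →ₐ[R] A ⧸ J) (hψ : Function.Surjective ψ) :
    ∃ χ : S →ₐ[R] A, (Ideal.Quotient.mkₐ R J).comp χ = ψ := by
  classical
  have hJtors : ∀ a ∈ maximalIdeal A, ∀ x : ↥J, a • x = 0 := by
    intro a ha x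
    apply Subtype.ext
    exact hmJ a ha x.1 x.2
  haveI hss : IsSemisimpleModule A ↥J := isSemisimpleModule_of_torsion (maximalIdeal A) hJtors
  let ι := {m : Submodule A ↥J // IsCoatom m}
  let Hm : ι → Ideal A := fun m => Submodule.map (Submodule.subtype J) m.1
  have hHJ : ∀ m, Hm m ≤ J := by
    rintro m _ ⟨j, _, rfl⟩
    exact j.2
  have hlift : ∀ m : ι, ∃ χm : S →ₐ[R] A ⧸ Hm m, ∀ (s : S) (a : A),
      Ideal.Quotient.mk J a = ψ s →
      χm s - Ideal.Quotient.mk (Hm m) a ∈ J.map (Ideal.Quotient.mk (Hm m)) := fun m =>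
    exists_lift_of_simple H J hJ ψ hψ (Hm m) (hHJ m) (isSimpleModule_map_of_isCoatom J m.1 m.2)
  choose χm hχm using hlift
  let P := ∀ m : ι, A ⧸ Hm m
  let χ'' : S →ₐ[R] P := AlgHom.pi χm
  let N : Submodule A P :=
    Submodule.pi Set.univ (fun m => (J.map (Ideal.Quotient.mk (Hm m))).restrictScalars A)
  have hN : ∀ x : P, x ∈ N ↔ ∀ m, x m ∈ J.map (Ideal.Quotient.mk (Hm m)) := by
    intro x
    constructor
    · intro h m
      exact h m (Set.mem_univ m)
    · intro h m _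
      exact h m
  let Δ : A →ₗ[A] P := Algebra.linearMap A P
  have hΔ : ∀ a m, Δ a m = Ideal.Quotient.mk (Hm m) a := fun a m => rfl
  let ΔJ : ↥J →ₗ[A] ↥N := LinearMap.codRestrict N (Δ ∘ₗ Submodule.subtype J) (by
    intro j
    rw [hN]
    intro m
    exact Ideal.mem_map_of_mem _ j.2)
  have hΔJinj : Function.Injective ΔJ := by
    rw [injective_iff_map_eq_zero]
    intro j hj
    have h1 : ∀ m : ι, j ∈ m.1 := by
      intro m
      have h2 : Δ j.1 m = 0 := congrFun (congrArg Subtype.val hj) m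
      rw [hΔ] at h2
      have h3 : j.1 ∈ Hm m := Ideal.Quotient.eq_zero_iff_mem.mp h2
      obtain ⟨j', hj', hjj⟩ := h3
      have : j' = j := Subtype.ext hjj
      rwa [this] at hj'
    have h4 : j ∈ Module.jacobson A ↥J := by
      rw [Module.jacobson, Submodule.mem_sInf]
      intro m hm
      exact h1 ⟨m, hm⟩
    rw [IsSemisimpleModule.jacobson_eq_bot] at h4
    exact (Submodule.mem_bot A).mp h4
  have hNtors : ∀ a ∈ maximalIdeal A, ∀ x : ↥N, a • x = 0 := by
    intro a ha x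
    apply Subtype.ext
    funext m
    change a • (x.1 m) = 0
    obtain ⟨j, hj, hjx⟩ := (Ideal.mem_map_iff_of_surjective _ Ideal.Quotient.mk_surjective).mp
      ((hN x.1).mp x.2 m)
    rw [← hjx, Algebra.smul_def, Ideal.Quotient.algebraMap_eq, ← map_mul, hmJ a ha j hj, map_zero]
  obtain ⟨ρ, hρ⟩ := exists_leftInverse_of_torsion (maximalIdeal A) hJtors hNtors ΔJ hΔJinj
  have hρΔ : ∀ j : ↥J, ρ (ΔJ j) = j := fun j => LinearMap.congr_fun hρ j
  have hchoice : ∀ s : S, ∃ a : A, Ideal.Quotient.mk J a = ψ s :=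
    fun s => Ideal.Quotient.mk_surjective _
  choose a₀ ha₀ using hchoice
  have hd : ∀ (s : S) (a : A), Ideal.Quotient.mk J a = ψ s → χ'' s - Δ a ∈ N := by
    intro s a ha
    rw [hN]
    intro m
    exact hχm m s a ha
  let χf : S → A := fun s => a₀ s + (ρ ⟨χ'' s - Δ (a₀ s), hd s _ (ha₀ s)⟩ : ↥J).1
  have key : ∀ (s : S) (a : A) (ha : Ideal.Quotient.mk J a = ψ s),
      χf s = a + (ρ ⟨χ'' s - Δ a, hd s a ha⟩ : ↥J).1 := by
    intro s a ha
    have hj : a - a₀ s ∈ J := by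
      rw [← Ideal.Quotient.eq, ha, ha₀]
    have h1 : (⟨χ'' s - Δ (a₀ s), hd s _ (ha₀ s)⟩ : ↥N) =
        ⟨χ'' s - Δ a, hd s a ha⟩ + ΔJ ⟨a - a₀ s, hj⟩ := by
      apply Subtype.ext
      change χ'' s - Δ (a₀ s) = (χ'' s - Δ a) + Δ (a - a₀ s)
      rw [map_sub]
      abel
    change a₀ s + (ρ _ : ↥J).1 = _
    rw [h1, map_add, hρΔ]
    change a₀ s + ((ρ _ : ↥J).1 + (a - a₀ s)) = _
    ring
  have hadd : ∀ s t, χf (s + t) = χf s + χf t := by
    intro s t
    have hst : Ideal.Quotient.mk J (a₀ s + a₀ t) = ψ (s + t) := by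
      rw [map_add, map_add, ha₀, ha₀]
    rw [key (s + t) _ hst]
    have h1 : (⟨χ'' (s + t) - Δ (a₀ s + a₀ t), hd _ _ hst⟩ : ↥N) =
        ⟨χ'' s - Δ (a₀ s), hd s _ (ha₀ s)⟩ + ⟨χ'' t - Δ (a₀ t), hd t _ (ha₀ t)⟩ := by
      apply Subtype.ext
      change χ'' (s + t) - Δ (a₀ s + a₀ t) = (χ'' s - Δ (a₀ s)) + (χ'' t - Δ (a₀ t))
      rw [map_add, map_add]
      abel
    rw [h1, map_add]
    change a₀ s + a₀ t + ((ρ _ : ↥J).1 + (ρ _ : ↥J).1) = (a₀ s + (ρ _ : ↥J).1) + (a₀ t + (ρ _ : ↥J).1)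
    ring
  have hmul : ∀ s t, χf (s * t) = χf s * χf t := by
    intro s t
    have hst : Ideal.Quotient.mk J (a₀ s * a₀ t) = ψ (s * t) := by
      rw [map_mul, map_mul, ha₀, ha₀]
    rw [key (s * t) _ hst]
    have h1 : (⟨χ'' (s * t) - Δ (a₀ s * a₀ t), hd _ _ hst⟩ : ↥N) =
        a₀ t • (⟨χ'' s - Δ (a₀ s), hd s _ (ha₀ s)⟩ : ↥N) +
          a₀ s • (⟨χ'' t - Δ (a₀ t), hd t _ (ha₀ t)⟩ : ↥N) := by
      apply Subtype.ext
      funext m
      have h0 : (χm m s - Ideal.Quotient.mk (Hm m) (a₀ s)) *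
          (χm m t - Ideal.Quotient.mk (Hm m) (a₀ t)) = 0 := by
        have : (χm m s - Ideal.Quotient.mk (Hm m) (a₀ s)) *
            (χm m t - Ideal.Quotient.mk (Hm m) (a₀ t)) ∈
            (J.map (Ideal.Quotient.mk (Hm m))) ^ 2 := by
          rw [sq]
          exact Ideal.mul_mem_mul (hχm m s _ (ha₀ s)) (hχm m t _ (ha₀ t))
        rw [← Ideal.map_pow, hJ, Ideal.map_bot] at this
        exact this
      change χm m (s * t) - Ideal.Quotient.mk (Hm m) (a₀ s * a₀ t) =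
        a₀ t • (χm m s - Ideal.Quotient.mk (Hm m) (a₀ s)) +
          a₀ s • (χm m t - Ideal.Quotient.mk (Hm m) (a₀ t))
      rw [Algebra.smul_def, Algebra.smul_def, Ideal.Quotient.algebraMap_eq, map_mul, map_mul]
      linear_combination h0
    rw [h1, map_add, map_smul, map_smul]
    have h2 : ∀ x y : ↥J, x.1 * y.1 = 0 := by
      intro x y
      have : x.1 * y.1 ∈ J ^ 2 := by
        rw [sq]
        exact Ideal.mul_mem_mul x.2 y.2
      rw [hJ] at this
      exact this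
    change a₀ s * a₀ t + (a₀ t * (ρ _ : ↥J).1 + a₀ s * (ρ _ : ↥J).1) =
      (a₀ s + (ρ _ : ↥J).1) * (a₀ t + (ρ _ : ↥J).1)
    linear_combination (-1 : A) * h2 (ρ ⟨χ'' s - Δ (a₀ s), hd s _ (ha₀ s)⟩)
      (ρ ⟨χ'' t - Δ (a₀ t), hd t _ (ha₀ t)⟩)
  have hcomm : ∀ r : R, χf (algebraMap R S r) = algebraMap R A r := by
    intro r
    have hr : Ideal.Quotient.mk J (algebraMap R A r) = ψ (algebraMap R S r) := by
      rw [AlgHom.commutes]
      rfl
    rw [key _ _ hr]
    have h1 : (⟨χ'' (algebraMap R S r) - Δ (algebraMap R A r), hd _ _ hr⟩ : ↥N) = 0 := by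
      apply Subtype.ext
      funext m
      change χm m (algebraMap R S r) - Ideal.Quotient.mk (Hm m) (algebraMap R A r) = 0
      rw [AlgHom.commutes]
      exact sub_self _
    rw [h1, map_zero]
    exact add_zero _
  let χ : S →ₐ[R] A :=
    { toFun := χf
      map_one' := by
        have := hcomm 1
        rwa [map_one, map_one] at this
      map_mul' := hmul
      map_zero' := by
        have := hcomm 0
        rwa [map_zero, map_zero] at this
      map_add' := hadd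
      commutes' := hcomm }
  refine ⟨χ, ?_⟩
  ext s
  change Ideal.Quotient.mk J (a₀ s + (ρ ⟨χ'' s - Δ (a₀ s), hd s _ (ha₀ s)⟩ : ↥J).1) = ψ s
  rw [map_add, ha₀, Ideal.Quotient.eq_zero_iff_mem.mpr (ρ _ : ↥J).2, add_zero]

end Level0

section Level1

variable {R S : Type u} [CommRing R] [CommRing S] [IsLocalRing R] [IsLocalRing S]
  [IsNoetherianRing S] [Algebra R S] [IsLocalHom (algebraMap R S)]

/-- Level 1: a general test algebra `C` with a square-zero ideal `J` killed by the lifts of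
`ψ(𝔪_S)`.  Reduction to level 0 by a fibre product with `S ⧸ 𝔪_S ^ (k + 1)`. -/
theorem exists_lift_of_smallLift_of_mul_eq_zero (H : SmallLift R S) {C : Type u} [CommRing C]
    [Algebra R C] (J : Ideal C) (hJ : J ^ 2 = ⊥) (ψ : S →ₐ[R] C ⧸ J)
    (hk : ∃ k : ℕ, ∀ x ∈ maximalIdeal S ^ k, ψ x = 0)
    (hT : ∀ c : C, ∀ s ∈ maximalIdeal S, Ideal.Quotient.mk J c = ψ s → ∀ j ∈ J, c * j = 0) :
    ∃ χ : S →ₐ[R] C, (Ideal.Quotient.mkₐ R J).comp χ = ψ := by
  obtain ⟨k, hk⟩ := hk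
  set I : Ideal S := (maximalIdeal S) ^ (k + 1) with hI
  have hk' : ∀ x ∈ I, ψ x = 0 := fun x hx => hk x (Ideal.pow_le_pow_right k.le_succ hx)
  have hI𝔪 : I ≤ maximalIdeal S := Ideal.pow_le_self (Nat.succ_ne_zero k)
  have hItop : I ≠ ⊤ := fun h => Ideal.IsPrime.ne_top' (top_le_iff.mp (h ▸ hI𝔪))
  have : Nontrivial (S ⧸ I) := Ideal.Quotient.nontrivial_iff.mpr hItop
  have : IsLocalRing (S ⧸ I) :=
    IsLocalRing.of_surjective' (Ideal.Quotient.mk I) Ideal.Quotient.mk_surjective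
  let ψ' : S ⧸ I →ₐ[R] C ⧸ J := Ideal.Quotient.liftₐ I ψ hk'
  let g : C →ₐ[R] C ⧸ J := Ideal.Quotient.mkₐ R J
  have hglocal : IsLocalHom g := ⟨fun a ha =>
    (IsNilpotent.isUnit_quotient_mk_iff (I := J) ⟨2, hJ⟩).mp ha⟩
  have : IsLocalRing (AlgHom.pullback ψ' g) := AlgHom.isLocalRing_pullback ψ' g
  let p₁ : AlgHom.pullback ψ' g →ₐ[R] S ⧸ I := AlgHom.pullbackFst ψ' g
  let p₂ : AlgHom.pullback ψ' g →ₐ[R] C := AlgHom.pullbackSnd ψ' g
  have hp₁ : Function.Surjective p₁ :=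
    AlgHom.surjective_pullbackFst_of_surjective ψ' g Ideal.Quotient.mk_surjective
  have hmemJ : ∀ x : AlgHom.pullback ψ' g, p₁ x = 0 → p₂ x ∈ J := by
    intro x hx
    have h1 : ψ' (p₁ x) = g (p₂ x) := x.2
    rw [hx, map_zero] at h1
    exact Ideal.Quotient.eq_zero_iff_mem.mp h1.symm
  have hJ' : (RingHom.ker p₁) ^ 2 = ⊥ := by
    rw [eq_bot_iff, sq, Ideal.mul_le]
    intro x hx y hy
    rw [RingHom.mem_ker] at hx hy
    rw [Ideal.mem_bot]
    apply Subtype.ext
    apply Prod.ext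
    · change p₁ (x * y) = 0
      rw [map_mul, hx, zero_mul]
    · change p₂ (x * y) = 0
      rw [map_mul]
      have : p₂ x * p₂ y ∈ J ^ 2 := by
        rw [sq]
        exact Ideal.mul_mem_mul (hmemJ x hx) (hmemJ y hy)
      rw [hJ] at this
      exact this
  have hmaxT : (maximalIdeal (S ⧸ I)) ^ (k + 1) = ⊥ := by
    rw [← IsLocalRing.map_maximalIdeal_of_surjective (Ideal.Quotient.mk I)
      Ideal.Quotient.mk_surjective, ← Ideal.map_pow, Ideal.map_quotient_self]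
  have hmkI : IsLocalHom (Ideal.Quotient.mk I) :=
    IsLocalHom.of_surjective _ Ideal.Quotient.mk_surjective
  have hRT : IsLocalHom (algebraMap R (S ⧸ I)) := by
    have : algebraMap R (S ⧸ I) = (Ideal.Quotient.mk I).comp (algebraMap R S) := rfl
    rw [this]
    exact RingHom.isLocalHom_comp _ _
  have hRA' : IsLocalHom (algebraMap R (AlgHom.pullback ψ' g)) := by
    have h1 : p₁.toRingHom.comp (algebraMap R (AlgHom.pullback ψ' g)) =
        algebraMap R (S ⧸ I) := p₁.comp_algebraMap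
    have : IsLocalHom (p₁.toRingHom.comp (algebraMap R (AlgHom.pullback ψ' g))) := by
      rw [h1]; exact hRT
    exact isLocalHom_of_comp _ p₁.toRingHom
  -- torsion
  have htors : ∀ a ∈ maximalIdeal (AlgHom.pullback ψ' g), ∀ j ∈ RingHom.ker p₁, a * j = 0 := by
    intro a ha j hj
    rw [RingHom.mem_ker] at hj
    have h1 : p₁.toRingHom a ∈ (maximalIdeal (AlgHom.pullback ψ' g)).map p₁.toRingHom :=
      Ideal.mem_map_of_mem _ ha
    rw [IsLocalRing.map_maximalIdeal_of_surjective p₁.toRingHom hp₁,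
      ← IsLocalRing.map_maximalIdeal_of_surjective (Ideal.Quotient.mk I)
        Ideal.Quotient.mk_surjective] at h1
    obtain ⟨s, hs, hsa⟩ := (Ideal.mem_map_iff_of_surjective _ Ideal.Quotient.mk_surjective).mp h1
    have h2 : ψ' (p₁ a) = g (p₂ a) := a.2
    have h3 : Ideal.Quotient.mk J (p₂ a) = ψ s := by
      have : p₁ a = Ideal.Quotient.mk I s := hsa.symm
      rw [this] at h2
      exact h2.symm
    apply Subtype.ext
    apply Prod.ext
    · change p₁ (a * j) = 0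
      rw [map_mul, hj, mul_zero]
    · change p₂ (a * j) = 0
      rw [map_mul]
      exact hT (p₂ a) s hs h3 (p₂ j) (hmemJ j hj)
  let e : (AlgHom.pullback ψ' g ⧸ RingHom.ker p₁) ≃ₐ[R] S ⧸ I :=
    Ideal.quotientKerAlgEquivOfSurjective hp₁
  haveI : IsArtinianRing (S ⧸ I) :=
    (isArtinianRing_iff_isNilpotent_maximalIdeal (S ⧸ I)).mpr ⟨k + 1, hmaxT⟩
  haveI : IsArtinianRing (AlgHom.pullback ψ' g ⧸ RingHom.ker p₁) :=
    e.symm.toRingEquiv.isArtinianRing
  let φ : S →ₐ[R] AlgHom.pullback ψ' g ⧸ RingHom.ker p₁ :=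
    (e.symm : S ⧸ I →ₐ[R] _).comp (Ideal.Quotient.mkₐ R I)
  have hφsurj : Function.Surjective φ := e.symm.surjective.comp Ideal.Quotient.mk_surjective
  obtain ⟨χ', hχ'⟩ := exists_lift_of_smallLift_of_torsion H (RingHom.ker p₁) hJ' htors φ hφsurj
  refine ⟨p₂.comp χ', ?_⟩
  ext s
  have h1 : ψ' (p₁ (χ' s)) = g (p₂ (χ' s)) := (χ' s).2
  have h2 : e (Ideal.Quotient.mk _ (χ' s)) = e (φ s) := by
    rw [← hχ']; rfl
  have h3 : e (φ s) = Ideal.Quotient.mk I s := e.apply_symm_apply _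
  have h4 : p₁ (χ' s) = Ideal.Quotient.mk I s := by
    rw [← h3, ← h2]; rfl
  rw [h4] at h1
  exact h1.symm

end Level1

section Level2

variable {R S : Type u} [CommRing R] [CommRing S] [IsLocalRing R] [IsLocalRing S]
  [IsNoetherianRing S] [Algebra R S] [IsLocalHom (algebraMap R S)]

/-- The ideal of the test algebra `C` generated by `J` and the lifts of `ψ(𝔪_S)`. -/
def liftIdeal {C : Type u} [CommRing C] [Algebra R C] (J : Ideal C) (ψ : S →ₐ[R] C ⧸ J) :
    Ideal C :=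
  Ideal.comap (Ideal.Quotient.mk J) (Ideal.map ψ.toRingHom (maximalIdeal S))

theorem mem_liftIdeal_of_eq {C : Type u} [CommRing C] [Algebra R C] (J : Ideal C)
    (ψ : S →ₐ[R] C ⧸ J) (c : C) (s : S) (hs : s ∈ maximalIdeal S)
    (hcs : Ideal.Quotient.mk J c = ψ s) : c ∈ liftIdeal J ψ := by
  rw [liftIdeal, Ideal.mem_comap, hcs]
  exact Ideal.mem_map_of_mem ψ.toRingHom hs

/-- Level 2: dévissage along the powers of `liftIdeal`. -/
theorem exists_lift_of_smallLift_of_pow_mul_eq_bot (H : SmallLift R S) (i : ℕ) :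
    ∀ {C : Type u} [CommRing C] [Algebra R C] (J : Ideal C), J ^ 2 = ⊥ →
    ∀ (ψ : S →ₐ[R] C ⧸ J), (∃ k : ℕ, ∀ x ∈ maximalIdeal S ^ k, ψ x = 0) →
    (liftIdeal J ψ) ^ (i + 1) * J = ⊥ →
    ∃ χ : S →ₐ[R] C, (Ideal.Quotient.mkₐ R J).comp χ = ψ := by
  induction i with
  | zero =>
    intro C _ _ J hJ ψ hk h𝔐
    apply exists_lift_of_smallLift_of_mul_eq_zero H J hJ ψ hk
    intro c s hs hcs j hj
    have hc : c ∈ liftIdeal J ψ := mem_liftIdeal_of_eq J ψ c s hs hcs
    have : c * j ∈ (liftIdeal J ψ) ^ (0 + 1) * J := by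
      rw [zero_add, pow_one]
      exact Ideal.mul_mem_mul hc hj
    rw [h𝔐] at this
    exact this
  | succ i ih =>
    intro C _ _ J hJ ψ hk h𝔐
    let J' : Ideal C := (liftIdeal J ψ) ^ (i + 1) * J
    have hJ'J : J' ≤ J := Ideal.mul_le_right
    let J₁ : Ideal (C ⧸ J') := J.map (Ideal.Quotient.mk J')
    let e : ((C ⧸ J') ⧸ J₁) ≃ₐ[R] C ⧸ J := DoubleQuot.quotQuotEquivQuotOfLEₐ R hJ'J
    let ψ₁ : S →ₐ[R] (C ⧸ J') ⧸ J₁ := (e.symm : (C ⧸ J) →ₐ[R] _).comp ψ
    have hJ₁ : J₁ ^ 2 = ⊥ := by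
      rw [← Ideal.map_pow, hJ, Ideal.map_bot]
    have hk₁ : ∃ k : ℕ, ∀ x ∈ maximalIdeal S ^ k, ψ₁ x = 0 := by
      obtain ⟨k, hk⟩ := hk
      refine ⟨k, fun x hx => ?_⟩
      change e.symm (ψ x) = 0
      rw [hk x hx, map_zero]
    have he : ∀ x : C, e (Ideal.Quotient.mk J₁ (Ideal.Quotient.mk J' x)) =
        Ideal.Quotient.mk J x := fun x => rfl
    have heψ : ∀ s : S, e (ψ₁ s) = ψ s := fun s => e.apply_symm_apply _
    have h𝔐₁ : liftIdeal J₁ ψ₁ ≤ (liftIdeal J ψ).map (Ideal.Quotient.mk J') := by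
      intro x₁ hx₁
      obtain ⟨x, rfl⟩ := Ideal.Quotient.mk_surjective x₁
      apply Ideal.mem_map_of_mem
      rw [liftIdeal, Ideal.mem_comap] at hx₁ ⊢
      have h1 : (e : (C ⧸ J') ⧸ J₁ →+* C ⧸ J) (Ideal.Quotient.mk J₁ (Ideal.Quotient.mk J' x)) ∈
          (Ideal.map ψ₁.toRingHom (maximalIdeal S)).map (e : (C ⧸ J') ⧸ J₁ →+* C ⧸ J) :=
        Ideal.mem_map_of_mem _ hx₁
      rw [Ideal.map_map] at h1
      have h2 : (e : (C ⧸ J') ⧸ J₁ →+* C ⧸ J).comp ψ₁.toRingHom = ψ.toRingHom := by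
        ext s
        exact heψ s
      rw [h2] at h1
      exact h1
    have h𝔐₁' : (liftIdeal J₁ ψ₁) ^ (i + 1) * J₁ = ⊥ := by
      rw [eq_bot_iff]
      calc (liftIdeal J₁ ψ₁) ^ (i + 1) * J₁
          ≤ ((liftIdeal J ψ).map (Ideal.Quotient.mk J')) ^ (i + 1) * J₁ :=
            Ideal.mul_mono_left (Ideal.pow_right_mono h𝔐₁ _)
        _ = J'.map (Ideal.Quotient.mk J') := by
            rw [Ideal.map_mul, Ideal.map_pow]
        _ = ⊥ := Ideal.map_quotient_self J'
    obtain ⟨χ₁, hχ₁⟩ := ih J₁ hJ₁ ψ₁ hk₁ h𝔐₁'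
    have hχ₁' : ∀ s : S, Ideal.Quotient.mk J₁ (χ₁ s) = ψ₁ s := fun s => AlgHom.congr_fun hχ₁ s
    have hJ'2 : J' ^ 2 = ⊥ := by
      rw [eq_bot_iff, ← hJ]
      exact Ideal.pow_right_mono hJ'J 2
    have hk' : ∃ k : ℕ, ∀ x ∈ maximalIdeal S ^ k, χ₁ x = 0 := by
      obtain ⟨k, hk⟩ := hk₁
      refine ⟨k * 2, fun x hx => ?_⟩
      rw [pow_mul] at hx
      have h1 : (maximalIdeal S ^ k).map χ₁.toRingHom ≤ J₁ := by
        rw [Ideal.map_le_iff_le_comap]
        intro y hy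
        rw [Ideal.mem_comap, ← Ideal.Quotient.eq_zero_iff_mem]
        exact (hχ₁' y).trans (hk y hy)
      have h2 : χ₁.toRingHom x ∈ ((maximalIdeal S ^ k) ^ 2).map χ₁.toRingHom :=
        Ideal.mem_map_of_mem _ hx
      rw [Ideal.map_pow] at h2
      have h3 := Ideal.pow_right_mono h1 2 h2
      rw [hJ₁] at h3
      exact h3
    have hT : ∀ c : C, ∀ s ∈ maximalIdeal S, Ideal.Quotient.mk J' c = χ₁ s →
        ∀ j ∈ J', c * j = 0 := by
      intro c s hs hcs j hj
      have hc : c ∈ liftIdeal J ψ := by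
        apply mem_liftIdeal_of_eq J ψ c s hs
        rw [← he c, hcs, hχ₁' s]
        exact heψ s
      have : c * j ∈ (liftIdeal J ψ) ^ (i + 1 + 1) * J := by
        rw [pow_succ', mul_assoc]
        exact Ideal.mul_mem_mul hc hj
      rw [h𝔐] at this
      exact this
    obtain ⟨χ, hχ⟩ := exists_lift_of_smallLift_of_mul_eq_zero H J' hJ'2 χ₁ hk' hT
    refine ⟨χ, ?_⟩
    ext s
    change Ideal.Quotient.mk J (χ s) = ψ s
    have h1 : Ideal.Quotient.mk J' (χ s) = χ₁ s := AlgHom.congr_fun hχ s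
    rw [← he (χ s), h1, hχ₁' s]
    exact heψ s

/-- **Small extensions suffice**: the lifting property along small extensions of Artinian local
rings implies formal smoothness for the adic topology. -/
theorem isAdicFormallySmooth_of_smallLift (H : SmallLift R S) :
    ∀ (C : Type u) [CommRing C] [Algebra R C] (J : Ideal C), J ^ 2 = ⊥ →
    ∀ ψ : S →ₐ[R] C ⧸ J, (∃ k : ℕ, ∀ x ∈ maximalIdeal S ^ k, ψ x = 0) →
      ∃ χ : S →ₐ[R] C, (Ideal.Quotient.mkₐ R J).comp χ = ψ := by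
  intro C _ _ J hJ ψ hk
  obtain ⟨k, hk⟩ := hk
  apply exists_lift_of_smallLift_of_pow_mul_eq_bot H k J hJ ψ ⟨k, hk⟩
  -- `liftIdeal ^ k ≤ J`
  have h1 : (liftIdeal J ψ) ^ k ≤ J := by
    intro x hx
    rw [← Ideal.Quotient.eq_zero_iff_mem]
    have h2 : Ideal.Quotient.mk J x ∈ ((liftIdeal J ψ) ^ k).map (Ideal.Quotient.mk J) :=
      Ideal.mem_map_of_mem _ hx
    rw [Ideal.map_pow] at h2
    have h3 : (liftIdeal J ψ).map (Ideal.Quotient.mk J) ≤
        Ideal.map ψ.toRingHom (maximalIdeal S) := by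
      rw [liftIdeal]
      exact Ideal.map_comap_le
    have h4 := Ideal.pow_right_mono h3 k h2
    rw [← Ideal.map_pow] at h4
    have h5 : Ideal.map ψ.toRingHom (maximalIdeal S ^ k) = ⊥ := by
      rw [eq_bot_iff, Ideal.map_le_iff_le_comap]
      intro y hy
      rw [Ideal.mem_comap, Ideal.mem_bot]
      exact hk y hy
    rw [h5] at h4
    exact h4
  rw [eq_bot_iff, ← hJ, pow_succ, mul_assoc, sq]
  calc (liftIdeal J ψ) ^ k * (liftIdeal J ψ * J) ≤ J * J :=
    Ideal.mul_mono h1 Ideal.mul_le_right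

end Level2

end Groth.Agent.Lib.Helper47
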