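import Mathlib
import Groth.Agent.Lib.Helper10.KoszulComp
import Groth.Agent.Lib.Helper10.KoszulFlat
import Groth.Agent.Lib.Helper35.FlatBC
import Groth.Agent.Lib.Helper47.KoszulSplit

/-!
# Formal glueing: the unit `W → B ⊗_A W` on modules killed by `I`, and Koszul cones (helper47)

`A → B` is a ring map and `I ⊆ A` an ideal with `A/I ≅ B/IB`.

* `bijective_one_tmul`: for `W` killed by `I`, `w ↦ 1 ⊗ w : W → B ⊗_A W` is bijective.
* for an additive `A`-linear endofunctor `H` of `ModuleCat A` with a natural transformation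
  `τ : 𝟭 ⟶ H`, the termwise transformation on complexes commutes with iterated Koszul cones `CC`.
* `quasiIso_CCmap_unitCx`: if `B` is flat and `I = (fs)`, the map induced on iterated cones
  `CC fs K ⟶ CC fs (B ⊗ K)` is a quasi-isomorphism.
-/

set_option autoImplicit false
universe u
open CategoryTheory CategoryTheory.Limits CochainComplex HomComplex TensorProduct

namespace Groth.Agent.Lib.Helper47.TorsUnit

section Module

variable {A B : Type u} [CommRing A] [CommRing B] [Algebra A B] (I : Ideal A)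
  (hs : Function.Surjective
    ((Ideal.Quotient.mk (I.map (algebraMap A B))).comp (algebraMap A B)))
  (hk : RingHom.ker ((Ideal.Quotient.mk (I.map (algebraMap A B))).comp (algebraMap A B)) = I)
  (W : Type u) [AddCommGroup W] [Module A W] (hW : ∀ a ∈ I, ∀ w : W, a • w = 0)

include hW in
lemma tmul_eq_zero_of_mem_map (x : B) (hx : x ∈ I.map (algebraMap A B)) (w : W) :
    x ⊗ₜ[A] w = 0 := by
  induction hx using Submodule.span_induction generalizing w with
  | mem x hx =>
    obtain ⟨a, ha, rfl⟩ := hx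
    rw [Algebra.algebraMap_eq_smul_one, TensorProduct.smul_tmul, hW a ha, TensorProduct.tmul_zero]
  | zero => exact TensorProduct.zero_tmul _ _
  | add x y _ _ hx hy => rw [TensorProduct.add_tmul, hx, hy, add_zero]
  | smul b x _ hx =>
    have : (b • x) ⊗ₜ[A] w = b • (x ⊗ₜ[A] w) := (TensorProduct.smul_tmul' b x w).symm
    rw [this, hx, smul_zero]

include hk hW in
lemma smul_eq_of_mk_eq (x y : A)
    (h : Ideal.Quotient.mk (I.map (algebraMap A B)) (algebraMap A B x) =
      Ideal.Quotient.mk (I.map (algebraMap A B)) (algebraMap A B y)) (w : W) :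
    x • w = y • w := by
  have hxy : x - y ∈ I := by
    rw [← hk, RingHom.mem_ker, map_sub, sub_eq_zero]
    exact h
  have := hW _ hxy w
  rwa [sub_smul, sub_eq_zero] at this

include hs hW in
lemma surjective_one_tmul : Function.Surjective (fun w : W => (1 : B) ⊗ₜ[A] w) := by
  intro z
  induction z using TensorProduct.induction_on with
  | zero => exact ⟨0, TensorProduct.tmul_zero _ _⟩
  | tmul b w =>
    obtain ⟨a, ha⟩ := hs (Ideal.Quotient.mk _ b)
    have hmem : b - algebraMap A B a ∈ I.map (algebraMap A B) := by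
      rw [← Ideal.Quotient.eq]
      exact ha.symm
    refine ⟨a • w, ?_⟩
    have h0 := tmul_eq_zero_of_mem_map I W hW _ hmem w
    rw [TensorProduct.sub_tmul, sub_eq_zero] at h0
    change (1 : B) ⊗ₜ[A] (a • w) = b ⊗ₜ[A] w
    rw [h0, Algebra.algebraMap_eq_smul_one, TensorProduct.smul_tmul]
  | add x y hx hy =>
    obtain ⟨w₁, h₁⟩ := hx
    obtain ⟨w₂, h₂⟩ := hy
    exact ⟨w₁ + w₂, by change (1 : B) ⊗ₜ[A] (w₁ + w₂) = _; rw [TensorProduct.tmul_add]; exact congrArg₂ _ h₁ h₂⟩

/-- a set-theoretic section of `A → B/IB`. -/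
noncomputable def sec (b : B) : A := (hs (Ideal.Quotient.mk _ b)).choose

lemma mk_sec (b : B) :
    Ideal.Quotient.mk (I.map (algebraMap A B)) (algebraMap A B (sec I hs b)) =
      Ideal.Quotient.mk _ b :=
  (hs (Ideal.Quotient.mk _ b)).choose_spec

/-- the retraction `B ⊗_A W → W`. -/
noncomputable def retr : B ⊗[A] W →ₗ[A] W :=
  TensorProduct.lift (LinearMap.mk₂ A (fun (b : B) (w : W) => sec I hs b • w)
    (fun b b' w => by
      rw [← add_smul]
      apply smul_eq_of_mk_eq I hk W hW
      rw [mk_sec, map_add, map_add, map_add, mk_sec, mk_sec])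
    (fun a b w => by
      rw [← mul_smul]
      apply smul_eq_of_mk_eq I hk W hW
      rw [mk_sec, map_mul, map_mul, mk_sec, Algebra.smul_def, map_mul])
    (fun b w w' => smul_add _ _ _)
    (fun a b w => smul_comm _ _ _))

lemma retr_one_tmul (w : W) : retr I hs hk W hW ((1 : B) ⊗ₜ[A] w) = w := by
  change sec I hs (1 : B) • w = w
  rw [smul_eq_of_mk_eq I hk W hW (sec I hs 1) 1 (by simp only [mk_sec, map_one]) w, one_smul]

include hs hk hW in
theorem bijective_one_tmul : Function.Bijective (fun w : W => (1 : B) ⊗ₜ[A] w) :=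
  ⟨fun w w' h => by
    have := congrArg (retr I hs hk W hW) h
    simpa only [retr_one_tmul] using this, surjective_one_tmul I hs W hW⟩

end Module

section Cat

open Groth.Agent.Lib.Helper35.FlatBC

variable (A B : Type u) [CommRing A] [CommRing B] [Algebra A B]

/-- restriction of scalars along `A → B`. -/
noncomputable abbrev res : ModuleCat.{u} B ⥤ ModuleCat.{u} A :=
  ModuleCat.restrictScalars.{u} (algebraMap A B)

/-- the adjunction between extension and restriction of scalars. -/
noncomputable abbrev adj₀ : ext A B ⊣ res A B :=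
  ModuleCat.extendRestrictScalarsAdj.{u, u, u} (algebraMap A B)

/-- `M ↦ B ⊗_A M` as an endofunctor of `A`-modules. -/
noncomputable abbrev HH : ModuleCat.{u} A ⥤ ModuleCat.{u} A := ext A B ⋙ res A B

/-- the unit `M → B ⊗_A M`. -/
noncomputable abbrev tau : 𝟭 (ModuleCat.{u} A) ⟶ HH A B := (adj₀ A B).unit

variable {A B}

lemma tau_app_apply (W : ModuleCat.{u} A) (w : W) :
    extLinearEquivA B W (((tau A B).app W).hom w) = (1 : B) ⊗ₜ[A] w := rfl

variable (I : Ideal A)
  (hs : Function.Surjective
    ((Ideal.Quotient.mk (I.map (algebraMap A B))).comp (algebraMap A B)))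
  (hk : RingHom.ker ((Ideal.Quotient.mk (I.map (algebraMap A B))).comp (algebraMap A B)) = I)

include hs hk in
theorem isIso_tau_app (W : ModuleCat.{u} A) (hW : ∀ a ∈ I, ∀ w : W, a • w = 0) :
    IsIso ((tau A B).app W) := by
  rw [ConcreteCategory.isIso_iff_bijective]
  have h := bijective_one_tmul I hs hk W hW
  have h2 : Function.Bijective (fun w : W => extLinearEquivA B W (((tau A B).app W).hom w)) := h
  exact (Function.Bijective.of_comp_iff' (extLinearEquivA B W).bijective _).mp h2

end Cat

section Gen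

open Groth.Agent.Lib.Helper10.KoszulComp Groth.Agent.Lib.Helper10.KoszulFlat
  Groth.Agent.Lib.Helper12.Koszul

variable {A : Type u} [CommRing A] (H : ModuleCat.{u} A ⥤ ModuleCat.{u} A) [H.Additive]
  (hH : ∀ (M : ModuleCat.{u} A) (a : A), H.map (a • 𝟙 M) = a • 𝟙 (H.obj M))
  (τ : 𝟭 (ModuleCat.{u} A) ⟶ H)

/-- `H` applied termwise. -/
noncomputable abbrev Hc : CochainComplex (ModuleCat.{u} A) ℤ ⥤ CochainComplex (ModuleCat.{u} A) ℤ :=
  H.mapHomologicalComplex (ComplexShape.up ℤ)

include hH in
lemma Hc_map_smul_id (K : CochainComplex (ModuleCat.{u} A) ℤ) (a : A) :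
    (Hc H).map (a • 𝟙 K) = a • 𝟙 ((Hc H).obj K) := by
  ext i : 1
  exact hH (K.X i) a

/-- the termwise natural transformation. -/
noncomputable def tauCx (K : CochainComplex (ModuleCat.{u} A) ℤ) : K ⟶ (Hc H).obj K where
  f i := τ.app (K.X i)
  comm' i j _ := (τ.naturality (K.d i j)).symm

@[reassoc]
lemma tauCx_naturality {K L : CochainComplex (ModuleCat.{u} A) ℤ} (φ : K ⟶ L) :
    φ ≫ tauCx H τ L = tauCx H τ K ≫ (Hc H).map φ := by
  ext i : 1
  exact τ.naturality (φ.f i)

set_option backward.defeqAttrib.useBackward true in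
set_option backward.isDefEq.respectTransparency false in
lemma map_inl_v_iso {K L : CochainComplex (ModuleCat.{u} A) ℤ} (φ : K ⟶ L) (n m : ℤ)
    (h : m + (-1) = n) :
    H.map ((mappingCone.inl φ).v m n h) ≫ (mappingCone.mapHomologicalComplexIso φ H).hom.f n =
      (mappingCone.inl ((Hc H).map φ)).v m n h := by
  obtain rfl : m = n + 1 := by lia
  dsimp [mappingCone.mapHomologicalComplexIso]
  simp only [mappingCone.mapHomologicalComplexXIso_eq φ H n (n + 1) rfl,
    mappingCone.mapHomologicalComplexXIso'_hom,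
    Preadditive.comp_add, ← H.map_comp_assoc, mappingCone.inl_v_fst_v, mappingCone.inl_v_snd_v,
    H.map_id, H.map_zero, zero_comp, add_zero, Category.id_comp]

set_option backward.defeqAttrib.useBackward true in
set_option backward.isDefEq.respectTransparency false in
lemma tauCx_cone {K L : CochainComplex (ModuleCat.{u} A) ℤ} (φ : K ⟶ L) :
    tauCx H τ (mappingCone φ) ≫ (mappingCone.mapHomologicalComplexIso φ H).hom =
      mappingCone.map φ ((Hc H).map φ) (tauCx H τ K) (tauCx H τ L) (tauCx_naturality H τ φ) := by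
  ext n : 1
  rw [mappingCone.ext_from_iff _ (n + 1) n rfl]
  constructor
  · rw [HomologicalComplex.comp_f, mappingCone.map, mappingCone.inl_v_desc_f]
    have h1 : (mappingCone.inl φ).v (n + 1) n (by lia) ≫ (tauCx H τ (mappingCone φ)).f n =
        τ.app (K.X (n + 1)) ≫ H.map ((mappingCone.inl φ).v (n + 1) n (by lia)) :=
      τ.naturality ((mappingCone.inl φ).v (n + 1) n (by lia))
    have h3 := map_inl_v_iso H φ n (n + 1) (by lia)
    rw [reassoc_of% h1, h3]
    simp [tauCx]
  · have h2 : mappingCone.inr φ ≫ tauCx H τ (mappingCone φ) ≫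
        (mappingCone.mapHomologicalComplexIso φ H).hom =
        mappingCone.inr φ ≫ mappingCone.map φ ((Hc H).map φ) (tauCx H τ K) (tauCx H τ L)
          (tauCx_naturality H τ φ) := by
      rw [mappingCone.map, mappingCone.inr_desc, tauCx_naturality_assoc, mappingCone.map_inr]
    exact congrArg (fun t => t.f n) h2

lemma map_coneCongr {K₁ L₁ K₂ L₂ : CochainComplex (ModuleCat.{u} A) ℤ} (φ₁ : K₁ ⟶ L₁)
    {α β : K₂ ⟶ L₂} (h : α = β) (a : K₁ ⟶ K₂) (b : L₁ ⟶ L₂) (c : φ₁ ≫ b = a ≫ α) :
    mappingCone.map φ₁ α a b c ≫ (coneCongr h).hom = mappingCone.map φ₁ β a b (h ▸ c) := by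
  subst h
  simp [coneCongr]

/-- `H` commutes with iterated cones. -/
noncomputable def HCCIso (K : CochainComplex (ModuleCat.{u} A) ℤ) : ∀ l : List A,
    ((Hc H).obj (CC l K) ≅ CC l ((Hc H).obj K))
  | [] => Iso.refl _
  | f :: l =>
      mappingCone.mapHomologicalComplexIso (f • 𝟙 (CC l K)) H ≪≫
      coneCongr (Hc_map_smul_id H hH (CC l K) f) ≪≫
      coneIso f (HCCIso K l)

theorem tauCx_CC (K : CochainComplex (ModuleCat.{u} A) ℤ) : ∀ l : List A,
    tauCx H τ (CC l K) ≫ (HCCIso H hH K l).hom = CCmap (tauCx H τ K) l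
  | [] => Category.comp_id _
  | f :: l => by
    change tauCx H τ (mappingCone (f • 𝟙 (CC l K))) ≫
      ((mappingCone.mapHomologicalComplexIso (f • 𝟙 (CC l K)) H).hom ≫
        (coneCongr (Hc_map_smul_id H hH (CC l K) f)).hom ≫
          coneMap f (HCCIso H hH K l).hom) = coneMap f (CCmap (tauCx H τ K) l)
    rw [reassoc_of% (tauCx_cone H τ (f • 𝟙 (CC l K))), reassoc_of% (map_coneCongr _ _ _ _ _),
      ← tauCx_CC K l, coneMap_comp]
    rfl

end Gen

section QI

variable {A : Type u} [CommRing A] (H : ModuleCat.{u} A ⥤ ModuleCat.{u} A) [H.Additive]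
  [PreservesFiniteLimits H] [PreservesFiniteColimits H]
  (τ : 𝟭 (ModuleCat.{u} A) ⟶ H)

theorem quasiIso_tauCx (K : CochainComplex (ModuleCat.{u} A) ℤ)
    (h : ∀ i, IsIso (τ.app (K.homology i))) : QuasiIso (tauCx H τ K) := by
  rw [quasiIso_iff]
  intro i
  rw [quasiIsoAt_iff_isIso_homologyMap]
  have key := NatTrans.app_homology τ (K.sc i)
  have hi : IsIso (τ.app (K.sc i).homology) := h i
  have h2 : IsIso (ShortComplex.homologyMap ((K.sc i).mapNatTrans τ)) := by
    have e : ShortComplex.homologyMap ((K.sc i).mapNatTrans τ) =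
        ((K.sc i).mapHomologyIso (𝟭 _)).hom ≫ τ.app (K.sc i).homology ≫
          ((K.sc i).mapHomologyIso H).inv := by
      rw [key]
      simp
    rw [e]
    infer_instance
  exact h2

end QI

section Main

open Groth.Agent.Lib.Helper35.FlatBC Groth.Agent.Lib.Helper10.KoszulComp
  Groth.Agent.Lib.Helper10.KoszulFlat Groth.Agent.Lib.Helper47.KoszulSplit

variable {A B : Type u} [CommRing A] [CommRing B] [Algebra A B]

lemma HH_map_smul_id (M : ModuleCat.{u} A) (a : A) :
    (HH A B).map (a • 𝟙 M) = a • 𝟙 ((HH A B).obj M) := by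
  change (res A B).map ((ext A B).map (a • 𝟙 M)) = _
  rw [extendScalars_map_smul, CategoryTheory.Functor.map_id]
  ext x
  rfl

/-- the unit `K → B ⊗_A K` on complexes. -/
noncomputable abbrev unitCx (K : CochainComplex (ModuleCat.{u} A) ℤ) :
    K ⟶ (Hc (HH A B)).obj K := tauCx (HH A B) (tau A B) K

variable [Module.Flat A B] (I : Ideal A)
  (hs : Function.Surjective
    ((Ideal.Quotient.mk (I.map (algebraMap A B))).comp (algebraMap A B)))
  (hk : RingHom.ker ((Ideal.Quotient.mk (I.map (algebraMap A B))).comp (algebraMap A B)) = I)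

include hs hk in
/-- if the cohomology of `K` is killed by `I`, then `K → B ⊗_A K` is a quasi-isomorphism. -/
theorem quasiIso_unitCx (K : CochainComplex (ModuleCat.{u} A) ℤ)
    (hK : ∀ (i : ℤ), ∀ a ∈ I, ∀ x : K.homology i, a • x = 0) :
    QuasiIso (unitCx (B := B) K) :=
  quasiIso_tauCx (HH A B) (tau A B) K (fun i => isIso_tau_app I hs hk _ (hK i))

lemma smul_homology_eq_zero_of_nullH (K : CochainComplex (ModuleCat.{u} A) ℤ) (a : A)
    (h : NullH a K) (i : ℤ) (x : K.homology i) : a • x = 0 := by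
  obtain ⟨h⟩ := (nullH_iff _ _).mp h
  have h1 := h.homologyMap_eq i
  rw [Groth.Agent.Lib.Helper47.homologyMap_smul_id, HomologicalComplex.homologyMap_zero] at h1
  have := congrArg (fun φ => φ.hom x) h1
  exact this

include hs hk in
/-- the map induced by the unit on iterated Koszul cones on generators of `I` is a
quasi-isomorphism. -/
theorem quasiIso_CCmap_unitCx (fs : List A) (hfs : I ≤ Ideal.span {a | a ∈ fs})
    (K : CochainComplex (ModuleCat.{u} A) ℤ) :
    QuasiIso (CCmap (unitCx (B := B) K) fs) := by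
  rw [← tauCx_CC (HH A B) HH_map_smul_id (tau A B) K fs]
  have : QuasiIso (unitCx (B := B) (CC fs K)) :=
    quasiIso_unitCx I hs hk (CC fs K) (fun i a ha x =>
      smul_homology_eq_zero_of_nullH _ a (nullH_CC_of_mem_span K fs a (hfs ha)) i x)
  infer_instance

end Main

end Groth.Agent.Lib.Helper47.TorsUnit
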