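import Mathlib
import Groth.Prelude.Def_Wider
import Groth.Agent.Lib.Helper32.DCoprod
import Groth.Agent.Lib.Helper32.ExactAdj
import Groth.Agent.Lib.Helper47.TorsUnit

/-!
# Formal glueing: `Ext` of `I`-power torsion modules is insensitive to `A → B` (helper47)

`A → B` flat, `I ⊆ A` finitely generated with `A/I ≅ B/IB`.

* abstract triangulated lemmas: transport along shifts, descent of bijectivity along cones.
* `Kil I X`: objects of `D(A)` killed by `I`; `BijOn I ψ`: `ψ` induces bijections on `Hom(X, -)`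
  for `X` killed by `I`; `bijOn_unitCx`: this holds for `K → B ⊗_A K` (Koszul induction).
* `coneT B K`: the cone of `K → B ⊗_A K`; `Van 𝕋 Y`: all maps `Y → 𝕋[n]` vanish.
* `vanM_of_pow`, `vanM_directSum`, `vanM_of_tors`: `Hom(M[0], 𝕋[n]) = 0` for `I`-power torsion `M`.
* `main`: `Hom_{D(A)}(M, N[i]) ≃+ Hom_{D(B)}(B ⊗ M, (B ⊗ N)[i])`.
-/

set_option autoImplicit false
universe u v
open CategoryTheory CategoryTheory.Limits CategoryTheory.Pretriangulated CochainComplex
open scoped TensorProduct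
attribute [local instance] HasDerivedCategory.standard

namespace Groth.Agent.Lib.Helper47.TorsDesc

open DerivedCategory Groth.Agent.Lib.Helper10.KoszulComp Groth.Agent.Lib.Helper12.Koszul
  Groth.Agent.Lib.Helper47.TorsUnit Groth.Agent.Lib.Helper32.DCoprod
  Groth.Agent.Lib.Helper35.FlatBC

section Shift

variable {D : Type*} [Category D] [Preadditive D] [HasShift D ℤ]

/-- transport of vanishing of Hom along shifts. -/
lemma zero_of_shift (X Y : D) (m a n : ℤ) (hman : m + a = n) (H : ∀ g : X ⟶ Y⟦m⟧, g = 0)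
    (h : X⟦a⟧ ⟶ Y⟦n⟧) : h = 0 := by
  let adj : CategoryTheory.shiftFunctor D a ⊣ CategoryTheory.shiftFunctor D (-a) := (shiftEquiv D a).toAdjunction
  apply (adj.homEquiv X (Y⟦n⟧)).injective
  have e : (Y⟦n⟧)⟦-a⟧ ≅ Y⟦m⟧ := ((CategoryTheory.shiftFunctorAdd' D n (-a) m (by lia)).app Y).symm
  have h0 : ∀ f : X ⟶ (Y⟦n⟧)⟦-a⟧, f = 0 := fun f => by
    rw [← cancel_mono e.hom, zero_comp]
    exact H _
  exact (h0 _).trans (h0 _).symm

lemma zero_of_shift' (X Z : D) (n : ℤ) (H : ∀ h : X⟦-n⟧ ⟶ Z, h = 0)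
    (g : X ⟶ Z⟦n⟧) : g = 0 := by
  let adj : CategoryTheory.shiftFunctor D (-n) ⊣ CategoryTheory.shiftFunctor D n := (shiftEquiv D n).symm.toAdjunction
  apply (adj.homEquiv X Z).symm.injective
  exact (H _).trans (H _).symm

lemma injective_postcomp_shift {K L : D} (φ : K ⟶ L) (X : D) (n : ℤ)
    (h : Function.Injective (fun g : X⟦-n⟧ ⟶ K => g ≫ φ)) :
    Function.Injective (fun g : X ⟶ K⟦n⟧ => g ≫ φ⟦n⟧') := by
  let adj : CategoryTheory.shiftFunctor D (-n) ⊣ CategoryTheory.shiftFunctor D n := (shiftEquiv D n).symm.toAdjunction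
  have hcomm : (fun g : X ⟶ K⟦n⟧ => g ≫ φ⟦n⟧') ∘ (adj.homEquiv X K) =
      (adj.homEquiv X L) ∘ (fun g => g ≫ φ) := by
    funext g
    exact (adj.homEquiv_naturality_right g φ).symm
  have h2 : Function.Injective ((adj.homEquiv X L) ∘ (fun g => g ≫ φ)) :=
    (adj.homEquiv X L).injective.comp h
  rw [← hcomm] at h2
  intro g₁ g₂ hg
  obtain ⟨g₁, rfl⟩ := (adj.homEquiv X K).surjective g₁
  obtain ⟨g₂, rfl⟩ := (adj.homEquiv X K).surjective g₂
  rw [h2 hg]

lemma bijective_postcomp_shift {K L : D} (φ : K ⟶ L) (X : D) (n : ℤ)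
    (h : Function.Bijective (fun g : X⟦-n⟧ ⟶ K => g ≫ φ)) :
    Function.Bijective (fun g : X ⟶ K⟦n⟧ => g ≫ φ⟦n⟧') := by
  let adj : CategoryTheory.shiftFunctor D (-n) ⊣ CategoryTheory.shiftFunctor D n := (shiftEquiv D n).symm.toAdjunction
  have hcomm : (fun g : X ⟶ K⟦n⟧ => g ≫ φ⟦n⟧') ∘ (adj.homEquiv X K) =
      (adj.homEquiv X L) ∘ (fun g => g ≫ φ) := by
    funext g
    exact (adj.homEquiv_naturality_right g φ).symm
  have h2 : Function.Bijective ((adj.homEquiv X L) ∘ (fun g => g ≫ φ)) :=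
    (adj.homEquiv X L).bijective.comp h
  rw [← hcomm] at h2
  exact (Function.Bijective.of_comp_iff _ (adj.homEquiv X K).bijective).mp h2

end Shift

section Tri

variable {D : Type*} [Category D] [Preadditive D] [HasZeroObject D] [HasShift D ℤ]
  [∀ n : ℤ, (CategoryTheory.shiftFunctor D n).Additive] [Pretriangulated D]

/-- vanishing of all maps to shifts of `𝕋`. -/
def Van (𝕋 Y : D) : Prop := ∀ (n : ℤ) (g : Y ⟶ 𝕋⟦n⟧), g = 0

lemma Van.shift {𝕋 Y : D} (h : Van 𝕋 Y) (a : ℤ) : Van 𝕋 (Y⟦a⟧) :=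
  fun n g => zero_of_shift Y 𝕋 (n - a) a n (by lia) (h (n - a)) g

lemma Van.of_iso {𝕋 Y Y' : D} (h : Van 𝕋 Y) (e : Y ≅ Y') : Van 𝕋 Y' := fun n g => by
  rw [← cancel_epi e.hom, comp_zero]
  exact h n _

lemma Van.zero {𝕋 Y : D} (h : Van 𝕋 Y) (g : Y ⟶ 𝕋) : g = 0 := by
  rw [← cancel_mono ((shiftFunctorZero D ℤ).inv.app 𝕋), zero_comp]
  exact h 0 _

/-- graded two-out-of-three, middle term. -/
lemma zero_of_tri₂ (𝕋 : D) (T : Triangle D) (hT : T ∈ distTriang D) (n : ℤ)
    (h₁ : ∀ g : T.obj₁ ⟶ 𝕋⟦n⟧, g = 0) (h₃ : ∀ g : T.obj₃ ⟶ 𝕋⟦n⟧, g = 0)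
    (g : T.obj₂ ⟶ 𝕋⟦n⟧) : g = 0 := by
  obtain ⟨g', rfl⟩ := Triangle.yoneda_exact₂ T hT g (h₁ _)
  rw [h₃ g', comp_zero]

/-- graded two-out-of-three, third term. -/
lemma zero_of_tri₃ (𝕋 : D) (T : Triangle D) (hT : T ∈ distTriang D) (n m : ℤ) (hnm : m + 1 = n)
    (h₂ : ∀ g : T.obj₂ ⟶ 𝕋⟦n⟧, g = 0) (h₁ : ∀ g : T.obj₁ ⟶ 𝕋⟦m⟧, g = 0)
    (g : T.obj₃ ⟶ 𝕋⟦n⟧) : g = 0 := by
  obtain ⟨g', rfl⟩ := Triangle.yoneda_exact₃ T hT g (h₂ _)
  rw [zero_of_shift T.obj₁ 𝕋 m 1 n hnm h₁ g', comp_zero]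

lemma Van.of_tri₂ {𝕋 : D} (T : Triangle D) (hT : T ∈ distTriang D)
    (h₁ : Van 𝕋 T.obj₁) (h₃ : Van 𝕋 T.obj₃) : Van 𝕋 T.obj₂ :=
  fun n g => zero_of_tri₂ 𝕋 T hT n (h₁ n) (h₃ n) g

variable (S : D → Prop) (hS : ∀ X, S X → S (X⟦(-1 : ℤ)⟧))

include hS in
/-- if `T.mor₁` induces bijections on `Hom(X, -)` for `X ∈ S`, then `Hom(X, T.obj₃) = 0`. -/
lemma zero_to_obj₃ (T : Triangle D) (hT : T ∈ distTriang D)
    (hb : ∀ X, S X → Function.Bijective (fun g : X ⟶ T.obj₁ => g ≫ T.mor₁))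
    (X : D) (hX : S X) (g : X ⟶ T.obj₃) : g = 0 := by
  have h1 : g ≫ T.mor₃ = 0 := by
    apply injective_postcomp_shift T.mor₁ X 1 (hb _ (hS X hX)).1
    change (g ≫ T.mor₃) ≫ T.mor₁⟦(1 : ℤ)⟧' = 0 ≫ T.mor₁⟦(1 : ℤ)⟧'
    rw [Category.assoc, comp_distTriang_mor_zero₃₁ T hT, comp_zero, zero_comp]
  obtain ⟨h, rfl⟩ := Triangle.coyoneda_exact₃ T hT g h1
  obtain ⟨h', rfl⟩ := (hb X hX).2 h
  change (h' ≫ T.mor₁) ≫ T.mor₂ = 0
  rw [Category.assoc, comp_distTriang_mor_zero₁₂ T hT, comp_zero]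

/-- conversely, vanishing of `Hom(X, T.obj₃[n])` for `n = 0, -1` gives a bijection. -/
lemma bijective_of_van (T : Triangle D) (hT : T ∈ distTriang D) (X : D)
    (h0 : ∀ g : X ⟶ T.obj₃, g = 0) (h1 : ∀ g : X ⟶ T.obj₃⟦(-1 : ℤ)⟧, g = 0) :
    Function.Bijective (fun g : X ⟶ T.obj₁ => g ≫ T.mor₁) := by
  constructor
  · intro g₁ g₂ hg
    have hg' : (g₁ - g₂) ≫ T.mor₁ = 0 := by
      rw [Preadditive.sub_comp]
      exact sub_eq_zero.mpr hg
    obtain ⟨c, hc⟩ := Triangle.coyoneda_exact₂ T.invRotate (inv_rot_of_distTriang T hT) (g₁ - g₂) hg'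
    have hc2 : g₁ - g₂ = 0 := by
      rw [hc, h1 c]
      exact zero_comp
    exact sub_eq_zero.mp hc2
  · intro h
    obtain ⟨g, hg⟩ := Triangle.coyoneda_exact₂ T hT h (h0 _)
    exact ⟨g, hg.symm⟩

/-- one-step descent, injectivity. -/
lemma injective_of_bij₃ (T₁ T₂ : Triangle D) (h₁ : T₁ ∈ distTriang D) (θ : T₁ ⟶ T₂)
    (z₁ : ∀ X, S X → ∀ g : X ⟶ T₁.obj₁, g ≫ T₁.mor₁ = 0)
    (hb : ∀ X, S X → Function.Injective (fun g : X ⟶ T₁.obj₃ => g ≫ θ.hom₃))
    (X : D) (hX : S X) : Function.Injective (fun g : X ⟶ T₁.obj₂ => g ≫ θ.hom₂) := by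
  intro g₁ g₂ hg
  have hg' : (g₁ - g₂) ≫ θ.hom₂ = 0 := by
    rw [Preadditive.sub_comp]
    exact sub_eq_zero.mpr hg
  have h2 : (g₁ - g₂) ≫ T₁.mor₂ = 0 := by
    apply hb X hX
    change ((g₁ - g₂) ≫ T₁.mor₂) ≫ θ.hom₃ = 0 ≫ θ.hom₃
    rw [Category.assoc, θ.comm₂, reassoc_of% hg', zero_comp, zero_comp]
  obtain ⟨c, hc⟩ := Triangle.coyoneda_exact₂ T₁ h₁ _ h2
  rw [z₁ X hX c] at hc
  exact sub_eq_zero.mp hc

include hS in
/-- one-step descent, surjectivity. -/
lemma surjective_of_bij₃ (T₁ T₂ : Triangle D) (h₁ : T₁ ∈ distTriang D) (h₂ : T₂ ∈ distTriang D)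
    (θ : T₁ ⟶ T₂)
    (z₂ : ∀ X, S X → ∀ g : X ⟶ T₂.obj₁, g ≫ T₂.mor₁ = 0)
    (hi : ∀ X, S X → Function.Injective (fun g : X ⟶ T₁.obj₁ => g ≫ θ.hom₁))
    (hb : ∀ X, S X → Function.Surjective (fun g : X ⟶ T₁.obj₃ => g ≫ θ.hom₃))
    (X : D) (hX : S X) : Function.Surjective (fun g : X ⟶ T₁.obj₂ => g ≫ θ.hom₂) := by
  intro h
  obtain ⟨c, hc⟩ := hb X hX (h ≫ T₂.mor₂)
  change c ≫ θ.hom₃ = h ≫ T₂.mor₂ at hc
  have h3 : c ≫ T₁.mor₃ = 0 := by
    apply injective_postcomp_shift θ.hom₁ X 1 (hi _ (hS X hX))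
    change (c ≫ T₁.mor₃) ≫ θ.hom₁⟦(1 : ℤ)⟧' = 0 ≫ θ.hom₁⟦(1 : ℤ)⟧'
    rw [Category.assoc, θ.comm₃, reassoc_of% hc, comp_distTriang_mor_zero₂₃ T₂ h₂, comp_zero,
      zero_comp]
  obtain ⟨g, rfl⟩ := Triangle.coyoneda_exact₃ T₁ h₁ c h3
  have h4 : (g ≫ θ.hom₂ - h) ≫ T₂.mor₂ = 0 := by
    rw [Preadditive.sub_comp, Category.assoc, ← θ.comm₂, ← Category.assoc, hc, sub_self]
  obtain ⟨c', hc'⟩ := Triangle.coyoneda_exact₂ T₂ h₂ _ h4
  rw [z₂ X hX c'] at hc'
  exact ⟨g, sub_eq_zero.mp hc'⟩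

end Tri

section Kil

variable {A : Type u} [CommRing A] (I : Ideal A)

/-- objects of `D(A)` killed by `I`. -/
def Kil (X : DerivedCategory (ModuleCat.{u} A)) : Prop := ∀ a ∈ I, a • 𝟙 X = 0

variable {I}

lemma Kil.shift {X : DerivedCategory (ModuleCat.{u} A)} (h : Kil I X) (n : ℤ) : Kil I (X⟦n⟧) :=
  fun a ha => by
    have := congrArg (CategoryTheory.shiftFunctor (DerivedCategory (ModuleCat.{u} A)) n).map (h a ha)
    rwa [Functor.map_smul, CategoryTheory.Functor.map_id, Functor.map_zero] at this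

lemma Kil.smul_eq_zero {X Y : DerivedCategory (ModuleCat.{u} A)} (h : Kil I X) {a : A}
    (ha : a ∈ I) (g : X ⟶ Y) : a • g = 0 := by
  rw [← Category.id_comp g, ← Linear.smul_comp, h a ha, zero_comp]

lemma Kil.comp_Q_map_smul {X : DerivedCategory (ModuleCat.{u} A)} (h : Kil I X) {a : A}
    (ha : a ∈ I) (K : CochainComplex (ModuleCat.{u} A) ℤ) (g : X ⟶ Q.obj K) :
    g ≫ Q.map (a • 𝟙 K) = 0 := by
  rw [Functor.map_smul, CategoryTheory.Functor.map_id, Linear.comp_smul, Category.comp_id]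
  exact h.smul_eq_zero ha g

variable (I)

/-- `ψ` induces bijections on `Hom(X, -)` for all `X` killed by `I`. -/
def BijOn {K L : CochainComplex (ModuleCat.{u} A) ℤ} (ψ : K ⟶ L) : Prop :=
  ∀ X : DerivedCategory (ModuleCat.{u} A), Kil I X →
    Function.Bijective (fun g : X ⟶ Q.obj K => g ≫ Q.map ψ)

variable {I}

lemma bijOn_of_coneMap {K L : CochainComplex (ModuleCat.{u} A) ℤ} (ψ : K ⟶ L) (a : A)
    (ha : a ∈ I) (h : BijOn I (coneMap a ψ)) : BijOn I ψ := by
  let θ := Q.mapTriangle.map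
    (mappingCone.triangleMap (a • 𝟙 K) (a • 𝟙 L) ψ ψ (by simp))
  have h₁ := mappingCone_triangle_distinguished (a • 𝟙 K)
  have h₂ := mappingCone_triangle_distinguished (a • 𝟙 L)
  have hinj : ∀ X, Kil I X → Function.Injective (fun g : X ⟶ Q.obj K => g ≫ Q.map ψ) :=
    fun X hX => injective_of_bij₃ (Kil I) _ _ h₁ θ
      (fun X hX g => hX.comp_Q_map_smul ha K g) (fun X hX => (h X hX).1) X hX
  intro X hX
  refine ⟨hinj X hX, ?_⟩
  exact surjective_of_bij₃ (Kil I) (fun X hX => hX.shift (-1)) _ _ h₁ h₂ θ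
    (fun X hX g => hX.comp_Q_map_smul ha L g) hinj (fun X hX => (h X hX).2) X hX

lemma bijOn_of_CCmap {K L : CochainComplex (ModuleCat.{u} A) ℤ} (ψ : K ⟶ L) :
    ∀ (l : List A), (∀ a ∈ l, a ∈ I) → BijOn I (CCmap ψ l) → BijOn I ψ
  | [], _, h => h
  | a :: l, hl, h =>
    bijOn_of_CCmap ψ l (fun b hb => hl b (List.mem_cons_of_mem _ hb))
      (bijOn_of_coneMap (CCmap ψ l) a (hl a List.mem_cons_self) h)

lemma bijOn_of_quasiIso {K L : CochainComplex (ModuleCat.{u} A) ℤ} (ψ : K ⟶ L) [QuasiIso ψ] :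
    BijOn I ψ := fun X _ =>
  ⟨fun g₁ g₂ h => (cancel_mono (Q.map ψ)).mp h,
    fun g => ⟨g ≫ inv (Q.map ψ), by simp⟩⟩

end Kil

section SES

variable {A : Type u} [CommRing A]

/-- short complex of modules from linear maps. -/
noncomputable def sesOf {X₁ X₂ X₃ : Type u} [AddCommGroup X₁] [Module A X₁] [AddCommGroup X₂]
    [Module A X₂] [AddCommGroup X₃] [Module A X₃] (f : X₁ →ₗ[A] X₂) (g : X₂ →ₗ[A] X₃)
    (hfg : ∀ x, g (f x) = 0) : ShortComplex (ModuleCat.{u} A) :=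
  ShortComplex.mk (ModuleCat.ofHom f) (ModuleCat.ofHom g) (by ext x; exact hfg x)

lemma sesOf_shortExact {X₁ X₂ X₃ : Type u} [AddCommGroup X₁] [Module A X₁] [AddCommGroup X₂]
    [Module A X₂] [AddCommGroup X₃] [Module A X₃] (f : X₁ →ₗ[A] X₂) (g : X₂ →ₗ[A] X₃)
    (hfg : ∀ x, g (f x) = 0) (hf : Function.Injective f) (hg : Function.Surjective g)
    (hex : ∀ y, g y = 0 → ∃ x, f x = y) : (sesOf f g hfg).ShortExact := by
  have : Mono (sesOf f g hfg).f := (ModuleCat.mono_iff_injective _).mpr hf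
  have : Epi (sesOf f g hfg).g := (ModuleCat.epi_iff_surjective _).mpr hg
  exact ShortComplex.ShortExact.mk ((ShortComplex.moduleCat_exact_iff _).mpr hex)

end SES

section Main

variable {A B : Type u} [CommRing A] [CommRing B] [Algebra A B] [Module.Flat A B] (I : Ideal A)
  (hs : Function.Surjective
    ((Ideal.Quotient.mk (I.map (algebraMap A B))).comp (algebraMap A B)))
  (hk : RingHom.ker ((Ideal.Quotient.mk (I.map (algebraMap A B))).comp (algebraMap A B)) = I)
  (hI : I.FG)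

include hs hk hI in
theorem bijOn_unitCx (K : CochainComplex (ModuleCat.{u} A) ℤ) :
    BijOn I (unitCx (B := B) K) := by
  obtain ⟨s, hs'⟩ := hI
  have hfs : I ≤ Ideal.span {a | a ∈ s.toList} := by
    rw [← hs']
    apply Ideal.span_mono
    intro a ha
    simpa using ha
  have hmem : ∀ a ∈ s.toList, a ∈ I := fun a ha => by
    rw [← hs']
    exact Ideal.subset_span (by simpa using ha)
  have := quasiIso_CCmap_unitCx (B := B) I hs hk s.toList hfs K
  exact bijOn_of_CCmap _ s.toList hmem (bijOn_of_quasiIso _)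

variable (B) in
/-- the cone of `K → B ⊗_A K` in `D(A)`. -/
noncomputable abbrev coneT (K : CochainComplex (ModuleCat.{u} A) ℤ) :
    DerivedCategory (ModuleCat.{u} A) := Q.obj (mappingCone (unitCx (B := B) K))

include hs hk hI in
theorem zero_of_kil (K : CochainComplex (ModuleCat.{u} A) ℤ)
    (X : DerivedCategory (ModuleCat.{u} A)) (hX : Kil I X) (g : X ⟶ coneT B K) : g = 0 :=
  zero_to_obj₃ (Kil I) (fun _ hX => hX.shift (-1)) _
    (mappingCone_triangle_distinguished (unitCx (B := B) K)) (bijOn_unitCx I hs hk hI K) X hX g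

include hs hk hI in
theorem van_of_kil (K : CochainComplex (ModuleCat.{u} A) ℤ)
    (X : DerivedCategory (ModuleCat.{u} A)) (hX : Kil I X) : Van (coneT B K) X :=
  fun n g => zero_of_shift' X _ n
    (fun h => zero_of_kil I hs hk hI K (X⟦-n⟧) (hX.shift (-n)) h) g

lemma kil_single (W : ModuleCat.{u} A) (hW : ∀ a ∈ I, ∀ w : W, a • w = 0) :
    Kil I ((DerivedCategory.singleFunctor (ModuleCat.{u} A) 0).obj W) := fun a ha => by
  have h0 : a • 𝟙 W = 0 := by
    ext w
    exact hW a ha w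
  have := congrArg (DerivedCategory.singleFunctor (ModuleCat.{u} A) 0).map h0
  rwa [Functor.map_smul, CategoryTheory.Functor.map_id, Functor.map_zero] at this

/-- `Van` on modules placed in degree `0`. -/
abbrev VanM (𝕋 : DerivedCategory (ModuleCat.{u} A)) (W : Type u) [AddCommGroup W] [Module A W] :
    Prop :=
  Van 𝕋 ((DerivedCategory.singleFunctor (ModuleCat.{u} A) 0).obj (ModuleCat.of A W))

lemma vanM_of_ses (𝕋 : DerivedCategory (ModuleCat.{u} A)) (S : ShortComplex (ModuleCat.{u} A))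
    (hS : S.ShortExact)
    (h₁ : Van 𝕋 ((DerivedCategory.singleFunctor (ModuleCat.{u} A) 0).obj S.X₁))
    (h₃ : Van 𝕋 ((DerivedCategory.singleFunctor (ModuleCat.{u} A) 0).obj S.X₃)) :
    Van 𝕋 ((DerivedCategory.singleFunctor (ModuleCat.{u} A) 0).obj S.X₂) :=
  Van.of_tri₂ hS.singleTriangle hS.singleTriangle_distinguished h₁ h₃

include hs hk hI in
theorem vanM_of_pow (K : CochainComplex (ModuleCat.{u} A) ℤ) : ∀ (n : ℕ) (W : Type u)
    [AddCommGroup W] [Module A W], (∀ a ∈ I ^ n, ∀ w : W, a • w = 0) → VanM (coneT B K) W := by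
  intro n
  induction n with
  | zero =>
    intro W _ _ hW
    apply van_of_kil I hs hk hI K
    apply kil_single
    intro a _ w
    have : w = 0 := by
      have := hW 1 (by simp) w
      rwa [one_smul] at this
    rw [this, smul_zero]
  | succ n ih =>
    intro W _ _ hW
    let W' : Submodule A W := Submodule.torsionBySet A W (I : Set A)
    have h1 : VanM (coneT B K) W' := by
      apply van_of_kil I hs hk hI K
      apply kil_single
      intro a ha w
      apply Subtype.ext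
      exact (Submodule.mem_torsionBySet_iff _ _).mp w.2 ⟨a, ha⟩
    have h3 : VanM (coneT B K) (W ⧸ W') := by
      apply ih
      intro a ha w
      obtain ⟨w, rfl⟩ := Submodule.Quotient.mk_surjective _ w
      rw [← Submodule.Quotient.mk_smul, Submodule.Quotient.mk_eq_zero]
      rw [Submodule.mem_torsionBySet_iff]
      rintro ⟨b, hb⟩
      rw [← mul_smul]
      apply hW
      rw [pow_succ']
      exact Ideal.mul_mem_mul hb ha
    have hS := sesOf_shortExact W'.subtype W'.mkQ (fun x => by simp) W'.injective_subtype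
      W'.mkQ_surjective (fun y hy => ⟨⟨y, by simpa using hy⟩, rfl⟩)
    exact vanM_of_ses _ _ hS h1 h3

end Main

section Coprod

lemma isZero_sigma {C : Type*} [Category C] [HasZeroMorphisms C] {J : Type*} (f : J → C)
    [HasCoproduct f] (h : ∀ j, IsZero (f j)) : IsZero (∐ f) := by
  rw [IsZero.iff_id_eq_zero]
  apply Sigma.hom_ext
  intro j
  exact (h j).eq_of_src _ _

variable {A : Type u} [CommRing A] {J : Type u} (W : J → ModuleCat.{u} A)

/-- the family of complexes `W j [0]`. -/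
noncomputable abbrev sX (j : J) : CochainComplex (ModuleCat.{u} A) ℤ :=
  (HomologicalComplex.single (ModuleCat.{u} A) (ComplexShape.up ℤ) 0).obj (W j)

/-- the comparison `⨁ (W j [0]) ⟶ (⨁ W j)[0]`. -/
noncomputable def sigmaToSingle :
    sigmaCx (sX W) ⟶ (HomologicalComplex.single (ModuleCat.{u} A) (ComplexShape.up ℤ) 0).obj (∐ W) :=
  sigmaDesc (fun j => (HomologicalComplex.single _ _ 0).map (Sigma.ι W j))

lemma ι_sigmaToSingle (j : J) :
    sigmaι (sX W) j ≫ sigmaToSingle W = (HomologicalComplex.single _ _ 0).map (Sigma.ι W j) :=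
  ι_sigmaDesc _ j

@[reassoc]
lemma ι_f_sigmaToSingle_f (j : J) (q : ℤ) :
    (sigmaι (sX W) j).f q ≫ (sigmaToSingle W).f q =
      ((HomologicalComplex.single _ _ 0).map (Sigma.ι W j)).f q :=
  congrArg (fun t => t.f q) (ι_sigmaToSingle W j)

instance isIso_sigmaToSingle : IsIso (sigmaToSingle W) := by
  have : ∀ q : ℤ, IsIso ((sigmaToSingle W).f q) := by
    intro q
    by_cases hq : q = 0
    · subst hq
      refine ⟨(HomologicalComplex.singleObjXSelf (ComplexShape.up ℤ) 0 (∐ W)).hom ≫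
        Sigma.desc (fun j => (HomologicalComplex.singleObjXSelf (ComplexShape.up ℤ) 0 (W j)).inv ≫
          (sigmaι (sX W) j).f 0), ?_, ?_⟩
      · apply hom_ext_X
        intro j
        rw [ι_f_sigmaToSingle_f_assoc, HomologicalComplex.single_map_f_self]
        simp only [Category.assoc, Iso.inv_hom_id_assoc]
        rw [Sigma.ι_desc, Iso.hom_inv_id_assoc]
        exact (Category.comp_id _).symm
      · rw [← cancel_epi (HomologicalComplex.singleObjXSelf (ComplexShape.up ℤ) 0 (∐ W)).inv]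
        apply Sigma.hom_ext
        intro j
        simp only [Category.assoc, Iso.inv_hom_id_assoc, Category.comp_id]
        rw [Sigma.ι_desc_assoc, Category.assoc, ι_f_sigmaToSingle_f,
          HomologicalComplex.single_map_f_self, Iso.inv_hom_id_assoc]
    · have h1 : IsZero ((sigmaCx (sX W)).X q) :=
        isZero_sigma _ (fun j => HomologicalComplex.isZero_single_obj_X _ _ _ _ hq)
      have h2 : IsZero (((HomologicalComplex.single (ModuleCat.{u} A) (ComplexShape.up ℤ) 0).obj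
          (∐ W)).X q) := HomologicalComplex.isZero_single_obj_X _ _ _ _ hq
      exact ⟨0, h1.eq_of_src _ _, h2.eq_of_src _ _⟩
  exact HomologicalComplex.Hom.isIso_of_components _

theorem van_single_sigma (𝕋 : DerivedCategory (ModuleCat.{u} A))
    (h : ∀ j, Van 𝕋 ((DerivedCategory.singleFunctor (ModuleCat.{u} A) 0).obj (W j))) :
    Van 𝕋 ((DerivedCategory.singleFunctor (ModuleCat.{u} A) 0).obj (∐ W)) := by
  intro n g
  change Q.obj ((HomologicalComplex.single (ModuleCat.{u} A) (ComplexShape.up ℤ) 0).obj (∐ W)) ⟶ _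
    at g
  have h1 : Q.map (sigmaToSingle W) ≫ g = 0 := by
    obtain ⟨ψ, _, huniq⟩ := existsUnique_desc (sX W) (𝕋⟦n⟧) (fun j => 0)
    rw [huniq (Q.map (sigmaToSingle W) ≫ g) ?_, huniq 0 (fun j => comp_zero)]
    intro j
    rw [← Category.assoc, ← Functor.map_comp, ι_sigmaToSingle]
    exact h j n _
  exact (cancel_epi (Q.map (sigmaToSingle W))).mp (h1.trans comp_zero.symm)

theorem vanM_directSum (𝕋 : DerivedCategory (ModuleCat.{u} A)) (V : J → Type u)
    [∀ j, AddCommGroup (V j)] [∀ j, Module A (V j)] (h : ∀ j, VanM 𝕋 (V j)) :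
    VanM 𝕋 (DirectSum J V) := by
  classical
  have := van_single_sigma (fun j => ModuleCat.of A (V j)) 𝕋 h
  exact this.of_iso ((DerivedCategory.singleFunctor (ModuleCat.{u} A) 0).mapIso
    (ModuleCat.coprodIsoDirectSum (fun j => ModuleCat.of A (V j))))

end Coprod

section Tors

variable {A : Type u} [CommRing A] (I : Ideal A)

/-- `I`-power torsion modules. -/
def Tors (M : Type u) [AddCommGroup M] [Module A M] : Prop :=
  ∀ m : M, ∃ n : ℕ, ∀ a ∈ I ^ n, a • m = 0

variable {I}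

lemma tors_add {M : Type u} [AddCommGroup M] [Module A M] {x y : M}
    (hx : ∃ n : ℕ, ∀ a ∈ I ^ n, a • x = 0) (hy : ∃ n : ℕ, ∀ a ∈ I ^ n, a • y = 0) :
    ∃ n : ℕ, ∀ a ∈ I ^ n, a • (x + y) = 0 := by
  obtain ⟨n, hn⟩ := hx
  obtain ⟨m, hm⟩ := hy
  refine ⟨max n m, fun a ha => ?_⟩
  rw [smul_add, hn a (Ideal.pow_le_pow_right (le_max_left n m) ha),
    hm a (Ideal.pow_le_pow_right (le_max_right n m) ha), add_zero]

lemma tors_directSum {J : Type u} (n : J → ℕ) :
    Tors I (DirectSum J (fun j => A ⧸ I ^ n j)) := by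
  classical
  intro x
  induction x using DirectSum.induction_on with
  | zero => exact ⟨0, fun a _ => smul_zero a⟩
  | of j x =>
    refine ⟨n j, fun a ha => ?_⟩
    obtain ⟨x, rfl⟩ := Ideal.Quotient.mk_surjective x
    have : a • (Ideal.Quotient.mk (I ^ n j)) x = 0 := by
      rw [Algebra.smul_def, Ideal.Quotient.algebraMap_eq, ← map_mul,
        Ideal.Quotient.eq_zero_iff_mem]
      exact Ideal.mul_mem_right _ _ ha
    rw [← DirectSum.lof_eq_of A, ← map_smul, this, map_zero]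
  | add x y hx hy => exact tors_add hx hy

lemma tors_submodule {M : Type u} [AddCommGroup M] [Module A M] (h : Tors I M)
    (N : Submodule A M) : Tors I N := fun x => by
  obtain ⟨n, hn⟩ := h x.1
  exact ⟨n, fun a ha => Subtype.ext (hn a ha)⟩

end Tors

section Main

variable {A B : Type u} [CommRing A] [CommRing B] [Algebra A B] [Module.Flat A B] (I : Ideal A)
  (hs : Function.Surjective
    ((Ideal.Quotient.mk (I.map (algebraMap A B))).comp (algebraMap A B)))
  (hk : RingHom.ker ((Ideal.Quotient.mk (I.map (algebraMap A B))).comp (algebraMap A B)) = I)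
  (hI : I.FG)

lemma isStrictlyGE_Hc (H : ModuleCat.{u} A ⥤ ModuleCat.{u} A) [H.Additive]
    (K : CochainComplex (ModuleCat.{u} A) ℤ) (n : ℤ) [K.IsStrictlyGE n] :
    ((Hc H).obj K).IsStrictlyGE n := by
  rw [isStrictlyGE_iff]
  intro i hi
  exact Functor.map_isZero H (K.isZero_of_isStrictlyGE n i hi)

lemma isGE_coneT (K : CochainComplex (ModuleCat.{u} A) ℤ) [K.IsStrictlyGE 0] :
    (coneT B K).IsGE (-1) := by
  have := isStrictlyGE_Hc (HH A B) K 0
  have : (mappingCone (unitCx (B := B) K)).IsStrictlyGE (-1) :=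
    isStrictlyGE_mappingCone _ 0 0 (-1)
  infer_instance

/-- vanishing in low degrees from the t-structure. -/
lemma zero_of_le (K : CochainComplex (ModuleCat.{u} A) ℤ) [K.IsStrictlyGE 0]
    (W : ModuleCat.{u} A) (n : ℤ) (hn : n ≤ -2)
    (g : (DerivedCategory.singleFunctor (ModuleCat.{u} A) 0).obj W ⟶ (coneT B K)⟦n⟧) : g = 0 := by
  have := isGE_coneT (B := B) K
  have : ((coneT B K)⟦n⟧).IsGE (-1 - n) :=
    (TStructure.t).isGE_shift (coneT B K) (-1) n (-1 - n) (by lia)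
  exact (TStructure.t).zero_of_isLE_of_isGE g 0 (-1 - n) (by lia) inferInstance inferInstance

include hs hk hI in
/-- the dimension shifting step. -/
lemma zero_of_tors_step (K : CochainComplex (ModuleCat.{u} A) ℤ) (n : ℤ)
    (ih : ∀ (M : Type u) [AddCommGroup M] [Module A M], Tors I M →
      ∀ g : (DerivedCategory.singleFunctor (ModuleCat.{u} A) 0).obj (ModuleCat.of A M) ⟶
        (coneT B K)⟦n⟧, g = 0)
    (M : Type u) [AddCommGroup M] [Module A M] (hM : Tors I M)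
    (g : (DerivedCategory.singleFunctor (ModuleCat.{u} A) 0).obj (ModuleCat.of A M) ⟶
        (coneT B K)⟦n + 1⟧) : g = 0 := by
  classical
  choose nm hnm using hM
  let P := DirectSum M (fun m => A ⧸ I ^ nm m)
  let π : P →ₗ[A] M := DirectSum.toModule A M M (fun m =>
    Submodule.liftQ (I ^ nm m) (LinearMap.toSpanSingleton A M m) (fun a ha => by
      rw [LinearMap.mem_ker, LinearMap.toSpanSingleton_apply]
      exact hnm m a ha))
  have hπ : Function.Surjective π := fun m =>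
    ⟨DirectSum.lof A M (fun m => A ⧸ I ^ nm m) m (Submodule.Quotient.mk 1), by
      change DirectSum.toModule A M M _ (DirectSum.lof A M (fun m => A ⧸ I ^ nm m) m _) = m
      rw [DirectSum.toModule_lof]
      exact one_smul A m⟩
  have hP : VanM (coneT B K) P := vanM_directSum _ _ (fun m =>
    vanM_of_pow I hs hk hI K (nm m) _ (fun a ha w => by
      obtain ⟨x, rfl⟩ := Ideal.Quotient.mk_surjective w
      rw [Algebra.smul_def, Ideal.Quotient.algebraMap_eq, ← map_mul,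
        Ideal.Quotient.eq_zero_iff_mem]
      exact Ideal.mul_mem_right _ _ ha))
  have hM' : Tors I (LinearMap.ker π) := tors_submodule (tors_directSum nm) _
  have hS := sesOf_shortExact (LinearMap.ker π).subtype π
    (fun x : LinearMap.ker π => LinearMap.mem_ker.mp x.2)
    (LinearMap.ker π).injective_subtype hπ
    (fun y hy => ⟨(⟨y, LinearMap.mem_ker.mpr hy⟩ : LinearMap.ker π), rfl⟩)
  exact zero_of_tri₃ (coneT B K) hS.singleTriangle hS.singleTriangle_distinguished (n + 1) n rfl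
    (hP (n + 1)) (ih _ hM') g

include hs hk hI in
theorem vanM_of_tors (K : CochainComplex (ModuleCat.{u} A) ℤ) [K.IsStrictlyGE 0]
    (M : Type u) [AddCommGroup M] [Module A M] (hM : Tors I M) : VanM (coneT B K) M := by
  intro n
  by_cases hn : n ≤ -2
  · exact zero_of_le K _ n hn
  · have key : ∀ n : ℤ, -2 ≤ n → ∀ (M : Type u) [AddCommGroup M] [Module A M], Tors I M →
        ∀ g : (DerivedCategory.singleFunctor (ModuleCat.{u} A) 0).obj (ModuleCat.of A M) ⟶
          (coneT B K)⟦n⟧, g = 0 := by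
      intro n hn
      induction n, hn using Int.leInduction with
      | base => exact fun M _ _ _ g => zero_of_le K _ (-2) le_rfl g
      | succ n _ ih => exact fun M _ _ hM g => zero_of_tors_step I hs hk hI K n ih M hM g
    exact key n (by lia) M hM

end Main

section HomCongr

variable {D : Type*} [Category D] [Preadditive D]

/-- additive version of `Iso.homCongr`. -/
def homCongrAdd {X X' Y Y' : D} (e : X ≅ X') (f : Y ≅ Y') : (X ⟶ Y) ≃+ (X' ⟶ Y') where
  toFun g := e.inv ≫ g ≫ f.hom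
  invFun g := e.hom ≫ g ≫ f.inv
  left_inv g := by simp
  right_inv g := by simp
  map_add' g₁ g₂ := by simp

/-- postcomposition as an additive equivalence. -/
noncomputable def postcompAddEquiv {X Y Y' : D} (φ : Y ⟶ Y')
    (h : Function.Bijective (fun g : X ⟶ Y => g ≫ φ)) : (X ⟶ Y) ≃+ (X ⟶ Y') :=
  AddEquiv.ofBijective (AddMonoidHom.mk' (fun g : X ⟶ Y => g ≫ φ)
    (fun _ _ => Preadditive.add_comp _ _ _ _ _ _)) h

end HomCongr

section Final

variable {A B : Type u} [CommRing A] [CommRing B] [Algebra A B] [Module.Flat A B] (I : Ideal A)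
  (hs : Function.Surjective
    ((Ideal.Quotient.mk (I.map (algebraMap A B))).comp (algebraMap A B)))
  (hk : RingHom.ker ((Ideal.Quotient.mk (I.map (algebraMap A B))).comp (algebraMap A B)) = I)
  (hI : I.FG)

variable (A B) in
/-- derived restriction of scalars. -/
noncomputable abbrev Res : DerivedCategory (ModuleCat.{u} B) ⥤ DerivedCategory (ModuleCat.{u} A) :=
  (res A B).mapDerivedCategory

variable (B) in
/-- `Q (B ⊗ K) ≅ Res (G (Q K))`. -/
noncomputable def QHcIso (K : CochainComplex (ModuleCat.{u} A) ℤ) :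
    Q.obj ((Hc (HH A B)).obj K) ≅ (Res A B).obj ((G A B).obj (Q.obj K)) :=
  ((res A B).mapDerivedCategoryFactors.app
      (((ext A B).mapHomologicalComplex (ComplexShape.up ℤ)).obj K)).symm ≪≫
    (Res A B).mapIso (((ext A B).mapDerivedCategoryFactors.app K).symm)

include hs hk hI in
theorem bijective_postcomp_unit (K : CochainComplex (ModuleCat.{u} A) ℤ) [K.IsStrictlyGE 0]
    (M : Type u) [AddCommGroup M] [Module A M] (hM : Tors I M) (i : ℤ) :
    Function.Bijective (fun g : (DerivedCategory.singleFunctor (ModuleCat.{u} A) 0).obj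
      (ModuleCat.of A M) ⟶ (Q.obj K)⟦i⟧ => g ≫ (Q.map (unitCx (B := B) K))⟦i⟧') := by
  apply bijective_postcomp_shift
  have hv : Van (coneT B K) (((DerivedCategory.singleFunctor (ModuleCat.{u} A) 0).obj
      (ModuleCat.of A M))⟦-i⟧) := (vanM_of_tors I hs hk hI K M hM).shift (-i)
  exact bijective_of_van _ (mappingCone_triangle_distinguished (unitCx (B := B) K)) _
    (fun g => hv.zero g) (fun g => hv (-1) g)

include hs hk hI in
theorem main (M N : Type u) [AddCommGroup M] [Module A M] [AddCommGroup N] [Module A N]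
    (hM : Tors I M) (i : ℤ) :
    Nonempty ((Dual.inD A M ⟶ (Dual.inD A N)⟦i⟧) ≃+
      (Dual.inD B (B ⊗[A] M) ⟶ (Dual.inD B (B ⊗[A] N))⟦i⟧)) := by
  let K : CochainComplex (ModuleCat.{u} A) ℤ :=
    (HomologicalComplex.single (ModuleCat.{u} A) (ComplexShape.up ℤ) 0).obj (ModuleCat.of A N)
  have hb := bijective_postcomp_unit (B := B) I hs hk hI K M hM i
  let e1 : (Dual.inD A M ⟶ (Dual.inD A N)⟦i⟧) ≃+
      (Dual.inD A M ⟶ (Q.obj ((Hc (HH A B)).obj K))⟦i⟧) := postcompAddEquiv _ hb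
  let Z : DerivedCategory (ModuleCat.{u} B) := (G A B).obj (Dual.inD A N)
  let e2 : (Dual.inD A M ⟶ (Q.obj ((Hc (HH A B)).obj K))⟦i⟧) ≃+
      (Dual.inD A M ⟶ (Res A B).obj (Z⟦i⟧)) :=
    homCongrAdd (Iso.refl _) ((CategoryTheory.shiftFunctor _ i).mapIso (QHcIso B K) ≪≫
      (((Res A B).commShiftIso i).app Z).symm)
  let adj := Groth.Agent.Lib.Helper32.ExactAdj.mapDerivedCategoryAdj (adj₀ A B)
  let e3 : (Dual.inD A M ⟶ (Res A B).obj (Z⟦i⟧)) ≃+ ((G A B).obj (Dual.inD A M) ⟶ Z⟦i⟧) :=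
    (adj.homAddEquiv _ _).symm
  let e4 : ((G A B).obj (Dual.inD A M) ⟶ Z⟦i⟧) ≃+
      (Dual.inD B (B ⊗[A] M) ⟶ (Dual.inD B (B ⊗[A] N))⟦i⟧) :=
    homCongrAdd (GInDIso B M) ((CategoryTheory.shiftFunctor _ i).mapIso (GInDIso B N))
  exact ⟨((e1.trans e2).trans e3).trans e4⟩

end Final

end Groth.Agent.Lib.Helper47.TorsDesc
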