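import Mathlib
import Groth.Agent.Lib.Helper47.TorsDesc

/-!
# Formal glueing: surjectivity of `Ext¹(M, N) → Ext¹(M, B ⊗ N)` for torsion `M` (helper47)
-/

set_option autoImplicit false
universe u v
open CategoryTheory CategoryTheory.Limits CategoryTheory.Pretriangulated CochainComplex
open scoped TensorProduct
attribute [local instance] HasDerivedCategory.standard

namespace Groth.Agent.Lib.Helper47.TorsExt

open DerivedCategory Groth.Agent.Lib.Helper47.TorsUnit Groth.Agent.Lib.Helper47.TorsDesc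
  Groth.Agent.Lib.Helper35.FlatBC Abelian

section

variable {A B : Type u} [CommRing A] [CommRing B] [Algebra A B]

variable (B) in
/-- `B ⊗ (N[0]) ≅ (B ⊗ N)[0]`. -/
noncomputable def HcSingleIso (N : ModuleCat.{u} A) :
    (Hc (HH A B)).obj ((HomologicalComplex.single (ModuleCat.{u} A) (ComplexShape.up ℤ) 0).obj N) ≅
      (HomologicalComplex.single (ModuleCat.{u} A) (ComplexShape.up ℤ) 0).obj ((HH A B).obj N) :=
  (HomologicalComplex.singleMapHomologicalComplex (HH A B) (ComplexShape.up ℤ) 0).app N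

lemma unitCx_single (N : ModuleCat.{u} A) :
    unitCx (B := B) ((HomologicalComplex.single (ModuleCat.{u} A) (ComplexShape.up ℤ) 0).obj N) ≫
      (HcSingleIso B N).hom =
    (HomologicalComplex.single (ModuleCat.{u} A) (ComplexShape.up ℤ) 0).map ((tau A B).app N) := by
  apply HomologicalComplex.from_single_hom_ext
  rw [HomologicalComplex.comp_f, HcSingleIso, Iso.app_hom,
    HomologicalComplex.singleMapHomologicalComplex_hom_app_self,
    HomologicalComplex.single_map_f_self]
  have h := (tau A B).naturality (HomologicalComplex.singleObjXSelf (ComplexShape.up ℤ) 0 N).hom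
  change (tau A B).app _ ≫ _ = _
  rw [← Category.assoc, ← h]
  rfl

variable (B) in
/-- the linear map `n ↦ 1 ⊗ n`. -/
noncomputable abbrev vmap (N : Type u) [AddCommGroup N] [Module A N] : N →ₗ[A] B ⊗[A] N :=
  TensorProduct.mk A B N 1

variable (B) in
/-- `res (ext N) ≅ B ⊗ N` as `A`-modules. -/
noncomputable def rhoIso (N : Type u) [AddCommGroup N] [Module A N] :
    (HH A B).obj (ModuleCat.of A N) ≅ ModuleCat.of A (B ⊗[A] N) :=
  (extLinearEquivA B N).toModuleIso

lemma tau_rho (N : Type u) [AddCommGroup N] [Module A N] :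
    (tau A B).app (ModuleCat.of A N) ≫ (rhoIso B N).hom = ModuleCat.ofHom (vmap B N) := by
  ext w
  exact tau_app_apply (B := B) (ModuleCat.of A N) w

variable (B) in
/-- `Q (B ⊗ N[0]) ≅ (B ⊗ N)[0]` in `D(A)`. -/
noncomputable def QHcSingleIso (N : Type u) [AddCommGroup N] [Module A N] :
    Q.obj ((Hc (HH A B)).obj
      ((HomologicalComplex.single (ModuleCat.{u} A) (ComplexShape.up ℤ) 0).obj (ModuleCat.of A N))) ≅
      (DerivedCategory.singleFunctor (ModuleCat.{u} A) 0).obj (ModuleCat.of A (B ⊗[A] N)) :=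
  Q.mapIso (HcSingleIso B (ModuleCat.of A N)) ≪≫
    (DerivedCategory.singleFunctor (ModuleCat.{u} A) 0).mapIso (rhoIso B N)

lemma Q_unitCx_single (N : Type u) [AddCommGroup N] [Module A N] :
    Q.map (unitCx (B := B)
      ((HomologicalComplex.single (ModuleCat.{u} A) (ComplexShape.up ℤ) 0).obj (ModuleCat.of A N))) ≫
      (QHcSingleIso B N).hom =
    (DerivedCategory.singleFunctor (ModuleCat.{u} A) 0).map (ModuleCat.ofHom (vmap B N)) := by
  rw [QHcSingleIso, Iso.trans_hom, Functor.mapIso_hom, Functor.mapIso_hom, ← Category.assoc,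
    ← Functor.map_comp, unitCx_single, ← tau_rho, Functor.map_comp]
  rfl

variable [Module.Flat A B] (I : Ideal A)
  (hs : Function.Surjective
    ((Ideal.Quotient.mk (I.map (algebraMap A B))).comp (algebraMap A B)))
  (hk : RingHom.ker ((Ideal.Quotient.mk (I.map (algebraMap A B))).comp (algebraMap A B)) = I)
  (hI : I.FG)

include hs hk hI in
theorem surjective_postcomp_single (M N : Type u) [AddCommGroup M] [Module A M]
    [AddCommGroup N] [Module A N] (hM : Tors I M) (i : ℤ) :
    Function.Surjective (fun g : (DerivedCategory.singleFunctor (ModuleCat.{u} A) 0).obj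
      (ModuleCat.of A M) ⟶ ((DerivedCategory.singleFunctor (ModuleCat.{u} A) 0).obj
        (ModuleCat.of A N))⟦i⟧ =>
      g ≫ ((DerivedCategory.singleFunctor (ModuleCat.{u} A) 0).map
        (ModuleCat.ofHom (vmap B N)))⟦i⟧') := by
  intro h
  obtain ⟨g, hg⟩ := (bijective_postcomp_unit (B := B) I hs hk hI
    ((HomologicalComplex.single (ModuleCat.{u} A) (ComplexShape.up ℤ) 0).obj (ModuleCat.of A N))
    M hM i).2 (h ≫ (QHcSingleIso B N).inv⟦i⟧')
  refine ⟨g, ?_⟩
  change g ≫ _ = _ at hg
  have key : ((DerivedCategory.singleFunctor (ModuleCat.{u} A) 0).map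
      (ModuleCat.ofHom (vmap B N)))⟦i⟧' =
      (Q.map (unitCx (B := B) ((HomologicalComplex.single (ModuleCat.{u} A)
        (ComplexShape.up ℤ) 0).obj (ModuleCat.of A N))))⟦i⟧' ≫ (QHcSingleIso B N).hom⟦i⟧' := by
    rw [← Functor.map_comp]
    exact congrArg _ (Q_unitCx_single N).symm
  calc g ≫ ((DerivedCategory.singleFunctor (ModuleCat.{u} A) 0).map
        (ModuleCat.ofHom (vmap B N)))⟦i⟧'
      = (g ≫ (Q.map (unitCx (B := B) ((HomologicalComplex.single (ModuleCat.{u} A)
        (ComplexShape.up ℤ) 0).obj (ModuleCat.of A N))))⟦i⟧') ≫ (QHcSingleIso B N).hom⟦i⟧' :=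
        (congrArg (fun t => g ≫ t) key).trans (Category.assoc _ _ _).symm
    _ = (h ≫ (QHcSingleIso B N).inv⟦i⟧') ≫ (QHcSingleIso B N).hom⟦i⟧' := by rw [hg]
    _ = h := by
        rw [Category.assoc, ← Functor.map_comp, Iso.inv_hom_id, CategoryTheory.Functor.map_id,
          Category.comp_id]

include hs hk hI in
theorem ext_surjective (M N : Type u) [AddCommGroup M] [Module A M]
    [AddCommGroup N] [Module A N] (hM : Tors I M)
    (ξ : Ext.{u} (ModuleCat.of A M) (ModuleCat.of A (B ⊗[A] N)) 1) :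
    ∃ η : Ext.{u} (ModuleCat.of A M) (ModuleCat.of A N) 1,
      η.comp (Ext.mk₀ (ModuleCat.ofHom (vmap B N))) (add_zero 1) = ξ := by
  obtain ⟨g, hg⟩ := surjective_postcomp_single (B := B) I hs hk hI M N hM ((1 : ℕ) : ℤ) ξ.hom
  refine ⟨Ext.homEquiv.symm g, ?_⟩
  apply Ext.ext
  rw [Ext.comp_hom, Ext.mk₀_hom, ShiftedHom.comp_mk₀]
  change Ext.homEquiv (Ext.homEquiv.symm g) ≫ _ = _
  rw [Equiv.apply_symm_apply]
  exact hg

end

end Groth.Agent.Lib.Helper47.TorsExt
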