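import Mathlib
import Groth.Agent.Lib.Helper47.TorsDesc

/-!
# Extensions as pushouts of a projective presentation, via `Abelian.Ext` (helper47)
-/

set_option autoImplicit false
universe u v
open CategoryTheory CategoryTheory.Limits
open scoped TensorProduct

namespace Groth.Agent.Lib.Helper47.TorsExt

open Groth.Agent.Lib.Helper47.TorsDesc Abelian

section

variable {A : Type u} [CommRing A]

/-- If `Ext¹(M, N) → Ext¹(M, SN)` is surjective, every extension of `M` by `SN` is the pushout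
of a projective presentation of `M` along a map `ker π → N → SN`. -/
theorem exists_pushout_data (M N SN E'' : Type u) [AddCommGroup M] [Module A M]
    [AddCommGroup N] [Module A N] [AddCommGroup SN] [Module A SN] [AddCommGroup E'']
    [Module A E''] (v : N →ₗ[A] SN)
    (hsurj : ∀ ξ : Ext.{u} (ModuleCat.of A M) (ModuleCat.of A SN) 1,
      ∃ η : Ext.{u} (ModuleCat.of A M) (ModuleCat.of A N) 1,
        η.comp (Ext.mk₀ (ModuleCat.ofHom v)) (add_zero 1) = ξ)
    (i'' : SN →ₗ[A] E'') (p'' : E'' →ₗ[A] M) (hi : Function.Injective i'')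
    (hp : Function.Surjective p'') (hex : ∀ y, p'' y = 0 → ∃ x, i'' x = y)
    (hz : ∀ x, p'' (i'' x) = 0)
    (P : Type u) [AddCommGroup P] [Module A P] [Module.Projective A P] (π : P →ₗ[A] M)
    (hπ : Function.Surjective π) :
    ∃ (φ : LinearMap.ker π →ₗ[A] N) (b : P →ₗ[A] E''), (∀ x, p'' (b x) = π x) ∧
      ∀ m₁ : LinearMap.ker π, b m₁ = i'' (v (φ m₁)) := by
  let S₂ : ShortComplex (ModuleCat.{u} A) :=
    ShortComplex.mk (ModuleCat.ofHom i'') (ModuleCat.ofHom p'') (by ext x; exact hz x)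
  have hS₂ : S₂.ShortExact := sesOf_shortExact i'' p'' hz hi hp hex
  let S₀ : ShortComplex (ModuleCat.{u} A) :=
    ShortComplex.mk (ModuleCat.ofHom (LinearMap.ker π).subtype) (ModuleCat.ofHom π)
      (by ext x; exact LinearMap.mem_ker.mp x.2)
  have hS₀ : S₀.ShortExact := sesOf_shortExact (LinearMap.ker π).subtype π
    (fun x : LinearMap.ker π => LinearMap.mem_ker.mp x.2)
    (LinearMap.ker π).injective_subtype hπ
    (fun y hy => ⟨(⟨y, LinearMap.mem_ker.mpr hy⟩ : LinearMap.ker π), rfl⟩)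
  haveI : Projective S₀.X₂ := (IsProjective.iff_projective (R := A) P).mp inferInstance
  -- lift of `π` to `E''`
  obtain ⟨lam, hlam⟩ := Module.projective_lifting_property p'' π hp
  -- the induced map on kernels
  let τ₁ : S₀.X₁ ⟶ S₂.X₁ := hS₂.fIsKernel.lift (KernelFork.ofι (S₀.f ≫ ModuleCat.ofHom lam) (by
    ext x
    have : p'' (lam x.1) = π x.1 := congrArg (fun t => t x.1) hlam
    exact this.trans (LinearMap.mem_ker.mp x.2)))
  have hτ₁ : τ₁ ≫ S₂.f = S₀.f ≫ ModuleCat.ofHom lam := Fork.IsLimit.lift_ι _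
  let f : S₀ ⟶ S₂ := ShortComplex.homMk τ₁ (ModuleCat.ofHom lam) (𝟙 _) hτ₁ (by
    ext x
    exact congrArg (fun t => t x) hlam)
  have hnat : hS₀.extClass.comp (Ext.mk₀ τ₁) (add_zero 1) = hS₂.extClass :=
    (ShortComplex.ShortExact.extClass_naturality hS₀ hS₂ f).trans (Ext.mk₀_id_comp hS₂.extClass)
  obtain ⟨η, hη⟩ := hsurj hS₂.extClass
  obtain ⟨x, hx⟩ := Ext.contravariant_sequence_exact₃ hS₀ (ModuleCat.of A N) η
    (Ext.eq_zero_of_projective _) (add_comm 1 0)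
  obtain ⟨φc, rfl⟩ := (Ext.mk₀_bijective _ _).2 x
  have h0 : hS₀.extClass.comp (Ext.mk₀ (φc ≫ ModuleCat.ofHom v - τ₁)) (add_zero 1) = 0 := by
    rw [sub_eq_add_neg, Ext.mk₀_add, Ext.mk₀_neg, Ext.comp_add, Ext.comp_neg, hnat,
      ← Ext.mk₀_comp_mk₀, ← Ext.comp_assoc_of_second_deg_zero, hx, hη, add_neg_cancel]
  obtain ⟨x₂, hx₂⟩ := Ext.contravariant_sequence_exact₁ hS₀ _ _ (add_zero 1) h0
  obtain ⟨ψc, rfl⟩ := (Ext.mk₀_bijective _ _).2 x₂
  rw [Ext.mk₀_comp_mk₀] at hx₂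
  have hψ : S₀.f ≫ ψc = φc ≫ ModuleCat.ofHom v - τ₁ := (Ext.mk₀_bijective _ _).1 hx₂
  refine ⟨φc.hom, lam + i'' ∘ₗ ψc.hom, fun x => ?_, fun m₁ => ?_⟩
  · have : p'' (lam x) = π x := congrArg (fun t => t x) hlam
    simp [this, hz]
  · have h1 : i'' (τ₁.hom m₁) = lam m₁.1 := congrArg (fun t => t.hom m₁) hτ₁
    have h2 : ψc.hom m₁.1 = v (φc.hom m₁) - τ₁.hom m₁ := congrArg (fun t => t.hom m₁) hψ
    change lam m₁.1 + i'' (ψc.hom m₁.1) = _
    rw [h2, map_sub, h1]
    abel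

end

end Groth.Agent.Lib.Helper47.TorsExt
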