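import Mathlib
import Groth.Agent.Lib.Helper47.TorsExtD
import Groth.Agent.Lib.Helper47.TorsExtPush

/-!
# Lifting extensions of `B ⊗ M` by `B ⊗ N` to extensions of `M` by `N` (helper47)
-/

set_option autoImplicit false
universe u v
open CategoryTheory CategoryTheory.Limits
open scoped TensorProduct

namespace Groth.Agent.Lib.Helper47.TorsExt

open Groth.Agent.Lib.Helper47.TorsDesc Abelian

section Pushout

variable {A : Type u} [CommRing A]

/-- the pushout extension. -/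
theorem exists_extension_of_pushout_data (M N P E'' : Type u) [AddCommGroup M] [Module A M]
    [AddCommGroup N] [Module A N] [AddCommGroup P] [Module A P] [AddCommGroup E''] [Module A E'']
    (π : P →ₗ[A] M) (hπ : Function.Surjective π) (φ : LinearMap.ker π →ₗ[A] N)
    (a : N →ₗ[A] E'') (b : P →ₗ[A] E'') (p'' : E'' →ₗ[A] M)
    (hpb : ∀ x, p'' (b x) = π x) (hpa : ∀ n, p'' (a n) = 0)
    (hab : ∀ m₁ : LinearMap.ker π, b m₁ = a (φ m₁)) :
    ∃ (E : Type u) (_ : AddCommGroup E) (_ : Module A E) (i : N →ₗ[A] E) (p : E →ₗ[A] M)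
      (g : E →ₗ[A] E''),
      Function.Injective i ∧ Function.Surjective p ∧ LinearMap.range i = LinearMap.ker p ∧
      (∀ n, g (i n) = a n) ∧ (∀ e, p'' (g e) = p e) := by
  let K : Submodule A (N × P) := LinearMap.range (LinearMap.prod φ (-(LinearMap.ker π).subtype))
  have hK : ∀ z : N × P, z ∈ K ↔ ∃ m₁ : LinearMap.ker π, φ m₁ = z.1 ∧ -(m₁ : P) = z.2 := by
    intro z
    constructor
    · rintro ⟨m₁, rfl⟩
      exact ⟨m₁, rfl, rfl⟩
    · rintro ⟨m₁, h1, h2⟩
      exact ⟨m₁, Prod.ext h1 h2⟩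
  let p : (N × P) ⧸ K →ₗ[A] M := K.liftQ (π ∘ₗ LinearMap.snd A N P) (by
    intro z hz
    obtain ⟨m₁, _, h2⟩ := (hK z).mp hz
    rw [LinearMap.mem_ker, LinearMap.comp_apply, LinearMap.snd_apply, ← h2, map_neg,
      LinearMap.mem_ker.mp m₁.2, neg_zero])
  let g : (N × P) ⧸ K →ₗ[A] E'' :=
    K.liftQ (a ∘ₗ LinearMap.fst A N P + b ∘ₗ LinearMap.snd A N P) (by
      intro z hz
      obtain ⟨m₁, h1, h2⟩ := (hK z).mp hz
      rw [LinearMap.mem_ker, LinearMap.add_apply, LinearMap.comp_apply, LinearMap.comp_apply,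
        LinearMap.fst_apply, LinearMap.snd_apply, ← h1, ← h2, map_neg, hab, add_neg_cancel])
  refine ⟨(N × P) ⧸ K, inferInstance, inferInstance, K.mkQ ∘ₗ LinearMap.inl A N P, p, g,
    ?_, ?_, ?_, ?_, ?_⟩
  · rw [← LinearMap.ker_eq_bot, LinearMap.ker_eq_bot']
    intro n hn
    rw [LinearMap.comp_apply, Submodule.mkQ_apply, Submodule.Quotient.mk_eq_zero] at hn
    obtain ⟨m₁, h1, h2⟩ := (hK _).mp hn
    have h3 : m₁ = 0 := by
      apply Subtype.ext
      simpa using h2
    have h4 : φ m₁ = n := h1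
    rw [← h4, h3, map_zero]
  · intro m
    obtain ⟨x, rfl⟩ := hπ m
    exact ⟨K.mkQ (0, x), rfl⟩
  · apply le_antisymm
    · rintro _ ⟨n, rfl⟩
      rw [LinearMap.mem_ker]
      change π (0 : P) = 0
      exact map_zero _
    · intro e he
      obtain ⟨⟨n, x⟩, rfl⟩ := K.mkQ_surjective e
      have hx : π x = 0 := he
      refine ⟨n + φ ⟨x, hx⟩, ?_⟩
      rw [LinearMap.comp_apply, Submodule.mkQ_apply, Submodule.mkQ_apply,
        ← sub_eq_zero, ← Submodule.Quotient.mk_sub, Submodule.Quotient.mk_eq_zero, hK]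
      exact ⟨⟨x, hx⟩, by simp, by simp⟩
  · intro n
    change a n + b 0 = a n
    rw [map_zero, add_zero]
  · intro e
    obtain ⟨⟨n, x⟩, rfl⟩ := K.mkQ_surjective e
    change p'' (a n + b x) = π x
    rw [map_add, hpa, hpb, zero_add]

end Pushout

section Final

variable (R S : Type u) [CommRing R] [CommRing S] [Algebra R S] [Module.Flat R S] (I : Ideal R)

theorem extension_lift (hI : I.FG)
    (hq : Function.Bijective (Ideal.quotientMap (I.map (algebraMap R S)) (algebraMap R S)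
      Ideal.le_comap_map))
    (N M : Type u) [AddCommGroup N] [Module R N] [AddCommGroup M] [Module R M]
    (hM : ∀ m : M, ∃ n : ℕ, ∀ a ∈ I ^ n, a • m = 0)
    (E' : Type u) [AddCommGroup E'] [Module S E'] [Module R E'] [IsScalarTower R S E']
    (i' : S ⊗[R] N →ₗ[S] E') (p' : E' →ₗ[S] S ⊗[R] M)
    (hi' : Function.Injective i') (hp' : Function.Surjective p')
    (hex' : LinearMap.range i' = LinearMap.ker p') :
    ∃ (E : Type u) (_ : AddCommGroup E) (_ : Module R E) (i : N →ₗ[R] E) (p : E →ₗ[R] M)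
      (g : E →ₗ[R] E'),
      Function.Injective i ∧ Function.Surjective p ∧ LinearMap.range i = LinearMap.ker p ∧
      (∀ n : N, g (i n) = i' ((1 : S) ⊗ₜ[R] n)) ∧ (∀ e : E, p' (g e) = (1 : S) ⊗ₜ[R] p e) := by
  have hs : Function.Surjective
      ((Ideal.Quotient.mk (I.map (algebraMap R S))).comp (algebraMap R S)) := by
    intro y
    obtain ⟨x, rfl⟩ := hq.2 y
    obtain ⟨a, rfl⟩ := Ideal.Quotient.mk_surjective x
    exact ⟨a, by simp [Ideal.quotientMap_mk]⟩
  have hk : RingHom.ker ((Ideal.Quotient.mk (I.map (algebraMap R S))).comp (algebraMap R S)) = I := by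
    ext a
    rw [RingHom.mem_ker, RingHom.comp_apply, ← Ideal.quotientMap_mk (f := algebraMap R S)
      (H := Ideal.le_comap_map), ← map_zero (Ideal.quotientMap (I.map (algebraMap R S))
      (algebraMap R S) Ideal.le_comap_map), hq.1.eq_iff, Ideal.Quotient.eq_zero_iff_mem]
  -- the pulled-back extension
  let i'R : S ⊗[R] N →ₗ[R] E' := i'.restrictScalars R
  let p'R : E' →ₗ[R] S ⊗[R] M := p'.restrictScalars R
  have hp'i' : ∀ y, p' (i' y) = 0 := fun y => by
    have : i' y ∈ LinearMap.ker p' := hex' ▸ LinearMap.mem_range_self i' y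
    exact this
  let E'' : Submodule R (E' × M) :=
    LinearMap.ker (p'R ∘ₗ LinearMap.fst R E' M - vmap S M ∘ₗ LinearMap.snd R E' M)
  have hE'' : ∀ z : E' × M, z ∈ E'' ↔ p' z.1 = (1 : S) ⊗ₜ[R] z.2 := by
    intro z
    change p' z.1 - (1 : S) ⊗ₜ[R] z.2 = 0 ↔ _
    exact sub_eq_zero
  let i'' : S ⊗[R] N →ₗ[R] E'' := LinearMap.codRestrict E'' (LinearMap.inl R E' M ∘ₗ i'R)
    (fun y => by
      rw [hE'']
      change p' (i' y) = (1 : S) ⊗ₜ[R] (0 : M)
      rw [hp'i', TensorProduct.tmul_zero])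
  let p'' : E'' →ₗ[R] M := LinearMap.snd R E' M ∘ₗ E''.subtype
  have hi : Function.Injective i'' := fun y₁ y₂ h => by
    have h1 : i' y₁ = i' y₂ := congrArg (fun z : E'' => z.1.1) h
    exact hi' h1
  have hp : Function.Surjective p'' := fun m => by
    obtain ⟨e', he'⟩ := hp' ((1 : S) ⊗ₜ[R] m)
    exact ⟨⟨(e', m), (hE'' _).mpr he'⟩, rfl⟩
  have hz : ∀ y, p'' (i'' y) = 0 := fun y => rfl
  have hex : ∀ z, p'' z = 0 → ∃ y, i'' y = z := by
    rintro ⟨⟨e', m⟩, hz⟩ (h0 : m = 0)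
    subst h0
    have h1 : p' e' = 0 := by
      have := (hE'' _).mp hz
      rwa [TensorProduct.tmul_zero] at this
    have h2 : e' ∈ LinearMap.range i' := hex' ▸ (LinearMap.mem_ker.mpr h1)
    obtain ⟨y, rfl⟩ := h2
    exact ⟨y, rfl⟩
  -- projective presentation
  let π : (M →₀ R) →ₗ[R] M := Finsupp.linearCombination R id
  have hπ : Function.Surjective π := fun m => ⟨Finsupp.single m 1, by simp [π]⟩
  obtain ⟨φ, b, hb1, hb2⟩ := exists_pushout_data M N (S ⊗[R] N) E'' (vmap S N)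
    (ext_surjective (B := S) I hs hk hI M N hM) i'' p'' hi hp hex hz (M →₀ R) π hπ
  obtain ⟨E, hE1, hE2, i, p, g, h1, h2, h3, h4, h5⟩ :=
    exists_extension_of_pushout_data M N (M →₀ R) E'' π hπ φ (i'' ∘ₗ vmap S N) b p'' hb1
      (fun n => rfl) hb2
  refine ⟨E, hE1, hE2, i, p, LinearMap.fst R E' M ∘ₗ E''.subtype ∘ₗ g, h1, h2, h3, ?_, ?_⟩
  · intro n
    have := congrArg (fun z : E'' => z.1.1) (h4 n)
    exact this
  · intro e
    have h6 := (hE'' _).mp (g e).2
    have h7 : (g e).1.2 = p e := h5 e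
    rw [← h7]
    exact h6

end Final

end Groth.Agent.Lib.Helper47.TorsExt
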