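import Mathlib

/-!
# Index of the twisted diagonal hypersurface x_0^d = Σ ϖ^i x_i^d over the fraction field of a DVR (helper47)
-/

set_option autoImplicit false
set_option linter.style.haveILetI false
universe u
open Polynomial IsDedekindDomain WithZero

namespace Groth.Agent.Lib.Helper47.TwistedDiag

section Part1


/-- the invariant `I(d, N)`. -/
def II (d N : ℕ) : ℕ := ((Finset.Icc 1 N).filter (fun δ => δ ∣ d)).gcd (fun δ => d / δ)

lemma II_dvd_of_dvd_mul (d N : ℕ) (hd : 1 ≤ d) (t M : ℕ) (ht1 : 1 ≤ t) (htN : t ≤ N)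
    (h : d ∣ M * t) : II d N ∣ M := by
  set g := Nat.gcd d t with hg
  have hgpos : 0 < g := Nat.gcd_pos_of_pos_left _ hd
  have hgt : g ≤ t := Nat.gcd_le_right _ ht1
  have hgd : g ∣ d := Nat.gcd_dvd_left _ _
  have hgt' : g ∣ t := Nat.gcd_dvd_right _ _
  have hmem : g ∈ (Finset.Icc 1 N).filter (fun δ => δ ∣ d) := by
    rw [Finset.mem_filter, Finset.mem_Icc]
    exact ⟨⟨hgpos, hgt.trans htN⟩, hgd⟩
  have h1 : II d N ∣ d / g := Finset.gcd_dvd hmem
  refine h1.trans ?_
  have hcop : Nat.Coprime (d / g) (t / g) := Nat.coprime_div_gcd_div_gcd hgpos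
  apply hcop.dvd_of_dvd_mul_right
  apply Nat.dvd_of_mul_dvd_mul_right hgpos
  rw [Nat.div_mul_cancel hgd, mul_assoc, Nat.div_mul_cancel hgt']
  exact h

lemma natCast_gcd_mem_closure (s : Finset ℕ) (f : ℕ → ℕ) :
    ((s.gcd f : ℕ) : ℤ) ∈ AddSubgroup.closure ((fun δ => (f δ : ℤ)) '' (s : Set ℕ)) := by
  classical
  induction s using Finset.induction_on with
  | empty => simp
  | insert a s ha ih =>
    rw [Finset.gcd_insert]
    have h1 : ((GCDMonoid.gcd (f a) (s.gcd f) : ℕ) : ℤ) =
        (f a : ℤ) * Nat.gcdA (f a) (s.gcd f) + ((s.gcd f : ℕ) : ℤ) * Nat.gcdB (f a) (s.gcd f) :=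
      Nat.gcd_eq_gcd_ab _ _
    rw [h1]
    have hsub : AddSubgroup.closure ((fun δ => (f δ : ℤ)) '' (s : Set ℕ)) ≤
        AddSubgroup.closure ((fun δ => (f δ : ℤ)) '' ((insert a s : Finset ℕ) : Set ℕ)) := by
      apply AddSubgroup.closure_mono
      apply Set.image_mono
      simp
    refine AddSubgroup.add_mem _ ?_ ?_
    · rw [mul_comm, ← smul_eq_mul]
      apply AddSubgroup.zsmul_mem
      apply AddSubgroup.subset_closure
      exact ⟨a, by simp, rfl⟩
    · rw [mul_comm, ← smul_eq_mul]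
      exact AddSubgroup.zsmul_mem _ (hsub ih) _

variable (R : Type u) [CommRing R] [IsDomain R] [IsDiscreteValuationRing R]
  (K : Type u) [Field K] [Algebra R K] [IsFractionRing R K]

/-- Eisenstein extension of degree `e` in which the uniformizer has an `e`-th root. -/
theorem exists_eisenstein_ext (ϖ : R) (hϖ : Irreducible ϖ) (e : ℕ) (he : 1 ≤ e) :
    ∃ (L : Type u) (_ : Field L) (_ : Algebra K L), FiniteDimensional K L ∧
      Module.finrank K L = e ∧ ∃ t : L, t ^ e = algebraMap K L (algebraMap R K ϖ) := by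
  let f : R[X] := X ^ e - C ϖ
  have hmonic : f.Monic := monic_X_pow_sub_C ϖ (by omega)
  have hdeg : f.natDegree = e := natDegree_X_pow_sub_C
  have hprime : (Ideal.span {ϖ}).IsPrime := by
    rw [Ideal.span_singleton_prime hϖ.ne_zero]
    exact hϖ.prime
  have hirr : Irreducible f := by
    apply irreducible_of_eisenstein_criterion hprime
    · rw [hmonic.leadingCoeff]
      intro h1
      exact hprime.ne_top ((Ideal.eq_top_iff_one _).mpr h1)
    · intro n hn
      rw [degree_eq_natDegree hmonic.ne_zero, hdeg, Nat.cast_lt] at hn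
      simp only [f, coeff_sub, coeff_X_pow, coeff_C]
      rw [if_neg (by omega)]
      by_cases hn0 : n = 0
      · rw [if_pos hn0, zero_sub]
        exact Ideal.neg_mem_iff _ |>.mpr (Ideal.mem_span_singleton_self ϖ)
      · rw [if_neg hn0, sub_zero]
        exact Ideal.zero_mem _
    · rw [degree_eq_natDegree hmonic.ne_zero, hdeg]
      exact_mod_cast he
    · simp only [f, coeff_sub, coeff_X_pow, coeff_C]
      rw [if_neg (by omega), if_pos trivial, zero_sub, Ideal.neg_mem_iff, Ideal.span_singleton_pow,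
        Ideal.mem_span_singleton]
      rintro ⟨c, hc⟩
      have h2 : ϖ * 1 = ϖ * (ϖ * c) := by rw [mul_one, ← mul_assoc, ← sq]; exact hc
      have h3 := mul_left_cancel₀ hϖ.ne_zero h2
      exact hϖ.not_isUnit (IsUnit.of_mul_eq_one c h3.symm)
    · exact hmonic.isPrimitive
  have hirrK : Irreducible (f.map (algebraMap R K)) :=
    (hmonic.irreducible_iff_irreducible_map_fraction_map (K := K)).mp hirr
  haveI : Fact (Irreducible (f.map (algebraMap R K))) := ⟨hirrK⟩
  have hne : f.map (algebraMap R K) ≠ 0 := hirrK.ne_zero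
  refine ⟨AdjoinRoot (f.map (algebraMap R K)), inferInstance, inferInstance,
    (AdjoinRoot.powerBasis hne).finite, ?_, AdjoinRoot.root _, ?_⟩
  · rw [(AdjoinRoot.powerBasis hne).finrank, AdjoinRoot.powerBasis_dim,
      hmonic.natDegree_map, hdeg]
  · have h1 := AdjoinRoot.eval₂_root (f.map (algebraMap R K))
    simp only [f, Polynomial.map_sub, Polynomial.map_pow, map_X, map_C, eval₂_sub, eval₂_pow,
      eval₂_X, eval₂_C] at h1
    rw [AdjoinRoot.algebraMap_eq]
    exact sub_eq_zero.mp h1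

end Part1

section Part2


variable (R : Type u) [CommRing R] [IsDomain R] [IsDiscreteValuationRing R]
  (K : Type u) [Field K] [Algebra R K] [IsFractionRing R K]

/-- the set of degrees of finite extensions with a nonzero solution. -/
def degSet (ϖ : R) (d N : ℕ) : Set ℤ :=
  {m : ℤ | ∃ (L : Type u) (_ : Field L) (_ : Algebra K L),
        FiniteDimensional K L ∧ m = (Module.finrank K L : ℤ) ∧
        ∃ x : Fin (N + 1) → L, x ≠ 0 ∧
          x 0 ^ d = ∑ i : Fin N, algebraMap K L (algebraMap R K (ϖ ^ ((i : ℕ) + 1))) * x i.succ ^ d}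

theorem div_mem_degSet (ϖ : R) (hϖ : Irreducible ϖ) (d N : ℕ) (hd : 1 ≤ d) (δ : ℕ)
    (hδ1 : 1 ≤ δ) (hδN : δ ≤ N) (hδd : δ ∣ d) : ((d / δ : ℕ) : ℤ) ∈ degSet R K ϖ d N := by
  have he : 1 ≤ d / δ := Nat.div_pos (Nat.le_of_dvd hd hδd) hδ1
  obtain ⟨L, _, _, hfin, hrank, t, ht⟩ := exists_eisenstein_ext R K ϖ hϖ (d / δ) he
  refine ⟨L, inferInstance, inferInstance, hfin, by rw [hrank], ?_⟩
  let x : Fin (N + 1) → L := fun i => if (i : ℕ) = 0 then t else if (i : ℕ) = δ then 1 else 0
  refine ⟨x, ?_, ?_⟩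
  · intro h0
    have h1 := congrFun h0 ⟨δ, by omega⟩
    have h2 : x ⟨δ, by omega⟩ = 1 := by
      show (if δ = 0 then t else if δ = δ then 1 else 0) = 1
      rw [if_neg (by omega), if_pos rfl]
    rw [h2] at h1
    exact one_ne_zero h1
  · have hx0 : x 0 = t := by simp [x]
    have hxs : ∀ i : Fin N, x i.succ = if (i : ℕ) + 1 = δ then 1 else 0 := by
      intro i
      simp only [x, Fin.val_succ]
      rw [if_neg (by omega)]
    rw [hx0]
    have h1 : t ^ d = (algebraMap K L (algebraMap R K ϖ)) ^ δ := by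
      rw [← ht, ← pow_mul, Nat.div_mul_cancel hδd]
    rw [h1, Finset.sum_eq_single (⟨δ - 1, by omega⟩ : Fin N)]
    · rw [hxs]
      simp only [Fin.val_mk]
      rw [if_pos (by omega), one_pow, mul_one, map_pow, map_pow]
      congr 1
      omega
    · intro i _ hi
      rw [hxs, if_neg, zero_pow (by omega), mul_zero]
      intro h2
      apply hi
      ext
      simp only [Fin.val_mk]
      omega
    · intro h; exact absurd (Finset.mem_univ _) h

theorem zmultiples_le_closure (ϖ : R) (hϖ : Irreducible ϖ) (d N : ℕ) (hd : 1 ≤ d) :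
    AddSubgroup.zmultiples ((II d N : ℕ) : ℤ) ≤ AddSubgroup.closure (degSet R K ϖ d N) := by
  apply AddSubgroup.zmultiples_le_of_mem
  have h1 := natCast_gcd_mem_closure ((Finset.Icc 1 N).filter (fun δ => δ ∣ d)) (fun δ => d / δ)
  refine AddSubgroup.closure_mono ?_ h1
  rintro _ ⟨δ, hδ, rfl⟩
  rw [Finset.mem_coe, Finset.mem_filter, Finset.mem_Icc] at hδ
  exact div_mem_degSet R K ϖ hϖ d N hd δ hδ.1.1 hδ.1.2 hδ.2

end Part2

section Part3


lemma exists_ne_map_eq_of_sum_eq_zero {F Γ₀ : Type*} [Field F] [LinearOrderedCommGroupWithZero Γ₀]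
    (v : Valuation F Γ₀) {ι : Type*} [DecidableEq ι] (s : Finset ι) (a : ι → F)
    (hsum : ∑ i ∈ s, a i = 0) (hne : ∃ i ∈ s, a i ≠ 0) :
    ∃ i ∈ s, ∃ j ∈ s, i ≠ j ∧ v (a i) = v (a j) ∧ v (a i) ≠ 0 := by
  obtain ⟨i₁, hi₁, hai₁⟩ := hne
  obtain ⟨i₀, hi₀, hmax⟩ := Finset.exists_max_image s (fun i => v (a i)) ⟨i₁, hi₁⟩
  have hm : v (a i₀) ≠ 0 := by
    have h1 : v (a i₁) ≠ 0 := (v.ne_zero_iff).mpr hai₁
    intro h0
    have := hmax i₁ hi₁
    rw [h0] at this
    exact h1 (le_antisymm this zero_le')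
  by_contra hcon
  push Not at hcon
  have hlt : ∀ j ∈ s.erase i₀, v (a j) < v (a i₀) := by
    intro j hj
    rw [Finset.mem_erase] at hj
    refine lt_of_le_of_ne (hmax j hj.2) ?_
    intro heq
    exact hm (hcon i₀ hi₀ j hj.2 (Ne.symm hj.1) heq.symm)
  have h1 := Valuation.map_sum_lt v hm hlt
  have h2 : ∑ j ∈ s.erase i₀, a j = - a i₀ := by
    rw [eq_neg_iff_add_eq_zero, add_comm, Finset.add_sum_erase _ _ hi₀, hsum]
  rw [h2, Valuation.map_neg] at h1
  exact lt_irrefl _ h1

end Part3

section Part4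


variable (R : Type u) [CommRing R] [IsDomain R] [IsDiscreteValuationRing R]
  (K : Type u) [Field K] [Algebra R K] [IsFractionRing R K]

set_option maxHeartbeats 800000 in
theorem II_dvd_of_isSeparable (F : Type u) [Field F] [Algebra K F] [Algebra R F]
    [IsScalarTower R K F] [FiniteDimensional K F] [Algebra.IsSeparable K F]
    (ϖ : R) (hϖ : Irreducible ϖ) (d N Q : ℕ) (hd : 1 ≤ d) (y : Fin (N + 1) → F) (hy : y ≠ 0)
    (heq : y 0 ^ d = ∑ i : Fin N, algebraMap R F (ϖ ^ (((i : ℕ) + 1) * Q)) * y i.succ ^ d) :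
    II d N ∣ Q * Module.finrank K F := by
  classical
  haveI : Module.IsTorsionFree R F := Module.isTorsionFree_iff_algebraMap_injective.mpr (by
    rw [IsScalarTower.algebraMap_eq R K F]
    exact (algebraMap K F).injective.comp (IsFractionRing.injective R K))
  let B := integralClosure R F
  haveI : IsDedekindDomain B := integralClosure.isDedekindDomain R K F
  haveI : Module.Finite R B := IsIntegralClosure.finite R K F B
  haveI : IsFractionRing B F := integralClosure.isFractionRing_of_finite_extension K F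
  let p := IsLocalRing.maximalIdeal R
  have hp0 : p ≠ ⊥ := IsDiscreteValuationRing.not_a_field R
  have hp : p = Ideal.span {ϖ} := (IsDiscreteValuationRing.irreducible_iff_uniformizer ϖ).mp hϖ
  have hsum := Ideal.sum_ramification_inertia B K F hp0
  rw [← hsum, Finset.mul_sum]
  apply Finset.dvd_sum
  intro P hP
  rw [IsDedekindDomain.mem_primesOverFinset_iff hp0] at hP
  obtain ⟨hPprime, hPover⟩ := hP
  have hPne : P ≠ ⊥ := Ideal.ne_bot_of_liesOver_of_ne_bot hp0 P
  let v : HeightOneSpectrum R := ⟨p, inferInstance, hp0⟩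
  let w : HeightOneSpectrum B := ⟨P, hPprime, hPne⟩
  haveI : w.asIdeal.LiesOver v.asIdeal := hPover
  set e := Ideal.ramificationIdx' p P with he
  rw [← mul_assoc]
  apply Dvd.dvd.mul_right
  -- the valuation of the uniformizer
  let W := w.valuation F
  have hWϖ : W (algebraMap R F ϖ) = exp (-(e : ℤ)) := by
    have h1 := HeightOneSpectrum.valuation_liesOver F v w (algebraMap R K ϖ)
    rw [HeightOneSpectrum.valuation_of_algebraMap,
      HeightOneSpectrum.intValuation_singleton v hϖ.ne_zero hp,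
      ← IsScalarTower.algebraMap_apply] at h1
    rw [← h1, ← exp_nsmul]
    simp only [nsmul_eq_mul, mul_neg, mul_one, exp_inj, neg_inj, Nat.cast_inj]
    rfl
  -- the terms of the equation
  let c : Fin (N + 1) → F := fun i => if i = 0 then 1 else - algebraMap R F (ϖ ^ ((i : ℕ) * Q))
  let a : Fin (N + 1) → F := fun i => c i * y i ^ d
  have hWc : ∀ i : Fin (N + 1), W (c i) = exp (-(e : ℤ)) ^ ((i : ℕ) * Q) := by
    intro i
    by_cases hi : i = 0
    · simp [c, hi]
    · simp only [c, if_neg hi, Valuation.map_neg, map_pow, hWϖ]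
  have hWa : ∀ i : Fin (N + 1), W (a i) = exp (-(e : ℤ)) ^ ((i : ℕ) * Q) * W (y i) ^ d := by
    intro i
    simp only [a, map_mul, map_pow, hWc]
  have hsum0 : ∑ i, a i = 0 := by
    rw [Fin.sum_univ_succ]
    simp only [a, c, if_pos, one_mul, Fin.succ_ne_zero, if_false, Fin.val_succ, neg_mul,
      Finset.sum_neg_distrib]
    rw [heq]
    simp
  have hane : ∃ i ∈ (Finset.univ : Finset (Fin (N + 1))), a i ≠ 0 := by
    by_contra hcon
    push Not at hcon
    apply hy
    funext i
    have h1 := hcon i (Finset.mem_univ i)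
    have h2 : c i ≠ 0 := by
      intro h3
      have h4 := hWc i
      rw [h3, map_zero] at h4
      exact (pow_ne_zero _ exp_ne_zero) h4.symm
    simp only [a, mul_eq_zero, h2, false_or] at h1
    exact pow_eq_zero_iff (by omega) |>.mp h1
  obtain ⟨i, -, j, -, hij, hWij, hWi0⟩ :=
    exists_ne_map_eq_of_sum_eq_zero W Finset.univ a hsum0 hane
  -- integer equation
  have key : ∀ i j : Fin (N + 1), i < j → W (a i) = W (a j) → W (a i) ≠ 0 → II d N ∣ e * Q := by
    intro i j hlt hW h0
    have hyi : W (y i) ≠ 0 := by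
      intro h
      apply h0
      rw [hWa, h, zero_pow (by omega), mul_zero]
    have hyj : W (y j) ≠ 0 := by
      intro h
      apply h0
      rw [hW, hWa, h, zero_pow (by omega), mul_zero]
    rw [hWa, hWa, ← exp_log hyi, ← exp_log hyj, ← exp_nsmul, ← exp_nsmul, ← exp_nsmul, ← exp_nsmul,
      ← exp_add, ← exp_add, exp_inj] at hW
    simp only [nsmul_eq_mul, Nat.cast_mul, mul_neg] at hW
    have hlt' : (i : ℕ) < (j : ℕ) := hlt
    have hjN : (j : ℕ) ≤ N := Nat.lt_succ_iff.mp j.2
    apply II_dvd_of_dvd_mul d N hd ((j : ℕ) - (i : ℕ)) (e * Q) (by omega) (by omega)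
    rw [← Int.natCast_dvd_natCast]
    refine ⟨log (W (y j)) - log (W (y i)), ?_⟩
    push_cast [Nat.cast_sub hlt'.le]
    linarith
  rw [mul_comm]
  rcases lt_or_gt_of_ne hij with h | h
  · exact key i j h hWij hWi0
  · exact key j i h hWij.symm (hWij ▸ hWi0)

end Part4

section Part5


variable (R : Type u) [CommRing R] [IsDomain R] [IsDiscreteValuationRing R]
  (K : Type u) [Field K] [Algebra R K] [IsFractionRing R K]

/-- in a finite purely inseparable extension, the degree-th power lands in the base. -/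
lemma pow_finrank_mem_range (F L : Type*) [Field F] [Field L] [Algebra F L]
    [IsPurelyInseparable F L] [FiniteDimensional F L] (q : ℕ) [ExpChar F q] (x : L) :
    x ^ Module.finrank F L ∈ (algebraMap F L).range := by
  obtain ⟨r, hr⟩ := IsPurelyInseparable.finrank_eq_pow (F := F) L q
  obtain ⟨t, c, hmin⟩ := IsPurelyInseparable.minpoly_eq_X_pow_sub_C F q x
  have hint : IsIntegral F x := Algebra.IsIntegral.isIntegral x
  have hdvd := minpoly.degree_dvd hint
  have hdeg : (minpoly F x).natDegree = q ^ t := by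
    rw [hmin, natDegree_X_pow_sub_C]
  rw [hdeg] at hdvd
  obtain ⟨m, hm⟩ := hdvd
  have h1 : x ^ q ^ t = algebraMap F L c := by
    have h2 := minpoly.aeval F x
    rw [hmin] at h2
    simpa [sub_eq_zero] using h2
  rw [hm, pow_mul, h1, ← map_pow]
  exact ⟨_, rfl⟩

theorem II_dvd_finrank (L : Type u) [Field L] [Algebra K L] [FiniteDimensional K L]
    (ϖ : R) (hϖ : Irreducible ϖ) (d N : ℕ) (hd : 1 ≤ d) (x : Fin (N + 1) → L) (hx : x ≠ 0)
    (heq : x 0 ^ d =
      ∑ i : Fin N, algebraMap K L (algebraMap R K (ϖ ^ ((i : ℕ) + 1))) * x i.succ ^ d) :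
    II d N ∣ Module.finrank K L := by
  classical
  letI : Algebra R L := ((algebraMap K L).comp (algebraMap R K)).toAlgebra
  haveI : IsScalarTower R K L := IsScalarTower.of_algebraMap_eq fun _ => rfl
  let F := separableClosure K L
  let q := ringExpChar K
  haveI : ExpChar F q := expChar_of_injective_algebraMap (algebraMap K F).injective q
  haveI : ExpChar L q := expChar_of_injective_algebraMap (algebraMap K L).injective q
  obtain ⟨r, hr⟩ := IsPurelyInseparable.finrank_eq_pow (F := F) L q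
  have hpow : ∀ i, ∃ y : F, algebraMap F L y = x i ^ Module.finrank F L := fun i =>
    pow_finrank_mem_range F L q (x i)
  choose y hy using hpow
  have hy0 : y ≠ 0 := by
    intro h0
    apply hx
    funext i
    have h1 := hy i
    rw [h0, Pi.zero_apply, map_zero] at h1
    exact (pow_eq_zero_iff (Module.finrank_pos (R := F) (M := L)).ne').mp h1.symm
  have heqF : y 0 ^ d = ∑ i : Fin N,
      algebraMap R F (ϖ ^ (((i : ℕ) + 1) * Module.finrank F L)) * y i.succ ^ d := by
    apply (algebraMap F L).injective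
    rw [map_pow, hy, map_sum, ← pow_mul, mul_comm, pow_mul, heq, hr, sum_pow_char_pow]
    refine Finset.sum_congr rfl fun i _ => ?_
    have h1 : ∀ z : R, algebraMap F L (algebraMap R F z) = algebraMap K L (algebraMap R K z) := by
      intro z
      rfl
    have h2 : algebraMap F L (y i.succ ^ d) = (x i.succ ^ d) ^ q ^ r := by
      rw [map_pow, hy, hr, ← pow_mul, ← pow_mul, mul_comm]
    rw [map_mul, h1, h2, mul_pow]
    congr 1
    simp only [map_pow, ← pow_mul]
  have h1 := II_dvd_of_isSeparable R K F ϖ hϖ d N (Module.finrank F L) hd y hy0 heqF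
  rwa [mul_comm, Module.finrank_mul_finrank] at h1

theorem main (ϖ : R) (hϖ : Irreducible ϖ) (d N : ℕ) (hd : 1 ≤ d) :
    AddSubgroup.closure (degSet R K ϖ d N) = AddSubgroup.zmultiples ((II d N : ℕ) : ℤ) := by
  apply le_antisymm
  · rw [AddSubgroup.closure_le]
    rintro m ⟨L, _, _, hfin, rfl, x, hx, heq⟩
    rw [SetLike.mem_coe, Int.mem_zmultiples_iff, Int.natCast_dvd_natCast]
    exact II_dvd_finrank R K L ϖ hϖ d N hd x hx heq
  · exact zmultiples_le_closure R K ϖ hϖ d N hd

end Part5

end Groth.Agent.Lib.Helper47.TwistedDiag
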