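import Mathlib

/-!
# Weakly regular sequences and filtrations (helper47)

* weak regularity is closed under extensions;
* subquotients of a chain of submodules;
* over a Noetherian local ring, weak regularity on all `M / J^m M` gives weak regularity on `M`.
-/

set_option autoImplicit false
set_option linter.style.haveILetI false
universe u
open RingTheory.Sequence Submodule Function Pointwise

namespace Groth.Agent.Lib.Helper47.WRFilt

section basic

variable {R : Type u} [CommRing R]

theorem isWeaklyRegular_of_subsingleton (rs : List R) (M : Type u) [AddCommGroup M] [Module R M]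
    [Subsingleton M] : IsWeaklyRegular M rs := by
  induction rs generalizing M with
  | nil => exact IsWeaklyRegular.nil R M
  | cons r rs ih =>
    rw [isWeaklyRegular_cons_iff]
    refine ⟨fun a b _ => Subsingleton.elim a b, ?_⟩
    haveI : Subsingleton (QuotSMulTop r M) := by
      unfold QuotSMulTop; infer_instance
    exact ih _

/-- Weak regularity is closed under extensions. -/
theorem isWeaklyRegular_of_exact (rs : List R) {M' M M'' : Type u} [AddCommGroup M'] [Module R M']
    [AddCommGroup M] [Module R M] [AddCommGroup M''] [Module R M'']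
    (i : M' →ₗ[R] M) (p : M →ₗ[R] M'') (hi : Injective i) (hip : Exact i p) (hp : Surjective p)
    (h' : IsWeaklyRegular M' rs) (h'' : IsWeaklyRegular M'' rs) : IsWeaklyRegular M rs := by
  induction rs generalizing M' M M'' with
  | nil => exact IsWeaklyRegular.nil R M
  | cons r rs ih =>
    rw [isWeaklyRegular_cons_iff] at h' h'' ⊢
    obtain ⟨h1', h2'⟩ := h'
    obtain ⟨h1'', h2''⟩ := h''
    have hr : IsSMulRegular M r := by
      intro a b hab
      have hab' : r • (a - b) = 0 := by
        change r • a = r • b at hab
        rw [smul_sub, hab, sub_self]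
      have h1 : p (a - b) = 0 := by
        apply h1''
        change r • p (a - b) = r • 0
        rw [← map_smul, hab', map_zero, smul_zero]
      obtain ⟨c, hc⟩ := (hip (a - b)).mp h1
      have h2 : c = 0 := by
        apply h1'
        change r • c = r • 0
        apply hi
        rw [map_smul, hc, hab', smul_zero, map_zero]
      rw [h2, map_zero] at hc
      exact sub_eq_zero.mp hc.symm
    refine ⟨hr, ih (QuotSMulTop.map r i) (QuotSMulTop.map r p) ?_
      (QuotSMulTop.map_exact r hip hp) (QuotSMulTop.map_surjective r hp) h2' h2''⟩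
    have h0 : Exact (0 : PUnit.{u+1} →ₗ[R] M') i := (LinearMap.exact_zero_iff_injective _ i).mpr hi
    have h3 := QuotSMulTop.map_first_exact_on_four_term_exact_of_isSMulRegular_last h0 hip h1''
    rw [map_zero] at h3
    exact (LinearMap.exact_zero_iff_injective _ _).mp h3

end basic

section subquotient

variable {R : Type u} [CommRing R] {P : Type u} [AddCommGroup P] [Module R P]

/-- The subquotient `N / N'` (really `N / N ∩ N'`). -/
abbrev SQ (N N' : Submodule R P) : Type u := ↥N ⧸ N'.comap N.subtype

theorem subsingleton_SQ (N N' : Submodule R P) (h : N ≤ N') : Subsingleton (SQ N N') := by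
  apply Submodule.Quotient.subsingleton_iff.mpr
  rw [eq_top_iff]
  intro x _
  exact h x.2

/-- For `N'' ≤ N' ≤ N`, weak regularity on `N'/N''` and `N/N'` gives weak regularity on
`N/N''`. -/
theorem isWeaklyRegular_SQ (rs : List R) (N N' N'' : Submodule R P) (h1 : N' ≤ N) (h2 : N'' ≤ N')
    (ha : IsWeaklyRegular (SQ N' N'') rs) (hb : IsWeaklyRegular (SQ N N') rs) :
    IsWeaklyRegular (SQ N N'') rs := by
  let i : SQ N' N'' →ₗ[R] SQ N N'' :=
    Submodule.mapQ _ _ (Submodule.inclusion h1) (fun x hx => hx)
  let p : SQ N N'' →ₗ[R] SQ N N' :=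
    Submodule.mapQ _ _ LinearMap.id (fun x hx => h2 hx)
  refine isWeaklyRegular_of_exact rs i p ?_ ?_ ?_ ha hb
  · rw [injective_iff_map_eq_zero]
    intro x hx
    obtain ⟨x, rfl⟩ := Submodule.Quotient.mk_surjective _ x
    rw [Submodule.Quotient.mk_eq_zero]
    have : Submodule.Quotient.mk (Submodule.inclusion h1 x) = (0 : SQ N N'') := hx
    rw [Submodule.Quotient.mk_eq_zero] at this
    exact this
  · intro y
    obtain ⟨y, rfl⟩ := Submodule.Quotient.mk_surjective _ y
    constructor
    · intro hy
      have hy' : Submodule.Quotient.mk y = (0 : SQ N N') := hy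
      rw [Submodule.Quotient.mk_eq_zero] at hy'
      exact ⟨Submodule.Quotient.mk ⟨y.1, hy'⟩, rfl⟩
    · rintro ⟨x, hx⟩
      obtain ⟨x, rfl⟩ := Submodule.Quotient.mk_surjective _ x
      rw [← hx]
      change Submodule.Quotient.mk (Submodule.inclusion h1 x) = (0 : SQ N N')
      rw [Submodule.Quotient.mk_eq_zero]
      exact x.2
  · intro y
    obtain ⟨y, rfl⟩ := Submodule.Quotient.mk_surjective _ y
    exact ⟨Submodule.Quotient.mk y, rfl⟩

end subquotient

section limit

variable {R : Type u} [CommRing R]

/-- `QuotSMulTop` commutes with quotients by `I • ⊤`. -/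
noncomputable def quotSMulTopQuotEquiv (r : R) (I : Ideal R) (M : Type u) [AddCommGroup M]
    [Module R M] :
    QuotSMulTop r (M ⧸ (I • ⊤ : Submodule R M)) ≃ₗ[R]
      (QuotSMulTop r M) ⧸ (I • ⊤ : Submodule R (QuotSMulTop r M)) := by
  have e1 : (r • (⊤ : Submodule R M)).map (I • ⊤ : Submodule R M).mkQ =
      (r • ⊤ : Submodule R (M ⧸ (I • ⊤ : Submodule R M))) := by
    rw [Submodule.map_pointwise_smul, Submodule.map_top, Submodule.range_mkQ]
  have e2 : (I • (⊤ : Submodule R M)).map (r • ⊤ : Submodule R M).mkQ =
      (I • ⊤ : Submodule R (M ⧸ (r • ⊤ : Submodule R M))) := by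
    rw [Submodule.map_smul'', Submodule.map_top, Submodule.range_mkQ]
  exact (Submodule.quotEquivOfEq _ _ e1.symm).trans <|
    (Submodule.quotientQuotientEquivQuotientSup (I • ⊤ : Submodule R M) (r • ⊤)).trans <|
    (Submodule.quotEquivOfEq _ _ (sup_comm _ _)).trans <|
    (Submodule.quotientQuotientEquivQuotientSup (r • ⊤ : Submodule R M) (I • ⊤)).symm.trans <|
    Submodule.quotEquivOfEq _ _ e2

variable [IsNoetherianRing R] [IsLocalRing R]

/-- Over a Noetherian local ring: weak regularity on all `M / J^m M` gives weak regularity on the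
finite module `M`. -/
theorem isWeaklyRegular_of_forall_quotient (J : Ideal R) (hJ : J ≠ ⊤) (rs : List R)
    (M : Type u) [AddCommGroup M] [Module R M] [Module.Finite R M]
    (h : ∀ m : ℕ, IsWeaklyRegular (M ⧸ (J ^ m • ⊤ : Submodule R M)) rs) :
    IsWeaklyRegular M rs := by
  induction rs generalizing M with
  | nil => exact IsWeaklyRegular.nil R M
  | cons r rs ih =>
    rw [isWeaklyRegular_cons_iff]
    constructor
    · intro a b hab
      have hab' : r • (a - b) = 0 := by
        change r • a = r • b at hab
        rw [smul_sub, hab, sub_self]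
      have hmem : a - b ∈ (⨅ m : ℕ, J ^ m • ⊤ : Submodule R M) := by
        rw [Submodule.mem_iInf]
        intro m
        have hm := ((isWeaklyRegular_cons_iff _ r rs).mp (h m)).1
        rw [← Submodule.Quotient.mk_eq_zero]
        apply hm
        change r • Submodule.Quotient.mk (a - b) = r • 0
        rw [← Submodule.Quotient.mk_smul, hab', smul_zero, Submodule.Quotient.mk_zero]
      rw [Ideal.iInf_pow_smul_eq_bot_of_isLocalRing J hJ] at hmem
      exact sub_eq_zero.mp ((Submodule.mem_bot R).mp hmem)
    · haveI : Module.Finite R (QuotSMulTop r M) := by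
        unfold QuotSMulTop; infer_instance
      apply ih
      intro m
      have hm := ((isWeaklyRegular_cons_iff _ r rs).mp (h m)).2
      exact ((quotSMulTopQuotEquiv r (J ^ m) M).isWeaklyRegular_congr rs).mp hm

end limit

end Groth.Agent.Lib.Helper47.WRFilt
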